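import Mathlib

/-!
# Exactness of adic completion under an Artin–Rees type hypothesis

`H14.adicMap_injective_of_AR`, `H14.adicMap_exact_of_AR`: if `0 → M → N → P → 0` is exact and
`I^(n+k) N ∩ f(M) ⊆ f(I^n M)` for all `n`, then completion is exact on this sequence
(no Noetherian hypothesis).  `H14.smul_top_inf_range_le_of_flat`: the hypothesis with `k = 0`
when `P` is flat.
-/

namespace H14

open AdicCompletion

universe u v w

variable {R : Type u} [CommRing R] (I : Ideal R)
variable {M : Type v} [AddCommGroup M] [Module R M]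
variable {N : Type w} [AddCommGroup N] [Module R N]

theorem adicMap_injective_of_AR {f : M →ₗ[R] N} (hf : Function.Injective f) (k : ℕ)
    (hAR : ∀ n, (I ^ (n + k) • ⊤ : Submodule R N) ⊓ LinearMap.range f ≤
      Submodule.map f (I ^ n • ⊤ : Submodule R M)) :
    Function.Injective (AdicCompletion.map I f) := by
  rw [← LinearMap.ker_eq_bot, LinearMap.ker_eq_bot']
  intro x
  apply AdicCompletion.induction_on I M x (fun a ↦ ?_)
  intro hx
  refine AdicCompletion.mk_zero_of _ _ _ ⟨0, fun n _ ↦ ⟨n + k, by lia, n, le_rfl, ?_⟩⟩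
  have h1 : f (a (n + k)) ∈ (I ^ (n + k) • ⊤ : Submodule R N) := by
    simpa using congrArg (fun x ↦ x.val (n + k)) hx
  obtain ⟨y, hy, hyf⟩ := hAR n ⟨h1, ⟨a (n + k), rfl⟩⟩
  rwa [← hf hyf]

variable {P : Type*} [AddCommGroup P] [Module R P]

theorem adicMap_exact_of_AR {f : M →ₗ[R] N} {g : N →ₗ[R] P} (hf : Function.Injective f)
    (hfg : Function.Exact f g) (hg : Function.Surjective g) (k : ℕ)
    (hAR : ∀ n, (I ^ (n + k) • ⊤ : Submodule R N) ⊓ LinearMap.range f ≤
      Submodule.map f (I ^ n • ⊤ : Submodule R M)) :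
    Function.Exact (AdicCompletion.map I f) (AdicCompletion.map I g) := by
  refine LinearMap.exact_of_comp_eq_zero_of_ker_le_range ?_ (fun y ↦ ?_)
  · rw [AdicCompletion.map_comp, hfg.linearMap_comp_eq_zero, AdicCompletion.map_zero]
  · apply AdicCompletion.induction_on I N y (fun b ↦ ?_)
    intro hz
    have hb (n : ℕ) : g (b n) ∈ (I ^ n • ⊤ : Submodule R P) := by
      simpa using congrArg (fun x ↦ x.val n) hz
    have h2 (n : ℕ) : ∃ (y : M), f y - b n ∈ (I ^ n • ⊤ : Submodule R N) := by
      have : g (b n) ∈ Submodule.map g (I ^ n • ⊤ : Submodule R N) := by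
        rw [Submodule.map_smul'', Submodule.map_top, LinearMap.range_eq_top.mpr hg]
        exact hb n
      obtain ⟨d, hdmem, hd⟩ := this
      obtain ⟨y, hdy⟩ := (hfg (b n - d)).mp (by simp [hd])
      refine ⟨y, ?_⟩
      rw [hdy]
      simpa using Submodule.neg_mem _ hdmem
    choose a ha using h2
    have hcauchy : ∀ n, a (n + k) ≡ a (n + 1 + k) [SMOD (I ^ n • ⊤ : Submodule R M)] := by
      intro n
      rw [SModEq.sub_mem]
      have hle : (I ^ (n + 1 + k) • ⊤ : Submodule R N) ≤ I ^ (n + k) • ⊤ :=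
        Submodule.smul_mono_left (Ideal.pow_le_pow_right (by lia))
      have hbb : b (n + k) - b (n + 1 + k) ∈ (I ^ (n + k) • ⊤ : Submodule R N) := by
        rw [← SModEq.sub_mem]
        exact b.property (by lia)
      have h3 : f (a (n + k) - a (n + 1 + k)) ∈ (I ^ (n + k) • ⊤ : Submodule R N) := by
        have : f (a (n + k) - a (n + 1 + k)) =
            (f (a (n + k)) - b (n + k)) - (f (a (n + 1 + k)) - b (n + 1 + k)) +
              (b (n + k) - b (n + 1 + k)) := by
          rw [map_sub]; abel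
        rw [this]
        exact Submodule.add_mem _ (Submodule.sub_mem _ (ha _) (hle (ha _))) hbb
      obtain ⟨y, hy, hyf⟩ := hAR n ⟨h3, ⟨_, rfl⟩⟩
      rwa [← hf hyf]
    refine ⟨AdicCompletion.mk I M (AdicCauchySequence.mk I M (fun n ↦ a (n + k)) hcauchy), ?_⟩
    apply AdicCompletion.ext
    intro n
    change Submodule.Quotient.mk (f (a (n + k))) = Submodule.Quotient.mk (b n)
    rw [Submodule.Quotient.eq]
    have hle : (I ^ (n + k) • ⊤ : Submodule R N) ≤ I ^ n • ⊤ :=
      Submodule.smul_mono_left (Ideal.pow_le_pow_right (by lia))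
    have hbb : b (n + k) - b n ∈ (I ^ n • ⊤ : Submodule R N) := by
      rw [← SModEq.sub_mem]
      exact (b.property (show n ≤ n + k by lia)).symm
    have : f (a (n + k)) - b n = (f (a (n + k)) - b (n + k)) + (b (n + k) - b n) := by abel
    rw [this]
    exact Submodule.add_mem _ (hle (ha _)) hbb


open TensorProduct in
theorem one_tmul_eq_zero_iff {X : Type*} [AddCommGroup X] [Module R X] (J : Ideal R) (x : X) :
    (1 : R ⧸ J) ⊗ₜ[R] x = 0 ↔ x ∈ (J • ⊤ : Submodule R X) := by
  rw [← (TensorProduct.quotTensorEquivQuotSMul X J).map_eq_zero_iff,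
    TensorProduct.quotTensorEquivQuotSMul_mk_one_tmul, Submodule.Quotient.mk_eq_zero]

/-- For `0 → K → M → N → 0` exact with `N` flat, `J M ∩ K = J K`. -/
theorem smul_top_inf_range_le_of_flat {K M N : Type*} [AddCommGroup K] [Module R K]
    [AddCommGroup M] [Module R M] [AddCommGroup N] [Module R N] [Module.Flat R N]
    (i : K →ₗ[R] M) (g : M →ₗ[R] N) (hi : Function.Injective i) (hg : Function.Surjective g)
    (hig : Function.Exact i g) (J : Ideal R) :
    (J • ⊤ : Submodule R M) ⊓ LinearMap.range i ≤ Submodule.map i (J • ⊤ : Submodule R K) := by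
  rintro _ ⟨hm, ⟨k, rfl⟩⟩
  refine ⟨k, ?_, rfl⟩
  have hinj := LinearMap.lTensor_injective_of_exact_of_flat g hg i hi hig (R ⧸ J)
  rw [SetLike.mem_coe, ← one_tmul_eq_zero_iff]
  apply hinj
  rw [LinearMap.lTensor_tmul, _root_.map_zero, one_tmul_eq_zero_iff]
  exact hm

end H14
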