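import Mathlib
import Groth.Prelude.Def_CAlgX
import Groth.Agent.S9318

/-!
# Power series rings over a formally smooth algebra are formally smooth for the adic topology

`H14.AFS.mvPowerSeries`: if `R → K` is formally smooth then `R → K[[x_1, …, x_n]]` is formally smooth
for the `I`-adic topology for every ideal `I` containing the variables.
-/

universe u

namespace H14.AFS

/-- transfer of adic formal smoothness along a ring isomorphism compatible with the structure maps -/
theorem of_ringEquiv {R S S' : Type u} [CommRing R] [CommRing S] [CommRing S'] [Algebra R S]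
    [Algebra R S'] (e : S ≃+* S') (he : ∀ r, e (algebraMap R S r) = algebraMap R S' r)
    (n : Ideal S) (n' : Ideal S') (hn : ∀ y ∈ n', e.symm y ∈ n)
    (h : CAlgX.IsAdicFormallySmooth R S' n') : CAlgX.IsAdicFormallySmooth R S n := by
  intro A _ _ J hJ ψ hψ
  obtain ⟨k, hk⟩ := hψ
  let eA : S ≃ₐ[R] S' := { e with commutes' := he }
  have hle : (n' ^ k).map (e.symm : S' →+* S) ≤ n ^ k := by
    rw [Ideal.map_pow]
    apply Ideal.pow_right_mono
    rw [Ideal.map_le_iff_le_comap]
    intro y hy
    exact hn y hy
  obtain ⟨χ, hχ⟩ := h A J hJ (ψ.comp eA.symm.toAlgHom) ⟨k, fun x hx => by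
    change ψ (e.symm x) = 0
    exact hk _ (hle (Ideal.mem_map_of_mem _ hx))⟩
  refine ⟨χ.comp eA.toAlgHom, ?_⟩
  ext s
  have := congrArg (fun φ => φ (eA s)) hχ
  simp only [AlgHom.comp_apply] at this ⊢
  refine this.trans ?_
  change ψ (eA.symm (eA s)) = ψ s
  rw [AlgEquiv.symm_apply_apply]

/-- monotonicity in the ideal -/
theorem mono {R S : Type u} [CommRing R] [CommRing S] [Algebra R S] {n n' : Ideal S} (hnn : n ≤ n')
    (h : CAlgX.IsAdicFormallySmooth R S n) : CAlgX.IsAdicFormallySmooth R S n' := by
  intro A _ _ J hJ ψ hψ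
  obtain ⟨k, hk⟩ := hψ
  exact h A J hJ ψ ⟨k, fun x hx => hk x (Ideal.pow_right_mono hnn k hx)⟩

/-- formally smooth implies adically formally smooth for any ideal -/
theorem of_formallySmooth {R S : Type u} [CommRing R] [CommRing S] [Algebra R S]
    [Algebra.FormallySmooth R S] (n : Ideal S) : CAlgX.IsAdicFormallySmooth R S n := by
  intro A _ _ J hJ ψ _
  exact Algebra.FormallySmooth.exists_lift J ⟨2, hJ⟩ ψ

theorem mvPowerSeries {R K : Type u} [CommRing R] [CommRing K] [Algebra R K]
    [Algebra.FormallySmooth R K] (σ : Type) [Finite σ] (I : Ideal (MvPowerSeries σ K))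
    (hI : ∀ i : σ, (MvPowerSeries.X i : MvPowerSeries σ K) ∈ I) :
    CAlgX.IsAdicFormallySmooth R (MvPowerSeries σ K) I := by
  classical
  let P := MvPolynomial σ K
  haveI : Algebra.FormallySmooth R P := Algebra.FormallySmooth.comp R K P
  let n : Ideal P := MvPolynomial.idealOfVars σ K
  have hn : n.FG := MvPolynomial.idealOfVars_fg σ K
  have h1 : CAlgX.IsAdicFormallySmooth R P n := of_formallySmooth n
  have h2 := (Groth.Agent.S9318.result (R := R) n hn).mp h1
  let e := MvPowerSeries.toAdicCompletionAlgEquiv σ K
  apply of_ringEquiv e.toRingEquiv ?_ I _ ?_ h2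
  · intro r
    have e1 : algebraMap R (MvPowerSeries σ K) r =
        algebraMap P (MvPowerSeries σ K) (algebraMap R P r) := by
      rw [MvPowerSeries.algebraMap_apply, MvPolynomial.algebraMap_apply,
        MvPowerSeries.algebraMap_apply']
      simp
    change e (algebraMap R (MvPowerSeries σ K) r) = _
    rw [e1, e.commutes]
    rfl
  · intro y hy
    have hle : n.map (algebraMap P (AdicCompletion n P)) ≤ I.comap (e.symm : _ →+* _) := by
      rw [Ideal.map_le_iff_le_comap]
      change Ideal.span (Set.range MvPolynomial.X) ≤ _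
      rw [Ideal.span_le]
      rintro _ ⟨i, rfl⟩
      change e.symm (algebraMap P (AdicCompletion n P) (MvPolynomial.X i)) ∈ I
      rw [e.symm.commutes]
      have : algebraMap P (MvPowerSeries σ K) (MvPolynomial.X i) = MvPowerSeries.X i := by
        rw [MvPowerSeries.algebraMap_apply']
        simp
      rw [this]
      exact hI i
    exact hle hy

/-- the variables lie in the maximal ideal of a power series ring over a field -/
theorem X_mem_maximalIdeal {K : Type*} [Field K] {σ : Type*} (i : σ) :
    (MvPowerSeries.X i : MvPowerSeries σ K) ∈ IsLocalRing.maximalIdeal (MvPowerSeries σ K) := by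
  rw [IsLocalRing.mem_maximalIdeal, mem_nonunits_iff, MvPowerSeries.isUnit_iff_constantCoeff]
  simp

end H14.AFS
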