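import Mathlib

/-! Tensor products of domains over an algebraically closed field (helper14). -/

set_option autoImplicit false

namespace Groth.Agent.H14

open TensorProduct

section

variable {k A B : Type*} [Field k] [CommRing A] [CommRing B] [Algebra k A] [Algebra k B]

/-- Over an algebraically closed field, a finitely generated algebra has a `k`-point avoiding
any given nonzero element, provided the algebra is a domain. -/
theorem exists_algHom_ne_zero [IsAlgClosed k] [IsDomain B] [Algebra.FiniteType k B]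
    (c : B) (hc : c ≠ 0) : ∃ φ : B →ₐ[k] k, φ c ≠ 0 := by
  haveI : IsJacobsonRing B := isJacobsonRing_of_finiteType (A := k)
  have hJ : (⊥ : Ideal B).jacobson = ⊥ :=
    (inferInstance : IsJacobsonRing B).out (Ideal.radical_eq_iff.mp (nilradical_eq_zero B))
  have hc' : c ∉ (⊥ : Ideal B).jacobson := by rw [hJ]; simpa using hc
  rw [Ideal.jacobson, Ideal.mem_sInf] at hc'
  push Not at hc'
  obtain ⟨m, ⟨-, hm⟩, hcm⟩ := hc'
  letI : Field (B ⧸ m) := Ideal.Quotient.field m
  haveI : Module.Finite k (B ⧸ m) := finite_of_finite_type_of_isJacobsonRing k (B ⧸ m)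
  have hbij : Function.Bijective (algebraMap k (B ⧸ m)) :=
    IsAlgClosed.algebraMap_bijective_of_isIntegral
  let e : k ≃ₐ[k] (B ⧸ m) := AlgEquiv.ofBijective (Algebra.ofId k (B ⧸ m)) hbij
  refine ⟨(e.symm : (B ⧸ m) →ₐ[k] k).comp (Ideal.Quotient.mkₐ k m), ?_⟩
  intro h0
  apply hcm
  rw [← Ideal.Quotient.eq_zero_iff_mem]
  exact (map_eq_zero_iff _ e.symm.injective).mp h0

/-- Step 1: the finite type case. -/
theorem eq_zero_or_eq_zero_of_finiteType [IsAlgClosed k] [IsDomain A] [IsDomain B]
    [Algebra.FiniteType k B] (x y : B ⊗[k] A) (h : x * y = 0) : x = 0 ∨ y = 0 := by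
  by_contra hcon
  push Not at hcon
  obtain ⟨hx, hy⟩ := hcon
  let b := Module.Free.chooseBasis k A
  let bb := Algebra.TensorProduct.basis B b
  obtain ⟨i, hi⟩ : ∃ i, bb.repr x i ≠ 0 := by
    by_contra hall
    push Not at hall
    exact hx (bb.repr.map_eq_zero_iff.mp (Finsupp.ext hall))
  obtain ⟨j, hj⟩ : ∃ j, bb.repr y j ≠ 0 := by
    by_contra hall
    push Not at hall
    exact hy (bb.repr.map_eq_zero_iff.mp (Finsupp.ext hall))
  obtain ⟨φ, hφ⟩ := exists_algHom_ne_zero (k := k) (bb.repr x i * bb.repr y j) (mul_ne_zero hi hj)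
  let ψ : B ⊗[k] A →ₐ[k] A :=
    (Algebra.TensorProduct.lid k A : k ⊗[k] A →ₐ[k] A).comp
      (Algebra.TensorProduct.map φ (AlgHom.id k A))
  have key : ∀ z : B ⊗[k] A, ∀ l, b.repr (ψ z) l = φ (bb.repr z l) := by
    intro z l
    induction z using TensorProduct.induction_on with
    | zero => simp
    | tmul β a =>
      simp [ψ, bb, Algebra.TensorProduct.basis_repr_tmul]
    | add z w hz hw => simp [hz, hw]
  have hψ : ψ x * ψ y = 0 := by rw [← map_mul, h, map_zero]
  rw [map_mul] at hφ
  rcases mul_eq_zero.mp hψ with h0 | h0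
  · apply hφ
    rw [← key x i, h0]
    simp
  · apply hφ
    rw [← key y j, h0]
    simp

/-- Two elements of a tensor product live over a common finitely generated subalgebra of the
right factor. -/
theorem exists_fg_and_mem_baseChange₂ (x y : A ⊗[k] B) :
    ∃ C : Subalgebra k B, C.FG ∧ x ∈ C.baseChange A ∧ y ∈ C.baseChange A := by
  obtain ⟨Sx, hSx⟩ := TensorProduct.exists_finset x
  obtain ⟨Sy, hSy⟩ := TensorProduct.exists_finset y
  classical
  refine ⟨Algebra.adjoin k ((Sx ∪ Sy).image fun j ↦ j.2), Subalgebra.fg_adjoin_finset _, ?_, ?_⟩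
  · exact hSx ▸ Subalgebra.sum_mem _ fun s hs ↦ (Subalgebra.tmul_mem_baseChange
      (Algebra.subset_adjoin (Finset.mem_image_of_mem _ (Finset.mem_union_left _ hs))) s.1)
  · exact hSy ▸ Subalgebra.sum_mem _ fun s hs ↦ (Subalgebra.tmul_mem_baseChange
      (Algebra.subset_adjoin (Finset.mem_image_of_mem _ (Finset.mem_union_right _ hs))) s.1)

/-- Over an algebraically closed field the tensor product of two domains is a domain. -/
theorem isDomain_tensorProduct_of_isAlgClosed [IsAlgClosed k] [IsDomain A] [IsDomain B] :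
    IsDomain (A ⊗[k] B) := by
  haveI : Nontrivial (A ⊗[k] B) :=
    (Algebra.TensorProduct.includeLeft_injective (R := k) (S := A) (A := A) (B := B)
      (algebraMap k B).injective).nontrivial
  haveI : NoZeroDivisors (A ⊗[k] B) := by
    refine ⟨fun {x y} h => ?_⟩
    obtain ⟨C, hC, hx, hy⟩ := exists_fg_and_mem_baseChange₂ x y
    have h_inj : Function.Injective (Algebra.TensorProduct.map (AlgHom.id A A) C.val) :=
      Module.Flat.lTensor_preserves_injective_linearMap _ Subtype.val_injective
    obtain ⟨x', rfl⟩ := hx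
    obtain ⟨y', rfl⟩ := hy
    haveI : Algebra.FiniteType k C := ⟨C.fg_top.mpr hC⟩
    have h' : x' * y' = 0 := h_inj (by
      rw [map_mul, map_zero]
      exact h)
    have h'' : (Algebra.TensorProduct.comm k A C) x' * (Algebra.TensorProduct.comm k A C) y' = 0 := by
      rw [← map_mul, h', map_zero]
    rcases eq_zero_or_eq_zero_of_finiteType _ _ h'' with h0 | h0
    · left
      rw [EmbeddingLike.map_eq_zero_iff] at h0
      rw [h0]
      exact map_zero _
    · right
      rw [EmbeddingLike.map_eq_zero_iff] at h0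
      rw [h0]
      exact map_zero _
  exact NoZeroDivisors.to_isDomain _

/-- Over an algebraically closed field the tensor product of two algebras with irreducible spectra
has irreducible spectrum. -/
theorem irreducibleSpace_tensorProduct_of_isAlgClosed [IsAlgClosed k]
    [IrreducibleSpace (PrimeSpectrum A)] [IrreducibleSpace (PrimeSpectrum B)] :
    IrreducibleSpace (PrimeSpectrum (A ⊗[k] B)) := by
  have hA : (nilradical A).IsPrime := PrimeSpectrum.irreducibleSpace_iff_isPrime_nilradical.mp ‹_›
  have hB : (nilradical B).IsPrime := PrimeSpectrum.irreducibleSpace_iff_isPrime_nilradical.mp ‹_›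
  haveI : IsDomain (A ⧸ nilradical A) := Ideal.Quotient.isDomain _
  haveI : IsDomain (B ⧸ nilradical B) := Ideal.Quotient.isDomain _
  haveI : IsDomain ((A ⧸ nilradical A) ⊗[k] (B ⧸ nilradical B)) :=
    isDomain_tensorProduct_of_isAlgClosed
  let f := Ideal.Quotient.mkₐ k (nilradical A)
  let g := Ideal.Quotient.mkₐ k (nilradical B)
  have hf : Function.Surjective f := Ideal.Quotient.mkₐ_surjective _ _
  have hg : Function.Surjective g := Ideal.Quotient.mkₐ_surjective _ _
  have hker := Algebra.TensorProduct.map_ker f g hf hg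
  rw [PrimeSpectrum.irreducibleSpace_iff_isPrime_nilradical]
  have : nilradical (A ⊗[k] B) = RingHom.ker (Algebra.TensorProduct.map f g) := by
    apply le_antisymm
    · intro z hz
      rw [RingHom.mem_ker]
      have : IsNilpotent (Algebra.TensorProduct.map f g z) := (mem_nilradical.mp hz).map _
      exact this.eq_zero
    · rw [hker]
      refine sup_le ?_ ?_
      · rw [Ideal.map_le_iff_le_comap]
        intro a ha
        have ha' : a ∈ nilradical A := Ideal.Quotient.eq_zero_iff_mem.mp ha
        exact mem_nilradical.mpr ((mem_nilradical.mp ha').map _)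
      · rw [Ideal.map_le_iff_le_comap]
        intro a ha
        have ha' : a ∈ nilradical B := Ideal.Quotient.eq_zero_iff_mem.mp ha
        exact mem_nilradical.mpr ((mem_nilradical.mp ha').map _)
  rw [this]
  exact RingHom.ker_isPrime _

end

section directed

variable {k L R : Type*} [Field k] [Field L] [Algebra k L] [Algebra.IsAlgebraic k L]
  [CommRing R] [Algebra k R]

/-- Two elements of `L ⊗[k] R` (with `L/k` algebraic) come from `E ⊗[k] R` for a finite
subextension `E`. -/
theorem exists_finite_intermediateField (x y : L ⊗[k] R) :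
    ∃ E : IntermediateField k L, FiniteDimensional k E ∧
      x ∈ (Algebra.TensorProduct.map E.val (AlgHom.id k R)).range ∧
      y ∈ (Algebra.TensorProduct.map E.val (AlgHom.id k R)).range := by
  obtain ⟨Sx, hSx⟩ := TensorProduct.exists_finset x
  obtain ⟨Sy, hSy⟩ := TensorProduct.exists_finset y
  classical
  let T : Finset L := (Sx ∪ Sy).image fun j => j.1
  refine ⟨IntermediateField.adjoin k (T : Set L),
    IntermediateField.finiteDimensional_adjoin (fun z _ => Algebra.IsIntegral.isIntegral z), ?_, ?_⟩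
  · rw [hSx]
    refine Subalgebra.sum_mem _ fun s hs => ⟨⟨s.1, IntermediateField.subset_adjoin _ _ ?_⟩ ⊗ₜ s.2, ?_⟩
    · simp only [T, Finset.coe_image, Set.mem_image, Finset.mem_coe]
      exact ⟨s, Finset.mem_union_left _ hs, rfl⟩
    · simp
  · rw [hSy]
    refine Subalgebra.sum_mem _ fun s hs => ⟨⟨s.1, IntermediateField.subset_adjoin _ _ ?_⟩ ⊗ₜ s.2, ?_⟩
    · simp only [T, Finset.coe_image, Set.mem_image, Finset.mem_coe]
      exact ⟨s, Finset.mem_union_right _ hs, rfl⟩
    · simp

omit [Algebra.IsAlgebraic k L] in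
theorem map_val_injective (E : IntermediateField k L) :
    Function.Injective (Algebra.TensorProduct.map E.val (AlgHom.id k R)) :=
  Module.Flat.rTensor_preserves_injective_linearMap (M := R) E.val.toLinearMap
    Subtype.val_injective

/-- Irreducibility of `Spec (L ⊗ R)` can be tested on finite subextensions. -/
theorem irreducibleSpace_of_forall_finite
    (h : ∀ E : IntermediateField k L, FiniteDimensional k E →
      IrreducibleSpace (PrimeSpectrum (E ⊗[k] R))) :
    IrreducibleSpace (PrimeSpectrum (L ⊗[k] R)) := by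
  rw [PrimeSpectrum.irreducibleSpace_iff_isPrime_nilradical, Ideal.isPrime_iff]
  constructor
  · haveI := h ⊥ inferInstance
    haveI : Nontrivial ((⊥ : IntermediateField k L) ⊗[k] R) :=
      (PrimeSpectrum.nonempty_iff_nontrivial).mp inferInstance
    haveI : Nontrivial (L ⊗[k] R) := (map_val_injective (R := R) (⊥ : IntermediateField k L)).nontrivial
    rw [Ne, Ideal.eq_top_iff_one, mem_nilradical]
    exact not_isNilpotent_one
  · intro x y hxy
    obtain ⟨E, hE, ⟨x', rfl⟩, ⟨y', rfl⟩⟩ := exists_finite_intermediateField x y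
    have hp := PrimeSpectrum.irreducibleSpace_iff_isPrime_nilradical.mp (h E hE)
    have hnil : x' * y' ∈ nilradical (E ⊗[k] R) := by
      rw [mem_nilradical] at hxy ⊢
      rw [← map_mul] at hxy
      exact (IsNilpotent.map_iff (map_val_injective E)).mp hxy
    rcases hp.mem_or_mem hnil with h1 | h1
    · left
      exact mem_nilradical.mpr ((mem_nilradical.mp h1).map _)
    · right
      exact mem_nilradical.mpr ((mem_nilradical.mp h1).map _)

/-- Being a domain can be tested on finite subextensions. -/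
theorem isDomain_of_forall_finite
    (h : ∀ E : IntermediateField k L, FiniteDimensional k E → IsDomain (E ⊗[k] R)) :
    IsDomain (L ⊗[k] R) := by
  haveI := h ⊥ inferInstance
  haveI : Nontrivial (L ⊗[k] R) := (map_val_injective (R := R) (⊥ : IntermediateField k L)).nontrivial
  haveI : NoZeroDivisors (L ⊗[k] R) := by
    refine ⟨fun {x y} hxy => ?_⟩
    obtain ⟨E, hE, ⟨x', rfl⟩, ⟨y', rfl⟩⟩ := exists_finite_intermediateField x y
    haveI := h E hE
    have h0 : x' * y' = 0 := map_val_injective E (by rw [map_mul, map_zero]; exact hxy)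
    rcases mul_eq_zero.mp h0 with h1 | h1
    · left; rw [h1, map_zero]
    · right; rw [h1, map_zero]
  exact NoZeroDivisors.to_isDomain _

end directed

section descent

universe u

variable {k k' R : Type u} [Field k] [Field k'] [Algebra k k'] [CommRing R] [Algebra k R]

/-- If `k̄ ⊗[k] R` has irreducible spectrum then so has `k' ⊗[k] R` for every field `k'/k`. -/
theorem irreducibleSpace_of_algebraicClosure
    [IrreducibleSpace (PrimeSpectrum (AlgebraicClosure k ⊗[k] R))] :
    IrreducibleSpace (PrimeSpectrum (k' ⊗[k] R)) := by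
  let Ω := AlgebraicClosure k'
  let φ : AlgebraicClosure k →ₐ[k] Ω := IsAlgClosed.lift
  letI : Algebra (AlgebraicClosure k) Ω := φ.toRingHom.toAlgebra
  haveI : IsScalarTower k (AlgebraicClosure k) Ω :=
    IsScalarTower.of_algebraMap_eq (fun x => (φ.commutes x).symm)
  haveI : IrreducibleSpace (PrimeSpectrum (Ω ⊗[AlgebraicClosure k] (AlgebraicClosure k ⊗[k] R))) :=
    irreducibleSpace_tensorProduct_of_isAlgClosed (k := AlgebraicClosure k)
  let e1 : Ω ⊗[AlgebraicClosure k] (AlgebraicClosure k ⊗[k] R) ≃+* Ω ⊗[k] R :=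
    (Algebra.TensorProduct.cancelBaseChange k (AlgebraicClosure k) (AlgebraicClosure k) Ω R).toRingEquiv
  let e2 : Ω ⊗[k'] (k' ⊗[k] R) ≃+* Ω ⊗[k] R :=
    (Algebra.TensorProduct.cancelBaseChange k k' k' Ω R).toRingEquiv
  let e3 : Ω ⊗[k'] (k' ⊗[k] R) ≃+* (k' ⊗[k] R) ⊗[k'] Ω :=
    (Algebra.TensorProduct.comm k' Ω (k' ⊗[k] R)).toRingEquiv
  haveI : IrreducibleSpace (PrimeSpectrum ((k' ⊗[k] R) ⊗[k'] Ω)) :=
    (PrimeSpectrum.homeomorphOfRingEquiv ((e1.trans e2.symm).trans e3)).irreducibleSpace_iff.mp
      inferInstance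
  haveI : Module.FaithfullyFlat (k' ⊗[k] R) ((k' ⊗[k] R) ⊗[k'] Ω) := inferInstance
  exact (PrimeSpectrum.comap_surjective_of_faithfullyFlat
    (A := k' ⊗[k] R) (B := (k' ⊗[k] R) ⊗[k'] Ω)).irreducibleSpace (PrimeSpectrum.continuous_comap _)

/-- If `k̄ ⊗[k] R` is a domain then so is `k' ⊗[k] R` for every field `k'/k`. -/
theorem isDomain_of_algebraicClosure [IsDomain (AlgebraicClosure k ⊗[k] R)] :
    IsDomain (k' ⊗[k] R) := by
  let Ω := AlgebraicClosure k'
  let φ : AlgebraicClosure k →ₐ[k] Ω := IsAlgClosed.lift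
  letI : Algebra (AlgebraicClosure k) Ω := φ.toRingHom.toAlgebra
  haveI : IsScalarTower k (AlgebraicClosure k) Ω :=
    IsScalarTower.of_algebraMap_eq (fun x => (φ.commutes x).symm)
  haveI : IsDomain (Ω ⊗[AlgebraicClosure k] (AlgebraicClosure k ⊗[k] R)) :=
    isDomain_tensorProduct_of_isAlgClosed (k := AlgebraicClosure k)
  let e1 : Ω ⊗[AlgebraicClosure k] (AlgebraicClosure k ⊗[k] R) ≃+* Ω ⊗[k] R :=
    (Algebra.TensorProduct.cancelBaseChange k (AlgebraicClosure k) (AlgebraicClosure k) Ω R).toRingEquiv
  haveI : IsDomain (Ω ⊗[k] R) := e1.symm.toMulEquiv.isDomain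
  have hinj : Function.Injective
      (Algebra.TensorProduct.map (IsScalarTower.toAlgHom k k' Ω) (AlgHom.id k R)) :=
    Module.Flat.rTensor_preserves_injective_linearMap (M := R)
      (IsScalarTower.toAlgHom k k' Ω).toLinearMap (algebraMap k' Ω).injective
  exact hinj.isDomain (Algebra.TensorProduct.map (IsScalarTower.toAlgHom k k' Ω) (AlgHom.id k R))

end descent

end Groth.Agent.H14
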