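import Mathlib
import Groth.Agent.Lib.helper14.AlgClosedTensor
import Groth.Prelude.Def_Found

set_option autoImplicit false
universe u

namespace H14.ArtReg

open IsLocalRing TensorProduct

theorem isRegularRing_of_isArtinianRing_of_isReduced (A : Type*) [CommRing A] [IsArtinianRing A]
    [IsReduced A] : IsRegularRing A := by
  rw [isRegularRing_iff]
  intro p hp
  have hf : IsField (Localization.AtPrime p) :=
    IsArtinianRing.isField_of_isReduced_of_isLocalRing _
  let := hf.toField
  infer_instance

theorem isReduced_of_isArtinianRing_of_isRegularRing (A : Type*) [CommRing A] [IsArtinianRing A]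
    [IsRegularRing A] : IsReduced A := by
  apply isReduced_ofLocalizationMaximal
  intro J hJ
  have hreg : IsRegularLocalRing (Localization.AtPrime J) := inferInstance
  have hdim : ringKrullDim (Localization.AtPrime J) = 0 :=
    ringKrullDimZero_iff_ringKrullDim_eq_zero.mp inferInstance
  have h0 : (maximalIdeal (Localization.AtPrime J)).spanFinrank = 0 := by
    have := hreg.spanFinrank_maximalIdeal.trans hdim
    exact_mod_cast this
  have hbot : maximalIdeal (Localization.AtPrime J) = ⊥ :=
    (Submodule.spanFinrank_eq_zero_iff_eq_bot (IsNoetherian.noetherian _)).mp h0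
  have hf : IsField (Localization.AtPrime J) := IsLocalRing.isField_iff_maximalIdeal_eq.mpr hbot
  let := hf.toField
  infer_instance

theorem isArtinianRing_tensor (k k' K : Type*) [Field k] [Field k'] [Field K] [Algebra k k']
    [Algebra k K] [Module.Finite k k'] : IsArtinianRing (k' ⊗[k] K) := by
  haveI : IsArtinianRing (K ⊗[k] k') := IsArtinianRing.of_finite K (K ⊗[k] k')
  exact (Algebra.TensorProduct.comm k K k').surjective.isArtinianRing

theorem isRegularHom_field_iff (k K : Type u) [Field k] [Field K] [Algebra k K] :
    CAlg.IsRegularHom k K ↔ Algebra.IsGeometricallyReduced k K := by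
  constructor
  · rintro ⟨-, h⟩
    rw [Algebra.isGeometricallyReduced_field_iff]
    obtain ⟨-, hreg⟩ := h ⊥
    have key : ∀ E : IntermediateField k (AlgebraicClosure k), FiniteDimensional k E →
        IsReduced (E ⊗[k] K) := by
      intro E hE
      let e := (⊥ : Ideal k).algEquivResidueFieldOfField
      letI : Algebra (⊥ : Ideal k).ResidueField E :=
        ((algebraMap k E).comp (e.symm : (⊥ : Ideal k).ResidueField →+* k)).toAlgebra
      haveI : IsScalarTower k (⊥ : Ideal k).ResidueField E := by
        refine IsScalarTower.of_algebraMap_eq (fun x => ?_)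
        change algebraMap k E x = algebraMap k E (e.symm (algebraMap k _ x))
        rw [← Ideal.algEquivResidueFieldOfField_apply, AlgEquiv.symm_apply_apply]
      haveI : Module.Finite (⊥ : Ideal k).ResidueField E :=
        Module.Finite.of_restrictScalars_finite k _ E
      haveI : IsRegularRing (E ⊗[(⊥ : Ideal k).ResidueField] ((⊥ : Ideal k).Fiber K)) :=
        hreg E inferInstance
      haveI : IsRegularRing (E ⊗[k] K) :=
        IsRegularRing.of_ringEquiv
          (R := E ⊗[(⊥ : Ideal k).ResidueField] ((⊥ : Ideal k).Fiber K))
          (Algebra.TensorProduct.cancelBaseChange k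
          (⊥ : Ideal k).ResidueField (⊥ : Ideal k).ResidueField E K).toRingEquiv
      haveI := isArtinianRing_tensor k E K
      exact isReduced_of_isArtinianRing_of_isRegularRing (E ⊗[k] K)
    constructor
    intro x hx
    obtain ⟨E, hE, ⟨x', rfl⟩, -⟩ :=
      Groth.Agent.H14.exists_finite_intermediateField (k := k) (L := AlgebraicClosure k) (R := K) x x
    haveI := key E hE
    have hx' : IsNilpotent x' :=
      (IsNilpotent.map_iff (Groth.Agent.H14.map_val_injective E)).mp hx
    rw [hx'.eq_zero, map_zero]
  · intro hgr
    refine ⟨inferInstance, fun p hp => ?_⟩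
    haveI : p.IsMaximal := by simpa [p.eq_bot_of_prime] using Ideal.bot_isMaximal
    constructor
    · haveI : IsNoetherianRing (K ⊗[k] p.ResidueField) :=
        IsNoetherianRing.of_finite K (K ⊗[k] p.ResidueField)
      exact isNoetherianRing_of_ringEquiv _ (Algebra.TensorProduct.comm k K p.ResidueField).toRingEquiv
    · intro k' _ _ hfin
      letI : Algebra k k' := ((algebraMap p.ResidueField k').comp (algebraMap k p.ResidueField)).toAlgebra
      haveI : IsScalarTower k p.ResidueField k' := IsScalarTower.of_algebraMap_eq (fun _ => rfl)
      haveI : Module.Finite k k' := Module.Finite.trans p.ResidueField k'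
      haveI : IsReduced (k' ⊗[k] K) := inferInstance
      haveI := isArtinianRing_tensor k k' K
      haveI : IsRegularRing (k' ⊗[k] K) := isRegularRing_of_isArtinianRing_of_isReduced (k' ⊗[k] K)
      exact IsRegularRing.of_ringEquiv (R := k' ⊗[k] K) (Algebra.TensorProduct.cancelBaseChange k
          p.ResidueField p.ResidueField k' K).symm.toRingEquiv

end H14.ArtReg
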