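import Groth.Prelude.Def_Found
import Mathlib

set_option autoImplicit false
universe u

namespace Groth.Agent.H14

/-- Catenarity descends along an order embedding of spectra with order-convex image. -/
theorem isCatenary_of_embedding {A B : Type u} [CommRing A] [CommRing B]
    (f : PrimeSpectrum B → PrimeSpectrum A) (hf : ∀ a b, f a ≤ f b ↔ a ≤ b)
    (hconv : ∀ a b (y : PrimeSpectrum A), f a < y → y < f b → ∃ c, f c = y)
    (hA : CAlg.IsCatenary A) : CAlg.IsCatenary B := by
  have hlt : ∀ a b, f a < f b ↔ a < b := by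
    intro a b
    rw [lt_iff_le_not_ge, lt_iff_le_not_ge, hf, hf]
  have hmono : StrictMono f := fun a b h => (hlt a b).mpr h
  have hcov : ∀ a b, a ⋖ b → f a ⋖ f b := by
    intro a b hab
    refine ⟨hmono hab.lt, ?_⟩
    intro y h1 h2
    obtain ⟨c, rfl⟩ := hconv a b y h1 h2
    exact hab.2 ((hlt _ _).mp h1) ((hlt _ _).mp h2)
  refine ⟨?_, ?_⟩
  · intro p q hpq
    obtain ⟨n, hn⟩ := hA.1 (f p) (f q) ((hf p q).mpr hpq)
    refine ⟨n, fun s hs hl => ?_⟩
    have := hn (s.map f hmono) (by rw [LTSeries.head_map, hs]) (by rw [LTSeries.last_map, hl])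
    simpa using this
  · intro s t hst hst' hs ht
    have := hA.2 (s.map f hmono) (t.map f hmono)
      (by rw [LTSeries.head_map, LTSeries.head_map, hst])
      (by rw [LTSeries.last_map, LTSeries.last_map, hst'])
      (fun i => hcov _ _ (hs i)) (fun i => hcov _ _ (ht i))
    simpa using this

end Groth.Agent.H14

namespace Groth.Agent.H14

/-- Lift a chain of primes through an order embedding when all members are in the image. -/
theorem exists_ltSeries_map_eq {α β : Type*} [PartialOrder α] [PartialOrder β] (f : β → α)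
    (hmono : StrictMono f) (hlt : ∀ a b, f a < f b → a < b)
    (s : LTSeries α) (hs : ∀ i, ∃ c, f c = s i) :
    ∃ s' : LTSeries β, s'.map f hmono = s := by
  choose g hg using hs
  refine ⟨LTSeries.mk s.length g (fun i j hij => hlt _ _ (by rw [hg, hg]; exact s.strictMono hij)),
    ?_⟩
  refine RelSeries.ext rfl ?_
  funext i
  simp only [LTSeries.map_toFun, LTSeries.mk_toFun, Function.comp_apply, hg]
  rfl

/-- A ring is catenary as soon as every prime has an upper neighbourhood in the spectrum which is
order-isomorphic to the spectrum of a catenary ring. -/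
theorem isCatenary_of_local_embeddings {A : Type u} [CommRing A]
    (H : ∀ p : PrimeSpectrum A, ∃ (B : Type u) (_ : CommRing B)
      (f : PrimeSpectrum B → PrimeSpectrum A), (∀ a b, f a ≤ f b ↔ a ≤ b) ∧
        (∀ y, p ≤ y → ∃ c, f c = y) ∧ CAlg.IsCatenary B) : CAlg.IsCatenary A := by
  refine ⟨?_, ?_⟩
  · intro p q hpq
    obtain ⟨B, _, f, hf, hup, hB⟩ := H p
    have hlt : ∀ a b, f a < f b ↔ a < b := by
      intro a b
      rw [lt_iff_le_not_ge, lt_iff_le_not_ge, hf, hf]
    have hmono : StrictMono f := fun a b h => (hlt a b).mpr h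
    have hinj : Function.Injective f := fun a b hab =>
      le_antisymm ((hf a b).mp hab.le) ((hf b a).mp hab.ge)
    obtain ⟨p', hp'⟩ := hup p le_rfl
    obtain ⟨q', hq'⟩ := hup q hpq
    obtain ⟨n, hn⟩ := hB.1 p' q' ((hf _ _).mp (by rw [hp', hq']; exact hpq))
    refine ⟨n, fun s hs hl => ?_⟩
    obtain ⟨s', rfl⟩ := exists_ltSeries_map_eq f hmono (fun a b => (hlt a b).mp) s
      (fun i => hup _ (hs ▸ s.head_le i))
    have := hn s' (hinj (by rw [hp']; exact hs)) (hinj (by rw [hq']; exact hl))
    simpa using this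
  · intro s t hst hst' hs ht
    obtain ⟨B, _, f, hf, hup, hB⟩ := H s.head
    have hlt : ∀ a b, f a < f b ↔ a < b := by
      intro a b
      rw [lt_iff_le_not_ge, lt_iff_le_not_ge, hf, hf]
    have hmono : StrictMono f := fun a b h => (hlt a b).mpr h
    have hinj : Function.Injective f := fun a b hab =>
      le_antisymm ((hf a b).mp hab.le) ((hf b a).mp hab.ge)
    obtain ⟨s', rfl⟩ := exists_ltSeries_map_eq f hmono (fun a b => (hlt a b).mp) s
      (fun i => hup _ (s.head_le i))
    obtain ⟨t', rfl⟩ := exists_ltSeries_map_eq f hmono (fun a b => (hlt a b).mp) t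
      (fun i => hup _ (hst ▸ t.head_le i))
    have hcov : ∀ a b, f a ⋖ f b → a ⋖ b := by
      intro a b hab
      refine ⟨(hlt _ _).mp hab.lt, ?_⟩
      intro c h1 h2
      exact hab.2 (hmono h1) (hmono h2)
    have := hB.2 s' t' (hinj hst) (hinj hst') (fun i => hcov _ _ (hs i)) (fun i => hcov _ _ (ht i))
    simpa using this

end Groth.Agent.H14
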