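import Mathlib
import Groth.Agent.S4541
import Groth.Agent.S2467

/-!
# Formal smoothness of `Λ/p^n` over `ℤ/p^n` for a Cohen ring `Λ`
-/

universe u

namespace H14.CohenSmooth

/-- every field extension of a perfect field of characteristic `p` is formally smooth
(via `p`-bases) -/
theorem formallySmooth_of_perfectField (p : ℕ) [Fact p.Prime] {F L : Type u} [Field F] [Field L]
    [Algebra F L] [CharP F p] [PerfectRing F p] :
    Algebra.FormallySmooth F L := by
  classical
  haveI : CharP L p := charP_of_injective_algebraMap (algebraMap F L).injective p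
  have hp2 : 1 < p := (Fact.out : p.Prime).one_lt
  -- all elements p-generate
  have hS : EGA41.IsPGenerating p F (Subtype.val : ↥(Set.univ : Set L) → L) := by
    unfold EGA41.IsPGenerating
    rw [eq_top_iff]
    intro y _
    apply Submodule.subset_span
    refine ⟨⟨Finsupp.single ⟨y, Set.mem_univ y⟩ 1, fun i => ?_⟩, ?_⟩
    · by_cases h : i = ⟨y, Set.mem_univ y⟩
      · subst h; simpa using hp2
      · rw [Finsupp.single_apply, if_neg (Ne.symm h)]; exact (Fact.out : p.Prime).pos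
    · simp [EGA41.pMonomial]
  have hL : EGA41.IsPIndependent p F (Subtype.val : ↥(∅ : Set L) → L) := by
    unfold EGA41.IsPIndependent
    haveI : IsEmpty (↥(∅ : Set L)) := Set.isEmpty_coe_sort.mpr rfl
    haveI : Unique {e : ↥(∅ : Set L) →₀ ℕ // ∀ i, e i < p} :=
      { default := ⟨0, fun i => isEmptyElim i⟩
        uniq := fun e => Subtype.ext (Subsingleton.elim _ _) }
    rw [linearIndependent_unique_iff]
    simp [EGA41.pMonomial]
  obtain ⟨B, -, -, hB⟩ := Groth.Agent.S2467.result p (k := F) (K := L) Set.univ ∅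
    (Set.empty_subset _) hS hL
  exact (Groth.Agent.S4541.result p (A := F) (B := L) (Subtype.val : B → L) hB).1

/-- flatness passes to quotients -/
theorem flat_quotient {A B : Type*} [CommRing A] [CommRing B] [Algebra A B] [Module.Flat A B]
    (I : Ideal A) (J : Ideal B) (hJ : J = I.map (algebraMap A B))
    [Algebra (A ⧸ I) (B ⧸ J)] [IsScalarTower A (A ⧸ I) (B ⧸ J)] :
    Module.Flat (A ⧸ I) (B ⧸ J) := by
  subst hJ
  let e1 : TensorProduct A (A ⧸ I) B ≃ₗ[A] B ⧸ (I • (⊤ : Submodule A B)) :=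
    TensorProduct.quotTensorEquivQuotSMul B I
  let e2 : (B ⧸ (I • (⊤ : Submodule A B))) ≃ₗ[A]
      (B ⧸ (I.map (algebraMap A B)).restrictScalars A) :=
    Submodule.quotEquivOfEq _ _ (Ideal.smul_top_eq_map I)
  let e3 : (B ⧸ (I.map (algebraMap A B)).restrictScalars A) ≃ₗ[A] (B ⧸ I.map (algebraMap A B)) :=
    Submodule.Quotient.restrictScalarsEquiv A (I.map (algebraMap A B))
  let e : TensorProduct A (A ⧸ I) B ≃ₗ[A ⧸ I] (B ⧸ I.map (algebraMap A B)) :=
    (e1.trans (e2.trans e3)).extendScalarsOfSurjective Ideal.Quotient.mk_surjective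
  exact Module.Flat.of_linearEquiv e.symm

section main

variable (Λ : Type u) [CommRing Λ] [IsDomain Λ] [IsDiscreteValuationRing Λ] (p : ℕ)

/-- `ℤ/p^m → Λ/p^m` -/
noncomputable def g (m : ℕ) :
    (ℤ ⧸ Ideal.span {(p : ℤ) ^ m}) →+* (Λ ⧸ Ideal.span {(p : Λ) ^ m}) :=
  Ideal.quotientMap _ (Int.castRingHom Λ) (by
    rw [Ideal.span_le, Set.singleton_subset_iff, SetLike.mem_coe, Ideal.mem_comap, map_pow,
      map_natCast]
    exact Ideal.mem_span_singleton_self _)

omit [IsDomain Λ] [IsDiscreteValuationRing Λ] in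
lemma g_comp_mk (m : ℕ) : (g Λ p m).comp (Ideal.Quotient.mk _) =
    (Ideal.Quotient.mk (Ideal.span {(p : Λ) ^ m})).comp (Int.castRingHom Λ) :=
  Subsingleton.elim _ _

variable {Λ p}

lemma natCast_ne_zero (hp : p.Prime)
    (hm : IsLocalRing.maximalIdeal Λ = Ideal.span {(p : Λ)}) (n : ℕ) (hn : n ≠ 0) :
    (n : Λ) ≠ 0 := by
  have hp0 : (p : Λ) ≠ 0 := by
    intro h0
    apply IsDiscreteValuationRing.not_a_field Λ
    rw [hm, h0, Ideal.span_singleton_eq_bot]
  obtain ⟨a, n', hn', rfl⟩ := Nat.exists_eq_pow_mul_and_not_dvd hn p hp.ne_one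
  rw [Nat.cast_mul, Nat.cast_pow]
  refine mul_ne_zero (pow_ne_zero _ hp0) ?_
  intro h0
  have hcop : Nat.Coprime p n' := (Nat.Prime.coprime_iff_not_dvd hp).mpr hn'
  have hpmem : (p : Λ) ∈ IsLocalRing.maximalIdeal Λ := by
    rw [hm]; exact Ideal.mem_span_singleton_self _
  apply (IsLocalRing.mem_maximalIdeal _).mp hpmem
  have hb := Nat.Coprime.isCoprime hcop
  obtain ⟨u, v, huv⟩ := hb
  have : ((u * p + v * n' : ℤ) : Λ) = 1 := by rw [huv]; simp
  push_cast at this
  rw [h0, mul_zero, add_zero] at this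
  exact IsUnit.of_mul_eq_one _ (by rw [mul_comm]; exact this)

lemma flat_int (hp : p.Prime) (hm : IsLocalRing.maximalIdeal Λ = Ideal.span {(p : Λ)}) :
    Module.Flat ℤ Λ := by
  rw [Module.Flat.flat_iff_torsion_eq_bot_of_isBezout, eq_bot_iff]
  rintro x ⟨⟨n, hn⟩, hnx⟩
  rw [Submodule.mem_bot]
  have hn0 : n ≠ 0 := nonZeroDivisors.ne_zero hn
  have h1 : (n : Λ) * x = 0 := by
    rw [← zsmul_eq_mul]; exact hnx
  rcases mul_eq_zero.mp h1 with h | h
  · exfalso
    have h2 : ((n.natAbs : ℕ) : Λ) = 0 := by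
      rcases Int.natAbs_eq n with h3 | h3
      · rw [← Int.cast_natCast, ← h3]; exact h
      · have : (n.natAbs : ℤ) = -n := by omega
        rw [← Int.cast_natCast, this, Int.cast_neg, h, neg_zero]
    exact natCast_ne_zero hp hm _ (Int.natAbs_ne_zero.mpr hn0) h2
  · exact h

theorem g_formallySmooth (hp : p.Prime)
    (hm : IsLocalRing.maximalIdeal Λ = Ideal.span {(p : Λ)}) (m : ℕ) :
    (g Λ p (m + 1)).FormallySmooth := by
  induction m with
  | zero =>
    haveI hmax : (Ideal.span {(p : Λ) ^ (0 + 1)}).IsMaximal := by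
      rw [zero_add, pow_one, ← hm]; infer_instance
    letI : Field (Λ ⧸ Ideal.span {(p : Λ) ^ (0 + 1)}) := Ideal.Quotient.field _
    haveI : Fact p.Prime := ⟨hp⟩
    let e : (ℤ ⧸ Ideal.span {(p : ℤ) ^ (0 + 1)}) ≃+* ULift.{u} (ZMod p) :=
      (Ideal.quotEquivOfEq (by rw [zero_add, pow_one])).trans
        ((Int.quotientSpanNatEquivZMod p).trans ULift.ringEquiv.symm)
    letI : Algebra (ULift.{u} (ZMod p)) (Λ ⧸ Ideal.span {(p : Λ) ^ (0 + 1)}) :=
      ((g Λ p (0 + 1)).comp e.symm.toRingHom).toAlgebra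
    haveI : CharP (ULift.{u} (ZMod p)) p := inferInstance
    haveI : PerfectRing (ULift.{u} (ZMod p)) p := inferInstance
    have hfs : Algebra.FormallySmooth (ULift.{u} (ZMod p)) (Λ ⧸ Ideal.span {(p : Λ) ^ (0 + 1)}) :=
      formallySmooth_of_perfectField p
    have hg : g Λ p (0 + 1) =
        (algebraMap (ULift.{u} (ZMod p)) (Λ ⧸ Ideal.span {(p : Λ) ^ (0 + 1)})).comp e.toRingHom :=
      Ideal.Quotient.ringHom_ext (Subsingleton.elim _ _)
    rw [hg]
    exact (RingHom.FormallySmooth.of_bijective e.bijective).comp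
      (RingHom.formallySmooth_algebraMap.mpr hfs)
  | succ m ih =>
    haveI := flat_int hp hm
    have hle : Ideal.span {(p : ℤ) ^ (m + 1 + 1)} ≤ Ideal.span {(p : ℤ) ^ (m + 1)} := by
      rw [Ideal.span_singleton_le_span_singleton]
      exact pow_dvd_pow _ (Nat.le_succ _)
    have hleΛ : Ideal.span {(p : Λ) ^ (m + 1 + 1)} ≤ Ideal.span {(p : Λ) ^ (m + 1)} := by
      rw [Ideal.span_singleton_le_span_singleton]
      exact pow_dvd_pow _ (Nat.le_succ _)
    refine RingHom.FormallySmooth.of_flat_of_ker_eq_map_of_square_zero (g Λ p (m + 1 + 1)) ?_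
      (Ideal.Quotient.factor hle) (Ideal.Quotient.factor hleΛ) (g Λ p (m + 1))
      (Ideal.Quotient.factor_surjective hle) (Ideal.Quotient.factor_surjective hleΛ)
      (Ideal.Quotient.ringHom_ext (Subsingleton.elim _ _)) ?_ ?_ ih
    · -- flat
      letI : Algebra (ℤ ⧸ Ideal.span {(p : ℤ) ^ (m + 1 + 1)}) (Λ ⧸ Ideal.span {(p : Λ) ^ (m + 1 + 1)}) :=
        (g Λ p (m + 1 + 1)).toAlgebra
      haveI : IsScalarTower ℤ (ℤ ⧸ Ideal.span {(p : ℤ) ^ (m + 1 + 1)})
          (Λ ⧸ Ideal.span {(p : Λ) ^ (m + 1 + 1)}) :=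
        IsScalarTower.of_algebraMap_eq' (Subsingleton.elim _ _)
      change Module.Flat (ℤ ⧸ Ideal.span {(p : ℤ) ^ (m + 1 + 1)})
        (Λ ⧸ Ideal.span {(p : Λ) ^ (m + 1 + 1)})
      apply flat_quotient
      rw [Ideal.map_span, Set.image_singleton]
      simp
    · -- square zero
      rw [Ideal.Quotient.factor_ker, ← Ideal.map_pow, eq_bot_iff]
      refine (Ideal.map_mono ?_).trans (le_of_eq (Ideal.map_quotient_self _))
      rw [Ideal.span_singleton_pow, Ideal.span_singleton_le_span_singleton, ← pow_mul]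
      exact pow_dvd_pow _ (by omega)
    · -- kernel
      have h1 : Ideal.map (Int.castRingHom Λ) (Ideal.span {(p : ℤ) ^ (m + 1)}) =
          Ideal.span {(p : Λ) ^ (m + 1)} := by
        rw [Ideal.map_span, Set.image_singleton]; simp
      rw [Ideal.Quotient.factor_ker, Ideal.Quotient.factor_ker, Ideal.map_map, g_comp_mk,
        ← Ideal.map_map, h1]

end main

end H14.CohenSmooth
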