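import Mathlib
import Groth.Prelude.Def_EGA41
import Groth.Prelude.Def_CAlgX

/-!
# `EGA41.IsFormallySmoothAdic`: square-zero test ideals suffice

`H14.FSAdic.of_sq`: to check `EGA41.IsFormallySmoothAdic A 𝔞 B 𝔟` it suffices to lift along square-zero ideals.
-/

universe u

namespace H14.FSAdic

theorem of_sq {A B : Type u} [CommRing A] [CommRing B] [Algebra A B] (𝔞 : Ideal A) (𝔟 : Ideal B)
    (H : ∀ (C : Type u) [CommRing C] [Algebra A C] (J : Ideal C), J ^ 2 = ⊥ →
      (∃ k : ℕ, (𝔞 ^ k).map (algebraMap A C) = ⊥) →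
      ∀ u : B →ₐ[A] C ⧸ J, (∃ k : ℕ, ∀ x ∈ 𝔟 ^ k, u x = 0) →
        ∃ v : B →ₐ[A] C, (Ideal.Quotient.mkₐ A J).comp v = u) :
    EGA41.IsFormallySmoothAdic A 𝔞 B 𝔟 := by
  classical
  have key : ∀ (N : ℕ) (C : Type u) [CommRing C] [Algebra A C] (J : Ideal C), J ^ N = ⊥ →
      (∃ k : ℕ, (𝔞 ^ k).map (algebraMap A C) = ⊥) →
      ∀ u : B →ₐ[A] C ⧸ J, (∃ k : ℕ, ∀ x ∈ 𝔟 ^ k, u x = 0) →
        ∃ v : B →ₐ[A] C, (Ideal.Quotient.mkₐ A J).comp v = u := by
    intro N
    induction N using Nat.strong_induction_on with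
    | _ N ih =>
      intro C _ _ J hN hC u hu
      by_cases hN2 : N ≤ 2
      · -- `J ^ 2 = ⊥`
        apply H C J ?_ hC u hu
        rw [eq_bot_iff, ← hN]
        exact Ideal.pow_le_pow_right hN2
      · -- induction step
        have hN3 : 3 ≤ N := by omega
        obtain ⟨M, rfl⟩ : ∃ M, N = M + 2 := ⟨N - 2, by omega⟩
        let K : Ideal C := J ^ (M + 1)
        have hKJ : K ≤ J := Ideal.pow_le_self (Nat.succ_ne_zero M)
        have hK2 : K ^ 2 = ⊥ := by
          rw [eq_bot_iff, ← hN, ← pow_mul]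
          exact Ideal.pow_le_pow_right (by omega)
        let Jb : Ideal (C ⧸ K) := J.map (Ideal.Quotient.mkₐ A K)
        have hJb : Jb ^ (M + 1) = ⊥ := by
          change (J.map (Ideal.Quotient.mk K)) ^ (M + 1) = ⊥
          rw [← Ideal.map_pow]
          exact Ideal.map_quotient_self K
        have hCb : ∃ k : ℕ, (𝔞 ^ k).map (algebraMap A (C ⧸ K)) = ⊥ := by
          obtain ⟨k, hk⟩ := hC
          refine ⟨k, ?_⟩
          have : algebraMap A (C ⧸ K) = (Ideal.Quotient.mk K).comp (algebraMap A C) := rfl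
          rw [this, ← Ideal.map_map, hk, Ideal.map_bot]
        let e := DoubleQuot.quotQuotEquivQuotOfLEₐ A hKJ
        let ub : B →ₐ[A] (C ⧸ K) ⧸ Jb := (e.symm : _ →ₐ[A] _).comp u
        have hub : ∃ k : ℕ, ∀ x ∈ 𝔟 ^ k, ub x = 0 := by
          obtain ⟨k, hk⟩ := hu
          refine ⟨k, fun x hx => ?_⟩
          change e.symm (u x) = 0
          rw [hk x hx, map_zero]
        obtain ⟨vb, hvb⟩ := ih (M + 1) (by omega) (C ⧸ K) Jb hJb hCb ub hub
        have hvb' : ∀ x, Ideal.Quotient.mk Jb (vb x) = e.symm (u x) := by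
          intro x
          have := congrArg (fun φ => φ x) hvb
          simp only [AlgHom.comp_apply, Ideal.Quotient.mkₐ_eq_mk] at this
          exact this
        -- `vb` kills a power of `𝔟`
        have hvbk : ∃ k : ℕ, ∀ x ∈ 𝔟 ^ k, vb x = 0 := by
          obtain ⟨k, hk⟩ := hu
          refine ⟨k * (M + 1), fun x hx => ?_⟩
          have h1 : 𝔟 ^ k ≤ Jb.comap vb.toRingHom := by
            intro y hy
            rw [Ideal.mem_comap]
            change vb y ∈ Jb
            rw [← Ideal.Quotient.eq_zero_iff_mem, hvb' y, hk y hy, map_zero]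
          have h2 : (𝔟 ^ k) ^ (M + 1) ≤ (Jb ^ (M + 1)).comap vb.toRingHom :=
            (Ideal.pow_right_mono h1 _).trans (Ideal.le_comap_pow _ _)
          rw [pow_mul] at hx
          have := h2 hx
          rw [hJb] at this
          simpa using this
        obtain ⟨v, hv⟩ := H C K hK2 hC vb hvbk
        refine ⟨v, ?_⟩
        ext x
        have h1 : Ideal.Quotient.mk K (v x) = vb x := by
          have := congrArg (fun φ => φ x) hv
          simpa using this
        change Ideal.Quotient.mk J (v x) = u x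
        have h2 : e (Ideal.Quotient.mk Jb (Ideal.Quotient.mk K (v x))) = Ideal.Quotient.mk J (v x) :=
          rfl
        rw [← h2, h1, hvb', AlgEquiv.apply_symm_apply]
  intro C _ _ J hJ hC u hu
  obtain ⟨N, hN⟩ := hJ
  exact key N C J hN hC u hu

/-- the square-zero discrete-base notion agrees with `EGA41.IsFormallySmoothAdic _ ⊥` -/
theorem isAdicFormallySmooth_iff {A B : Type u} [CommRing A] [CommRing B] [Algebra A B]
    (𝔫 : Ideal B) :
    CAlgX.IsAdicFormallySmooth A B 𝔫 ↔ EGA41.IsFormallySmoothAdic A ⊥ B 𝔫 := by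
  constructor
  · intro h
    apply of_sq
    intro C _ _ J hJ _ u hu
    exact h C J hJ u hu
  · intro h C _ _ J hJ u hu
    exact h C J ⟨2, hJ⟩ ⟨1, by simp⟩ u hu

/-- enlarging the ideals preserves `IsFormallySmoothAdic` -/
theorem mono {A B : Type u} [CommRing A] [CommRing B] [Algebra A B] {𝔞 𝔞' : Ideal A}
    {𝔟 𝔟' : Ideal B} (ha : 𝔞 ≤ 𝔞') (hb : 𝔟 ≤ 𝔟') (h : EGA41.IsFormallySmoothAdic A 𝔞 B 𝔟) :
    EGA41.IsFormallySmoothAdic A 𝔞' B 𝔟' := by
  intro C _ _ J hJ hC u hu
  obtain ⟨k, hk⟩ := hC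
  obtain ⟨l, hl⟩ := hu
  refine h C J hJ ⟨k, ?_⟩ u ⟨l, fun x hx => hl x (Ideal.pow_right_mono hb l hx)⟩
  rw [eq_bot_iff, ← hk]
  exact Ideal.map_mono (Ideal.pow_right_mono ha k)

end H14.FSAdic
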