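import Mathlib
import Groth.Prelude.Def_EGA41
import Groth.Agent.Lib.helper14.CohenSmooth
import Groth.Agent.Lib.helper14.FSAdic

/-!
# Cohen rings are formally smooth over an "initial" base ring
-/

universe u

namespace H14.CohenLift

open H14.CohenSmooth

/-- ring homs out of `ULift ℤ` are unique -/
theorem ulift_int_ringHom_ext (R : Type u) [CommRing R] (f g : ULift.{u} ℤ →+* R) : f = g := by
  ext x
  have hx : x = ((x.down : ℤ) : ULift.{u} ℤ) := by
    ext; simp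
  rw [hx, map_intCast, map_intCast]

/-- a complete-or-not DVR with maximal ideal `(p)` is adically formally smooth over any base ring
all of whose ring homs are unique (`ℤ`, `ULift ℤ`) -/
theorem cohen_fs (A₀ : Type u) [CommRing A₀]
    (hA₀ : ∀ (R : Type u) [CommRing R] (f g : A₀ →+* R), f = g)
    (Λ : Type u) [CommRing Λ] [IsDomain Λ] [IsDiscreteValuationRing Λ] [Algebra A₀ Λ] (p : ℕ)
    (hp : p.Prime) (hm : IsLocalRing.maximalIdeal Λ = Ideal.span {(p : Λ)}) :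
    EGA41.IsFormallySmoothAdic A₀ ⊥ Λ (IsLocalRing.maximalIdeal Λ) := by
  classical
  apply H14.FSAdic.of_sq
  intro C _ _ J hJ _ u hu
  obtain ⟨k, hk⟩ := hu
  -- `p` is nilpotent in `C`
  have hpk : ((p : C)) ^ k ∈ J := by
    have h1 : ((p : Λ)) ^ k ∈ IsLocalRing.maximalIdeal Λ ^ k := by
      apply Ideal.pow_mem_pow
      rw [hm]; exact Ideal.mem_span_singleton_self _
    have h2 := hk _ h1
    rw [map_pow, map_natCast] at h2
    have h3 : Ideal.Quotient.mk J ((p : C) ^ k) = 0 := by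
      rw [map_pow, map_natCast]; exact h2
    exact Ideal.Quotient.eq_zero_iff_mem.mp h3
  have hpN : ((p : C)) ^ (2 * k + 1) = 0 := by
    have h1 : ((p : C)) ^ k * ((p : C)) ^ k ∈ J ^ 2 := by
      rw [pow_two]; exact Ideal.mul_mem_mul hpk hpk
    rw [hJ, Ideal.mem_bot] at h1
    rw [pow_succ, two_mul, pow_add, h1, zero_mul]
  -- algebra structures over `ℤ/p^N`
  have hkillC : ∀ z ∈ Ideal.span {(p : ℤ) ^ (2 * k + 1)}, Int.castRingHom C z = 0 := by
    intro z hz
    obtain ⟨w, rfl⟩ := Ideal.mem_span_singleton'.mp hz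
    rw [map_mul, map_pow, map_natCast, hpN, mul_zero]
  letI algC : Algebra (ℤ ⧸ Ideal.span {(p : ℤ) ^ (2 * k + 1)}) C :=
    (Ideal.Quotient.lift _ (Int.castRingHom C) hkillC).toAlgebra
  letI algS : Algebra (ℤ ⧸ Ideal.span {(p : ℤ) ^ (2 * k + 1)})
      (Λ ⧸ Ideal.span {(p : Λ) ^ (2 * k + 1)}) :=
    (g Λ p (2 * k + 1)).toAlgebra
  haveI : Algebra.FormallySmooth (ℤ ⧸ Ideal.span {(p : ℤ) ^ (2 * k + 1)})
      (Λ ⧸ Ideal.span {(p : Λ) ^ (2 * k + 1)}) := (g_formallySmooth hp hm (2 * k)).toAlgebra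
  have hkillu : ∀ x ∈ Ideal.span {(p : Λ) ^ (2 * k + 1)}, u.toRingHom x = 0 := by
    intro x hx
    obtain ⟨w, rfl⟩ := Ideal.mem_span_singleton'.mp hx
    change u (w * (p : Λ) ^ (2 * k + 1)) = 0
    rw [map_mul, map_pow, map_natCast]
    have : ((p : C ⧸ J)) ^ (2 * k + 1) = Ideal.Quotient.mk J ((p : C) ^ (2 * k + 1)) := by
      rw [map_pow, map_natCast]
    rw [this, hpN, map_zero, mul_zero]
  let u0 : (Λ ⧸ Ideal.span {(p : Λ) ^ (2 * k + 1)}) →+* C ⧸ J :=
    Ideal.Quotient.lift _ u.toRingHom hkillu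
  have hu0 : ∀ x : Λ, u0 (Ideal.Quotient.mk _ x) = u x := fun x => rfl
  have hcomm : u0.comp (algebraMap (ℤ ⧸ Ideal.span {(p : ℤ) ^ (2 * k + 1)})
      (Λ ⧸ Ideal.span {(p : Λ) ^ (2 * k + 1)})) =
      algebraMap (ℤ ⧸ Ideal.span {(p : ℤ) ^ (2 * k + 1)}) (C ⧸ J) :=
    Ideal.Quotient.ringHom_ext (Subsingleton.elim _ _)
  let ub : (Λ ⧸ Ideal.span {(p : Λ) ^ (2 * k + 1)}) →ₐ[ℤ ⧸ Ideal.span {(p : ℤ) ^ (2 * k + 1)}]
      C ⧸ J :=
    { u0 with commutes' := fun r => RingHom.congr_fun hcomm r }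
  obtain ⟨vb, hvb⟩ := Algebra.FormallySmooth.exists_lift J ⟨2, hJ⟩ ub
  have hvb' : ∀ y, Ideal.Quotient.mk J (vb y) = u0 y := fun y => congrArg (fun φ => φ y) hvb
  let v0 : Λ →+* C := vb.toRingHom.comp (Ideal.Quotient.mk (Ideal.span {(p : Λ) ^ (2 * k + 1)}))
  let v : Λ →ₐ[A₀] C :=
    { v0 with
      commutes' := fun a => RingHom.congr_fun (hA₀ C (v0.comp (algebraMap A₀ Λ)) (algebraMap A₀ C)) a }
  refine ⟨v, ?_⟩
  ext x
  change Ideal.Quotient.mk J (vb (Ideal.Quotient.mk _ x)) = u x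
  rw [hvb', hu0]

/-- a field of characteristic zero is formally smooth over `ULift ℤ` -/
theorem field_fs (W : Type u) [CommRing W] (hW : IsField W) [CharZero W]
    [Algebra (ULift.{u} ℤ) W] :
    EGA41.IsFormallySmoothAdic (ULift.{u} ℤ) ⊥ W ⊥ := by
  classical
  letI : Field W := hW.toField
  haveI : Algebra.FormallySmooth ℚ W := by
    obtain ⟨s, hs⟩ := exists_isTranscendenceBasis ℚ W
    haveI : Algebra.IsAlgebraic (IntermediateField.adjoin ℚ (Set.range ((↑) : s → W))) W := by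
      have := hs.isAlgebraic_field
      convert this using 2
    exact Algebra.FormallySmooth.of_algebraicIndependent_of_isSeparable hs.1
  haveI : Algebra.FormallySmooth ℤ ℚ := Algebra.FormallySmooth.of_isLocalization (nonZeroDivisors ℤ)
  haveI : Algebra.FormallySmooth ℤ W := Algebra.FormallySmooth.comp ℤ ℚ W
  have h1 : (algebraMap ℤ W).FormallySmooth := RingHom.formallySmooth_algebraMap.mpr inferInstance
  have h2 : (ULift.ringEquiv : ULift.{u} ℤ ≃+* ℤ).toRingHom.FormallySmooth :=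
    RingHom.FormallySmooth.of_bijective (ULift.ringEquiv : ULift.{u} ℤ ≃+* ℤ).bijective
  have h3 : algebraMap (ULift.{u} ℤ) W =
      (algebraMap ℤ W).comp (ULift.ringEquiv : ULift.{u} ℤ ≃+* ℤ).toRingHom :=
    ulift_int_ringHom_ext W _ _
  haveI : Algebra.FormallySmooth (ULift.{u} ℤ) W := by
    rw [← RingHom.formallySmooth_algebraMap, h3]
    exact h2.comp h1
  intro C _ _ J hJ _ u _
  exact Algebra.FormallySmooth.exists_lift J hJ u

end H14.CohenLift
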