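import Mathlib

/-!
# Fibre products of algebras and square-zero extensions of local rings

* `H14.FibProd.P f g` : the fibre product `A ×_C B` of two algebra maps as a subalgebra of `A × B`,
  with projections `pr1`, `pr2`, `lift`, and `ker_pr2_sq`.
* `H14.FibProd.isLocalHom_of_ker_sq` : a surjection with square-zero kernel is a local hom.
-/

universe u v w

namespace H14.FibProd

section

variable {R : Type*} {A B C : Type*} [CommRing R] [CommRing A] [CommRing B] [CommRing C]
  [Algebra R A] [Algebra R B] [Algebra R C] (f : A →ₐ[R] C) (g : B →ₐ[R] C)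

/-- the fibre product `A ×_C B` -/
def P : Subalgebra R (A × B) :=
  AlgHom.equalizer (f.comp (AlgHom.fst R A B)) (g.comp (AlgHom.snd R A B))

/-- first projection -/
def pr1 : P f g →ₐ[R] A := (AlgHom.fst R A B).comp (P f g).val

/-- second projection -/
def pr2 : P f g →ₐ[R] B := (AlgHom.snd R A B).comp (P f g).val

lemma comm (x : P f g) : f (pr1 f g x) = g (pr2 f g x) := x.2

lemma ext' {x y : P f g} (h1 : pr1 f g x = pr1 f g y) (h2 : pr2 f g x = pr2 f g y) : x = y :=
  Subtype.ext (Prod.ext h1 h2)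

/-- the universal map into the fibre product -/
def lift {T : Type*} [CommRing T] [Algebra R T] (a : T →ₐ[R] A) (b : T →ₐ[R] B)
    (h : ∀ t, f (a t) = g (b t)) : T →ₐ[R] P f g :=
  (AlgHom.prod a b).codRestrict (P f g) (fun t => h t)

@[simp] lemma pr1_lift {T : Type*} [CommRing T] [Algebra R T] (a : T →ₐ[R] A) (b : T →ₐ[R] B)
    (h : ∀ t, f (a t) = g (b t)) (t : T) : pr1 f g (lift f g a b h t) = a t := rfl

@[simp] lemma pr2_lift {T : Type*} [CommRing T] [Algebra R T] (a : T →ₐ[R] A) (b : T →ₐ[R] B)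
    (h : ∀ t, f (a t) = g (b t)) (t : T) : pr2 f g (lift f g a b h t) = b t := rfl

lemma pr2_surjective (hf : Function.Surjective f) : Function.Surjective (pr2 f g) := by
  intro b
  obtain ⟨a, ha⟩ := hf (g b)
  exact ⟨⟨(a, b), ha⟩, rfl⟩

lemma pr1_mem_ker_of_mem_ker {x : P f g} (hx : pr2 f g x = 0) : pr1 f g x ∈ RingHom.ker f := by
  rw [RingHom.mem_ker]
  have := comm f g x
  rw [hx, map_zero] at this
  exact this

lemma ker_pr2_sq (hf2 : RingHom.ker f ^ 2 = ⊥) : RingHom.ker (pr2 f g) ^ 2 = ⊥ := by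
  rw [eq_bot_iff, pow_two, Ideal.mul_le]
  intro x hx y hy
  rw [RingHom.mem_ker] at hx hy
  rw [Ideal.mem_bot]
  apply ext'
  · rw [map_mul, map_zero]
    have h1 := pr1_mem_ker_of_mem_ker f g hx
    have h2 := pr1_mem_ker_of_mem_ker f g hy
    have : pr1 f g x * pr1 f g y ∈ RingHom.ker f ^ 2 := by
      rw [pow_two]; exact Ideal.mul_mem_mul h1 h2
    rw [hf2] at this
    simpa using this
  · rw [map_mul, hx, zero_mul, map_zero]

end

/-- A surjective ring hom with square-zero kernel is a local homomorphism. -/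
lemma isLocalHom_of_ker_sq {P B : Type*} [CommRing P] [CommRing B] (p : P →+* B)
    (hp : Function.Surjective p) (hker : RingHom.ker p ^ 2 = ⊥) : IsLocalHom p := by
  refine ⟨fun x hx => ?_⟩
  obtain ⟨u, hu⟩ := hx
  obtain ⟨y, hy⟩ := hp (↑u⁻¹ : B)
  have h1 : p (x * y - 1) = 0 := by
    rw [map_sub, map_mul, map_one, ← hu, hy, Units.mul_inv, sub_self]
  have h2 : (x * y - 1) ^ 2 = 0 := by
    have : (x * y - 1) ^ 2 ∈ RingHom.ker p ^ 2 := Ideal.pow_mem_pow (RingHom.mem_ker.mpr h1) 2
    rw [hker] at this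
    simpa using this
  have h3 : IsUnit (x * y) := by
    have : IsNilpotent (x * y - 1) := ⟨2, h2⟩
    have := this.isUnit_add_one
    simpa using this
  exact isUnit_of_mul_isUnit_left h3

/-- A ring surjecting onto a local ring with square-zero kernel is local. -/
lemma isLocalRing_of_ker_sq {P B : Type*} [CommRing P] [CommRing B] [IsLocalRing B] (p : P →+* B)
    (hp : Function.Surjective p) (hker : RingHom.ker p ^ 2 = ⊥) : IsLocalRing P := by
  haveI := isLocalHom_of_ker_sq p hp hker
  exact RingHom.domain_isLocalRing p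

/-- the quotient map of a local ring by a proper ideal is a local hom -/
lemma isLocalHom_mk {S : Type*} [CommRing S] [IsLocalRing S] (I : Ideal S) (hI : I ≠ ⊤) :
    IsLocalHom (Ideal.Quotient.mk I) := by
  refine ⟨fun s hs => ?_⟩
  by_contra hns
  have hsm : s ∈ IsLocalRing.maximalIdeal S := (IsLocalRing.mem_maximalIdeal s).mpr hns
  have hIm : I ≤ IsLocalRing.maximalIdeal S := IsLocalRing.le_maximalIdeal hI
  obtain ⟨u, hu⟩ := hs
  obtain ⟨t, ht⟩ := Ideal.Quotient.mk_surjective (↑u⁻¹ : S ⧸ I)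
  have h1 : Ideal.Quotient.mk I (s * t - 1) = 0 := by
    rw [map_sub, map_mul, map_one, ← hu, ht, Units.mul_inv, sub_self]
  rw [Ideal.Quotient.eq_zero_iff_mem] at h1
  have h2 : s * t - 1 ∈ IsLocalRing.maximalIdeal S := hIm h1
  have h3 : s * t ∈ IsLocalRing.maximalIdeal S := Ideal.mul_mem_right t _ hsm
  have h4 : (1 : S) ∈ IsLocalRing.maximalIdeal S := by
    have := Ideal.sub_mem _ h3 h2
    simpa using this
  exact (IsLocalRing.maximalIdeal.isMaximal S).ne_top ((Ideal.eq_top_iff_one _).mpr h4)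

/-- maximal ideal of a surjective image: `m_B ≤ map p m_P` -/
lemma maximalIdeal_le_map {P B : Type*} [CommRing P] [CommRing B] [IsLocalRing P] [IsLocalRing B]
    (p : P →+* B) (hp : Function.Surjective p) :
    IsLocalRing.maximalIdeal B ≤ (IsLocalRing.maximalIdeal P).map p := by
  intro b hb
  obtain ⟨x, rfl⟩ := hp b
  apply Ideal.mem_map_of_mem
  rw [IsLocalRing.mem_maximalIdeal]
  intro hx
  exact ((IsLocalRing.mem_maximalIdeal _).mp hb) (hx.map p)

end H14.FibProd
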