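import Mathlib
import Groth.Prelude.Def_Found
import Groth.Agent.Lib.helper14.CohenSmooth
import Groth.Agent.Lib.helper14.CohenLift
import Groth.Agent.S4542

/-!
# Coefficient fields and Cohen-ring lifts for complete local rings (not necessarily Noetherian)
-/

set_option autoImplicit false
universe u

namespace H14.CoeffField

open IsLocalRing

/-- existence of a coefficient field in a complete local ring containing a field -/
theorem exists_section (R : Type u) [CommRing R] [IsLocalRing R]
    [IsAdicComplete (maximalIdeal R) R] (k₀ : Type u) [Field k₀] [Algebra k₀ R] :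
    ∃ σ : ResidueField R →+* R, ∀ x, residue R (σ x) = x := by
  classical
  obtain ⟨p, hp⟩ := CharP.exists k₀
  rcases CharP.char_is_prime_or_zero k₀ p with hprime | h0
  · -- characteristic `p`
    haveI : Fact p.Prime := ⟨hprime⟩
    let φ : ULift.{u} (ZMod p) →+* k₀ :=
      (ZMod.castHom (dvd_refl p) k₀).comp (ULift.ringEquiv : ULift.{u} (ZMod p) ≃+* ZMod p).toRingHom
    letI : Algebra (ULift.{u} (ZMod p)) R := ((algebraMap k₀ R).comp φ).toAlgebra
    haveI : Algebra.FormallySmooth (ULift.{u} (ZMod p)) (ResidueField R) :=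
      H14.CohenSmooth.formallySmooth_of_perfectField p
    let f : ResidueField R →ₐ[ULift.{u} (ZMod p)] R ⧸ maximalIdeal R := AlgHom.id _ _
    obtain ⟨g, hg⟩ := Algebra.FormallySmooth.exists_mkₐ_comp_eq_of_isAdicComplete f
    refine ⟨g.toRingHom, fun x => ?_⟩
    exact congrArg (fun ψ => ψ x) hg
  · -- characteristic zero
    subst h0
    haveI : CharZero k₀ := CharP.charP_to_charZero k₀
    letI : Algebra ℚ R := ((algebraMap k₀ R).comp (algebraMap ℚ k₀)).toAlgebra
    haveI : CharZero (ResidueField R) :=
      charZero_of_injective_ringHom (f := algebraMap ℚ (ResidueField R)) (RingHom.injective _)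
    haveI : Algebra.FormallySmooth ℚ (ResidueField R) := by
      obtain ⟨s, hs⟩ := exists_isTranscendenceBasis ℚ (ResidueField R)
      haveI : Algebra.IsAlgebraic
          (IntermediateField.adjoin ℚ (Set.range ((↑) : s → ResidueField R))) (ResidueField R) := by
        have := hs.isAlgebraic_field
        convert this using 2
      exact Algebra.FormallySmooth.of_algebraicIndependent_of_isSeparable hs.1
    let f : ResidueField R →ₐ[ℚ] R ⧸ maximalIdeal R :=
      { RingHom.id (ResidueField R) with
        commutes' := fun r => RingHom.congr_fun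
          (Subsingleton.elim ((RingHom.id (ResidueField R)).comp (algebraMap ℚ (ResidueField R)))
            (algebraMap ℚ (R ⧸ maximalIdeal R))) r }
    obtain ⟨g, hg⟩ := Algebra.FormallySmooth.exists_mkₐ_comp_eq_of_isAdicComplete f
    refine ⟨g.toRingHom, fun x => ?_⟩
    exact congrArg (fun ψ => ψ x) hg

/-- a complete local ring whose residue field has characteristic zero has a coefficient field -/
theorem exists_section_of_charZero (R : Type u) [CommRing R] [IsLocalRing R]
    [IsAdicComplete (maximalIdeal R) R] [CharZero (ResidueField R)] :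
    ∃ σ : ResidueField R →+* R, ∀ x, residue R (σ x) = x := by
  classical
  have hg : ∀ y : nonZeroDivisors ℤ, IsUnit (Int.castRingHom R (y : ℤ)) := by
    intro y
    by_contra hnu
    have h1 : (Int.castRingHom R (y : ℤ)) ∈ maximalIdeal R := hnu
    have h2 : residue R (Int.castRingHom R (y : ℤ)) = 0 := by
      rwa [residue_eq_zero_iff]
    rw [eq_intCast, map_intCast] at h2
    have h3 : (y : ℤ) = 0 := by exact_mod_cast h2
    exact nonZeroDivisors.coe_ne_zero y h3
  let φ : ℚ →+* R := IsLocalization.lift (M := nonZeroDivisors ℤ) hg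
  letI : Algebra (ULift.{u} ℚ) R :=
    (φ.comp (ULift.ringEquiv : ULift.{u} ℚ ≃+* ℚ).toRingHom).toAlgebra
  exact exists_section R (ULift.{u} ℚ)

open H14.CohenLift in
/-- lifting a ring hom from a Cohen ring to the residue field of a complete local ring -/
theorem cohen_lift {Λ R : Type u} [CommRing Λ] [IsLocalRing Λ] (hΛ : CAlg.IsCohenRing Λ)
    [CommRing R] [IsLocalRing R] [IsAdicComplete (maximalIdeal R) R]
    (u : Λ →+* R ⧸ maximalIdeal R) (hu : ∀ x ∈ maximalIdeal Λ, u x = 0) :
    ∃ v : Λ →+* R, (Ideal.Quotient.mk (maximalIdeal R)).comp v = u := by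
  classical
  letI algW : Algebra (ULift.{u} ℤ) Λ :=
    ((Int.castRingHom Λ).comp (ULift.ringEquiv : ULift.{u} ℤ ≃+* ℤ).toRingHom).toAlgebra
  letI algC : Algebra (ULift.{u} ℤ) R :=
    ((Int.castRingHom R).comp (ULift.ringEquiv : ULift.{u} ℤ ≃+* ℤ).toRingHom).toAlgebra
  let ua : Λ →ₐ[ULift.{u} ℤ] R ⧸ maximalIdeal R :=
    { u with
      commutes' := fun a => RingHom.congr_fun
        (ulift_int_ringHom_ext _ (u.comp (algebraMap _ Λ)) (algebraMap _ (R ⧸ maximalIdeal R))) a }
  have hua : ∀ x, ua x = u x := fun x => rfl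
  have hB : EGA41.IsFormallySmoothAdic (ULift.{u} ℤ) ⊥ Λ (maximalIdeal Λ) := by
    obtain ⟨hdom, hdvr, -, p, hp, hm⟩ := hΛ
    haveI := hdom
    haveI := hdvr
    exact cohen_fs (ULift.{u} ℤ) ulift_int_ringHom_ext Λ p hp hm
  haveI : IsHausdorff ((maximalIdeal R).map (Ideal.Quotient.mk (maximalIdeal R)))
      (R ⧸ maximalIdeal R) := by
    rw [Ideal.map_quotient_self]
    constructor
    intro x hx
    have := hx 1
    rwa [SModEq.zero, pow_one, smul_eq_mul, Ideal.mul_top, Ideal.mem_bot] at this
  obtain ⟨v, -, hv⟩ := Groth.Agent.S4542.result (⊥ : Ideal (ULift.{u} ℤ)) (maximalIdeal Λ)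
    (maximalIdeal R) hB ⟨1, by rw [pow_one, Ideal.map_bot]; exact bot_le⟩ (maximalIdeal R)
    ⟨1, by rw [pow_one]⟩ ua ⟨1, by
      rw [pow_one, Ideal.map_le_iff_le_comap]
      intro x hx
      rw [Ideal.mem_comap]
      change ua x ∈ _
      rw [hua, hu x hx]
      exact Ideal.zero_mem _⟩
  refine ⟨v.toRingHom, ?_⟩
  ext x
  have := congrArg (fun φ => φ x) hv
  rw [← hua]
  simpa using this

end H14.CoeffField
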