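import Mathlib

set_option autoImplicit false
universe u

namespace H14.CohenExist

open Polynomial

section Step

variable {Ω k G : Type u} [Field Ω] [Field k] [CommRing G] (p : ℕ)
  (φ₁ : G →+* Ω) (φ₂ : G →+* k)

/-- monic-ization -/
theorem exists_monic (hU : ∀ z, φ₂ z ≠ 0 → IsUnit z) (a : k) (r : G[X])
    (h1 : r.map φ₂ ≠ 0) (h2 : r.eval₂ φ₂ a = 0) :
    ∃ g : G[X], g.Monic ∧ g.natDegree = (r.map φ₂).natDegree ∧ g.eval₂ φ₂ a = 0 := by
  classical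
  haveI : Nontrivial G := φ₂.domain_nontrivial
  set e := (r.map φ₂).natDegree with he
  have hc : φ₂ (r.coeff e) ≠ 0 := by
    rw [← coeff_map, he]
    exact leadingCoeff_ne_zero.mpr h1
  obtain ⟨u, hu⟩ := hU _ hc
  let t : G[X] := ∑ i ∈ Finset.range e, monomial i (↑u⁻¹ * r.coeff i)
  have htdeg : t.degree < e := by
    refine lt_of_le_of_lt (degree_sum_le _ _) ?_
    refine (Finset.sup_lt_iff (WithBot.bot_lt_coe e)).mpr ?_
    intro i hi
    refine lt_of_le_of_lt (degree_monomial_le _ _) ?_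
    exact WithBot.coe_lt_coe.mpr (Finset.mem_range.mp hi)
  have hnd : (X ^ e + t).natDegree = e := by
    rw [natDegree_add_eq_left_of_degree_lt, natDegree_X_pow]
    rwa [degree_X_pow]
  refine ⟨X ^ e + t, monic_X_pow_add htdeg, hnd, ?_⟩
  have hr : (r.map φ₂).eval a = 0 := by rwa [eval_map]
  rw [eval_eq_sum_range, ← he, Finset.sum_range_succ] at hr
  rw [eval₂_add, eval₂_pow, eval₂_X, eval₂_finsetSum]
  simp only [eval₂_monomial, map_mul]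
  have hu' : φ₂ (↑u⁻¹ : G) * φ₂ (r.coeff e) = 1 := by
    rw [← map_mul, ← hu, Units.inv_mul, map_one]
  have : a ^ e + ∑ i ∈ Finset.range e, φ₂ (↑u⁻¹ : G) * φ₂ (r.coeff i) * a ^ i =
      φ₂ (↑u⁻¹ : G) * (∑ i ∈ Finset.range e, (r.map φ₂).coeff i * a ^ i +
        (r.map φ₂).coeff e * a ^ e) := by
    rw [mul_add, Finset.mul_sum, coeff_map, ← mul_assoc, hu', one_mul, add_comm]
    congr 1
    apply Finset.sum_congr rfl
    intro i _
    rw [coeff_map, mul_assoc]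
  rw [this, hr, mul_zero]

/-- the one-element extension step -/
theorem step [IsAlgClosed Ω] (hp0 : (p : k) = 0) (hU : ∀ z, φ₂ z ≠ 0 → IsUnit z)
    (hD : ∀ z, φ₂ z = 0 → ∃ w, z = (p : G) * w)
    (a : k) (h : G[X]) (h1 : h.map φ₂ ≠ 0) (h2 : h.eval₂ φ₂ a = 0) :
    ∃ (S : Type u) (_ : CommRing S) (ψ : S →+* Ω × k) (ι : G →+* S),
      ψ.comp ι = φ₁.prod φ₂ ∧ (∃ y, (ψ y).2 = a) ∧ (∀ y, (ψ y).2 ≠ 0 → IsUnit y) ∧
      (∀ y, (ψ y).2 = 0 → ∃ w, y = (p : S) * w) := by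
  classical
  haveI : Nontrivial G := φ₂.domain_nontrivial
  have hQ : ∃ n, ∃ g : G[X], g.Monic ∧ g.natDegree = n ∧ g.eval₂ φ₂ a = 0 :=
    ⟨_, exists_monic φ₂ hU a h h1 h2⟩
  obtain ⟨g, hgm, hgd, hga⟩ := Nat.find_spec hQ
  have hmin : ∀ r : G[X], r.eval₂ φ₂ a = 0 → r.degree < g.degree → r.map φ₂ = 0 := by
    intro r hr hdeg
    by_contra hne
    obtain ⟨g', hg'm, hg'd, hg'a⟩ := exists_monic φ₂ hU a r hne hr
    have hr0 : r ≠ 0 := by rintro rfl; simp at hne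
    have : (r.map φ₂).natDegree < Nat.find hQ := by
      calc (r.map φ₂).natDegree ≤ r.natDegree := natDegree_map_le
        _ < g.natDegree := natDegree_lt_natDegree hr0 hdeg
        _ = Nat.find hQ := hgd
    exact Nat.find_min hQ this ⟨g', hg'm, hg'd, hg'a⟩
  have hP : ∀ r : G[X], r.eval₂ φ₂ a = 0 → ∃ q s : G[X], r = g * q + (p : G[X]) * s := by
    intro r hr
    have e1 : r %ₘ g + g * (r /ₘ g) = r := modByMonic_add_div r g
    have hr0 : (r %ₘ g).eval₂ φ₂ a = 0 := by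
      have := congrArg (eval₂ φ₂ a) e1
      rw [eval₂_add, eval₂_mul, hga, zero_mul, add_zero, hr] at this
      exact this
    have hmap := hmin _ hr0 (degree_modByMonic_lt r hgm)
    have hcoef : ∀ i, ∃ w, (r %ₘ g).coeff i = (p : G) * w := by
      intro i
      apply hD
      rw [← coeff_map, hmap, coeff_zero]
    choose w hw using hcoef
    refine ⟨r /ₘ g, ∑ i ∈ Finset.range ((r %ₘ g).natDegree + 1), monomial i (w i), ?_⟩
    have : (p : G[X]) * ∑ i ∈ Finset.range ((r %ₘ g).natDegree + 1), monomial i (w i) =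
        r %ₘ g := by
      conv_rhs => rw [as_sum_range (r %ₘ g)]
      rw [Finset.mul_sum]
      apply Finset.sum_congr rfl
      intro i _
      rw [hw i, ← C_eq_natCast, C_mul_monomial]
    rw [this, add_comm, e1]
  -- a root
  have hd0 : g.natDegree ≠ 0 := by
    intro h0
    have : g = 1 := hgm.natDegree_eq_zero.mp h0
    rw [this, eval₂_one] at hga
    exact one_ne_zero hga
  have hdeg : (g.map φ₁).degree ≠ 0 := by
    rw [degree_eq_natDegree (hgm.map φ₁).ne_zero, hgm.natDegree_map]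
    exact_mod_cast hd0
  obtain ⟨α, hα⟩ := IsAlgClosed.exists_root (g.map φ₁) hdeg
  have hα' : g.eval₂ φ₁ α = 0 := by rwa [IsRoot.def, eval_map] at hα
  let i : G →+* Ω × k := φ₁.prod φ₂
  have hfst : ∀ r : G[X], (r.eval₂ i (α, a)).1 = r.eval₂ φ₁ α := fun r =>
    hom_eval₂ r i (RingHom.fst Ω k) (α, a)
  have hsnd : ∀ r : G[X], (r.eval₂ i (α, a)).2 = r.eval₂ φ₂ a := fun r =>
    hom_eval₂ r i (RingHom.snd Ω k) (α, a)
  have hξ : g.eval₂ i (α, a) = 0 := Prod.ext (by rw [hfst, hα']; rfl) (by rw [hsnd, hga]; rfl)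
  let ψ : AdjoinRoot g →+* Ω × k := AdjoinRoot.lift i (α, a) hξ
  have hψ2 : ∀ r : G[X], (ψ (AdjoinRoot.mk g r)).2 = r.eval₂ φ₂ a := fun r => by
    rw [AdjoinRoot.lift_mk, hsnd]
  have hDS : ∀ y, (ψ y).2 = 0 → ∃ w, y = (p : AdjoinRoot g) * w := by
    intro y hy
    obtain ⟨r, rfl⟩ := AdjoinRoot.mk_surjective y
    rw [hψ2] at hy
    obtain ⟨q, s, hqs⟩ := hP r hy
    refine ⟨AdjoinRoot.mk g s, ?_⟩
    rw [hqs, map_add, map_mul, map_mul, AdjoinRoot.mk_self, zero_mul, zero_add, map_natCast]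
  refine ⟨AdjoinRoot g, inferInstance, ψ, AdjoinRoot.of g, AdjoinRoot.lift_comp_of _,
    ⟨AdjoinRoot.root g, by rw [AdjoinRoot.lift_root]⟩, ?_, hDS⟩
  -- units
  let π : AdjoinRoot g →+* k := (RingHom.snd Ω k).comp ψ
  haveI : Module.Finite G (AdjoinRoot g) := hgm.finite_adjoinRoot
  haveI : Algebra.IsIntegral G (AdjoinRoot g) := Algebra.IsIntegral.of_finite G _
  haveI : IsLocalRing G := by
    refine IsLocalRing.of_nonunits_add ?_
    intro x y hx hy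
    have hx0 : φ₂ x = 0 := by by_contra hne; exact hx (hU x hne)
    have hy0 : φ₂ y = 0 := by by_contra hne; exact hy (hU y hne)
    intro hxy
    have := hxy.map φ₂
    rw [map_add, hx0, hy0, add_zero] at this
    exact not_isUnit_zero this
  have hpm : (p : G) ∈ IsLocalRing.maximalIdeal G := by
    rw [IsLocalRing.mem_maximalIdeal, mem_nonunits_iff]
    intro hu
    have := hu.map φ₂
    rw [map_natCast, hp0] at this
    exact not_isUnit_zero this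
  have hπ : ∀ y, π y = (ψ y).2 := fun y => rfl
  have hπof : ∀ x : G, π (algebraMap G (AdjoinRoot g) x) = φ₂ x := by
    intro x
    rw [AdjoinRoot.algebraMap_eq, hπ, AdjoinRoot.lift_of]
    rfl
  haveI hker_prime : (RingHom.ker π).IsPrime := RingHom.ker_isPrime π
  have hcomap : (RingHom.ker π).comap (algebraMap G (AdjoinRoot g)) = IsLocalRing.maximalIdeal G := by
    ext x
    rw [Ideal.mem_comap, RingHom.mem_ker, hπof, IsLocalRing.mem_maximalIdeal, mem_nonunits_iff]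
    constructor
    · intro hx hu
      have := hu.map φ₂
      rw [hx] at this
      exact not_isUnit_zero this
    · intro hx
      by_contra hne
      exact hx (hU x hne)
  have hkermax : (RingHom.ker π).IsMaximal := by
    apply Ideal.isMaximal_of_isIntegral_of_isMaximal_comap (R := G)
    rw [hcomap]
    exact IsLocalRing.maximalIdeal.isMaximal G
  intro y hy
  by_contra hnu
  obtain ⟨𝔫, h𝔫max, hy𝔫⟩ := exists_max_ideal_of_mem_nonunits (mem_nonunits_iff.mpr hnu)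
  haveI := h𝔫max
  have h1 : (𝔫.comap (algebraMap G (AdjoinRoot g))).IsMaximal :=
    Ideal.isMaximal_comap_of_isIntegral_of_isMaximal (R := G) 𝔫
  have h2 : 𝔫.comap (algebraMap G (AdjoinRoot g)) = IsLocalRing.maximalIdeal G :=
    IsLocalRing.eq_maximalIdeal h1
  have hp𝔫 : (p : AdjoinRoot g) ∈ 𝔫 := by
    have : (p : G) ∈ 𝔫.comap (algebraMap G (AdjoinRoot g)) := by rw [h2]; exact hpm
    rw [Ideal.mem_comap, map_natCast] at this
    exact this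
  have hle : RingHom.ker π ≤ 𝔫 := by
    intro z hz
    obtain ⟨w, rfl⟩ := hDS z hz
    exact 𝔫.mul_mem_right _ hp𝔫
  have heq : RingHom.ker π = 𝔫 := hkermax.eq_of_le h𝔫max.ne_top hle
  have : y ∈ RingHom.ker π := by rw [heq]; exact hy𝔫
  exact hy this

end Step

section Zorn

variable {Ω k : Type u} [Field Ω] [Field k] (p : ℕ)

/-- good subrings of `Ω × k`: local with maximal ideal `ker snd = (p)` -/
structure Good (Γ : Subring (Ω × k)) : Prop where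
  unit : ∀ z ∈ Γ, z.2 ≠ 0 → ∃ w ∈ Γ, z * w = 1
  div : ∀ z ∈ Γ, z.2 = 0 → ∃ w ∈ Γ, z = (p : Ω × k) * w

theorem Good.sSup {c : Set (Subring (Ω × k))} (hne : c.Nonempty) (hc : IsChain (· ≤ ·) c)
    (h : ∀ Γ ∈ c, Good p Γ) : Good p (sSup c) := by
  have hdir := hc.directedOn
  constructor
  · intro z hz hz2
    obtain ⟨Γ, hΓ, hzΓ⟩ := (Subring.mem_sSup_of_directedOn hne hdir).mp hz
    obtain ⟨w, hw, hzw⟩ := (h Γ hΓ).unit z hzΓ hz2
    exact ⟨w, (Subring.mem_sSup_of_directedOn hne hdir).mpr ⟨Γ, hΓ, hw⟩, hzw⟩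
  · intro z hz hz2
    obtain ⟨Γ, hΓ, hzΓ⟩ := (Subring.mem_sSup_of_directedOn hne hdir).mp hz
    obtain ⟨w, hw, hzw⟩ := (h Γ hΓ).div z hzΓ hz2
    exact ⟨w, (Subring.mem_sSup_of_directedOn hne hdir).mpr ⟨Γ, hΓ, hw⟩, hzw⟩

theorem Good.extend [IsAlgClosed Ω] (hp0 : (p : k) = 0) {Γ : Subring (Ω × k)} (hΓ : Good p Γ)
    (a : k) (h : (↥Γ)[X]) (h1 : h.map ((RingHom.snd Ω k).comp Γ.subtype) ≠ 0)
    (h2 : h.eval₂ ((RingHom.snd Ω k).comp Γ.subtype) a = 0) :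
    ∃ Γ' : Subring (Ω × k), Γ ≤ Γ' ∧ Good p Γ' ∧ ∃ z ∈ Γ', z.2 = a := by
  let φ₁ : ↥Γ →+* Ω := (RingHom.fst Ω k).comp Γ.subtype
  let φ₂ : ↥Γ →+* k := (RingHom.snd Ω k).comp Γ.subtype
  have hU : ∀ z : ↥Γ, φ₂ z ≠ 0 → IsUnit z := by
    intro z hz
    obtain ⟨w, hw, hzw⟩ := hΓ.unit z z.2 hz
    exact IsUnit.of_mul_eq_one ⟨w, hw⟩ (Subtype.ext hzw)
  have hD : ∀ z : ↥Γ, φ₂ z = 0 → ∃ w, z = (p : ↥Γ) * w := by
    intro z hz
    obtain ⟨w, hw, hzw⟩ := hΓ.div z z.2 hz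
    refine ⟨⟨w, hw⟩, Subtype.ext ?_⟩
    rw [hzw]
    simp
  obtain ⟨S, _, ψ, ι, hψι, ⟨y, hy⟩, hUS, hDS⟩ := step p φ₁ φ₂ hp0 hU hD a h h1 h2
  refine ⟨ψ.range, ?_, ⟨?_, ?_⟩, ψ y, ⟨y, rfl⟩, hy⟩
  · intro z hz
    refine ⟨ι ⟨z, hz⟩, ?_⟩
    have := congrArg (fun f => f ⟨z, hz⟩) hψι
    exact this
  · rintro _ ⟨y', rfl⟩ hy'
    obtain ⟨u, hu⟩ := hUS y' hy'
    refine ⟨ψ ↑u⁻¹, ⟨_, rfl⟩, ?_⟩
    rw [← hu, ← map_mul, Units.mul_inv, map_one]
  · rintro _ ⟨y', rfl⟩ hy'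
    obtain ⟨w, rfl⟩ := hDS y' hy'
    exact ⟨ψ w, ⟨_, rfl⟩, by rw [map_mul, map_natCast]⟩

theorem exists_maximal [IsAlgClosed Ω] (hp0 : (p : k) = 0) (Γ₀ : Subring (Ω × k))
    (h₀ : Good p Γ₀)
    (halg : ∀ a : k, ∃ h : (↥Γ₀)[X], h.map ((RingHom.snd Ω k).comp Γ₀.subtype) ≠ 0 ∧
      h.eval₂ ((RingHom.snd Ω k).comp Γ₀.subtype) a = 0) :
    ∃ Γ : Subring (Ω × k), Good p Γ ∧ ∀ a : k, ∃ z ∈ Γ, z.2 = a := by
  obtain ⟨Γ, hΓmax⟩ : ∃ Γ, Maximal (· ∈ {Γ : Subring (Ω × k) | Γ₀ ≤ Γ ∧ Good p Γ}) Γ := by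
    apply zorn_le₀
    intro c hcS hc
    rcases c.eq_empty_or_nonempty with rfl | hne
    · exact ⟨Γ₀, ⟨le_refl _, h₀⟩, fun z hz => absurd hz (Set.notMem_empty z)⟩
    · refine ⟨sSup c, ⟨?_, Good.sSup p hne hc fun Γ hΓ => (hcS hΓ).2⟩, fun z hz => le_sSup hz⟩
      obtain ⟨Γ, hΓ⟩ := hne
      exact (hcS hΓ).1.trans (le_sSup hΓ)
  obtain ⟨hle, hgood⟩ := hΓmax.prop
  refine ⟨Γ, hgood, fun a => ?_⟩
  obtain ⟨h, h1, h2⟩ := halg a
  let j : ↥Γ₀ →+* ↥Γ := Subring.inclusion hle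
  have hj : ((RingHom.snd Ω k).comp Γ.subtype).comp j = (RingHom.snd Ω k).comp Γ₀.subtype := rfl
  obtain ⟨Γ', hΓΓ', hgood', z, hz, hza⟩ := hgood.extend p hp0 a (h.map j)
    (by rw [Polynomial.map_map, hj]; exact h1) (by rw [Polynomial.eval₂_map, hj]; exact h2)
  have : Γ' ≤ Γ := hΓmax.le_of_ge ⟨hle.trans hΓΓ', hgood'⟩ hΓΓ'
  exact ⟨z, this hz, hza⟩

end Zorn

end H14.CohenExist
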