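import Mathlib
import Groth.Agent.Lib.helper14.CohenExistA

set_option autoImplicit false
universe u

namespace H14.CohenExist

open Polynomial

section Base

variable (p : ℕ) [Fact p.Prime] (k : Type u) [Field k] [CharP k p]

theorem ker_ev_le {ι : Type u} (x : ι → k) [Algebra (ZMod p) k]
    (hx : AlgebraicIndependent (ZMod p) x) (P : MvPolynomial ι ℤ)
    (hP : MvPolynomial.eval₂Hom (Int.castRingHom k) x P = 0) :
    ∃ P₁ : MvPolynomial ι ℤ, P = (p : MvPolynomial ι ℤ) * P₁ := by
  have h1 : MvPolynomial.eval₂Hom (Int.castRingHom k) x =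
      (MvPolynomial.aeval x : MvPolynomial ι (ZMod p) →ₐ[ZMod p] k).toRingHom.comp
        (MvPolynomial.map (Int.castRingHom (ZMod p))) := by
    apply MvPolynomial.ringHom_ext
    · intro n
      simp
    · intro i
      simp
  rw [h1] at hP
  have h2 : MvPolynomial.map (Int.castRingHom (ZMod p)) P = 0 := by
    apply hx
    rw [map_zero]
    exact hP
  have h3 : (MvPolynomial.C (p : ℤ) : MvPolynomial ι ℤ) ∣ P := by
    rw [MvPolynomial.C_dvd_iff_dvd_coeff]
    intro m
    have := congrArg (MvPolynomial.coeff m) h2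
    rw [MvPolynomial.coeff_map, MvPolynomial.coeff_zero] at this
    exact (ZMod.intCast_zmod_eq_zero_iff_dvd _ p).mp this
  obtain ⟨P₁, hP₁⟩ := h3
  refine ⟨P₁, ?_⟩
  rw [hP₁]
  congr 1

theorem exists_base : ∃ (Ω : Type u) (_ : Field Ω) (_ : IsAlgClosed Ω) (_ : CharZero Ω)
    (Γ₀ : Subring (Ω × k)), Good p Γ₀ ∧
      ∀ a : k, ∃ h : (↥Γ₀)[X], h.map ((RingHom.snd Ω k).comp Γ₀.subtype) ≠ 0 ∧
        h.eval₂ ((RingHom.snd Ω k).comp Γ₀.subtype) a = 0 := by
  classical
  letI : Algebra (ZMod p) k := ZMod.algebra k p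
  obtain ⟨s, hs⟩ := exists_isTranscendenceBasis (ZMod p) k
  let x : s → k := (↑)
  let P := MvPolynomial s ℤ
  let ev : P →+* k := MvPolynomial.eval₂Hom (Int.castRingHom k) x
  let F := FractionRing P
  let Ω := AlgebraicClosure F
  let j : P →+* Ω := (algebraMap F Ω).comp (algebraMap P F)
  have hjinj : Function.Injective j :=
    (algebraMap F Ω).injective.comp (IsFractionRing.injective P F)
  haveI : CharZero Ω := by
    have : Function.Injective (j.comp (Int.castRingHom P)) :=
      hjinj.comp (by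
        intro a b hab
        have := congrArg (MvPolynomial.constantCoeff) hab
        simpa using this)
    exact charZero_of_injective_ringHom this
  let 𝔮 : Ideal P := RingHom.ker ev
  haveI : 𝔮.IsPrime := RingHom.ker_isPrime ev
  let A₁ := Localization.AtPrime 𝔮
  have hj : ∀ y : 𝔮.primeCompl, IsUnit (j y) := by
    intro y
    apply IsUnit.mk0
    intro h0
    have : (y : P) = 0 := hjinj (by rw [h0, map_zero])
    exact y.2 (by rw [this]; exact 𝔮.zero_mem)
  have hev : ∀ y : 𝔮.primeCompl, IsUnit (ev y) := by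
    intro y
    apply IsUnit.mk0
    intro h0
    exact y.2 (RingHom.mem_ker.mpr h0)
  let φ₁ : A₁ →+* Ω := IsLocalization.lift hj
  let φ₂ : A₁ →+* k := IsLocalization.lift hev
  have hφ₂ : ∀ (a : P) (b : 𝔮.primeCompl), φ₂ (IsLocalization.mk' A₁ a b) = 0 ↔ ev a = 0 := by
    intro a b
    rw [IsLocalization.lift_mk'_spec, mul_zero]
  refine ⟨Ω, inferInstance, inferInstance, inferInstance, (φ₁.prod φ₂).range, ⟨?_, ?_⟩, ?_⟩
  · rintro _ ⟨z, rfl⟩ hz
    obtain ⟨a, b, rfl⟩ := IsLocalization.exists_mk'_eq 𝔮.primeCompl z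
    have ha : a ∈ 𝔮.primeCompl := by
      intro ha
      exact hz ((hφ₂ a b).mpr (RingHom.mem_ker.mp ha))
    obtain ⟨u, hu⟩ := (IsLocalization.AtPrime.isUnit_mk'_iff A₁ 𝔮 a b).mpr ha
    refine ⟨(φ₁.prod φ₂) ↑u⁻¹, ⟨_, rfl⟩, ?_⟩
    rw [← hu, ← map_mul, Units.mul_inv, map_one]
  · rintro _ ⟨z, rfl⟩ hz
    obtain ⟨a, b, rfl⟩ := IsLocalization.exists_mk'_eq 𝔮.primeCompl z
    have ha : ev a = 0 := (hφ₂ a b).mp hz
    obtain ⟨a₁, rfl⟩ := ker_ev_le p k x hs.1 a ha
    refine ⟨(φ₁.prod φ₂) (IsLocalization.mk' A₁ a₁ b), ⟨_, rfl⟩, ?_⟩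
    rw [← map_natCast (φ₁.prod φ₂), ← map_mul]
    congr 1
    rw [← map_natCast (algebraMap P A₁), IsLocalization.mul_mk'_eq_mk'_of_mul]
  · intro a
    have halg : IsAlgebraic (Algebra.adjoin (ZMod p) (Set.range x)) a :=
      hs.isAlgebraic.isAlgebraic a
    obtain ⟨f, hf0, hfa⟩ := halg
    have hlift : ∀ c : Algebra.adjoin (ZMod p) (Set.range x),
        ∃ z : ↥(φ₁.prod φ₂).range, z.1.2 = c := by
      intro c
      have hc : (c : k) ∈ (MvPolynomial.aeval x :
          MvPolynomial s (ZMod p) →ₐ[ZMod p] k).range := by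
        rw [← Algebra.adjoin_range_eq_range_aeval]
        exact c.2
      obtain ⟨Q, hQ⟩ := hc
      obtain ⟨Q', rfl⟩ := MvPolynomial.map_surjective (Int.castRingHom (ZMod p))
        (ZMod.intCast_surjective) Q
      refine ⟨⟨(φ₁.prod φ₂) (algebraMap P A₁ Q'), ⟨_, rfl⟩⟩, ?_⟩
      change φ₂ (algebraMap P A₁ Q') = c
      rw [IsLocalization.lift_eq, ← hQ]
      change MvPolynomial.eval₂Hom (Int.castRingHom k) x Q' = _
      have h1 : MvPolynomial.eval₂Hom (Int.castRingHom k) x =
          (MvPolynomial.aeval x : MvPolynomial s (ZMod p) →ₐ[ZMod p] k).toRingHom.comp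
            (MvPolynomial.map (Int.castRingHom (ZMod p))) := by
        apply MvPolynomial.ringHom_ext
        · intro n
          simp
        · intro i
          simp
      rw [h1]
      rfl
    choose ℓ hℓ using hlift
    refine ⟨∑ i ∈ f.support, monomial i (ℓ (f.coeff i)), ?_, ?_⟩
    · have : (∑ i ∈ f.support, monomial i (ℓ (f.coeff i))).map
          ((RingHom.snd Ω k).comp (φ₁.prod φ₂).range.subtype) =
          f.map (algebraMap (Algebra.adjoin (ZMod p) (Set.range x)) k) := by
        conv_rhs => rw [as_sum_support f]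
        rw [Polynomial.map_sum, Polynomial.map_sum]
        apply Finset.sum_congr rfl
        intro i _
        rw [map_monomial, map_monomial]
        congr 1
        exact hℓ _
      rw [this]
      exact (Polynomial.map_ne_zero_iff (FaithfulSMul.algebraMap_injective _ _)).mpr hf0
    · rw [eval₂_finsetSum]
      rw [aeval_def, eval₂_eq_sum, Polynomial.sum] at hfa
      rw [← hfa]
      apply Finset.sum_congr rfl
      intro i _
      rw [eval₂_monomial]
      congr 1
      exact hℓ _

end Base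

end H14.CohenExist
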