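import Mathlib
import Groth.Prelude.Def_Found
import Groth.Agent.Lib.helper14.CohenExistB

set_option autoImplicit false
universe u

namespace H14.CohenExist

open IsLocalRing

theorem completion_cohen (B : Type u) [CommRing B] [IsDomain B] [IsLocalRing B] (p : ℕ)
    (hp : p.Prime) (hm : maximalIdeal B = Ideal.span {(p : B)}) (hp0 : (p : B) ≠ 0) :
    ∃ (Λ : Type u) (_ : CommRing Λ) (_ : IsLocalRing Λ), CAlg.IsCohenRing Λ ∧
      Nonempty (ResidueField Λ ≃+* ResidueField B) := by
  classical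
  have fg : (maximalIdeal B).FG := by
    rw [hm]
    exact ⟨{(p : B)}, by simp⟩
  let Λ := AdicCompletion (maximalIdeal B) B
  haveI hloc : IsLocalRing Λ := AdicCompletion.isLocalRing_of_fg fg
  haveI hcomp : IsAdicComplete (maximalIdeal Λ) Λ := AdicCompletion.isAdicComplete_of_fg fg
  have hmΛ : maximalIdeal Λ = Ideal.span {(p : Λ)} := by
    rw [AdicCompletion.maximalIdeal_eq_map_of_fg fg,
      congrArg (Ideal.map (algebraMap B Λ)) hm, Ideal.map_span, Set.image_singleton,
      map_natCast]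
  have hpm : (p : B) ∈ maximalIdeal B := by
    rw [hm]
    exact Ideal.mem_span_singleton_self _
  have hpn : ∀ n : ℕ, (p : Λ) ^ n ≠ 0 := by
    intro n h0
    have h1 : AdicCompletion.evalₐ (maximalIdeal B) (n + 1) ((p : Λ) ^ n) = 0 := by
      rw [h0, map_zero]
    rw [← map_natCast (algebraMap B Λ), ← map_pow, AlgHom.commutes,
      Ideal.Quotient.algebraMap_eq, Ideal.Quotient.eq_zero_iff_mem, hm,
      Ideal.span_singleton_pow, Ideal.mem_span_singleton] at h1
    obtain ⟨c, hc⟩ := h1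
    have h2 : (p : B) ^ n * 1 = (p : B) ^ n * (p * c) := by
      rw [mul_one]
      conv_lhs => rw [hc]
      ring
    have h3 := mul_left_cancel₀ (pow_ne_zero n hp0) h2
    exact hpm (IsUnit.of_mul_eq_one _ h3.symm)
  have hH : ∀ x : Λ, (∀ n : ℕ, (p : Λ) ^ n ∣ x) → x = 0 := by
    intro x hx
    apply IsHausdorff.haus hcomp.toIsHausdorff x
    intro n
    rw [SModEq.zero, smul_eq_mul, Ideal.mul_top, hmΛ, Ideal.span_singleton_pow,
      Ideal.mem_span_singleton]
    exact hx n
  have hfac : ∀ x : Λ, x ≠ 0 → ∃ (n : ℕ) (u : Λˣ), x = (p : Λ) ^ n * u := by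
    intro x hx
    have hex : ∃ n : ℕ, ¬ (p : Λ) ^ n ∣ x := by
      by_contra hcon
      push Not at hcon
      exact hx (hH x hcon)
    have hn0 : Nat.find hex ≠ 0 := by
      intro h0
      have := Nat.find_spec hex
      rw [h0, pow_zero] at this
      exact this (one_dvd x)
    obtain ⟨m, hm'⟩ := Nat.exists_eq_succ_of_ne_zero hn0
    have hdiv : (p : Λ) ^ m ∣ x := by
      by_contra hcon
      exact Nat.find_min hex (by omega) hcon
    obtain ⟨u, hu⟩ := hdiv
    have hunit : IsUnit u := by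
      by_contra hnu
      have : u ∈ maximalIdeal Λ := hnu
      rw [hmΛ, Ideal.mem_span_singleton] at this
      obtain ⟨v, rfl⟩ := this
      apply Nat.find_spec hex
      rw [hm', hu, pow_succ]
      exact ⟨v, by ring⟩
    obtain ⟨u', rfl⟩ := hunit
    exact ⟨m, u', hu⟩
  haveI hdom : IsDomain Λ := by
    haveI : NoZeroDivisors Λ := by
      constructor
      intro x y hxy
      by_contra hcon
      push Not at hcon
      obtain ⟨m, u, rfl⟩ := hfac x hcon.1
      obtain ⟨n, v, rfl⟩ := hfac y hcon.2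
      apply hpn (m + n)
      have : (p : Λ) ^ (m + n) * (u * v : Λˣ) = 0 := by
        rw [← hxy, Units.val_mul]
        ring
      exact (Units.mul_left_eq_zero _).mp this
    exact NoZeroDivisors.to_isDomain Λ
  have hirr : Irreducible (p : Λ) :=
    IsDiscreteValuationRing.irreducible_of_span_eq_maximalIdeal (p : Λ)
      (by simpa using hpn 1) hmΛ
  haveI hdvr : IsDiscreteValuationRing Λ := by
    apply IsDiscreteValuationRing.ofHasUnitMulPowIrreducibleFactorization
    refine ⟨(p : Λ), hirr, fun {x} hx => ?_⟩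
    obtain ⟨n, u, rfl⟩ := hfac x hx
    exact ⟨n, u, rfl⟩
  refine ⟨Λ, inferInstance, hloc, ⟨hdom, hdvr, hcomp, p, hp, hmΛ⟩, ?_⟩
  haveI := AdicCompletion.algebraMap_isLocalHom_of_fg fg
  exact ⟨(RingEquiv.ofBijective _ (AdicCompletion.residueField_map_bijective_of_fg fg)).symm⟩

/-- existence of Cohen rings -/
theorem exists_cohen (p : ℕ) [Fact p.Prime] (k : Type u) [Field k] [CharP k p] :
    ∃ (Λ : Type u) (_ : CommRing Λ) (_ : IsLocalRing Λ), CAlg.IsCohenRing Λ ∧
      Nonempty (ResidueField Λ ≃+* k) := by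
  classical
  obtain ⟨Ω, _, _, _, Γ₀, hΓ₀, halg⟩ := exists_base p k
  have hp0 : (p : k) = 0 := CharP.cast_eq_zero k p
  obtain ⟨Γ, hΓ, hsurj⟩ := exists_maximal p hp0 Γ₀ hΓ₀ halg
  let π : ↥Γ →+* k := (RingHom.snd Ω k).comp Γ.subtype
  let ρ : ↥Γ →+* Ω := (RingHom.fst Ω k).comp Γ.subtype
  have hπsurj : Function.Surjective π := fun a => by
    obtain ⟨z, hz, hza⟩ := hsurj a
    exact ⟨⟨z, hz⟩, hza⟩
  have hU : ∀ z : ↥Γ, π z ≠ 0 → IsUnit z := by
    intro z hz
    obtain ⟨w, hw, hzw⟩ := hΓ.unit z z.2 hz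
    exact IsUnit.of_mul_eq_one ⟨w, hw⟩ (Subtype.ext hzw)
  have hD : ∀ z : ↥Γ, π z = 0 → ∃ w, z = (p : ↥Γ) * w := by
    intro z hz
    obtain ⟨w, hw, hzw⟩ := hΓ.div z z.2 hz
    refine ⟨⟨w, hw⟩, Subtype.ext ?_⟩
    rw [hzw]
    simp
  have hρ : Function.Injective ρ := by
    rw [injective_iff_map_eq_zero]
    intro z hz
    by_cases h2 : π z = 0
    · exact Subtype.ext (Prod.ext hz h2)
    · exfalso
      obtain ⟨u, hu⟩ := hU z h2
      have h3 : ρ (↑u * ↑u⁻¹) = 1 := by rw [Units.mul_inv, map_one]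
      rw [map_mul, hu, hz, zero_mul] at h3
      exact zero_ne_one h3
  haveI : IsDomain ↥Γ := hρ.isDomain ρ
  haveI : IsLocalRing ↥Γ := by
    refine IsLocalRing.of_nonunits_add ?_
    intro x y hx hy
    have hx0 : π x = 0 := by by_contra hne; exact hx (hU x hne)
    have hy0 : π y = 0 := by by_contra hne; exact hy (hU y hne)
    intro hxy
    have := hxy.map π
    rw [map_add, hx0, hy0, add_zero] at this
    exact not_isUnit_zero this
  have hker : maximalIdeal ↥Γ = RingHom.ker π := by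
    ext z
    rw [mem_maximalIdeal, mem_nonunits_iff, RingHom.mem_ker]
    constructor
    · intro hz
      by_contra h
      exact hz (hU z h)
    · intro hz hu
      have := hu.map π
      rw [hz] at this
      exact not_isUnit_zero this
  have hm : maximalIdeal ↥Γ = Ideal.span {(p : ↥Γ)} := by
    rw [hker]
    ext z
    rw [RingHom.mem_ker, Ideal.mem_span_singleton]
    constructor
    · intro hz
      obtain ⟨w, hw⟩ := hD z hz
      exact ⟨w, hw⟩
    · rintro ⟨w, rfl⟩
      rw [map_mul, map_natCast, hp0, zero_mul]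
  have hpB : (p : ↥Γ) ≠ 0 := by
    intro h
    have := congrArg ρ h
    rw [map_natCast, map_zero] at this
    exact (Nat.cast_ne_zero.mpr (Fact.out : p.Prime).ne_zero) this
  obtain ⟨Λ, _, _, hΛ, ⟨e⟩⟩ := completion_cohen ↥Γ p Fact.out hm hpB
  have e2 : ResidueField ↥Γ ≃+* k :=
    (Ideal.quotEquivOfEq hker).trans (RingHom.quotientKerEquivOfSurjective hπsurj)
  exact ⟨Λ, inferInstance, inferInstance, hΛ, ⟨e.trans e2⟩⟩

end H14.CohenExist
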