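import Mathlib

set_option autoImplicit false
universe u

namespace H14.ComplEtale

open TensorProduct

section
variable {R S M : Type*} [CommRing R] [CommRing S] [Algebra R S] [AddCommGroup M] [Module R M]
  [Module S M] [IsScalarTower R S M] (I : Ideal R)

/-- `S ⊗[R] I → I S` -/
noncomputable def sigma : S ⊗[R] I →ₗ[S] (I.map (algebraMap R S)) :=
  LinearMap.codRestrict (I.map (algebraMap R S))
    (LinearMap.liftBaseChange S ((Algebra.linearMap R S) ∘ₗ I.subtype))
    (by
      intro x
      induction x using TensorProduct.induction_on with
      | zero => simp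
      | tmul s a =>
        simp only [LinearMap.liftBaseChange_tmul, LinearMap.coe_comp, Function.comp_apply,
          Submodule.subtype_apply, Algebra.linearMap_apply, smul_eq_mul]
        exact Ideal.mul_mem_left _ _ (Ideal.mem_map_of_mem _ a.2)
      | add x y hx hy => rw [map_add]; exact Submodule.add_mem _ hx hy)

theorem sigma_tmul (s : S) (a : I) : ((sigma (S := S) I (s ⊗ₜ a) : I.map (algebraMap R S)) : S)
    = s * algebraMap R S a := by
  simp [sigma]

theorem sigma_surjective : Function.Surjective (sigma (S := S) I) := by
  rintro ⟨x, hx⟩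
  induction hx using Submodule.span_induction with
  | mem x h =>
    obtain ⟨a, ha, rfl⟩ := h
    refine ⟨(1 : S) ⊗ₜ ⟨a, ha⟩, ?_⟩
    ext; simp [sigma_tmul]
  | zero => exact ⟨0, by ext; simp⟩
  | add x y _ _ hx hy =>
    obtain ⟨u, hu⟩ := hx
    obtain ⟨v, hv⟩ := hy
    refine ⟨u + v, ?_⟩
    ext; simp [hu, hv]
  | smul s x _ hx =>
    obtain ⟨u, hu⟩ := hx
    refine ⟨s • u, ?_⟩
    ext; simp [hu]

theorem lTensor_map_subtype_injective [Module.Flat R M] :
    Function.Injective (LinearMap.lTensor M ((I.map (algebraMap R S)).subtype : _ →ₗ[S] S)) := by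
  rw [injective_iff_map_eq_zero]
  intro x hx
  obtain ⟨w, rfl⟩ := LinearMap.lTensor_surjective M (sigma_surjective (S := S) I) x
  have key : ∀ w : M ⊗[S] (S ⊗[R] I),
      TensorProduct.rid S M (LinearMap.lTensor M ((I.map (algebraMap R S)).subtype : _ →ₗ[S] S)
        (LinearMap.lTensor M (sigma (S := S) I) w))
      = TensorProduct.rid R M (LinearMap.lTensor M (I.subtype)
          (AlgebraTensorModule.cancelBaseChange R S S M I w)) := by
    intro w
    induction w using TensorProduct.induction_on with
    | zero => simp
    | tmul m t =>
      induction t using TensorProduct.induction_on with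
      | zero => simp
      | tmul s a =>
        simp only [LinearMap.lTensor_tmul, Submodule.subtype_apply, sigma_tmul,
          TensorProduct.rid_tmul, AlgebraTensorModule.cancelBaseChange_tmul]
        rw [mul_comm, mul_smul, algebraMap_smul]
      | add t t' ht ht' =>
        simp only [TensorProduct.tmul_add, map_add] at ht ht' ⊢
        rw [ht, ht']
    | add w w' hw hw' =>
      simp only [map_add] at hw hw' ⊢
      rw [hw, hw']
  have h1 := key w
  rw [hx, map_zero] at h1
  have h2 : AlgebraTensorModule.cancelBaseChange R S S M I w = 0 := by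
    have hinj := Module.Flat.lTensor_preserves_injective_linearMap (M := M) (I.subtype)
      Subtype.val_injective
    apply hinj
    apply (TensorProduct.rid R M).injective
    rw [← h1]; simp
  have : w = 0 := (AlgebraTensorModule.cancelBaseChange R S S M I).injective (by rw [h2, map_zero])
  rw [this, map_zero]

theorem rTensor_map_subtype_injective [Module.Flat R M] :
    Function.Injective (LinearMap.rTensor M ((I.map (algebraMap R S)).subtype : _ →ₗ[S] S)) :=
  (LinearMap.lTensor_inj_iff_rTensor_inj _ _).mp (lTensor_map_subtype_injective I)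

end

end H14.ComplEtale
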