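import Mathlib
import Groth.Agent.Lib.lead.HenselFinite

set_option autoImplicit false
universe u

namespace H14.FinLoc

open IsLocalRing

section PiLoc

variable {ι : Type*} [Finite ι] (A : ι → Type*) [∀ i, CommRing (A i)] [∀ i, IsLocalRing (A i)]

/-- every maximal ideal of a finite product of local rings is the pullback of the maximal ideal
of a factor -/
theorem exists_eq_comap_of_isMaximal (m : Ideal (∀ i, A i)) [hm : m.IsMaximal] :
    ∃ i, m = (maximalIdeal (A i)).comap (Pi.evalRingHom A i) := by
  obtain ⟨⟨i, q⟩, hq⟩ := (PrimeSpectrum.sigmaToPi_bijective A).surjective ⟨m, hm.isPrime⟩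
  refine ⟨i, ?_⟩
  have h1 : m = q.asIdeal.comap (Pi.evalRingHom A i) := by
    have := congrArg PrimeSpectrum.asIdeal hq
    exact this.symm
  have h2 : m ≤ (maximalIdeal (A i)).comap (Pi.evalRingHom A i) := by
    rw [h1]
    exact Ideal.comap_mono (IsLocalRing.le_maximalIdeal q.2.ne_top)
  have h3 : (maximalIdeal (A i)).comap (Pi.evalRingHom A i) ≠ ⊤ :=
    (Ideal.comap_isMaximal_of_surjective (Pi.evalRingHom A i)
      (Function.surjective_eval i)).ne_top
  exact hm.eq_of_le h3 h2

theorem toPiLocalization_pi_surjective :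
    Function.Surjective (MaximalSpectrum.toPiLocalization (∀ i, A i)) := by
  intro x
  -- the maximal ideals `M i`
  let M : ι → MaximalSpectrum (∀ i, A i) := fun i =>
    ⟨(maximalIdeal (A i)).comap (Pi.evalRingHom A i),
      Ideal.comap_isMaximal_of_surjective (Pi.evalRingHom A i) (Function.surjective_eval i)⟩
  have hbij : ∀ i, Function.Bijective (algebraMap (A i) (Localization.AtPrime (maximalIdeal (A i)))) :=
    fun i => (IsLocalization.atUnits (A i) (maximalIdeal (A i)).primeCompl
      (S := Localization.AtPrime (maximalIdeal (A i)))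
      (fun x hx => by
        rw [IsUnit.mem_submonoid_iff]
        simpa using hx)).bijective
  choose r hr using fun i => (hbij i).surjective
    (Localization.AtPrime.mapPiEvalRingHom (maximalIdeal (A i)) (x (M i)))
  refine ⟨r, ?_⟩
  funext m
  obtain ⟨i, hi⟩ := exists_eq_comap_of_isMaximal A m.asIdeal (hm := m.isMaximal)
  have hm : m = M i := MaximalSpectrum.ext hi
  subst hm
  apply (Localization.AtPrime.mapPiEvalRingHom_bijective (maximalIdeal (A i))).injective
  rw [MaximalSpectrum.toPiLocalization_apply_apply]
  rw [Localization.AtPrime.mapPiEvalRingHom_algebraMap_apply, hr]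

end PiLoc

section Transfer

variable {S : Type*} [CommRing S] {ι : Type*} [Finite ι] (A : ι → Type*) [∀ i, CommRing (A i)]
  [∀ i, IsLocalRing (A i)]

theorem toPiLocalization_bijective_of_ringEquiv (e : S ≃+* (∀ i, A i)) :
    Function.Bijective (MaximalSpectrum.toPiLocalization S) := by
  have h1 := MaximalSpectrum.mapPiLocalization_naturality (e : S →+* (∀ i, A i)) e.bijective
  have h2 : Function.Bijective (MaximalSpectrum.mapPiLocalization (e : S →+* (∀ i, A i)) e.bijective) :=
    MaximalSpectrum.mapPiLocalization_bijective _ _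
  have h3 : Function.Bijective (MaximalSpectrum.toPiLocalization (∀ i, A i)) :=
    ⟨MaximalSpectrum.toPiLocalization_injective _, toPiLocalization_pi_surjective A⟩
  have h4 : (MaximalSpectrum.mapPiLocalization (e : S →+* (∀ i, A i)) e.bijective) ∘
      (MaximalSpectrum.toPiLocalization S) = (MaximalSpectrum.toPiLocalization (∀ i, A i)) ∘ e := by
    funext s
    exact congrArg (fun φ => φ s) h1
  rw [← Function.Bijective.of_comp_iff' h2, h4]
  exact h3.comp e.bijective

end Transfer

section Complete

variable {R : Type*} [CommRing R] (I J : Ideal R) {M N : Type*} [AddCommGroup M] [Module R M]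
  [AddCommGroup N] [Module R N]

/-- precompleteness passes to quotients -/
theorem isPrecomplete_of_surjective [IsPrecomplete I N] (f : N →ₗ[R] M)
    (hf : Function.Surjective f) : IsPrecomplete I M := by
  rw [← AdicCompletion.of_surjective_iff]
  intro y
  obtain ⟨z, rfl⟩ := AdicCompletion.map_surjective I hf y
  obtain ⟨n, rfl⟩ := AdicCompletion.of_surjective I N z
  exact ⟨f n, (AdicCompletion.map_of I f n).symm⟩

theorem pow_smul_top_le_of_pow_le {k : ℕ} (h : J ^ k ≤ I) (n : ℕ) :
    (J ^ (k * n) • ⊤ : Submodule R M) ≤ I ^ n • ⊤ := by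
  rw [pow_mul]
  exact Submodule.smul_mono_left (Ideal.pow_right_mono h n)

/-- `I ≤ J` and `J ^ k ≤ I`: `I`-adically complete implies `J`-adically complete -/
theorem isAdicComplete_of_le_of_pow_le [IsAdicComplete I M] (hIJ : I ≤ J) {k : ℕ}
    (hk : J ^ k ≤ I) : IsAdicComplete J M := by
  have hk' : J ^ (k + 1) ≤ I := (Ideal.pow_le_pow_right (Nat.le_succ k)).trans hk
  refine { toIsHausdorff := ⟨fun x hx => ?_⟩, toIsPrecomplete := ⟨fun {f} hf => ?_⟩ }
  · refine IsHausdorff.haus (I := I) inferInstance x fun n => ?_
    rw [SModEq.zero]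
    have := hx ((k + 1) * n)
    rw [SModEq.zero] at this
    exact pow_smul_top_le_of_pow_le I J hk' n this
  · have hg : ∀ {m n : ℕ}, m ≤ n →
        f ((k + 1) * m) ≡ f ((k + 1) * n) [SMOD (I ^ m • ⊤ : Submodule R M)] := by
      intro m n hmn
      have := hf (Nat.mul_le_mul_left (k + 1) hmn)
      rw [SModEq.sub_mem] at this ⊢
      exact pow_smul_top_le_of_pow_le I J hk' m this
    obtain ⟨L, hL⟩ := IsPrecomplete.prec (I := I) inferInstance hg
    refine ⟨L, fun n => ?_⟩
    have h1 : f n ≡ f ((k + 1) * n) [SMOD (J ^ n • ⊤ : Submodule R M)] :=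
      hf (Nat.le_mul_of_pos_left n (Nat.succ_pos k))
    have h2 : f ((k + 1) * n) ≡ L [SMOD (J ^ n • ⊤ : Submodule R M)] := by
      have := hL n
      rw [SModEq.sub_mem] at this ⊢
      exact Submodule.smul_mono_left (Ideal.pow_right_mono hIJ n) this
    exact h1.trans h2

end Complete

section Main

theorem isPrecomplete_pi {R : Type*} [CommRing R] (I : Ideal R) [IsPrecomplete I R] (n : ℕ) :
    IsPrecomplete I (Fin n → R) := by
  constructor
  intro f hf
  have hcoord : ∀ i : Fin n, ∃ L : R, ∀ k, f k i ≡ L [SMOD (I ^ k • ⊤ : Submodule R R)] := by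
    intro i
    apply IsPrecomplete.prec'
    intro m k hmk
    have h1 := hf hmk
    rw [SModEq.sub_mem] at h1 ⊢
    have h2 : (LinearMap.proj i : (Fin n → R) →ₗ[R] R) (f m - f k) ∈
        (I ^ m • ⊤ : Submodule R R) := by
      have := Submodule.mem_map_of_mem (f := (LinearMap.proj i : (Fin n → R) →ₗ[R] R)) h1
      rw [Submodule.map_smul''] at this
      exact Submodule.smul_mono le_rfl le_top this
    simpa using h2
  choose L hL using hcoord
  refine ⟨L, fun k => ?_⟩
  rw [SModEq.sub_mem]
  have : f k - L = ∑ i, (f k i - L i) • (Pi.single i (1 : R) : Fin n → R) := by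
    ext j
    simp [Finset.sum_apply, Pi.single_apply]
  rw [this]
  refine Submodule.sum_mem _ fun i _ => ?_
  have h3 := hL i k
  rw [SModEq.sub_mem] at h3
  have h4 : f k i - L i ∈ I ^ k := by simpa using h3
  exact Submodule.smul_mem_smul h4 Submodule.mem_top

variable (R : Type*) [CommRing R] [IsLocalRing R] [IsNoetherianRing R]
  [IsAdicComplete (maximalIdeal R) R]

theorem isAdicComplete_of_finite (T : Type*) [AddCommGroup T] [Module R T] [Module.Finite R T] :
    IsAdicComplete (maximalIdeal R) T := by
  obtain ⟨n, f, hf⟩ := Module.Finite.exists_fin' R T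
  haveI : IsPrecomplete (maximalIdeal R) (Fin n → R) := isPrecomplete_pi _ n
  haveI := isPrecomplete_of_surjective (maximalIdeal R) f hf
  exact {}

theorem isAdicComplete_maximalIdeal_of_finite (T : Type*) [CommRing T] [IsLocalRing T]
    [IsNoetherianRing T] [Algebra R T] [Module.Finite R T] :
    IsAdicComplete (maximalIdeal T) T := by
  have h0 : IsAdicComplete (maximalIdeal R) T := isAdicComplete_of_finite R T
  haveI h1 : IsAdicComplete ((maximalIdeal R).map (algebraMap R T)) T :=
    { toIsHausdorff := IsHausdorff.map_algebraMap_iff.mpr h0.toIsHausdorff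
      toIsPrecomplete := IsPrecomplete.map_algebraMap_iff.mpr h0.toIsPrecomplete }
  have hle : (maximalIdeal R).map (algebraMap R T) ≤ maximalIdeal T := by
    rw [Ideal.map_le_iff_le_comap]
    have : ((maximalIdeal T).comap (algebraMap R T)).IsMaximal :=
      Ideal.isMaximal_comap_of_isIntegral_of_isMaximal (maximalIdeal T)
    exact (IsLocalRing.eq_maximalIdeal this).ge
  have hrad : ((maximalIdeal R).map (algebraMap R T)).radical = maximalIdeal T := by
    apply le_antisymm
    · exact (Ideal.radical_mono hle).trans (Ideal.IsPrime.radical inferInstance).le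
    · rw [Ideal.radical_eq_sInf]
      apply le_sInf
      rintro p ⟨hp1, hp2⟩
      have hmax : (p.comap (algebraMap R T)).IsMaximal := by
        have hm : maximalIdeal R ≤ p.comap (algebraMap R T) := Ideal.map_le_iff_le_comap.mp hp1
        have hne : p.comap (algebraMap R T) ≠ ⊤ := (Ideal.IsPrime.comap _).ne_top
        rw [← (maximalIdeal.isMaximal R).eq_of_le hne hm]
        infer_instance
      have : p.IsMaximal := Ideal.isMaximal_of_isIntegral_of_isMaximal_comap p hmax
      exact (IsLocalRing.eq_maximalIdeal this).ge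
  obtain ⟨k, hk⟩ := Ideal.exists_radical_pow_le_of_fg ((maximalIdeal R).map (algebraMap R T))
    (IsNoetherian.noetherian _)
  rw [hrad] at hk
  exact isAdicComplete_of_le_of_pow_le _ (maximalIdeal T) hle hk

end Main

theorem henselianLocalRing_of_isAdicComplete (R : Type*) [CommRing R] [IsLocalRing R]
    [IsAdicComplete (maximalIdeal R) R] : HenselianLocalRing R where
  is_henselian := fun f hf a₀ h₁ h₂ =>
    HenselianRing.is_henselian (I := maximalIdeal R) f hf a₀ h₁ (h₂.map (Ideal.Quotient.mk _))

theorem main (R : Type u) [CommRing R] [IsLocalRing R] [IsNoetherianRing R]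
    [IsAdicComplete (maximalIdeal R) R]
    (S : Type u) [CommRing S] [Algebra R S] [Module.Finite R S] :
    Finite (MaximalSpectrum S) ∧
      Function.Bijective
        (algebraMap S ((m : MaximalSpectrum S) → Localization.AtPrime m.asIdeal)) ∧
      ∀ m : MaximalSpectrum S, IsNoetherianRing (Localization.AtPrime m.asIdeal) ∧
        IsAdicComplete (maximalIdeal (Localization.AtPrime m.asIdeal))
          (Localization.AtPrime m.asIdeal) := by
  haveI : HenselianLocalRing R := henselianLocalRing_of_isAdicComplete R
  obtain ⟨ι, hι, A, hA, hloc, ⟨e⟩⟩ :=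
    Groth.Agent.Lib.lead.HenselLocal.finite_exists_pi_isLocalRing (R := R) S
  have hbij := toPiLocalization_bijective_of_ringEquiv A e
  refine ⟨MaximalSpectrum.finite_of_toPiLocalization_surjective hbij.2, hbij, fun m => ?_⟩
  haveI : IsNoetherianRing S := IsNoetherianRing.of_finite R S
  haveI : IsNoetherianRing (Localization.AtPrime m.asIdeal) :=
    IsLocalization.isNoetherianRing m.asIdeal.primeCompl _ inferInstance
  refine ⟨inferInstance, ?_⟩
  haveI : Module.Finite R (Localization.AtPrime m.asIdeal) := by
    have hsurj : Function.Surjective (algebraMap S (Localization.AtPrime m.asIdeal)) := by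
      intro y
      classical
      obtain ⟨s, hs⟩ := hbij.2 (Function.update 0 m y)
      refine ⟨s, ?_⟩
      have := congrFun hs m
      rw [Function.update_self] at this
      exact this
    exact Module.Finite.of_surjective
      (IsScalarTower.toAlgHom R S (Localization.AtPrime m.asIdeal)).toLinearMap hsurj
  exact isAdicComplete_maximalIdeal_of_finite R _

end H14.FinLoc
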