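import Mathlib
import Groth.Agent.Lib.helper14.FinLoc

set_option autoImplicit false
universe u

namespace H14.ComplUnram

open IsLocalRing

/-- Stacks 031D -/
theorem finite_of_hausdorff {R : Type*} [CommRing R] (I : Ideal R) [IsPrecomplete I R]
    {N : Type*} [AddCommGroup N] [Module R N] [IsHausdorff I N] (n : ℕ) (x : Fin n → N)
    (hx : ∀ y : N, ∃ a : Fin n → R, y - ∑ i, a i • x i ∈ (I • ⊤ : Submodule R N)) :
    Module.Finite R N := by
  let f : (Fin n → R) →ₗ[R] N := Fintype.linearCombination R x
  haveI := H14.FinLoc.isPrecomplete_pi I n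
  have hsurj : Function.Surjective f := by
    apply surjective_of_mkQ_comp_surjective (I := I)
    intro z
    obtain ⟨y, rfl⟩ := Submodule.mkQ_surjective _ z
    obtain ⟨a, ha⟩ := hx y
    refine ⟨a, ?_⟩
    simp only [LinearMap.coe_comp, Function.comp_apply, Submodule.mkQ_apply, f,
      Fintype.linearCombination_apply]
    symm; rwa [Submodule.Quotient.eq]
  exact Module.Finite.of_surjective f hsurj

section
variable (A : Type u) [CommRing A] [IsLocalRing A] [IsNoetherianRing A]

/-- the residue field iso -/
noncomputable def eA : ResidueField A ≃+* ResidueField (AdicCompletion (maximalIdeal A) A) :=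
  RingEquiv.ofBijective (ResidueField.map (algebraMap A (AdicCompletion (maximalIdeal A) A)))
    (AdicCompletion.residueField_map_bijective A)

theorem eA_residue (a : A) : eA A (residue A a) =
    residue _ (algebraMap A (AdicCompletion (maximalIdeal A) A) a) := rfl

/-- every element of the completion is congruent to an element of `A` modulo the maximal ideal -/
theorem exists_sub_mem (y : AdicCompletion (maximalIdeal A) A) :
    ∃ a : A, y - algebraMap A (AdicCompletion (maximalIdeal A) A) a ∈
      maximalIdeal (AdicCompletion (maximalIdeal A) A) := by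
  obtain ⟨x, hx⟩ := (eA A).surjective (residue _ y)
  obtain ⟨a, rfl⟩ := residue_surjective x
  refine ⟨a, ?_⟩
  rw [eA_residue] at hx
  rw [← Ideal.Quotient.eq_zero_iff_mem, map_sub, sub_eq_zero]
  exact hx.symm

end

section psi
variable {A B : Type u} [CommRing A] [CommRing B]
    [IsLocalRing A] [IsLocalRing B] [IsNoetherianRing A] [IsNoetherianRing B] [Algebra A B]
    [IsLocalHom (algebraMap A B)]
    (ψ : AdicCompletion (maximalIdeal A) A →+* AdicCompletion (maximalIdeal B) B)
    (hψ : ψ.comp (algebraMap A (AdicCompletion (maximalIdeal A) A)) =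
      (algebraMap B (AdicCompletion (maximalIdeal B) B)).comp (algebraMap A B))

local notation "Ah" => AdicCompletion (maximalIdeal A) A
local notation "Bh" => AdicCompletion (maximalIdeal B) B

include hψ

theorem map_max_le : (maximalIdeal Ah).map ψ ≤ maximalIdeal Bh := by
  rw [AdicCompletion.maximalIdeal_eq_map, Ideal.map_map, hψ, ← Ideal.map_map,
    AdicCompletion.maximalIdeal_eq_map]
  apply Ideal.map_mono
  exact ((local_hom_TFAE (algebraMap A B)).out 0 2).1 ‹IsLocalHom (algebraMap A B)›

theorem isLocalHom_psi : IsLocalHom ψ := ((local_hom_TFAE ψ).out 0 2).2 (map_max_le ψ hψ)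

theorem map_max_eq (h : (maximalIdeal A).map (algebraMap A B) = maximalIdeal B) :
    (maximalIdeal Ah).map ψ = maximalIdeal Bh := by
  rw [AdicCompletion.maximalIdeal_eq_map, Ideal.map_map, hψ, ← Ideal.map_map, h,
    ← AdicCompletion.maximalIdeal_eq_map]

theorem map_max_eq' (h : (maximalIdeal Ah).map ψ = maximalIdeal Bh) :
    (maximalIdeal A).map (algebraMap A B) = maximalIdeal B := by
  rw [AdicCompletion.maximalIdeal_eq_map, Ideal.map_map, hψ, ← Ideal.map_map,
    AdicCompletion.maximalIdeal_eq_map] at h
  haveI : Module.FaithfullyFlat B Bh := Module.FaithfullyFlat.of_flat_of_isLocalHom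
  have := congrArg (Ideal.comap (algebraMap B Bh)) h
  rwa [Ideal.comap_map_eq_self_of_faithfullyFlat, Ideal.comap_map_eq_self_of_faithfullyFlat] at this

theorem psi_comm :
    letI := ψ.toAlgebra
    haveI : IsLocalHom (algebraMap Ah Bh) := isLocalHom_psi ψ hψ
    (algebraMap (ResidueField Ah) (ResidueField Bh)).comp (eA A : ResidueField A →+* ResidueField Ah) =
      (eA B : ResidueField B →+* ResidueField Bh).comp (algebraMap (ResidueField A) (ResidueField B)) := by
  letI := ψ.toAlgebra
  haveI : IsLocalHom (algebraMap Ah Bh) := isLocalHom_psi ψ hψ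
  ext x
  obtain ⟨a, rfl⟩ := residue_surjective x
  have h := RingHom.congr_fun hψ a
  simp only [RingHom.comp_apply] at h
  change residue Bh (ψ (algebraMap A Ah a)) = residue Bh (algebraMap B Bh (algebraMap A B a))
  rw [h]

theorem forward [Algebra.EssFiniteType A B] [Algebra.FormallyUnramified A B] :
    ψ.Finite ∧ ψ.FormallyUnramified := by
  letI := ψ.toAlgebra
  haveI : IsLocalHom (algebraMap Ah Bh) := isLocalHom_psi ψ hψ
  have hmax : (maximalIdeal A).map (algebraMap A B) = maximalIdeal B :=
    Algebra.FormallyUnramified.map_maximalIdeal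
  have hmaxh : (maximalIdeal Ah).map (algebraMap Ah Bh) = maximalIdeal Bh := map_max_eq ψ hψ hmax
  have hfin : Module.Finite Ah Bh := by
    haveI : IsHausdorff ((maximalIdeal Ah).map (algebraMap Ah Bh)) Bh := by
      rw [hmaxh]; infer_instance
    haveI : IsHausdorff (maximalIdeal Ah) Bh := IsHausdorff.map_algebraMap_iff.mp this
    obtain ⟨n, bb, hbb⟩ := Module.Finite.exists_fin (R := ResidueField A) (M := ResidueField B)
    choose b hb using fun i => residue_surjective (bb i)
    refine finite_of_hausdorff (maximalIdeal Ah) n (fun i => algebraMap B Bh (b i)) ?_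
    intro y
    obtain ⟨b₀, hb₀⟩ := exists_sub_mem B y
    have hmem : residue B b₀ ∈ Submodule.span (ResidueField A) (Set.range bb) := by
      rw [hbb]; trivial
    obtain ⟨c, hc⟩ := (Submodule.mem_span_range_iff_exists_fun _).1 hmem
    choose a ha using fun i => residue_surjective (c i)
    refine ⟨fun i => algebraMap A Ah (a i), ?_⟩
    rw [Ideal.smul_top_eq_map, Submodule.restrictScalars_mem, hmaxh]
    have h1 : b₀ - ∑ i, algebraMap A B (a i) * b i ∈ maximalIdeal B := by
      rw [← Ideal.Quotient.eq_zero_iff_mem]
      change residue B _ = 0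
      rw [map_sub, map_sum, ← hc, sub_eq_zero]
      refine Finset.sum_congr rfl fun i _ => ?_
      rw [map_mul, hb, ← ha, Algebra.smul_def]
      rfl
    have h2 : algebraMap B Bh (b₀ - ∑ i, algebraMap A B (a i) * b i) ∈ maximalIdeal Bh := by
      rw [AdicCompletion.maximalIdeal_eq_map]
      exact Ideal.mem_map_of_mem _ h1
    have h3 : y - ∑ i, algebraMap A Ah (a i) • algebraMap B Bh (b i)
        = (y - algebraMap B Bh b₀) + algebraMap B Bh (b₀ - ∑ i, algebraMap A B (a i) * b i) := by
      rw [map_sub, map_sum]
      have : ∀ i, algebraMap A Ah (a i) • algebraMap B Bh (b i)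
          = algebraMap B Bh (algebraMap A B (a i) * b i) := by
        intro i
        rw [Algebra.smul_def, map_mul]
        congr 1
        exact RingHom.congr_fun hψ (a i)
      simp only [this]
      ring
    rw [h3]
    exact Ideal.add_mem _ hb₀ h2
  have hsep : Algebra.IsSeparable (ResidueField Ah) (ResidueField Bh) :=
    Algebra.IsSeparable.of_equiv_equiv (eA A) (eA B) (psi_comm ψ hψ)
  haveI : Algebra.EssFiniteType Ah Bh := inferInstance
  exact ⟨hfin, Algebra.FormallyUnramified.of_map_maximalIdeal hmaxh⟩

theorem backward (hft : ψ.FiniteType) (hfu : ψ.FormallyUnramified) [Algebra.EssFiniteType A B] :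
    Algebra.FormallyUnramified A B := by
  letI := ψ.toAlgebra
  haveI : IsLocalHom (algebraMap Ah Bh) := isLocalHom_psi ψ hψ
  haveI : Algebra.FiniteType Ah Bh := hft
  haveI : Algebra.FormallyUnramified Ah Bh := hfu
  have hmaxh : (maximalIdeal Ah).map (algebraMap Ah Bh) = maximalIdeal Bh :=
    Algebra.FormallyUnramified.map_maximalIdeal
  have hmax := map_max_eq' ψ hψ hmaxh
  haveI hsep : Algebra.IsSeparable (ResidueField A) (ResidueField B) := by
    refine Algebra.IsSeparable.of_equiv_equiv (eA A).symm (eA B).symm ?_
    have h := psi_comm ψ hψ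
    ext x
    obtain ⟨x, rfl⟩ := (eA A).surjective x
    have := RingHom.congr_fun h x
    simp only [RingHom.comp_apply, RingHom.coe_coe] at this ⊢
    rw [this]; simp
  exact Algebra.FormallyUnramified.of_map_maximalIdeal hmax

end psi

end H14.ComplUnram
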