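import Mathlib
import Groth.Agent.S0543
import Groth.Agent.Lib.helper14.ComplUnram
import Groth.Agent.Lib.helper14.ComplEtaleG

set_option autoImplicit false
universe u

namespace H14.ComplEtale

open IsLocalRing TensorProduct H14.ComplUnram

/-- flatness descends along a faithfully flat ring map -/
theorem flat_descent (A S T : Type u) [CommRing A] [CommRing S] [CommRing T] [Algebra A S]
    [Algebra S T] [Algebra A T] [IsScalarTower A S T] [Module.Flat A T]
    [Module.FaithfullyFlat S T] : Module.Flat A S := by
  rw [Module.Flat.iff_lTensor_injectiveₛ]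
  intro P _ _ N
  let hS : S ⊗[A] N →ₗ[S] S ⊗[A] P := TensorProduct.AlgebraTensorModule.lTensor S S N.subtype
  have hcoe : ⇑(N.subtype.lTensor S) = ⇑hS := rfl
  rw [hcoe, ← Module.FaithfullyFlat.lTensor_injective_iff_injective S T hS]
  let e₁ : T ⊗[S] (S ⊗[A] N) ≃ₗ[T] T ⊗[A] N :=
    TensorProduct.AlgebraTensorModule.cancelBaseChange A S T T N
  let e₂ : T ⊗[S] (S ⊗[A] P) ≃ₗ[T] T ⊗[A] P :=
    TensorProduct.AlgebraTensorModule.cancelBaseChange A S T T P
  have hcomm : ∀ x, e₂ (hS.lTensor T x) = N.subtype.lTensor T (e₁ x) := by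
    intro x
    induction x using TensorProduct.induction_on with
    | zero => simp
    | add x y hx hy => simp only [map_add, hx, hy]
    | tmul t y =>
      induction y using TensorProduct.induction_on with
      | zero => simp
      | add x y hx hy => simp only [TensorProduct.tmul_add, map_add, hx, hy]
      | tmul s n =>
        simp [e₁, e₂, hS]
  have hinj : Function.Injective (N.subtype.lTensor T) :=
    Module.Flat.lTensor_preserves_injective_linearMap _ N.injective_subtype
  intro x y hxy
  apply e₁.injective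
  apply hinj
  rw [← hcomm, ← hcomm, hxy]

section psi
variable {A B : Type u} [CommRing A] [CommRing B]
    [IsLocalRing A] [IsLocalRing B] [IsNoetherianRing A] [IsNoetherianRing B] [Algebra A B]
    [IsLocalHom (algebraMap A B)]
    (ψ : AdicCompletion (maximalIdeal A) A →+* AdicCompletion (maximalIdeal B) B)
    (hψ : ψ.comp (algebraMap A (AdicCompletion (maximalIdeal A) A)) =
      (algebraMap B (AdicCompletion (maximalIdeal B) B)).comp (algebraMap A B))

local notation "Ah" => AdicCompletion (maximalIdeal A) A
local notation "Bh" => AdicCompletion (maximalIdeal B) B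

include hψ

theorem free_psi [Module.Flat A B] [Algebra.EssFiniteType A B] [Algebra.FormallyUnramified A B] :
    letI := ψ.toAlgebra
    Module.Free Ah Bh := by
  letI := ψ.toAlgebra
  haveI : IsLocalHom (algebraMap Ah Bh) := isLocalHom_psi ψ hψ
  obtain ⟨hfin, _⟩ := forward ψ hψ
  haveI : Module.Finite Ah Bh := hfin
  haveI : IsNoetherianRing Ah := Groth.Agent.S0543.result A _
  haveI : Module.FinitePresentation Ah Bh := Module.finitePresentation_of_finite Ah Bh
  haveI : IsScalarTower A Ah Bh :=
    IsScalarTower.of_algebraMap_eq (fun a => by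
      rw [IsScalarTower.algebraMap_apply A B Bh]
      exact (RingHom.congr_fun hψ a).symm)
  haveI : Module.Flat A Bh := Module.Flat.trans A B Bh
  apply Module.free_of_maximalIdeal_rTensor_injective
  have h := rTensor_map_subtype_injective (S := Ah) (M := Bh) (maximalIdeal A)
  rw [← AdicCompletion.maximalIdeal_eq_map] at h
  exact h

theorem etale_forward [Module.Flat A B] [Algebra.EssFiniteType A B]
    [Algebra.FormallyUnramified A B] : ψ.Etale := by
  rw [RingHom.Etale.iff_flat_and_formallyUnramified]
  obtain ⟨hfin, hfu⟩ := forward ψ hψ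
  haveI : IsNoetherianRing Ah := Groth.Agent.S0543.result A _
  refine ⟨?_, hfu, RingHom.FinitePresentation.of_finiteType.1 (RingHom.FiniteType.of_finite hfin)⟩
  letI := ψ.toAlgebra
  haveI := free_psi ψ hψ
  change Module.Flat Ah Bh
  infer_instance

theorem etale_backward (h : ψ.Etale) [Algebra.EssFiniteType A B] :
    Module.Flat A B ∧ Algebra.FormallyUnramified A B := by
  rw [RingHom.Etale.iff_flat_and_formallyUnramified] at h
  obtain ⟨hflat, hfu, hfp⟩ := h
  have hfuAB := backward ψ hψ (RingHom.FiniteType.of_finitePresentation hfp) hfu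
  refine ⟨?_, hfuAB⟩
  letI := ψ.toAlgebra
  haveI : IsScalarTower A Ah Bh :=
    IsScalarTower.of_algebraMap_eq (fun a => by
      rw [IsScalarTower.algebraMap_apply A B Bh]
      exact (RingHom.congr_fun hψ a).symm)
  haveI : Module.Flat Ah Bh := hflat
  haveI : Module.Flat A Bh := Module.Flat.trans A Ah Bh
  haveI : Module.FaithfullyFlat B Bh := Module.FaithfullyFlat.of_flat_of_isLocalHom
  exact flat_descent A B Bh

theorem free_of_etale (h : ψ.Etale) [Algebra.EssFiniteType A B] :
    letI := ψ.toAlgebra
    ∃ n : ℕ, 0 < n ∧ Nonempty ((Fin n → Ah) ≃ₗ[Ah] Bh) := by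
  obtain ⟨hflatAB, hfuAB⟩ := etale_backward ψ hψ h
  rw [RingHom.Etale.iff_flat_and_formallyUnramified] at h
  obtain ⟨hflat, hfu, hfp⟩ := h
  letI := ψ.toAlgebra
  haveI : Module.Flat Ah Bh := hflat
  obtain ⟨hfin, _⟩ := forward ψ hψ
  haveI : Module.Finite Ah Bh := hfin
  haveI : Module.Free Ah Bh := Module.free_of_flat_of_isLocalRing
  refine ⟨Module.finrank Ah Bh, (Module.finrank_pos_iff_of_free Ah Bh).2 inferInstance, ?_⟩
  exact ⟨(Module.finBasis Ah Bh).equivFun.symm⟩

end psi

end H14.ComplEtale
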