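import Mathlib
import Groth.Agent.Lib.helper14.AlgClosedTensor
import Groth.Agent.Lib.helper14.Connected

/-! Connectedness of spectra of tensor products over fields (helper14). -/

set_option autoImplicit false

namespace Groth.Agent.H14

open TensorProduct

/-- If `Spec R` is connected and all fibres `Spec (κ(p) ⊗[k] S)` are connected, then
`Spec (R ⊗[k] S)` is connected. -/
theorem connectedSpace_tensor {k R S : Type*} [Field k] [CommRing R] [CommRing S]
    [Algebra k R] [Algebra k S] [ConnectedSpace (PrimeSpectrum R)]
    (h : ∀ p : PrimeSpectrum R,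
      ConnectedSpace (PrimeSpectrum (p.asIdeal.ResidueField ⊗[k] S))) :
    ConnectedSpace (PrimeSpectrum (R ⊗[k] S)) := by
  let f := PrimeSpectrum.comap (algebraMap R (R ⊗[k] S))
  have hfopen : IsOpenMap f := PrimeSpectrum.isOpenMap_comap_algebraMap_tensorProduct_of_field
  have hfcont : Continuous f := PrimeSpectrum.continuous_comap _
  have hfib : ∀ p, IsConnected (f ⁻¹' {p}) := by
    intro p
    haveI := h p
    haveI : ConnectedSpace (PrimeSpectrum (p.asIdeal.Fiber (R ⊗[k] S))) :=
      (PrimeSpectrum.homeomorphOfRingEquiv
        (Algebra.TensorProduct.cancelBaseChange k R p.asIdeal.ResidueField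
          p.asIdeal.ResidueField S).toRingEquiv).connectedSpace_iff.mpr inferInstance
    rw [isConnected_iff_connectedSpace]
    exact (PrimeSpectrum.preimageHomeomorphFiber R (R ⊗[k] S) p).connectedSpace_iff.mpr
      inferInstance
  have hfsurj : Function.Surjective f := fun p => by
    obtain ⟨Q, hQ⟩ := (hfib p).nonempty
    exact ⟨Q, hQ⟩
  have hco : Topology.IsCoinducing f := (hfopen.isQuotientMap hfcont hfsurj).isCoinducing
  have := hco.isConnected_preimage_of_isClosed hfib isClosed_univ
    (connectedSpace_iff_univ.mp inferInstance)
  rw [Set.preimage_univ] at this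
  exact connectedSpace_iff_univ.mpr this

/-- Over an algebraically closed field, the tensor product of connected algebras is connected. -/
theorem connectedSpace_tensor_of_isAlgClosed {k R S : Type*} [Field k] [IsAlgClosed k]
    [CommRing R] [CommRing S] [Algebra k R] [Algebra k S]
    [ConnectedSpace (PrimeSpectrum R)] [ConnectedSpace (PrimeSpectrum S)] :
    ConnectedSpace (PrimeSpectrum (R ⊗[k] S)) := by
  refine connectedSpace_tensor fun p => ?_
  haveI : ConnectedSpace (PrimeSpectrum (S ⊗[k] p.asIdeal.ResidueField)) := by
    refine connectedSpace_tensor fun q => ?_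
    haveI : IsDomain (q.asIdeal.ResidueField ⊗[k] p.asIdeal.ResidueField) :=
      isDomain_tensorProduct_of_isAlgClosed
    infer_instance
  exact (PrimeSpectrum.homeomorphOfRingEquiv
    (Algebra.TensorProduct.comm k S p.asIdeal.ResidueField).toRingEquiv).connectedSpace_iff.mp
      inferInstance

end Groth.Agent.H14
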