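import Mathlib

/-!
# The conormal sequence `I/I² → J/J² → C ⊗_B Ω_{B/A}` for `A → B → C` with `A → C` surjective
-/

set_option autoImplicit false
universe u

namespace H14

open TensorProduct KaehlerDifferential

/-- a module over `B` killed by the kernel of a surjection `B → C` is a `C`-module. -/
theorem exists_module_of_surjective {B C N : Type*} [CommRing B] [CommRing C] [Algebra B C]
    [AddCommGroup N] [Module B N] (hsurj : Function.Surjective (algebraMap B C))
    (hker : ∀ b ∈ RingHom.ker (algebraMap B C), ∀ n : N, b • n = 0) :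
    ∃ (_ : Module C N), IsScalarTower B C N := by
  let φ : B →+* AddMonoid.End N := Module.toAddMonoidEnd B N
  have hφ : RingHom.ker (algebraMap B C) ≤ RingHom.ker φ := by
    intro b hb
    rw [RingHom.mem_ker]
    ext n
    exact hker b hb n
  let ψ : C →+* AddMonoid.End N := (algebraMap B C).liftOfSurjective hsurj ⟨φ, hφ⟩
  have hψ : ∀ b, ψ (algebraMap B C b) = φ b :=
    fun b => RingHom.liftOfSurjective_comp_apply (algebraMap B C) hsurj ⟨φ, hφ⟩ b
  letI : Module C N := Module.compHom N ψ
  refine ⟨inferInstance, ⟨fun b c n => ?_⟩⟩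
  change ψ (b • c) n = φ b (ψ c n)
  rw [Algebra.smul_def, map_mul, hψ]
  rfl

section

variable (A B C : Type u) [CommRing A] [CommRing B] [CommRing C] [Algebra A B] [Algebra B C]
  [Algebra A C] [IsScalarTower A B C]

theorem ker_smul_cotangent (j : B) (hj : j ∈ RingHom.ker (algebraMap B C))
    (y : (RingHom.ker (algebraMap B C)).Cotangent) : j • y = 0 := by
  obtain ⟨x, rfl⟩ := Ideal.toCotangent_surjective _ y
  rw [← map_smul, Ideal.toCotangent_eq_zero, pow_two]
  exact Ideal.mul_mem_mul hj x.2

variable (hAC : Function.Surjective (algebraMap A C))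
    (h : RingHom.ker (algebraMap A C) ≤ (RingHom.ker (algebraMap B C)).comap (Algebra.ofId A B))

include hAC in
theorem exists_sub_mem_ker (b : B) :
    ∃ a : A, b - algebraMap A B a ∈ RingHom.ker (algebraMap B C) := by
  obtain ⟨a, ha⟩ := hAC (algebraMap B C b)
  refine ⟨a, ?_⟩
  rw [RingHom.mem_ker, map_sub, ← IsScalarTower.algebraMap_apply, ha, sub_self]

include hAC in
/-- the range of `I/I² → J/J²` is stable under `B`. -/
theorem span_range_mapCotangent_le (y : (RingHom.ker (algebraMap B C)).Cotangent)
    (hy : y ∈ Submodule.span B (Set.range (Ideal.mapCotangent (RingHom.ker (algebraMap A C))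
      (RingHom.ker (algebraMap B C)) (Algebra.ofId A B) h))) :
    y ∈ Set.range (Ideal.mapCotangent (RingHom.ker (algebraMap A C))
      (RingHom.ker (algebraMap B C)) (Algebra.ofId A B) h) := by
  induction hy using Submodule.span_induction with
  | mem y hy => exact hy
  | zero => exact ⟨0, map_zero _⟩
  | add y z _ _ hy hz =>
    obtain ⟨y', rfl⟩ := hy
    obtain ⟨z', rfl⟩ := hz
    exact ⟨y' + z', map_add _ _ _⟩
  | smul b y _ hy =>
    obtain ⟨y', rfl⟩ := hy
    obtain ⟨a, ha⟩ := exists_sub_mem_ker A B C hAC b
    refine ⟨a • y', ?_⟩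
    rw [map_smul]
    have h1 := ker_smul_cotangent B C _ ha (Ideal.mapCotangent (RingHom.ker (algebraMap A C))
      (RingHom.ker (algebraMap B C)) (Algebra.ofId A B) h y')
    rw [sub_smul, sub_eq_zero, algebraMap_smul] at h1
    exact h1.symm


/-- the `B`-span of the image of `I/I²` in `J/J²` -/
abbrev conormalW : Submodule B (RingHom.ker (algebraMap B C)).Cotangent :=
  Submodule.span B (Set.range (Ideal.mapCotangent (RingHom.ker (algebraMap A C))
      (RingHom.ker (algebraMap B C)) (Algebra.ofId A B) h))

/-- the derivation `B → (J/J²)/im(I/I²)`, as a function -/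
noncomputable def conormalDelta (b : B) :
    (RingHom.ker (algebraMap B C)).Cotangent ⧸ conormalW A B C h :=
  (conormalW A B C h).mkQ ((RingHom.ker (algebraMap B C)).toCotangent
    ⟨b - algebraMap A B (exists_sub_mem_ker A B C hAC b).choose,
      (exists_sub_mem_ker A B C hAC b).choose_spec⟩)

theorem conormalDelta_eq (b : B) (a : A)
    (ha : b - algebraMap A B a ∈ RingHom.ker (algebraMap B C)) :
    conormalDelta A B C hAC h b = (conormalW A B C h).mkQ
      ((RingHom.ker (algebraMap B C)).toCotangent ⟨b - algebraMap A B a, ha⟩) := by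
  set a₀ := (exists_sub_mem_ker A B C hAC b).choose with ha₀def
  have ha₀ : b - algebraMap A B a₀ ∈ RingHom.ker (algebraMap B C) :=
    (exists_sub_mem_ker A B C hAC b).choose_spec
  have hI : a - a₀ ∈ RingHom.ker (algebraMap A C) := by
    have := sub_mem ha₀ ha
    rw [RingHom.mem_ker] at this ⊢
    rw [IsScalarTower.algebraMap_apply A B C, ← this]
    congr 1
    rw [map_sub]
    ring
  unfold conormalDelta
  rw [← sub_eq_zero, ← map_sub, ← map_sub, Submodule.mkQ_apply, Submodule.Quotient.mk_eq_zero]
  apply Submodule.subset_span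
  refine ⟨(RingHom.ker (algebraMap A C)).toCotangent ⟨a - a₀, hI⟩, ?_⟩
  rw [Ideal.mapCotangent_toCotangent]
  congr 1
  apply Subtype.ext
  simp only [Algebra.ofId_apply, map_sub, AddSubgroupClass.coe_sub]
  ring

/-- the derivation `B → (J/J²)/im(I/I²)` -/
noncomputable def conormalDer :
    Derivation A B ((RingHom.ker (algebraMap B C)).Cotangent ⧸ conormalW A B C h) :=
  Derivation.mk'
    { toFun := conormalDelta A B C hAC h
      map_add' := by
        intro b₁ b₂
        obtain ⟨a₁, h₁⟩ := exists_sub_mem_ker A B C hAC b₁
        obtain ⟨a₂, h₂⟩ := exists_sub_mem_ker A B C hAC b₂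
        have h₁₂ : b₁ + b₂ - algebraMap A B (a₁ + a₂) ∈ RingHom.ker (algebraMap B C) := by
          have := add_mem h₁ h₂
          convert this using 1
          rw [map_add]; ring
        rw [conormalDelta_eq A B C hAC h _ _ h₁₂, conormalDelta_eq A B C hAC h _ _ h₁,
          conormalDelta_eq A B C hAC h _ _ h₂, ← map_add, ← map_add]
        congr 2
        apply Subtype.ext
        simp only [map_add, AddMemClass.mk_add_mk]
        ring
      map_smul' := by
        intro a₀ b
        obtain ⟨a, ha⟩ := exists_sub_mem_ker A B C hAC b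
        have h' : a₀ • b - algebraMap A B (a₀ * a) ∈ RingHom.ker (algebraMap B C) := by
          have := (RingHom.ker (algebraMap B C)).mul_mem_left (algebraMap A B a₀) ha
          convert this using 1
          rw [map_mul, Algebra.smul_def]; ring
        rw [RingHom.id_apply, conormalDelta_eq A B C hAC h _ _ h',
          conormalDelta_eq A B C hAC h _ _ ha]
        have e : a₀ • (conormalW A B C h).mkQ ((RingHom.ker (algebraMap B C)).toCotangent
            ⟨b - algebraMap A B a, ha⟩) = (conormalW A B C h).mkQ
            ((RingHom.ker (algebraMap B C)).toCotangent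
              (algebraMap A B a₀ • ⟨b - algebraMap A B a, ha⟩)) := by
          rw [map_smul, map_smul]
          exact (algebraMap_smul B a₀ _).symm
        rw [e]
        congr 2
        apply Subtype.ext
        simp only [map_mul, SetLike.mk_smul_mk, Algebra.smul_def, smul_eq_mul,
          Algebra.algebraMap_self, RingHom.id_apply]
        ring }
    (by
      intro b₁ b₂
      obtain ⟨a₁, h₁⟩ := exists_sub_mem_ker A B C hAC b₁
      obtain ⟨a₂, h₂⟩ := exists_sub_mem_ker A B C hAC b₂
      have h₁₂ : b₁ * b₂ - algebraMap A B (a₁ * a₂) ∈ RingHom.ker (algebraMap B C) := by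
        have := add_mem ((RingHom.ker (algebraMap B C)).mul_mem_left b₁ h₂)
          ((RingHom.ker (algebraMap B C)).mul_mem_left (algebraMap A B a₂) h₁)
        convert this using 1
        rw [map_mul]; ring
      change conormalDelta A B C hAC h (b₁ * b₂) =
        b₁ • conormalDelta A B C hAC h b₂ + b₂ • conormalDelta A B C hAC h b₁
      rw [conormalDelta_eq A B C hAC h _ _ h₁₂, conormalDelta_eq A B C hAC h _ _ h₁,
        conormalDelta_eq A B C hAC h _ _ h₂]
      have hkill := ker_smul_cotangent B C _ h₂
        ((RingHom.ker (algebraMap B C)).toCotangent ⟨b₁ - algebraMap A B a₁, h₁⟩)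
      rw [sub_smul, sub_eq_zero] at hkill
      have e1 : b₂ • (conormalW A B C h).mkQ ((RingHom.ker (algebraMap B C)).toCotangent
          ⟨b₁ - algebraMap A B a₁, h₁⟩) = (conormalW A B C h).mkQ
          ((RingHom.ker (algebraMap B C)).toCotangent
            (algebraMap A B a₂ • ⟨b₁ - algebraMap A B a₁, h₁⟩)) := by
        rw [← map_smul, hkill, ← map_smul]
      have e2 : b₁ • (conormalW A B C h).mkQ ((RingHom.ker (algebraMap B C)).toCotangent
          ⟨b₂ - algebraMap A B a₂, h₂⟩) = (conormalW A B C h).mkQ
          ((RingHom.ker (algebraMap B C)).toCotangent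
            (b₁ • ⟨b₂ - algebraMap A B a₂, h₂⟩)) := by
        rw [← map_smul, ← map_smul]
      rw [e1, e2, ← map_add, ← map_add]
      congr 2
      apply Subtype.ext
      simp only [map_mul, SetLike.mk_smul_mk, smul_eq_mul, AddMemClass.mk_add_mk]
      ring)

theorem conormalDer_apply_of_mem (x : B) (hx : x ∈ RingHom.ker (algebraMap B C)) :
    conormalDer A B C hAC h x = (conormalW A B C h).mkQ
      ((RingHom.ker (algebraMap B C)).toCotangent ⟨x, hx⟩) := by
  have h0 : x - algebraMap A B 0 ∈ RingHom.ker (algebraMap B C) := by simpa using hx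
  change conormalDelta A B C hAC h x = _
  rw [conormalDelta_eq A B C hAC h x 0 h0]
  congr 2
  apply Subtype.ext
  simp


include hAC in
theorem exact_mapCotangent_kerCotangentToTensor :
    Function.Exact (Ideal.mapCotangent (RingHom.ker (algebraMap A C))
      (RingHom.ker (algebraMap B C)) (Algebra.ofId A B) h)
      (KaehlerDifferential.kerCotangentToTensor A B C) := by
  have hBC : Function.Surjective (algebraMap B C) := by
    intro c
    obtain ⟨a, rfl⟩ := hAC c
    exact ⟨algebraMap A B a, (IsScalarTower.algebraMap_apply A B C a).symm⟩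
  intro y
  constructor
  · intro hy
    obtain ⟨instC, htower⟩ := exists_module_of_surjective (B := B) (C := C)
      (N := (RingHom.ker (algebraMap B C)).Cotangent ⧸ conormalW A B C h) hBC (fun b hb n => by
        obtain ⟨y', rfl⟩ := Submodule.Quotient.mk_surjective _ n
        rw [← Submodule.Quotient.mk_smul, ker_smul_cotangent B C b hb y']
        rfl)
    letI := instC
    haveI := htower
    let ℓ : Ω[B⁄A] →ₗ[B] (RingHom.ker (algebraMap B C)).Cotangent ⧸ conormalW A B C h :=
      (conormalDer A B C hAC h).liftKaehlerDifferential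
    obtain ⟨x, rfl⟩ := Ideal.toCotangent_surjective _ y
    have key : ℓ.liftBaseChange C (KaehlerDifferential.kerCotangentToTensor A B C
        ((RingHom.ker (algebraMap B C)).toCotangent x)) =
        (conormalW A B C h).mkQ ((RingHom.ker (algebraMap B C)).toCotangent x) := by
      rw [KaehlerDifferential.kerCotangentToTensor_toCotangent,
        LinearMap.liftBaseChange_one_tmul]
      change (conormalDer A B C hAC h).liftKaehlerDifferential (D A B x.1) = _
      rw [Derivation.liftKaehlerDifferential_comp_D,
        conormalDer_apply_of_mem A B C hAC h x.1 x.2]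
    rw [hy, map_zero] at key
    exact span_range_mapCotangent_le A B C hAC h _
      ((Submodule.Quotient.mk_eq_zero _).mp key.symm)
  · rintro ⟨z, rfl⟩
    obtain ⟨i, rfl⟩ := Ideal.toCotangent_surjective _ z
    rw [Ideal.mapCotangent_toCotangent, KaehlerDifferential.kerCotangentToTensor_toCotangent]
    simp [Algebra.ofId_apply]

end

end H14
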