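import Mathlib

set_option autoImplicit false
universe u

namespace H14.DerCrit

open TensorProduct KaehlerDifferential

section
variable {R P : Type u} [CommRing R] [CommRing P] [Algebra R P]

/-- division by a regular element `g` on the ideal `(g)`, landing in `P/(g)` -/
theorem exists_div (g : P) (hg : IsSMulRegular P g) :
    ∃ θ : (RingHom.ker (algebraMap P (P ⧸ Ideal.span {g}))) →ₗ[P] (P ⧸ Ideal.span {g}),
      ∀ (a : P) (h : a * g ∈ RingHom.ker (algebraMap P (P ⧸ Ideal.span {g}))),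
        θ ⟨a * g, h⟩ = Ideal.Quotient.mk _ a := by
  have hI : RingHom.ker (algebraMap P (P ⧸ Ideal.span {g})) = Ideal.span {g} := Ideal.mk_ker
  have hex : ∀ x : RingHom.ker (algebraMap P (P ⧸ Ideal.span {g})), ∃ a : P, a * g = x.1 := by
    intro x
    exact Ideal.mem_span_singleton'.1 (hI.le x.2)
  choose c hc using hex
  have hcancel : ∀ a b : P, a * g = b * g → a = b := by
    intro a b h
    apply hg
    simpa [mul_comm, smul_eq_mul] using h
  refine ⟨{ toFun := fun x => Ideal.Quotient.mk _ (c x), map_add' := ?_, map_smul' := ?_ }, ?_⟩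
  · intro x y
    rw [← map_add]
    congr 1
    apply hcancel
    rw [add_mul, hc, hc, hc]; rfl
  · intro r x
    simp only [RingHom.id_apply]
    rw [Algebra.smul_def]
    change _ = Ideal.Quotient.mk _ r * _
    rw [← map_mul]
    congr 1
    apply hcancel
    rw [mul_assoc, hc, hc]; rfl
  · intro a h
    show Ideal.Quotient.mk _ (c ⟨a * g, h⟩) = _
    congr 1
    apply hcancel
    rw [hc]

/-- Derivation criterion: for `P` formally smooth over `R` and `g` a regular element,
`P/(g)` is formally smooth over `R` iff some `R`-derivation `P → P/(g)` sends `g` to `1`. -/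
theorem fs_quot_iff [Algebra.FormallySmooth R P] (g : P) (hg : IsSMulRegular P g) :
    Algebra.FormallySmooth R (P ⧸ Ideal.span {g}) ↔
      ∃ δ : Derivation R P (P ⧸ Ideal.span {g}), δ g = 1 := by
  have surj : Function.Surjective (algebraMap P (P ⧸ Ideal.span {g})) :=
    Ideal.Quotient.mk_surjective
  have hI : RingHom.ker (algebraMap P (P ⧸ Ideal.span {g})) = Ideal.span {g} := Ideal.mk_ker
  have hgI : g ∈ RingHom.ker (algebraMap P (P ⧸ Ideal.span {g})) := by
    rw [hI]; exact Ideal.mem_span_singleton_self g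
  rw [Algebra.FormallySmooth.iff_split_injection surj]
  constructor
  · rintro ⟨l, hl⟩
    obtain ⟨θ, hθ⟩ := exists_div g hg
    -- θ kills I • ⊤
    have hker : (RingHom.ker (algebraMap P (P ⧸ Ideal.span {g})) •
        (⊤ : Submodule P (RingHom.ker (algebraMap P (P ⧸ Ideal.span {g}))))) ≤ LinearMap.ker θ := by
      rw [Submodule.smul_le]
      intro a ha x _
      rw [LinearMap.mem_ker, map_smul, Algebra.smul_def, RingHom.mem_ker.1 ha, zero_mul]
    let ψ : (RingHom.ker (algebraMap P (P ⧸ Ideal.span {g}))).Cotangent →ₗ[P] (P ⧸ Ideal.span {g}) :=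
      Submodule.liftQ _ θ hker
    have hψ : ∀ x, ψ (Ideal.toCotangent _ x) = θ x := fun x => rfl
    refine ⟨(ψ ∘ₗ l ∘ₗ (TensorProduct.mk P (P ⧸ Ideal.span {g}) Ω[P⁄R] 1)).compDer
      (KaehlerDifferential.D R P), ?_⟩
    have h1 : l ((1 : P ⧸ Ideal.span {g}) ⊗ₜ[P] (KaehlerDifferential.D R P g))
        = Ideal.toCotangent _ ⟨g, hgI⟩ := by
      exact LinearMap.congr_fun hl (Ideal.toCotangent _ ⟨g, hgI⟩)
    have h2 : θ ⟨g, hgI⟩ = 1 := by
      have := hθ 1 (by rw [one_mul]; exact hgI)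
      simpa using this
    change ψ (l ((1 : P ⧸ Ideal.span {g}) ⊗ₜ[P] (KaehlerDifferential.D R P g))) = 1
    rw [h1, hψ, h2]
  · rintro ⟨δ, hδ⟩
    -- χ : S → I/I², a ↦ a • [g]
    have hχker : (Ideal.span {g} : Submodule P P) ≤ LinearMap.ker
        (LinearMap.toSpanSingleton P _ (Ideal.toCotangent _ ⟨g, hgI⟩)) := by
      intro a ha
      obtain ⟨b, rfl⟩ := Ideal.mem_span_singleton'.1 ha
      rw [LinearMap.mem_ker, LinearMap.toSpanSingleton_apply, ← map_smul,
        Ideal.toCotangent_eq_zero]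
      change b * g * g ∈ _
      rw [pow_two, mul_assoc]
      exact Ideal.mul_mem_left _ _ (Ideal.mul_mem_mul hgI hgI)
    let χ : (P ⧸ Ideal.span {g}) →ₗ[P] (RingHom.ker (algebraMap P (P ⧸ Ideal.span {g}))).Cotangent :=
      Submodule.liftQ _ (LinearMap.toSpanSingleton P _ (Ideal.toCotangent _ ⟨g, hgI⟩)) hχker
    have hχ : ∀ a : P, χ (Ideal.Quotient.mk _ a) = a • Ideal.toCotangent _ ⟨g, hgI⟩ := fun a => rfl
    let lam : (P ⧸ Ideal.span {g}) ⊗[P] Ω[P⁄R] →ₗ[P] (P ⧸ Ideal.span {g}) :=
      (LinearMap.liftBaseChange (P ⧸ Ideal.span {g}) δ.liftKaehlerDifferential).restrictScalars P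
    have hlam : ∀ x : P, lam (1 ⊗ₜ KaehlerDifferential.D R P x) = δ x := by
      intro x
      simp [lam]
    refine ⟨χ ∘ₗ lam, ?_⟩
    ext x
    obtain ⟨x, rfl⟩ := Ideal.toCotangent_surjective _ x
    simp only [LinearMap.coe_comp, Function.comp_apply, kerCotangentToTensor_toCotangent,
      LinearMap.id_coe, id_eq]
    rw [hlam]
    obtain ⟨a, ha⟩ := Ideal.mem_span_singleton'.1 (hI.le x.2)
    have hx : x = a • (⟨g, hgI⟩ : RingHom.ker (algebraMap P (P ⧸ Ideal.span {g}))) := by
      ext; exact ha.symm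
    have hδx : δ x.1 = Ideal.Quotient.mk _ a := by
      rw [← ha, Derivation.leibniz, hδ, Algebra.smul_def, mul_one]
      have : g • δ a = 0 := by
        rw [Algebra.smul_def, RingHom.mem_ker.1 hgI, zero_mul]
      rw [this, add_zero]; rfl
    rw [hδx, hχ, hx, map_smul]

end

end H14.DerCrit
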