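import Mathlib
import Groth.Agent.Lib.helper20.SmoothReg
import Groth.Agent.Lib.helper5.RegLoc

set_option autoImplicit false
universe u

namespace H14.DerCrit

theorem isSMulRegular_of_irreducible {A : Type u} [CommRing A] [IsNoetherianRing A]
    (hdom : ∀ (m : Ideal A) [m.IsMaximal], IsDomain (Localization.AtPrime m))
    (s : A) (hs : Irreducible s) : IsSMulRegular A s := by
  let N : Ideal A := LinearMap.ker (LinearMap.mul A A s)
  have hN : ∀ a, a ∈ N ↔ s * a = 0 := fun a => by
    simp [N, LinearMap.mem_ker]
  have hidem : IsIdempotentElem N := by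
    refine le_antisymm Ideal.mul_le_right ?_
    intro a ha
    by_contra hcon
    let J : Ideal A := Submodule.comap (LinearMap.mulRight A a) (N * N)
    have hJ : ∀ x, x ∈ J ↔ x * a ∈ N * N := fun x => by simp [J]
    have hJne : J ≠ ⊤ := by
      intro h
      have : (1 : A) ∈ J := by rw [h]; trivial
      rw [hJ, one_mul] at this
      exact hcon this
    obtain ⟨m, hm, hJm⟩ := Ideal.exists_le_maximal J hJne
    haveI := hdom m
    have h0 : algebraMap A (Localization.AtPrime m) s * algebraMap A (Localization.AtPrime m) a = 0 := by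
      rw [← map_mul, (hN a).1 ha, map_zero]
    rcases mul_eq_zero.1 h0 with h | h
    · obtain ⟨u, hu⟩ := (IsLocalization.map_eq_zero_iff m.primeCompl _ _).1 h
      have huN : (u : A) ∈ N := by rw [hN, mul_comm]; exact hu
      have : (u : A) ∈ J := by rw [hJ]; exact Ideal.mul_mem_mul huN ha
      exact u.2 (hJm this)
    · obtain ⟨u, hu⟩ := (IsLocalization.map_eq_zero_iff m.primeCompl _ _).1 h
      have : (u : A) ∈ J := by rw [hJ, hu]; exact zero_mem _
      exact u.2 (hJm this)
  obtain ⟨ε, hε, hNε⟩ := (Ideal.isIdempotentElem_iff_of_fg N (IsNoetherian.noetherian N)).1 hidem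
  have hεN : ε ∈ N := by rw [hNε]; exact Ideal.mem_span_singleton_self ε
  have hεs : s * ε = 0 := (hN ε).1 hεN
  have hs1 : s = s * (1 - ε) := by rw [mul_sub, mul_one, hεs, sub_zero]
  have hu : IsUnit (1 - ε) := by
    rcases hs.isUnit_or_isUnit hs1 with h | h
    · exact absurd h hs.not_isUnit
    · exact h
  have hε0 : ε = 0 := by
    have : ε * (1 - ε) = 0 := by
      rw [mul_sub, mul_one, hε.eq, sub_self]
    exact (hu.mul_left_eq_zero).1 this
  intro a b hab
  have : a - b ∈ N := by
    rw [hN, mul_sub]
    simpa [smul_eq_mul, sub_eq_zero] using hab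
  rw [hNε, hε0, Ideal.mem_span_singleton'] at this
  obtain ⟨c, hc⟩ := this
  rw [mul_zero] at hc
  exact sub_eq_zero.1 hc.symm

theorem isSMulRegular_of_irreducible_of_smooth (k A : Type u) [Field k] [CommRing A] [Algebra k A]
    [Algebra.Smooth k A] (s : A) (hs : Irreducible s) : IsSMulRegular A s := by
  haveI : IsRegularRing A := Groth.Agent.Lib.helper20.SmoothReg.isRegularRing_of_smooth k A
  refine isSMulRegular_of_irreducible (fun m _ => ?_) s hs
  exact Groth.Agent.H5.RegLoc.isDomain _

end H14.DerCrit
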