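import Mathlib

set_option autoImplicit false
universe u

namespace H14.DerCrit

open Polynomial

noncomputable section main
variable {A : Type u} [CommRing A]

abbrev gpoly (s : A) (e : ℕ) : A[X] := X ^ e - C s
abbrev BB (s : A) (e : ℕ) := A[X] ⧸ Ideal.span {gpoly s e}
abbrev rt (s : A) (e : ℕ) : BB s e := Ideal.Quotient.mk _ X

variable (s : A) (e : ℕ)
variable (T : Type u) [CommRing T] [Algebra (BB s e) T] [Algebra A[X] T] [Algebra A T]
  [IsScalarTower A[X] (BB s e) T] [IsScalarTower A A[X] T]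

section
variable (hrt : algebraMap (BB s e) T (rt s e) = 0)
include hrt

theorem algebraMap_T_X : algebraMap A[X] T X = 0 := by
  rw [IsScalarTower.algebraMap_apply A[X] (BB s e) T]
  exact hrt

theorem algebraMap_T (p : A[X]) :
    algebraMap A[X] T p = algebraMap A T (p.eval 0) := by
  conv_lhs => rw [← X_mul_divX_add p]
  rw [map_add, map_mul, algebraMap_T_X s e T hrt, zero_mul, zero_add, coeff_zero_eq_eval_zero]
  rw [IsScalarTower.algebraMap_apply A A[X] T]; rfl

theorem smul_T (p : A[X]) (y : T) : p • y = (p.eval 0) • y := by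
  rw [Algebra.smul_def, Algebra.smul_def, algebraMap_T s e T hrt]

omit hrt in
theorem algebraMap_T_g : algebraMap A[X] T (gpoly s e) = 0 := by
  rw [IsScalarTower.algebraMap_apply A[X] (BB s e) T]
  have : algebraMap A[X] (BB s e) (gpoly s e) = 0 :=
    Ideal.Quotient.eq_zero_iff_mem.2 (Ideal.mem_span_singleton_self _)
  rw [this, map_zero]

theorem algebraMap_T_s (he : e ≠ 0) : algebraMap A T s = 0 := by
  have h1 : algebraMap A T s = algebraMap A[X] T (C s) := by
    rw [IsScalarTower.algebraMap_apply A A[X] T]; rfl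
  have h2 : (C s : A[X]) = X ^ e - gpoly s e := by simp [gpoly]
  rw [h1, h2, map_sub, map_pow, algebraMap_T_X s e T hrt, algebraMap_T_g, zero_pow he, sub_zero]

/-- `A/(s) → T`, `1 ↦ 1` -/
theorem exists_beta (he : e ≠ 0) :
    ∃ β : (A ⧸ Ideal.span {s}) →ₗ[A] T, β 1 = 1 := by
  have h : (Ideal.span {s} : Submodule A A) ≤ LinearMap.ker (Algebra.linearMap A T) := by
    intro a ha
    obtain ⟨b, rfl⟩ := Ideal.mem_span_singleton'.1 ha
    rw [LinearMap.mem_ker, Algebra.linearMap_apply, map_mul, algebraMap_T_s s e T hrt he, mul_zero]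
  refine ⟨Submodule.liftQ _ (Algebra.linearMap A T) h, ?_⟩
  change Algebra.linearMap A T 1 = 1
  simp

end

/-- `B/(root) → A/(s)`, `1 ↦ 1` -/
theorem exists_alpha (he : e ≠ 0) :
    ∃ α : (BB s e ⧸ Ideal.span {rt s e}) →ₗ[A] (A ⧸ Ideal.span {s}), α 1 = 1 := by
  let φ : A[X] →ₐ[A] (A ⧸ Ideal.span {s}) :=
    (Ideal.Quotient.mkₐ A (Ideal.span {s})).comp (aeval (0 : A))
  have hφg : ∀ a ∈ Ideal.span {gpoly s e}, φ a = 0 := by
    intro a ha
    obtain ⟨b, rfl⟩ := Ideal.mem_span_singleton'.1 ha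
    rw [map_mul]
    have : φ (gpoly s e) = 0 := by
      have h1 : aeval (0 : A) (gpoly s e) = -s := by simp [gpoly, he]
      change Ideal.Quotient.mk _ (aeval (0 : A) (gpoly s e)) = 0
      rw [h1, map_neg, neg_eq_zero]
      exact Ideal.Quotient.eq_zero_iff_mem.2 (Ideal.mem_span_singleton_self _)
    rw [this, mul_zero]
  let αB : BB s e →ₐ[A] (A ⧸ Ideal.span {s}) := Ideal.Quotient.liftₐ _ φ hφg
  have hαrt : ∀ b ∈ Ideal.span {rt s e}, αB b = 0 := by
    intro b hb
    obtain ⟨c, rfl⟩ := Ideal.mem_span_singleton'.1 hb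
    rw [map_mul]
    have : αB (rt s e) = 0 := by
      change φ X = 0
      simp [φ]
    rw [this, mul_zero]
  exact ⟨(Ideal.Quotient.liftₐ _ αB hαrt).toLinearMap, by simp⟩

section fwd
variable {k : Type u} [Field k] [Algebra k A] [Algebra k T] [IsScalarTower k A[X] T]
  [IsScalarTower k A T]

include T in
theorem forward (he : 2 ≤ e) (hrt : algebraMap (BB s e) T (rt s e) = 0)
    (α : T →ₗ[A] (A ⧸ Ideal.span {s})) (hα : α 1 = 1)
    (δ : Derivation k A[X] (BB s e)) (hδ : δ (gpoly s e) = 1) :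
    ∃ δ' : Derivation k A (A ⧸ Ideal.span {s}), δ' s = 1 := by
  let mT : BB s e →ₗ[A[X]] T := (IsScalarTower.toAlgHom A[X] (BB s e) T).toLinearMap
  have hmT : ∀ b, mT b = algebraMap (BB s e) T b := fun b => rfl
  let δT : Derivation k A[X] T := mT.compDer δ
  let δA : Derivation k A T := δT.compAlgebraMap A
  let δQ : Derivation k A (A ⧸ Ideal.span {s}) := α.compDer δA
  have h1 : δ (C s) = δ (X ^ e) - 1 := by
    have : δ (X ^ e) - δ (C s) = 1 := by rw [← map_sub]; exact hδ
    rw [← this]; abel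
  have h2 : mT (δ (X ^ e)) = 0 := by
    rw [Derivation.leibniz_pow, map_nsmul, map_smul, smul_T s e T hrt]
    have : ((X : A[X]) ^ (e - 1)).eval 0 = 0 := by
      rw [eval_pow, eval_X, zero_pow (by omega)]
    rw [this, zero_smul, smul_zero]
  have h3 : δQ s = -1 := by
    have h0 : δQ s = α (mT (δ (algebraMap A A[X] s))) := rfl
    rw [h0, ← C_eq_algebraMap]
    rw [h1, map_sub, h2, zero_sub, map_neg, hmT, map_one, hα]
  refine ⟨-δQ, ?_⟩
  rw [Derivation.neg_apply, h3, neg_neg]

end fwd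

section bwd
variable {k : Type u} [Field k] [Algebra k A] [Algebra k T] [IsScalarTower k A[X] T]
  [IsScalarTower k A T]

include T in
theorem backward [Algebra.FormallySmooth k A[X]] (he : 2 ≤ e) (hek : (e : k) ≠ 0)
    (hrt : algebraMap (BB s e) T (rt s e) = 0)
    (hsurj : Function.Surjective (algebraMap (BB s e) T))
    (hker : ∀ b, algebraMap (BB s e) T b = 0 → ∃ c, b = c * rt s e)
    (β : (A ⧸ Ideal.span {s}) →ₗ[A] T) (hβ : β 1 = 1)
    (δ' : Derivation k A (A ⧸ Ideal.span {s})) (hδ' : δ' s = 1) :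
    ∃ δ : Derivation k A[X] (BB s e), δ (gpoly s e) = 1 := by
  let mT : BB s e →ₗ[A[X]] T := (IsScalarTower.toAlgHom A[X] (BB s e) T).toLinearMap
  have hmT : ∀ b, mT b = algebraMap (BB s e) T b := fun b => rfl
  let δ'T : Derivation k A T := β.compDer δ'
  have hδ'T : δ'T s = 1 := by
    change β (δ' s) = 1
    rw [hδ', hβ]
  let ev : A[X] →ₗ[k] A := (aeval (0 : A) : A[X] →ₐ[A] A).toLinearMap.restrictScalars k
  have hev : ∀ p, ev p = p.eval 0 := fun p => by
    change aeval (0 : A) p = _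
    rw [coe_aeval_eq_eval]
  let δ'' : Derivation k A[X] T :=
    { toLinearMap := δ'T.toLinearMap ∘ₗ ev
      map_one_eq_zero' := by
        change δ'T (ev 1) = 0
        rw [hev, eval_one, Derivation.map_one_eq_zero]
      leibniz' := fun p q => by
        change δ'T (ev (p * q)) = p • δ'T (ev q) + q • δ'T (ev p)
        rw [hev, hev, hev, eval_mul, Derivation.leibniz, smul_T s e T hrt, smul_T s e T hrt] }
  have hδ''g : δ'' (gpoly s e) = -1 := by
    change δ'T (ev (gpoly s e)) = -1
    rw [hev]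
    have : (gpoly s e).eval 0 = -s := by simp [gpoly, show e ≠ 0 by omega]
    rw [this, map_neg, hδ'T]
  haveI : Module.Projective A[X] Ω[A[X]⁄k] := inferInstance
  obtain ⟨h, hh⟩ := Module.projective_lifting_property mT δ''.liftKaehlerDifferential hsurj
  let δ₂ : Derivation k A[X] (BB s e) := h.compDer (KaehlerDifferential.D k A[X])
  have hδ₂ : mT (δ₂ (gpoly s e)) = -1 := by
    change (mT ∘ₗ h) (KaehlerDifferential.D k A[X] (gpoly s e)) = -1
    rw [hh, Derivation.liftKaehlerDifferential_comp_D, hδ''g]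
  obtain ⟨c, hc⟩ := hker (δ₂ (gpoly s e) + 1) (by rw [← hmT, map_add, hδ₂, hmT, map_one, neg_add_cancel])
  have hc' : δ₂ (gpoly s e) = c * rt s e - 1 := by rw [← hc]; ring
  let dX : Derivation k A[X] (BB s e) :=
    ((Algebra.linearMap A[X] (BB s e)).compDer (derivative' : Derivation A A[X] A[X])).restrictScalars k
  have hdX : dX (gpoly s e) = (e : BB s e) * (rt s e) ^ (e - 1) := by
    change algebraMap A[X] (BB s e) (derivative (gpoly s e)) = _
    have hder : derivative (gpoly s e) = (e : A[X]) * X ^ (e - 1) := by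
      rw [show gpoly s e = X ^ e - C s from rfl, derivative_sub, derivative_C, sub_zero,
        derivative_X_pow, map_natCast (C : A →+* A[X])]
    rw [hder, map_mul, map_pow, map_natCast]
    rfl
  let u : BB s e := ∑ i ∈ Finset.range (e - 1), (c * rt s e) ^ i
  let w : BB s e := algebraMap k (BB s e) ((e : k)⁻¹) * c ^ (e - 1)
  refine ⟨(-u) • δ₂ + w • dX, ?_⟩
  rw [Derivation.add_apply, Derivation.smul_apply, Derivation.smul_apply, hc', hdX, smul_eq_mul,
    smul_eq_mul]
  have h1 : u * (1 - c * rt s e) = 1 - (c * rt s e) ^ (e - 1) := geom_sum_mul_neg _ _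
  have h2 : algebraMap k (BB s e) ((e : k)⁻¹) * (e : BB s e) = 1 := by
    rw [← map_natCast (algebraMap k (BB s e)), ← map_mul, inv_mul_cancel₀ hek, map_one]
  calc -u * (c * rt s e - 1) + w * ((e : BB s e) * rt s e ^ (e - 1))
      = u * (1 - c * rt s e) + (algebraMap k (BB s e) ((e : k)⁻¹) * (e : BB s e)) * (c * rt s e) ^ (e - 1) := by
        simp only [w]; ring
    _ = 1 := by rw [h1, h2]; ring

end bwd

end main

end H14.DerCrit
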