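import Mathlib
import Groth.Agent.Lib.helper14.DerCritA
import Groth.Agent.Lib.helper14.DerCritB
import Groth.Agent.Lib.helper14.DerCritC

set_option autoImplicit false
universe u

namespace H14.DerCrit

open Polynomial

theorem main (k A : Type u) [Field k] [CommRing A] [Algebra k A]
    [Algebra.Smooth k A] (s : A) (hs : Irreducible s) (e : ℕ) (he : 2 ≤ e) (hek : (e : k) ≠ 0) :
    Algebra.Smooth k (AdjoinRoot (Polynomial.X ^ e - Polynomial.C s)) ↔
      Algebra.Smooth k (A ⧸ Ideal.span {s}) := by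
  have hreg_s : IsSMulRegular A s := isSMulRegular_of_irreducible_of_smooth k A s hs
  have hmonic : (gpoly s e).Monic := monic_X_pow_sub_C s (by omega)
  have hreg_g : IsSMulRegular A[X] (gpoly s e) := hmonic.isRegular.left.isSMulRegular
  haveI : Algebra.FormallySmooth k A := Algebra.Smooth.formallySmooth
  haveI : Algebra.FinitePresentation k A := Algebra.Smooth.finitePresentation
  haveI : Algebra.FormallySmooth k A[X] := Algebra.FormallySmooth.comp k A A[X]
  haveI : Algebra.FinitePresentation k A[X] := Algebra.FinitePresentation.trans k A A[X]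
  haveI fpB : Algebra.FinitePresentation k (BB s e) :=
    Algebra.FinitePresentation.quotient (Submodule.fg_span_singleton _)
  haveI fpQ : Algebra.FinitePresentation k (A ⧸ Ideal.span {s}) :=
    Algebra.FinitePresentation.quotient (Submodule.fg_span_singleton _)
  change Algebra.Smooth k (BB s e) ↔ _
  have hB := fs_quot_iff (R := k) (gpoly s e) hreg_g
  have hQ := fs_quot_iff (R := k) s hreg_s
  have hrt : (algebraMap (BB s e) (BB s e ⧸ Ideal.span {rt s e}) : BB s e →+* BB s e ⧸ Ideal.span {rt s e}) (rt s e) = 0 :=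
    Ideal.Quotient.eq_zero_iff_mem.2 (Ideal.mem_span_singleton_self _)
  have hsurj : Function.Surjective (algebraMap (BB s e) (BB s e ⧸ Ideal.span {rt s e}) : BB s e →+* BB s e ⧸ Ideal.span {rt s e}) :=
    Ideal.Quotient.mk_surjective
  have hker : ∀ b, (algebraMap (BB s e) (BB s e ⧸ Ideal.span {rt s e}) : BB s e →+* BB s e ⧸ Ideal.span {rt s e}) b = 0 →
      ∃ c, b = c * rt s e := by
    intro b hb
    obtain ⟨c, hc⟩ := Ideal.mem_span_singleton'.1 (Ideal.Quotient.eq_zero_iff_mem.1 hb)
    exact ⟨c, hc.symm⟩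
  constructor
  · intro h
    haveI : Algebra.FormallySmooth k (BB s e) := h.formallySmooth
    obtain ⟨δ, hδ⟩ := hB.1 inferInstance
    obtain ⟨α, hα⟩ := exists_alpha s e (by omega)
    obtain ⟨δ', hδ'⟩ := forward s e (BB s e ⧸ Ideal.span {rt s e}) he hrt α hα δ hδ
    exact ⟨hQ.2 ⟨δ', hδ'⟩, fpQ⟩
  · intro h
    haveI : Algebra.FormallySmooth k (A ⧸ Ideal.span {s}) := h.formallySmooth
    obtain ⟨δ', hδ'⟩ := hQ.1 inferInstance
    obtain ⟨β, hβ⟩ := exists_beta s e (BB s e ⧸ Ideal.span {rt s e}) hrt (by omega)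
    obtain ⟨δ, hδ⟩ := backward s e (BB s e ⧸ Ideal.span {rt s e}) he hek hrt hsurj hker β hβ δ' hδ'
    exact ⟨hB.2 ⟨δ, hδ⟩, fpB⟩

end H14.DerCrit
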