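import Mathlib

set_option autoImplicit false
universe u

namespace H14.DerFin

open Polynomial

section
variable {R : Type u} [CommRing R] [IsDomain R] [IsIntegrallyClosed R] {K : Type u} [Field K]
  [Algebra R K] [IsFractionRing R K] (p : ℕ) [hp : Fact p.Prime] [CharP K p]
  (D : Derivation ℤ K K)
  {L : Type u} [Field L] [Algebra K L] [Algebra R L] [IsScalarTower R K L]

omit [IsDomain R] hp [CharP K p] in
/-- an element of `K` whose image in `L` is integral over `R` lies in `R` -/
theorem mem_of_isIntegral (c : K) (hc : IsIntegral R (algebraMap K L c)) :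
    c ∈ (algebraMap R K).range := by
  have h1 : IsIntegral R c := (isIntegral_algebraMap_iff (algebraMap K L).injective).1 hc
  exact IsIntegrallyClosed.isIntegral_iff.1 h1

omit [IsDomain R] [IsIntegrallyClosed R] [IsFractionRing R K] in
theorem isIntegral_of_mem (c : K) (hc : c ∈ (algebraMap R K).range) :
    IsIntegral R (algebraMap K L c) := by
  obtain ⟨r, rfl⟩ := hc
  rw [← IsScalarTower.algebraMap_apply]
  exact isIntegral_algebraMap

omit [IsDomain R] [IsIntegrallyClosed R] [IsFractionRing R K] [Algebra R K] hp in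
theorem D_pow_p (c : K) : D (c ^ p) = 0 := by
  rw [Derivation.leibniz_pow]
  have : (p : K) = 0 := CharP.cast_eq_zero K p
  rw [← Nat.cast_smul_eq_nsmul K, this, zero_smul]

omit [IsDomain R] [IsIntegrallyClosed R] [IsFractionRing R K] [Algebra R K] in
theorem pow_sum (a : K) (x : L) (hx : x ^ p = algebraMap K L a) (n : ℕ) (c : ℕ → K) :
    (∑ j ∈ Finset.range n, algebraMap K L (c j) * x ^ j) ^ p
      = algebraMap K L (∑ j ∈ Finset.range n, (c j) ^ p * a ^ j) := by
  haveI : CharP L p := charP_of_injective_algebraMap (algebraMap K L).injective p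
  rw [sum_pow_char, map_sum]
  refine Finset.sum_congr rfl fun j _ => ?_
  rw [mul_pow, ← pow_mul, mul_comm j p, pow_mul, hx, map_mul, map_pow, map_pow]

omit [IsDomain R] [IsIntegrallyClosed R] [IsFractionRing R K] [Algebra R K] hp in
theorem D_sum (a : K) (n : ℕ) (c : ℕ → K) :
    D (∑ j ∈ Finset.range (n+1), (c j) ^ p * a ^ j)
      = ∑ j ∈ Finset.range n, ((j + 1 : ℕ) : K) * (c (j+1)) ^ p * a ^ j * D a := by
  rw [map_sum, Finset.sum_range_succ']
  have h0 : D (c 0 ^ p * a ^ 0) = 0 := by rw [pow_zero, mul_one, D_pow_p p D]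
  rw [h0, add_zero]
  refine Finset.sum_congr rfl fun j _ => ?_
  rw [Derivation.leibniz, D_pow_p p D, smul_zero, add_zero, Derivation.leibniz_pow,
    Nat.add_sub_cancel, ← Nat.cast_smul_eq_nsmul K]
  simp only [smul_eq_mul]; ring

include hp in
theorem key (hD : ∀ r : R, ∃ s : R, D (algebraMap R K r) = algebraMap R K s)
    (a : K) (haR : a ∈ (algebraMap R K).range) (x : L) (hx : x ^ p = algebraMap K L a) :
    ∀ (i : ℕ), i < p → ∀ c : ℕ → K,
      IsIntegral R (∑ j ∈ Finset.range (i+1), algebraMap K L (c j) * x ^ j) →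
      ∀ j ∈ Finset.range (i+1), (D a)^i * c j ∈ (algebraMap R K).range := by
  have hDS : ∀ z ∈ (algebraMap R K).range, D z ∈ (algebraMap R K).range := by
    rintro _ ⟨r, rfl⟩; obtain ⟨s, hs⟩ := hD r; exact ⟨s, hs.symm⟩
  have hdS : D a ∈ (algebraMap R K).range := hDS a haR
  have hxint : IsIntegral R x := by
    refine IsIntegral.of_pow hp.out.pos ?_
    rw [hx]; exact isIntegral_of_mem a haR
  intro i
  induction i with
  | zero =>
    intro _ c hc j hj
    simp only [zero_add, Finset.range_one, Finset.mem_singleton] at hj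
    subst hj
    simp only [zero_add, Finset.range_one, Finset.sum_singleton, pow_zero, mul_one] at hc
    rw [pow_zero, one_mul]
    exact mem_of_isIntegral (c 0) hc
  | succ i ih =>
    intro hi c hc
    have hzS : (∑ j ∈ Finset.range (i+1+1), (c j) ^ p * a ^ j) ∈ (algebraMap R K).range := by
      apply mem_of_isIntegral (L := L)
      rw [← pow_sum p a x hx]
      exact hc.pow p
    have hDz := hDS _ hzS
    rw [D_sum p D a (i+1) c] at hDz
    have hc'int : IsIntegral R (∑ j ∈ Finset.range (i+1),
        algebraMap K L (((j+1 : ℕ) : K) * D a * c (j+1)) * x ^ j) := by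
      refine IsIntegral.of_pow hp.out.pos ?_
      rw [pow_sum p a x hx]
      apply isIntegral_of_mem
      have : ∑ j ∈ Finset.range (i+1), (((j+1 : ℕ) : K) * D a * c (j+1)) ^ p * a ^ j
          = (D a)^(p-1) * ∑ j ∈ Finset.range (i+1),
              ((j + 1 : ℕ) : K) * (c (j+1)) ^ p * a ^ j * D a := by
        rw [Finset.mul_sum]
        refine Finset.sum_congr rfl fun j _ => ?_
        have h1 : (((j+1 : ℕ) : K))^p = ((j+1 : ℕ) : K) := by
          have := map_natCast (frobenius K p) (j+1)
          rwa [frobenius_def] at this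
        have h2 : (D a)^p = (D a)^(p-1) * D a := by
          rw [← pow_succ, Nat.sub_add_cancel hp.out.one_le]
        rw [mul_pow, mul_pow, h1, h2]
        ring
      rw [this]
      exact Subring.mul_mem _ (Subring.pow_mem _ hdS _) hDz
    have ih' := ih (Nat.lt_of_succ_lt hi) (fun j => ((j+1 : ℕ) : K) * D a * c (j+1)) hc'int
    -- for j ≥ 1
    have hpos : ∀ j ∈ Finset.range (i+1), (D a)^(i+1) * c (j+1) ∈ (algebraMap R K).range := by
      intro j hj
      have h1 := ih' j hj
      have hjp : j + 1 < p := by
        have := Finset.mem_range.1 hj; omega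
      have hcop : Nat.Coprime (j+1) p :=
        Nat.Coprime.symm ((Nat.Prime.coprime_iff_not_dvd hp.out).2
          (Nat.not_dvd_of_pos_of_lt (Nat.succ_pos j) hjp))
      obtain ⟨m, -, hm⟩ := Nat.exists_mul_mod_eq_one_of_coprime hcop hp.out.one_lt
      have hmK : ((j+1 : ℕ) : K) * (m : K) = 1 := by
        rw [← Nat.cast_mul, CharP.cast_eq_mod K p, hm, Nat.cast_one]
      have : (D a)^(i+1) * c (j+1) = (m : K) * ((D a)^i * (((j+1 : ℕ) : K) * D a * c (j+1))) := by
        calc (D a)^(i+1) * c (j+1)
            = (((j+1 : ℕ) : K) * (m : K)) * ((D a)^(i+1) * c (j+1)) := by rw [hmK, one_mul]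
          _ = _ := by ring
      rw [this]
      exact Subring.mul_mem _ (natCast_mem _ m) h1
    intro j hj
    rcases Nat.eq_zero_or_pos j with rfl | hjpos
    · -- j = 0
      apply mem_of_isIntegral (L := L)
      have : algebraMap K L ((D a)^(i+1) * c 0)
          = algebraMap K L ((D a)^(i+1)) *
              (∑ j ∈ Finset.range (i+1+1), algebraMap K L (c j) * x ^ j)
            - ∑ j ∈ Finset.range (i+1), algebraMap K L ((D a)^(i+1) * c (j+1)) * x^(j+1) := by
        rw [Finset.sum_range_succ' _ (i+1), mul_add, Finset.mul_sum]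
        simp only [map_mul, pow_zero, mul_one, mul_assoc]
        ring
      rw [this]
      refine IsIntegral.sub (IsIntegral.mul (isIntegral_of_mem _ (Subring.pow_mem _ hdS _)) hc)
        (IsIntegral.sum _ fun j hj => ?_)
      exact IsIntegral.mul (isIntegral_of_mem _ (hpos j hj)) (hxint.pow _)
    · obtain ⟨j', rfl⟩ : ∃ j', j = j' + 1 := ⟨j - 1, by omega⟩
      exact hpos j' (Finset.mem_range.2 (by have := Finset.mem_range.1 hj; omega))

omit [IsDomain R] [IsIntegrallyClosed R] [IsFractionRing R K] [Algebra R K] [CharP K p] in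
include hp in
theorem exists_repr (a : K) (x : L) (hx : x ^ p = algebraMap K L a)
    (hgen : IntermediateField.adjoin K {x} = ⊤) (y : L) :
    ∃ c : ℕ → K, y = ∑ j ∈ Finset.range p, algebraMap K L (c j) * x ^ j := by
  have hxint : IsIntegral K x := by
    refine IsIntegral.of_pow hp.out.pos ?_
    rw [hx]; exact isIntegral_algebraMap
  have h1 := IntermediateField.adjoin_simple_toSubalgebra_of_isAlgebraic hxint.isAlgebraic
  rw [hgen, IntermediateField.top_toSubalgebra, Algebra.adjoin_singleton_eq_range_aeval] at h1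
  have hy : y ∈ (Polynomial.aeval x : K[X] →ₐ[K] L).range := by rw [← h1]; trivial
  obtain ⟨f, rfl⟩ := hy
  have hgm : (X ^ p - C a : K[X]).Monic := monic_X_pow_sub_C a hp.out.ne_zero
  have hroot : aeval x (X ^ p - C a : K[X]) = 0 := by simp [hx]
  have hdeg : (f %ₘ (X ^ p - C a : K[X])).natDegree < p := by
    have hne : (X ^ p - C a : K[X]) ≠ 1 := by
      intro h
      have := congrArg natDegree h
      rw [natDegree_X_pow_sub_C, natDegree_one] at this
      exact hp.out.ne_zero this
    have := natDegree_modByMonic_lt f hgm hne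
    rwa [natDegree_X_pow_sub_C] at this
  refine ⟨fun j => (f %ₘ (X ^ p - C a : K[X])).coeff j, ?_⟩
  change aeval x f = _
  rw [← aeval_modByMonic_eq_self_of_root hroot (p := f), aeval_eq_sum_range' hdeg]
  simp [Algebra.smul_def]

end

theorem main (R : Type u) [CommRing R]
    [IsDomain R] [IsNoetherianRing R] [IsIntegrallyClosed R] (K : Type u) [Field K] [Algebra R K]
    [IsFractionRing R K] (p : ℕ) [hp : Fact p.Prime] [CharP K p] (D : Derivation ℤ K K)
    (hD : ∀ r : R, ∃ s : R, D (algebraMap R K r) = algebraMap R K s) (a : K) (ha : D a ≠ 0)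
    (L : Type u) [Field L] [Algebra K L] [Algebra R L] [IsScalarTower R K L] (x : L)
    (hx : x ^ p = algebraMap K L a) (hgen : IntermediateField.adjoin K {x} = ⊤) :
    Module.Finite R (integralClosure R L) := by
  obtain ⟨r, f, hf, rfl⟩ := IsFractionRing.div_surjective (A := R) a
  have hfK : algebraMap R K f ≠ 0 := by
    intro h
    exact nonZeroDivisors.ne_zero hf ((IsFractionRing.injective R K) (by rw [h, map_zero]))
  have hx' : (algebraMap K L (algebraMap R K f) * x)^p
      = algebraMap K L ((algebraMap R K f)^p * (algebraMap R K r / algebraMap R K f)) := by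
    rw [mul_pow, hx, ← map_pow, ← map_mul]
  have ha'R : (algebraMap R K f)^p * (algebraMap R K r / algebraMap R K f)
      ∈ (algebraMap R K).range := by
    refine ⟨f^(p-1) * r, ?_⟩
    rw [map_mul, map_pow]
    have : (algebraMap R K f)^p = (algebraMap R K f)^(p-1) * algebraMap R K f := by
      rw [← pow_succ, Nat.sub_add_cancel hp.out.one_le]
    rw [this]
    field_simp
  have hDa' : D ((algebraMap R K f)^p * (algebraMap R K r / algebraMap R K f))
      = (algebraMap R K f)^p * D (algebraMap R K r / algebraMap R K f) := by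
    rw [Derivation.leibniz, D_pow_p p D, smul_zero, add_zero, smul_eq_mul]
  have hd : D ((algebraMap R K f)^p * (algebraMap R K r / algebraMap R K f)) ≠ 0 := by
    rw [hDa']; exact mul_ne_zero (pow_ne_zero _ hfK) ha
  generalize hx'' : algebraMap K L (algebraMap R K f) * x = x' at hx'
  generalize ha'' : (algebraMap R K f)^p * (algebraMap R K r / algebraMap R K f) = a' at hx' ha'R hd
  let N : Submodule R L := Submodule.span R
    (Set.range fun j : Fin p => algebraMap K L (((D a')^(p-1))⁻¹) * x'^(j : ℕ))
  have hN : N.FG := Submodule.fg_span (Set.finite_range _)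
  have hle : Subalgebra.toSubmodule (integralClosure R L) ≤ N := by
    intro y hy
    have hyint : IsIntegral R y := hy
    obtain ⟨c, hc⟩ := exists_repr p _ x hx hgen y
    have hc' : y = ∑ j ∈ Finset.range (p - 1 + 1),
        algebraMap K L (c j / (algebraMap R K f)^j) * x'^j := by
      rw [Nat.sub_add_cancel hp.out.one_le, hc]
      refine Finset.sum_congr rfl fun j _ => ?_
      rw [← hx'', mul_pow, ← mul_assoc, ← map_pow (algebraMap K L), ← map_mul,
        div_mul_cancel₀ _ (pow_ne_zero _ hfK)]
    rw [hc'] at hyint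
    have hk := key p D hD a' ha'R x' hx' (p-1) (Nat.sub_lt hp.out.pos one_pos) _ hyint
    rw [hc']
    refine Submodule.sum_mem _ fun j hj => ?_
    obtain ⟨s, hs⟩ := hk j hj
    have : algebraMap K L (c j / (algebraMap R K f)^j) * x'^j
        = s • (algebraMap K L (((D a')^(p-1))⁻¹) * x'^j) := by
      rw [Algebra.smul_def, IsScalarTower.algebraMap_apply R K L, hs, ← mul_assoc, ← map_mul]
      congr 2
      field_simp
    rw [this]
    refine Submodule.smul_mem _ _ (Submodule.subset_span ⟨⟨j, ?_⟩, rfl⟩)
    have := Finset.mem_range.1 hj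
    have := hp.out.one_le
    omega
  haveI : IsNoetherian R N := isNoetherian_of_fg_of_noetherian N hN
  haveI : IsNoetherian R (Subalgebra.toSubmodule (integralClosure R L)) := isNoetherian_of_le hle
  exact Module.IsNoetherian.finite R (Subalgebra.toSubmodule (integralClosure R L))

end H14.DerFin
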