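import Mathlib

/-!
# Flat modules over a local ring with nilpotent maximal ideal are free

* `H14.NilFree.eq_top_of_sup_smul_eq_top`: Nakayama for nilpotent ideals (no finiteness).
* `H14.NilFree.free_of_flat_of_nilpotent`: a flat module over a local ring with nilpotent maximal
  ideal is free (no finiteness).
* `H14.NilFree.isNilpotent_maximalIdeal_quotient`: `B/𝔟` has nilpotent maximal ideal if `𝔪^k ≤ 𝔟`.
-/

namespace H14.NilFree

open IsLocalRing TensorProduct Module

theorem eq_top_of_sup_smul_eq_top {R M : Type*} [CommRing R] [AddCommGroup M] [Module R M]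
    {I : Ideal R} (hI : IsNilpotent I) {N : Submodule R M}
    (h : N ⊔ I • (⊤ : Submodule R M) = ⊤) : N = ⊤ := by
  obtain ⟨n, hn⟩ := hI
  have key : ∀ j : ℕ, N ⊔ I ^ j • (⊤ : Submodule R M) = ⊤ := by
    intro j
    induction j with
    | zero => simp
    | succ j ih =>
      rw [eq_top_iff]
      calc (⊤ : Submodule R M) = N ⊔ I • (⊤ : Submodule R M) := h.symm
        _ = N ⊔ I • (N ⊔ I ^ j • (⊤ : Submodule R M)) := by rw [ih]
        _ = N ⊔ (I • N ⊔ I • (I ^ j • (⊤ : Submodule R M))) := by rw [Submodule.smul_sup]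
        _ ≤ N ⊔ I ^ (j + 1) • (⊤ : Submodule R M) := by
          refine sup_le le_sup_left (sup_le (Submodule.smul_le_right.trans le_sup_left) ?_)
          rw [← Submodule.mul_smul, ← pow_succ']
          exact le_sup_right
  have := key n
  rw [hn, Submodule.zero_eq_bot, Submodule.bot_smul, sup_bot_eq] at this
  exact this

variable {R M : Type*} [CommRing R] [IsLocalRing R] [AddCommGroup M] [Module R M]

theorem eq_top_of_map_tensorProduct_mk_eq_top (hnil : IsNilpotent (maximalIdeal R))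
    {N : Submodule R M} (hN : N.map (TensorProduct.mk R (ResidueField R) M 1) = ⊤) : N = ⊤ := by
  apply eq_top_of_sup_smul_eq_top hnil
  rw [eq_top_iff]
  intro x _
  have hx : TensorProduct.mk R (ResidueField R) M 1 x ∈
      N.map (TensorProduct.mk R (ResidueField R) M 1) := by rw [hN]; trivial
  obtain ⟨n, hn, hnx⟩ := hx
  have h1 : x - n ∈ LinearMap.ker (TensorProduct.mk R (R ⧸ maximalIdeal R) M 1) := by
    rw [LinearMap.mem_ker, map_sub]
    exact sub_eq_zero.mpr hnx.symm
  rw [LinearMap.ker_tensorProductMk] at h1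
  have : x = n + (x - n) := by abel
  rw [this]
  exact Submodule.add_mem_sup hn h1

theorem span_eq_top_of_tmul_eq_basis (hnil : IsNilpotent (maximalIdeal R)) {ι}
    (f : ι → M) (b : Basis ι (ResidueField R) ((ResidueField R) ⊗[R] M))
    (hb : ∀ i, 1 ⊗ₜ f i = b i) : Submodule.span R (Set.range f) = ⊤ := by
  apply eq_top_of_map_tensorProduct_mk_eq_top hnil
  rw [Submodule.map_span, ← Submodule.restrictScalars_span R (ResidueField R)
    Ideal.Quotient.mk_surjective, Submodule.restrictScalars_eq_top_iff,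
    ← b.span_eq, ← Set.range_comp]
  simp only [Function.comp_def, mk_apply, hb, Basis.span_eq]

theorem free_of_flat_of_nilpotent [Module.Flat R M] (hnil : IsNilpotent (maximalIdeal R)) :
    Module.Free R M :=
  let w := Free.chooseBasis (ResidueField R) ((ResidueField R) ⊗[R] M)
  have ⟨v, eq⟩ := (TensorProduct.mk_surjective R M (ResidueField R)
    Ideal.Quotient.mk_surjective).comp_left w
  .of_basis <| .mk (IsLocalRing.linearIndependent_of_flat _ (eq ▸ w.linearIndependent)) <| by
    exact (span_eq_top_of_tmul_eq_basis hnil _ w <| congr_fun eq).ge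

omit [IsLocalRing R] in
theorem isNilpotent_maximalIdeal_quotient [IsLocalRing R] (𝔟 : Ideal R) [IsLocalRing (R ⧸ 𝔟)]
    (hpow : ∃ k : ℕ, maximalIdeal R ^ k ≤ 𝔟) : IsNilpotent (maximalIdeal (R ⧸ 𝔟)) := by
  obtain ⟨k, hk⟩ := hpow
  refine ⟨k, ?_⟩
  have h1 : maximalIdeal (R ⧸ 𝔟) ≤ (maximalIdeal R).map (Ideal.Quotient.mk 𝔟) := by
    intro x hx
    obtain ⟨b, rfl⟩ := Ideal.Quotient.mk_surjective x
    apply Ideal.mem_map_of_mem
    rw [mem_maximalIdeal, mem_nonunits_iff] at hx ⊢
    exact fun hb => hx (hb.map _)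
  rw [Ideal.zero_eq_bot, eq_bot_iff]
  calc maximalIdeal (R ⧸ 𝔟) ^ k ≤ ((maximalIdeal R).map (Ideal.Quotient.mk 𝔟)) ^ k :=
        Ideal.pow_right_mono h1 k
    _ = ((maximalIdeal R) ^ k).map (Ideal.Quotient.mk 𝔟) := (Ideal.map_pow _ _ _).symm
    _ ≤ 𝔟.map (Ideal.Quotient.mk 𝔟) := Ideal.map_mono hk
    _ = ⊥ := Ideal.map_quotient_self _

end H14.NilFree
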