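import Mathlib
import Groth.Agent.Lib.helper14.CohenSmooth
import Groth.Agent.Lib.helper14.NilFree

set_option autoImplicit false
universe u

namespace H14.FProj

open IsLocalRing

/-- a flat algebra `B` over a local ring `A`, with the `𝔪_A B`-adic topology, is a formally
projective `A`-module -/
theorem formallyProjective_of_flat {A B : Type u} [CommRing A] [IsLocalRing A] [CommRing B]
    [Algebra A B] [Module.Flat A B] (𝔟 : Ideal B)
    (h𝔟 : 𝔟 = (maximalIdeal A).map (algebraMap A B))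
    (n : ℕ) (P Q : Type u) [AddCommGroup P] [Module A P] [AddCommGroup Q] [Module A Q]
    (hP : ∀ a ∈ (maximalIdeal A) ^ n, ∀ y : P, a • y = 0)
    (hQ : ∀ a ∈ (maximalIdeal A) ^ n, ∀ y : Q, a • y = 0)
    (f : P →ₗ[A] Q) (hf : Function.Surjective f) (v : B →ₗ[A] Q)
    (hv : ∃ m : ℕ, ∀ x ∈ 𝔟 ^ m, v x = 0) :
    ∃ w : B →ₗ[A] P, (∃ m : ℕ, ∀ x ∈ 𝔟 ^ m, w x = 0) ∧ f ∘ₗ w = v := by
  classical
  obtain ⟨m, hm⟩ := hv
  obtain ⟨N, hN⟩ : ∃ N, N = max n m + 1 := ⟨_, rfl⟩
  obtain ⟨I, hI⟩ : ∃ I : Ideal A, I = maximalIdeal A ^ N := ⟨_, rfl⟩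
  have hIn : I ≤ maximalIdeal A ^ n := by
    rw [hI]; exact Ideal.pow_le_pow_right (by omega)
  have hPI : Module.IsTorsionBySet A P I := fun y a => hP a (hIn a.2) y
  have hQI : Module.IsTorsionBySet A Q I := fun y a => hQ a (hIn a.2) y
  letI := hPI.module
  letI := hQI.module
  obtain ⟨J, hJdef⟩ : ∃ J : Ideal B, J = I.map (algebraMap A B) := ⟨_, rfl⟩
  have hJ : J = 𝔟 ^ N := by rw [hJdef, hI, h𝔟, ← Ideal.map_pow]
  have hIJ : I ≤ J.comap (algebraMap A B) := by rw [hJdef]; exact Ideal.le_comap_map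
  letI : Algebra (A ⧸ I) (B ⧸ J) := (Ideal.quotientMap J (algebraMap A B) hIJ).toAlgebra
  haveI : IsScalarTower A (A ⧸ I) (B ⧸ J) := IsScalarTower.of_algebraMap_eq (fun r => rfl)
  haveI : Module.Flat (A ⧸ I) (B ⧸ J) := H14.CohenSmooth.flat_quotient I J hJdef
  have hItop : I ≠ ⊤ := by
    intro h
    have h1 : I ≤ maximalIdeal A := by
      rw [hI, hN]
      exact Ideal.pow_le_self (by omega)
    exact (maximalIdeal.isMaximal A).ne_top (top_le_iff.mp (h ▸ h1))
  haveI : Nontrivial (A ⧸ I) := Ideal.Quotient.nontrivial_iff.mpr hItop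
  haveI : IsLocalRing (A ⧸ I) :=
    IsLocalRing.of_surjective' (Ideal.Quotient.mk I) Ideal.Quotient.mk_surjective
  have hnil : IsNilpotent (maximalIdeal (A ⧸ I)) :=
    H14.NilFree.isNilpotent_maximalIdeal_quotient I ⟨N, by rw [hI]⟩
  haveI : Module.Free (A ⧸ I) (B ⧸ J) := H14.NilFree.free_of_flat_of_nilpotent hnil
  let f' : P →ₗ[A ⧸ I] Q :=
    { toFun := f
      map_add' := f.map_add
      map_smul' := by
        intro r y
        obtain ⟨a, rfl⟩ := Ideal.Quotient.mk_surjective r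
        exact f.map_smul a y }
  have hvJ : ∀ x ∈ J, v x = 0 := by
    intro x hx
    apply hm
    rw [hJ] at hx
    exact Ideal.pow_le_pow_right (by omega) hx
  let v₀ : B ⧸ J →ₗ[A] Q :=
    (Submodule.liftQ (J.restrictScalars A) v (fun x hx => hvJ x hx)).comp
      (Submodule.Quotient.restrictScalarsEquiv A J).symm.toLinearMap
  have hv₀ : ∀ b : B, v₀ (Ideal.Quotient.mk J b) = v b := by
    intro b
    rfl
  let v' : B ⧸ J →ₗ[A ⧸ I] Q :=
    { toFun := v₀
      map_add' := v₀.map_add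
      map_smul' := by
        intro r y
        obtain ⟨a, rfl⟩ := Ideal.Quotient.mk_surjective r
        have h1 : (Ideal.Quotient.mk I a) • y = a • y := algebraMap_smul (A ⧸ I) a y
        rw [h1]
        exact v₀.map_smul a y }
  obtain ⟨w', hw'⟩ := Module.projective_lifting_property f' v' hf
  let w : B →ₗ[A] P :=
    { toFun := fun b => w' (Ideal.Quotient.mk J b)
      map_add' := fun b b' => by rw [map_add, map_add]
      map_smul' := by
        intro a b
        have h1 : Ideal.Quotient.mk J (a • b) = (Ideal.Quotient.mk I a) • Ideal.Quotient.mk J b := by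
          rw [Algebra.smul_def, map_mul]
          rfl
        rw [h1, w'.map_smul]
        rfl }
  refine ⟨w, ⟨N, fun x hx => ?_⟩, ?_⟩
  · have : Ideal.Quotient.mk J x = 0 := Ideal.Quotient.eq_zero_iff_mem.mpr (by rw [hJ]; exact hx)
    change w' (Ideal.Quotient.mk J x) = 0
    rw [this, map_zero]
  · ext b
    have := congrArg (fun φ => φ (Ideal.Quotient.mk J b)) hw'
    exact this

end H14.FProj
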