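import Mathlib
import Groth.Prelude.Def_EGA41

/-!
# Lifting along surjections with nilpotent kernel for `EGA41.IsFormallySmoothAdic`
-/

universe u

namespace H14.FSAdic

theorem lift_of_surjective {A B C C' : Type u} [CommRing A] [CommRing B] [CommRing C] [CommRing C']
    [Algebra A B] [Algebra A C] [Algebra A C'] {𝔞 : Ideal A} {𝔟 : Ideal B}
    (h : EGA41.IsFormallySmoothAdic A 𝔞 B 𝔟) (p : C →ₐ[A] C') (hp : Function.Surjective p)
    (hnil : IsNilpotent (RingHom.ker p.toRingHom))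
    (hC : ∃ k : ℕ, (𝔞 ^ k).map (algebraMap A C) = ⊥)
    (u : B →ₐ[A] C') (hu : ∃ k : ℕ, ∀ x ∈ 𝔟 ^ k, u x = 0) :
    ∃ v : B →ₐ[A] C, p.comp v = u := by
  let ε : (C ⧸ RingHom.ker p.toRingHom) ≃ₐ[A] C' := Ideal.quotientKerAlgEquivOfSurjective hp
  have hεmk : ∀ c : C, ε (Ideal.Quotient.mk _ c) = p c := fun c => rfl
  let u' : B →ₐ[A] C ⧸ RingHom.ker p.toRingHom := (ε.symm : C' →ₐ[A] _).comp u
  have hu' : ∀ b, ε (u' b) = u b := by
    intro b
    change ε (ε.symm (u b)) = _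
    rw [AlgEquiv.apply_symm_apply]
  obtain ⟨k, hk⟩ := hu
  have hu'kill : ∀ x ∈ 𝔟 ^ k, u' x = 0 := by
    intro x hx
    apply ε.injective
    rw [hu', hk x hx, map_zero]
  obtain ⟨v, hv⟩ := h C (RingHom.ker p.toRingHom) hnil hC u' ⟨k, hu'kill⟩
  refine ⟨v, ?_⟩
  ext b
  have := congrArg (fun φ => ε (φ b)) hv
  simp only [AlgHom.comp_apply, Ideal.Quotient.mkₐ_eq_mk] at this
  rw [hεmk, hu'] at this
  exact this

end H14.FSAdic
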