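import Mathlib

set_option autoImplicit false
universe u

namespace H14.PSurj

open MvPowerSeries

/-- evaluation homomorphism from a power series ring to a complete ring, and its surjectivity -/
theorem exists_surjective {Λ R : Type u} [CommRing Λ] [CommRing R] (I : Ideal R)
    [IsAdicComplete I R] (n : ℕ) (t : Fin n → R) (ht : Ideal.span (Set.range t) = I)
    (σ : Λ →+* R) (hσ : Function.Surjective ((Ideal.Quotient.mk I).comp σ)) :
    ∃ f : MvPowerSeries (Fin n) Λ →+* R, Function.Surjective f ∧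
      (∀ a, f (MvPowerSeries.C a) = σ a) ∧ ∀ i, f (MvPowerSeries.X i) = t i := by
  classical
  let g : MvPolynomial (Fin n) Λ →+* R := MvPolynomial.eval₂Hom σ t
  let I₀ : Ideal (MvPolynomial (Fin n) Λ) := MvPolynomial.idealOfVars (Fin n) Λ
  have hg1 : I₀ ≤ I.comap g := by
    change Ideal.span _ ≤ _
    rw [Ideal.span_le]
    rintro _ ⟨i, rfl⟩
    change g (MvPolynomial.X i) ∈ I
    rw [← ht]
    have : g (MvPolynomial.X i) = t i := by simp [g]
    rw [this]
    exact Ideal.subset_span ⟨i, rfl⟩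
  have hgk : ∀ k : ℕ, I₀ ^ k ≤ (I ^ k).comap g := by
    intro k
    rw [← Ideal.map_le_iff_le_comap, Ideal.map_pow]
    exact Ideal.pow_right_mono (Ideal.map_le_iff_le_comap.mpr hg1) k
  let fk : (k : ℕ) → MvPowerSeries (Fin n) Λ →+* R ⧸ I ^ k := fun k =>
    (Ideal.quotientMap (I ^ k) g (hgk k)).comp (truncTotalAlgHom (Fin n) Λ k).toRingHom
  have hfk : ∀ (k : ℕ) (ps : MvPowerSeries (Fin n) Λ),
      fk k ps = Ideal.Quotient.mk (I ^ k) (g (truncTotal k ps)) := by
    intro k ps
    rfl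
  have hcompat : ∀ {m k : ℕ} (hle : m ≤ k),
      (Ideal.Quotient.factorPow I hle).comp (fk k) = fk m := by
    intro m k hle
    ext ps
    rw [RingHom.comp_apply, hfk, hfk, Ideal.Quotient.factor_mk, Ideal.Quotient.eq, ← map_sub]
    exact hgk m (truncTotal_sub_truncTotal_mem_pow_idealOfVars hle (le_refl m) ps)
  let f : MvPowerSeries (Fin n) Λ →+* R := IsAdicComplete.liftRingHom I fk hcompat
  have hf : ∀ (k : ℕ) (ps : MvPowerSeries (Fin n) Λ),
      Ideal.Quotient.mk (I ^ k) (f ps) = Ideal.Quotient.mk (I ^ k) (g (truncTotal k ps)) := by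
    intro k ps
    rw [IsAdicComplete.mk_liftRingHom, hfk]
  have hsep : ∀ x y : R, (∀ k, Ideal.Quotient.mk (I ^ k) x = Ideal.Quotient.mk (I ^ k) y) →
      x = y := by
    intro x y h
    rw [← sub_eq_zero]
    apply IsHausdorff.haus (IsAdicComplete.toIsHausdorff (I := I) (M := R))
    intro k
    rw [SModEq.zero, smul_eq_mul, Ideal.mul_top, ← Ideal.Quotient.eq]
    exact h k
  have hcoe : ∀ q : MvPolynomial (Fin n) Λ, f (q : MvPowerSeries (Fin n) Λ) = g q := by
    intro q
    apply hsep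
    intro k
    rw [hf, Ideal.Quotient.eq, ← map_sub]
    apply hgk k
    rw [MvPolynomial.mem_pow_idealOfVars_iff']
    intro x hx
    rw [MvPolynomial.coeff_sub, sub_eq_zero, coeff_truncTotal _ hx, MvPolynomial.coeff_coe]
  have hC : ∀ a, f (MvPowerSeries.C a) = σ a := by
    intro a
    rw [← MvPolynomial.coe_C, hcoe]
    simp [g]
  have hX : ∀ i, f (MvPowerSeries.X i) = t i := by
    intro i
    rw [← MvPolynomial.coe_X, hcoe]
    simp [g]
  refine ⟨f, ?_, hC, hX⟩
  have hmap : (Ideal.span (Set.range (MvPowerSeries.X : Fin n → MvPowerSeries (Fin n) Λ))).map f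
      = I := by
    rw [Ideal.map_span, ← Set.range_comp, ← ht]
    congr 2
    ext i
    exact hX i
  haveI : IsHausdorff ((Ideal.span (Set.range
      (MvPowerSeries.X : Fin n → MvPowerSeries (Fin n) Λ))).map f) R := by
    rw [hmap]
    exact IsAdicComplete.toIsHausdorff
  apply surjective_of_mk_map_comp_surjective
    (I := Ideal.span (Set.range (MvPowerSeries.X : Fin n → MvPowerSeries (Fin n) Λ))) f
  intro y
  obtain ⟨r, rfl⟩ := Ideal.Quotient.mk_surjective y
  obtain ⟨a, ha⟩ := hσ (Ideal.Quotient.mk I r)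
  refine ⟨MvPowerSeries.C a, ?_⟩
  rw [RingHom.comp_apply, hC]
  rw [RingHom.comp_apply, Ideal.Quotient.eq] at ha
  rw [Ideal.Quotient.eq, hmap]
  exact ha

end H14.PSurj
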