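import Mathlib

set_option autoImplicit false
universe u

namespace Groth.Agent.H14

open TensorProduct

/-- MacLane: over a geometrically reduced field extension, `p`-th powers of linearly
independent elements stay linearly independent. -/
theorem linearIndepOn_pow_of_isGeometricallyReduced {k K : Type*} [Field k] [Field K] [Algebra k K]
    (p : ℕ) (hp : p.Prime) [ExpChar k p] [Algebra.IsGeometricallyReduced k K] (s : Finset K)
    (hs : LinearIndepOn k id (s : Set K)) : LinearIndepOn k (· ^ p) (s : Set K) := by
  classical
  rw [linearIndepOn_finset_iff]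
  intro c hc x hx
  have hroot : ∀ a : k, ∃ z : AlgebraicClosure k, z ^ p = algebraMap k (AlgebraicClosure k) a :=
    fun a => IsAlgClosed.exists_pow_nat_eq _ hp.pos
  choose d hd using hroot
  have hinjK : Function.Injective
      (Algebra.TensorProduct.includeRight : K →ₐ[k] AlgebraicClosure k ⊗[k] K) :=
    Algebra.TensorProduct.includeRight_injective (RingHom.injective _)
  haveI : Nontrivial (AlgebraicClosure k ⊗[k] K) := hinjK.nontrivial
  haveI : ExpChar (AlgebraicClosure k ⊗[k] K) p :=
    expChar_of_injective_algebraMap (algebraMap k (AlgebraicClosure k ⊗[k] K)).injective p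
  set θ : AlgebraicClosure k ⊗[k] K := ∑ y ∈ s, d (c y) ⊗ₜ[k] y with hθdef
  have hθp : θ ^ p = 0 := by
    rw [hθdef, sum_pow_char]
    have : ∀ y ∈ s, (d (c y) ⊗ₜ[k] y) ^ p = (1 : AlgebraicClosure k) ⊗ₜ[k] (c y • y ^ p) := by
      intro y _
      rw [Algebra.TensorProduct.tmul_pow, hd, Algebra.algebraMap_eq_smul_one, TensorProduct.smul_tmul]
    rw [Finset.sum_congr rfl this, ← TensorProduct.tmul_sum, hc, TensorProduct.tmul_zero]
  have hθ : θ = 0 := IsReduced.eq_zero _ ⟨p, hθp⟩
  have hli : LinearIndependent (AlgebraicClosure k)
      (fun y : (s : Set K) => (1 : AlgebraicClosure k) ⊗ₜ[k] (id (y : K))) :=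
    Module.Flat.linearIndependent_one_tmul hs
  rw [Fintype.linearIndependent_iff] at hli
  have h0 := hli (fun y => d (c y)) (by
    have : ∑ y : (s : Set K), d (c y) • ((1 : AlgebraicClosure k) ⊗ₜ[k] (id (y : K))) = θ := by
      rw [hθdef]
      have h1 : ∀ y : K, d (c y) • ((1 : AlgebraicClosure k) ⊗ₜ[k] (id y)) = d (c y) ⊗ₜ[k] y := by
        intro y
        rw [TensorProduct.smul_tmul', smul_eq_mul, mul_one, id]
      simp only [h1]
      exact Finset.sum_coe_sort s (fun y => d (c y) ⊗ₜ[k] y)
    rw [this, hθ]) ⟨x, hx⟩
  have h1 : d (c x) = 0 := h0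
  have h2 := hd (c x)
  rw [h1, zero_pow hp.ne_zero] at h2
  exact (map_eq_zero_iff _ (algebraMap k (AlgebraicClosure k)).injective).mp h2.symm

/-- A finitely generated, geometrically reduced field extension is separably generated. -/
theorem exists_isTranscendenceBasis_and_isSeparable_of_isGeometricallyReduced
    (k K : Type*) [Field k] [Field K] [Algebra k K] [Algebra.EssFiniteType k K]
    [Algebra.IsGeometricallyReduced k K] :
    ∃ s : Finset K, IsTranscendenceBasis k ((↑) : s → K) ∧
      Algebra.IsSeparable (IntermediateField.adjoin k (s : Set K)) K := by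
  obtain _ | ⟨p, hp, hpk⟩ := CharP.exists' k
  · haveI : PerfectField k := PerfectField.ofCharZero
    exact exists_isTranscendenceBasis_and_isSeparable_of_perfectField k K
  · haveI : ExpChar k p := .prime hp.out
    exact exists_isTranscendenceBasis_and_isSeparable_of_linearIndepOn_pow_of_essFiniteType
      p hp.out (fun s hs => linearIndepOn_pow_of_isGeometricallyReduced p hp.out s hs)

/-- A finitely generated, geometrically reduced field extension is formally smooth. -/
theorem formallySmooth_of_isGeometricallyReduced
    (k K : Type*) [Field k] [Field K] [Algebra k K] [Algebra.EssFiniteType k K]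
    [Algebra.IsGeometricallyReduced k K] : Algebra.FormallySmooth k K := by
  obtain ⟨s, hs, H⟩ := exists_isTranscendenceBasis_and_isSeparable_of_isGeometricallyReduced k K
  have : Algebra.IsSeparable (↥(IntermediateField.adjoin k (Set.range ((↑) : s → K)))) K := by
    convert! H <;> simp
  exact .of_algebraicIndependent_of_isSeparable hs.1

end Groth.Agent.H14
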