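import Mathlib

set_option autoImplicit false
universe u

namespace H14.SG

open TensorProduct

/-- a separable algebraic field extension stays reduced after any field base change -/
theorem isReduced_tensor_of_isSeparable (F Ω K : Type*) [Field F] [Field Ω] [Field K]
    [Algebra F Ω] [Algebra F K] [Algebra.IsSeparable F K] : IsReduced (Ω ⊗[F] K) := by
  apply IsReduced.tensorProduct_of_flat_of_forall_fg
  intro B hB
  obtain ⟨s, rfl⟩ := hB
  have halg : ∀ x ∈ (s : Set K), IsAlgebraic F x := fun x _ =>
    (Algebra.IsSeparable.isSeparable F x).isIntegral.isAlgebraic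
  have hE := IntermediateField.adjoin_toSubalgebra_of_isAlgebraic halg
  rw [← hE]
  haveI : Algebra.IsSeparable F (IntermediateField.adjoin F (s : Set K)) :=
    Algebra.isSeparable_tower_bot_of_isSeparable F _ K
  haveI : Algebra.FormallyUnramified F (IntermediateField.adjoin F (s : Set K)) :=
    Algebra.FormallyUnramified.of_isSeparable F _
  haveI : FiniteDimensional F (IntermediateField.adjoin F (s : Set K)) :=
    IntermediateField.finiteDimensional_adjoin fun x _ =>
      (Algebra.IsSeparable.isSeparable F x).isIntegral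
  change IsReduced (Ω ⊗[F] (IntermediateField.adjoin F (s : Set K)))
  exact Algebra.FormallyUnramified.isReduced_of_field Ω
    (Ω ⊗[F] (IntermediateField.adjoin F (s : Set K)))

theorem repr_map_tmul {F A A' K ι : Type*} [Field F] [CommRing A] [Algebra F A] [CommRing A']
    [Algebra F A'] [Field K] [Algebra F K] (b : Module.Basis ι F K) (φ : A →ₐ[F] A')
    (x : A ⊗[F] K) (i : ι) :
    (Algebra.TensorProduct.basis A' b).repr
      (Algebra.TensorProduct.map φ (AlgHom.id F K) x) i =
      φ ((Algebra.TensorProduct.basis A b).repr x i) := by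
  induction x using TensorProduct.induction_on with
  | zero => simp
  | tmul a m =>
    simp only [Algebra.TensorProduct.map_tmul, AlgHom.coe_id, id_eq,
      Algebra.TensorProduct.basis_repr_tmul, Finsupp.smul_apply, Finsupp.mapRange_apply,
      smul_eq_mul, map_mul, AlgHom.commutes]
  | add x y hx hy => simp only [map_add, Finsupp.add_apply, hx, hy]

/-- a reduced algebra stays reduced after a separable algebraic field base change -/
theorem isReduced_tensor_of_isReduced_of_isSeparable (F A K : Type*) [Field F] [CommRing A]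
    [Algebra F A] [IsReduced A] [Field K] [Algebra F K] [Algebra.IsSeparable F K] :
    IsReduced (A ⊗[F] K) := by
  constructor
  intro x hx
  let b := Module.Free.chooseBasis F K
  have hc : ∀ i, (Algebra.TensorProduct.basis A b).repr x i = 0 := by
    intro i
    apply IsReduced.eq_zero
    rw [← mem_nilradical, nilradical_eq_sInf, Ideal.mem_sInf]
    intro p hp
    haveI : p.IsPrime := hp
    haveI := isReduced_tensor_of_isSeparable F p.ResidueField K
    have h0 : Algebra.TensorProduct.map (IsScalarTower.toAlgHom F A p.ResidueField)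
        (AlgHom.id F K) x = 0 := IsReduced.eq_zero _ (hx.map _)
    have h1 := repr_map_tmul b (IsScalarTower.toAlgHom F A p.ResidueField) x i
    rw [h0, map_zero, Finsupp.zero_apply] at h1
    exact (Ideal.algebraMap_residueField_eq_zero).mp h1.symm
  have : (Algebra.TensorProduct.basis A b).repr x = 0 := Finsupp.ext hc
  exact (LinearEquiv.map_eq_zero_iff _).mp this

/-- reducedness of `D ⊗ L` passes to `Frac(D) ⊗ L`. -/
theorem isReduced_fractionRing_tensor {k D Fi L : Type*} [Field k] [CommRing D] [Algebra k D]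
    [Field Fi] [Algebra D Fi] [IsFractionRing D Fi] [Algebra k Fi] [IsScalarTower k D Fi]
    [CommRing L] [Algebra k L] [IsReduced (D ⊗[k] L)] : IsReduced (Fi ⊗[k] L) := by
  haveI : IsDomain D := (IsFractionRing.injective D Fi).isDomain _
  let ι : D ⊗[k] L →ₐ[k] Fi ⊗[k] L :=
    Algebra.TensorProduct.map (IsScalarTower.toAlgHom k D Fi) (AlgHom.id k L)
  have hι : Function.Injective ι :=
    Module.Flat.rTensor_preserves_injective_linearMap (M := L)
      (IsScalarTower.toAlgHom k D Fi).toLinearMap (IsFractionRing.injective D Fi)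
  have key : ∀ y : Fi ⊗[k] L, ∃ d : D, d ≠ 0 ∧
      ((algebraMap D Fi d) ⊗ₜ[k] (1 : L)) * y ∈ Set.range ι := by
    intro y
    induction y using TensorProduct.induction_on with
    | zero => exact ⟨1, one_ne_zero, 0, by simp⟩
    | tmul f l =>
      obtain ⟨a, d, hd, rfl⟩ := IsFractionRing.div_surjective (A := D) f
      refine ⟨d, nonZeroDivisors.ne_zero hd, a ⊗ₜ l, ?_⟩
      have hd0 : algebraMap D Fi d ≠ 0 :=
        IsFractionRing.to_map_ne_zero_of_mem_nonZeroDivisors hd
      simp only [ι, Algebra.TensorProduct.map_tmul, IsScalarTower.coe_toAlgHom', AlgHom.coe_id,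
        id_eq, Algebra.TensorProduct.tmul_mul_tmul, one_mul]
      rw [mul_div_cancel₀ _ hd0]
    | add y₁ y₂ h₁ h₂ =>
      obtain ⟨d₁, hd₁, w₁, hw₁⟩ := h₁
      obtain ⟨d₂, hd₂, w₂, hw₂⟩ := h₂
      refine ⟨d₁ * d₂, mul_ne_zero hd₁ hd₂, (d₂ ⊗ₜ 1) * w₁ + (d₁ ⊗ₜ 1) * w₂, ?_⟩
      rw [map_add, map_mul, map_mul, hw₁, hw₂]
      simp only [ι, Algebra.TensorProduct.map_tmul, IsScalarTower.coe_toAlgHom', AlgHom.coe_id,
        id_eq, map_one, map_mul]
      rw [mul_add, ← mul_assoc, ← mul_assoc, Algebra.TensorProduct.tmul_mul_tmul,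
        Algebra.TensorProduct.tmul_mul_tmul, one_mul, mul_comm (algebraMap D Fi d₂)]
  constructor
  intro y hy
  obtain ⟨d, hd, w, hw⟩ := key y
  have hw0 : w = 0 := by
    apply IsReduced.eq_zero
    obtain ⟨n, hn⟩ := hy
    refine ⟨n, hι ?_⟩
    rw [map_pow, hw, mul_pow, hn, mul_zero, map_zero]
  rw [hw0, map_zero] at hw
  have hd0 : algebraMap D Fi d ≠ 0 := by
    rw [Ne, ← map_zero (algebraMap D Fi)]
    exact fun h => hd (IsFractionRing.injective D Fi h)
  have : y = (((algebraMap D Fi d)⁻¹) ⊗ₜ[k] (1 : L)) * (((algebraMap D Fi d) ⊗ₜ[k] (1 : L)) * y) := by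
    rw [← mul_assoc, Algebra.TensorProduct.tmul_mul_tmul, inv_mul_cancel₀ hd0, one_mul,
      ← Algebra.TensorProduct.one_def, one_mul]
  rw [this, ← hw, mul_zero]

/-- abstract form: `D ⊗ L` reduced, `F = Frac D`, `K/F` separable algebraic ⇒ `L ⊗ K` reduced. -/
theorem isReduced_tensor_of_sepGen_aux {k D F K : Type*} [Field k] [CommRing D] [Algebra k D]
    [Field F] [Algebra D F] [IsFractionRing D F] [Algebra k F] [IsScalarTower k D F]
    [Field K] [Algebra k K] [Algebra F K] [IsScalarTower k F K] [Algebra.IsSeparable F K]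
    (L : Type*) [Field L] [Algebra k L] [IsReduced (D ⊗[k] L)] : IsReduced (L ⊗[k] K) := by
  have h2 : IsReduced (F ⊗[k] L) := isReduced_fractionRing_tensor (D := D)
  have h3 : IsReduced ((F ⊗[k] L) ⊗[F] K) :=
    isReduced_tensor_of_isReduced_of_isSeparable F (F ⊗[k] L) K
  let e : L ⊗[k] K ≃+* (F ⊗[k] L) ⊗[F] K :=
    ((Algebra.TensorProduct.comm k L K).toRingEquiv.trans
      (Algebra.TensorProduct.cancelBaseChange k F F K L).symm.toRingEquiv).trans
      (Algebra.TensorProduct.comm F K (F ⊗[k] L)).toRingEquiv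
  exact isReduced_of_injective e.toRingHom e.injective

open scoped IntermediateField.algebraAdjoinAdjoin in
/-- a separably generated field extension is geometrically reduced -/
theorem isGeometricallyReduced_of_sepGen {k K : Type u} [Field k] [Field K] [Algebra k K]
    {ι : Type*} (x : ι → K) (hx : AlgebraicIndependent k x)
    [Algebra.IsSeparable (IntermediateField.adjoin k (Set.range x)) K] :
    Algebra.IsGeometricallyReduced k K := by
  rw [Algebra.isGeometricallyReduced_field_iff]
  have h1 : IsReduced ((Algebra.adjoin k (Set.range x)) ⊗[k] AlgebraicClosure k) := by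
    let e : (Algebra.adjoin k (Set.range x)) ⊗[k] AlgebraicClosure k ≃+*
        MvPolynomial ι (AlgebraicClosure k) :=
      ((Algebra.TensorProduct.congr hx.aevalEquiv.symm
        (AlgEquiv.refl (R := k) (A₁ := AlgebraicClosure k))).toRingEquiv.trans
        (Algebra.TensorProduct.comm k (MvPolynomial ι k) (AlgebraicClosure k)).toRingEquiv).trans
        (MvPolynomial.algebraTensorAlgEquiv k (AlgebraicClosure k)).toRingEquiv
    exact isReduced_of_injective e.toRingHom e.injective
  exact isReduced_tensor_of_sepGen_aux (D := Algebra.adjoin k (Set.range x))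
    (F := IntermediateField.adjoin k (Set.range x)) (AlgebraicClosure k)

end H14.SG
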