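import Mathlib
import Groth.Agent.S2452
import Groth.Agent.S4542
import Groth.Agent.Lib.helper14.FSAdic
import Groth.Agent.Lib.helper14.PSurj
import Groth.Agent.Lib.helper19.CoeffField
import Groth.Agent.S9443

set_option autoImplicit false
universe u

namespace H14.FSReg

open IsLocalRing MvPowerSeries

/-- a complete Noetherian local ring with a coefficient field `K'` is a quotient of a power series
ring over `K'` by an ideal contained in the square of the maximal ideal -/
theorem exists_psi {K' R : Type u} [Field K'] [CommRing R] [IsLocalRing R]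
    [IsNoetherianRing R] [IsAdicComplete (maximalIdeal R) R] [Algebra K' R]
    (hk : Function.Bijective (algebraMap K' (ResidueField R))) :
    ∃ (d : ℕ) (ψ : MvPowerSeries (Fin d) K' →ₐ[K'] R), Function.Surjective ψ ∧
      RingHom.ker ψ.toRingHom ≤ maximalIdeal (MvPowerSeries (Fin d) K') ^ 2 := by
  classical
  -- a basis of the cotangent space and lifts
  let d := Module.finrank (ResidueField R) (CotangentSpace R)
  let b : Module.Basis (Fin d) (ResidueField R) (CotangentSpace R) := Module.finBasis _ _
  have hlift : ∀ i : Fin d, ∃ t : maximalIdeal R, (maximalIdeal R).toCotangent t = b i :=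
    fun i => Ideal.toCotangent_surjective _ (b i)
  choose t ht using hlift
  let t' : Fin d → R := fun i => (t i : R)
  have ht'm : ∀ i, t' i ∈ maximalIdeal R := fun i => (t i).2
  have hcot : (fun i : Fin d => (maximalIdeal R).toCotangent ⟨t' i, ht'm i⟩) = b := by
    funext i
    exact ht i
  have hsp : Submodule.span (ResidueField R)
      (Set.range (fun i : Fin d => (maximalIdeal R).toCotangent ⟨t' i, ht'm i⟩)) = ⊤ := by
    rw [hcot]; exact b.span_eq
  have hli : LinearIndependent (ResidueField R)
      (fun i : Fin d => (maximalIdeal R).toCotangent ⟨t' i, ht'm i⟩) := by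
    rw [hcot]; exact b.linearIndependent
  have hspan : Ideal.span (Set.range t') = maximalIdeal R :=
    Groth.Agent.Lib.helper19.coeff_span_eq_of_cotangent_span t' ht'm hsp
  have hσsurj : Function.Surjective
      ((Ideal.Quotient.mk (maximalIdeal R)).comp (algebraMap K' R)) := by
    intro y
    obtain ⟨a, ha⟩ := hk.2 y
    exact ⟨a, ha⟩
  obtain ⟨f, hfsurj, hfC, hfX⟩ :=
    H14.PSurj.exists_surjective (maximalIdeal R) d t' hspan (algebraMap K' R) hσsurj
  let ψ : MvPowerSeries (Fin d) K' →ₐ[K'] R :=
    { f with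
      commutes' := fun a => by
        change f (algebraMap K' (MvPowerSeries (Fin d) K') a) = _
        rw [MvPowerSeries.algebraMap_apply, Algebra.algebraMap_self, RingHom.id_apply, hfC] }
  have hψX : ∀ i, ψ (X i) = t' i := hfX
  have hψsurj : Function.Surjective ψ := hfsurj
  have hψm : ∀ i : Fin d, ψ (X i) ∈ maximalIdeal R := fun i => by rw [hψX]; exact ht'm i
  have hker : RingHom.ker ψ.toRingHom ≤ maximalIdeal (MvPowerSeries (Fin d) K') ^ 2 := by
    apply Groth.Agent.Lib.helper19.coeff_ker_le_sq hk ψ hψm
    convert hli using 3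
    simp only [hψX]
  exact ⟨d, ψ, hψsurj, hker⟩

/-- a complete Noetherian local `k`-algebra with a coefficient field `K'` containing `k`, which is
formally smooth over `k` for its adic topology, is regular -/
theorem regular_of_fs_aux {k K' R : Type u} [Field k] [Field K'] [CommRing R] [IsLocalRing R]
    [IsNoetherianRing R] [IsAdicComplete (maximalIdeal R) R]
    [Algebra k R] [Algebra K' R] [Algebra k K'] [IsScalarTower k K' R]
    (hk : Function.Bijective (algebraMap K' (ResidueField R)))
    (h : CAlgX.IsAdicFormallySmooth k R (maximalIdeal R)) :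
    ∃ (d : ℕ) (ψ : MvPowerSeries (Fin d) K' →ₐ[K'] R), Function.Bijective ψ := by
  classical
  obtain ⟨d, ψ, hψsurj, hker⟩ := exists_psi hk
  have hfC : ∀ a : K', ψ (MvPowerSeries.C a) = algebraMap K' R a := by
    intro a
    have := ψ.commutes a
    rwa [MvPowerSeries.algebraMap_apply, Algebra.algebraMap_self, RingHom.id_apply] at this
  have hfsurj : Function.Surjective ψ := hψsurj
  refine ⟨d, ψ, ?_, hψsurj⟩
  -- the `k`-algebra structure
  let ψk : MvPowerSeries (Fin d) K' →ₐ[k] R :=
    { ψ.toRingHom with
      commutes' := fun a => by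
        change ψ (algebraMap k (MvPowerSeries (Fin d) K') a) = _
        rw [MvPowerSeries.algebraMap_apply, hfC, ← IsScalarTower.algebraMap_apply] }
  have hψk : ∀ x, ψk x = ψ x := fun x => rfl
  have hψksurj : Function.Surjective ψk := hfsurj
  obtain ⟨J, hJdef⟩ : ∃ J : Ideal (MvPowerSeries (Fin d) K'), J = RingHom.ker ψk := ⟨_, rfl⟩
  have hJmem : ∀ x, x ∈ J ↔ ψ x = 0 := by
    intro x
    rw [hJdef, RingHom.mem_ker, hψk]
  have hJle : J ≤ maximalIdeal (MvPowerSeries (Fin d) K') ^ 2 := by
    intro x hx
    apply hker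
    exact (hJmem x).mp hx
  have hJle1 : J ≤ maximalIdeal (MvPowerSeries (Fin d) K') :=
    hJle.trans (Ideal.pow_le_self two_ne_zero)
  haveI : IsAdicComplete (maximalIdeal (MvPowerSeries (Fin d) K')) (MvPowerSeries (Fin d) K') := by
    rw [Groth.Agent.Lib.helper19.maximalIdeal_mvPowerSeries_eq]
    infer_instance
  have hB : EGA41.IsFormallySmoothAdic k ⊥ R (maximalIdeal R) :=
    (H14.FSAdic.isAdicFormallySmooth_iff _).mp h
  have hJtop : J ≠ ⊤ := fun hJ => (maximalIdeal.isMaximal _).ne_top (top_le_iff.mp (hJ ▸ hJle1))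
  haveI : Nontrivial (MvPowerSeries (Fin d) K' ⧸ J) := Ideal.Quotient.nontrivial_iff.mpr hJtop
  haveI : IsLocalRing (MvPowerSeries (Fin d) K' ⧸ J) :=
    IsLocalRing.of_surjective' (Ideal.Quotient.mk J) Ideal.Quotient.mk_surjective
  have hne : (maximalIdeal (MvPowerSeries (Fin d) K')).map (Ideal.Quotient.mk J) ≠ ⊤ := by
    intro htop
    have h1 : (1 : MvPowerSeries (Fin d) K' ⧸ J) ∈
        (maximalIdeal (MvPowerSeries (Fin d) K')).map (Ideal.Quotient.mk J) := by
      rw [htop]; trivial
    rw [Ideal.mem_map_iff_of_surjective _ Ideal.Quotient.mk_surjective] at h1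
    obtain ⟨c, hc, hc1⟩ := h1
    have h2 : c - 1 ∈ J := by
      rw [← Ideal.Quotient.eq, hc1, map_one]
    have h3 : (1 : MvPowerSeries (Fin d) K') ∈ maximalIdeal (MvPowerSeries (Fin d) K') := by
      have := sub_mem hc (hJle1 h2)
      simpa using this
    exact (maximalIdeal.isMaximal _).ne_top ((Ideal.eq_top_iff_one _).mpr h3)
  haveI : IsHausdorff ((maximalIdeal (MvPowerSeries (Fin d) K')).map (Ideal.Quotient.mk J))
      (MvPowerSeries (Fin d) K' ⧸ J) := IsHausdorff.of_isLocalRing _ _ hne
  -- the inverse of the induced isomorphism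
  subst hJdef
  let E : (MvPowerSeries (Fin d) K' ⧸ RingHom.ker ψk) ≃ₐ[k] R :=
    Ideal.quotientKerAlgEquivOfSurjective hψksurj
  have hE : ∀ c, E (Ideal.Quotient.mk _ c) = ψ c := fun c => rfl
  let u : R →ₐ[k] MvPowerSeries (Fin d) K' ⧸ RingHom.ker ψk := E.symm.toAlgHom
  have hu : ∃ n : ℕ, ((maximalIdeal R) ^ n).map u.toRingHom ≤
      (maximalIdeal (MvPowerSeries (Fin d) K')).map (Ideal.Quotient.mk (RingHom.ker ψk)) := by
    refine ⟨1, ?_⟩
    rw [pow_one, Ideal.map_le_iff_le_comap]
    intro r hr
    rw [Ideal.mem_comap]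
    obtain ⟨c, hc⟩ := hψksurj r
    have h1 : u r = Ideal.Quotient.mk _ c := by
      change E.symm r = _
      rw [AlgEquiv.symm_apply_eq, hE, ← hψk, hc]
    change u r ∈ _
    rw [h1]
    apply Ideal.mem_map_of_mem
    rw [mem_maximalIdeal, mem_nonunits_iff]
    intro hcu
    have : IsUnit (ψk c) := hcu.map ψk
    rw [hc] at this
    exact hr this
  obtain ⟨v, -, hv⟩ := Groth.Agent.S4542.result (⊥ : Ideal k) (maximalIdeal R)
    (maximalIdeal (MvPowerSeries (Fin d) K')) hB
    ⟨1, by rw [pow_one, Ideal.map_bot]; exact bot_le⟩ (RingHom.ker ψk)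
    ⟨1, by rw [pow_one]; exact hJle1⟩ u hu
  have hψv : ∀ r : R, ψ (v r) = r := by
    intro r
    have h1 := congrArg (fun φ => φ r) hv
    simp only [AlgHom.comp_apply, Ideal.Quotient.mkₐ_eq_mk] at h1
    have h2 := congrArg E h1
    rw [hE] at h2
    rw [h2]
    change E (E.symm r) = r
    rw [AlgEquiv.apply_symm_apply]
  -- the idempotent endomorphism
  let e : MvPowerSeries (Fin d) K' →+* MvPowerSeries (Fin d) K' := v.toRingHom.comp ψ.toRingHom
  have he : ∀ x, e x = v (ψ x) := fun x => rfl
  have hsub : ∀ x, e x - x ∈ maximalIdeal (MvPowerSeries (Fin d) K') ^ 2 := by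
    intro x
    apply hJle
    rw [hJmem, map_sub, he, hψv, sub_self]
  have hmap : (maximalIdeal (MvPowerSeries (Fin d) K')).map e =
      maximalIdeal (MvPowerSeries (Fin d) K') := by
    apply le_antisymm
    · rw [Ideal.map_le_iff_le_comap]
      intro x hx
      rw [Ideal.mem_comap]
      have : e x = x + (e x - x) := by ring
      rw [this]
      exact add_mem hx (Ideal.pow_le_self two_ne_zero (hsub x))
    · refine Submodule.le_of_le_smul_of_le_jacobson_bot (IsNoetherian.noetherian _)
        (IsLocalRing.maximalIdeal_le_jacobson ⊥) ?_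
      intro x hx
      have h1 : x = e x + (x - e x) := by ring
      rw [h1]
      refine Submodule.add_mem_sup (Ideal.mem_map_of_mem _ hx) ?_
      rw [smul_eq_mul, ← pow_two]
      have := hsub x
      rw [← neg_sub] at this
      exact (Ideal.neg_mem_iff _).mp this
  haveI : IsHausdorff ((maximalIdeal (MvPowerSeries (Fin d) K')).map e)
      (MvPowerSeries (Fin d) K') := by
    rw [hmap]
    exact IsAdicComplete.toIsHausdorff
  have hesurj : Function.Surjective e := by
    apply surjective_of_mk_map_comp_surjective (I := maximalIdeal (MvPowerSeries (Fin d) K')) e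
    intro y
    obtain ⟨c, rfl⟩ := Ideal.Quotient.mk_surjective y
    refine ⟨c, ?_⟩
    rw [RingHom.comp_apply, Ideal.Quotient.eq, hmap]
    exact Ideal.pow_le_self two_ne_zero (hsub c)
  rw [← AlgHom.coe_toRingHom, injective_iff_map_eq_zero]
  intro x hx
  obtain ⟨y, rfl⟩ := hesurj x
  have h1 : e (e y) = e y := by
    rw [he (e y), he y, hψv]
  have h2 : e (e y) = 0 := by
    rw [he (e y)]
    have : ψ (e y) = 0 := hx
    rw [this, map_zero]
  rw [← h1, h2]

/-- a copy of the residue field -/
def KF (R : Type u) [CommRing R] [IsLocalRing R] : Type u := ResidueField R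

noncomputable instance (R : Type u) [CommRing R] [IsLocalRing R] : Field (KF R) :=
  inferInstanceAs (Field (ResidueField R))

/-- a complete Noetherian local `k`-algebra with separable residue field which is regular or
formally smooth is a power series ring over its residue field, compatibly with `k` -/
theorem exists_equiv {k R : Type u} [Field k] [CommRing R] [IsLocalRing R]
    [IsNoetherianRing R] [IsAdicComplete (maximalIdeal R) R] [Algebra k R]
    [Algebra.IsGeometricallyReduced k (ResidueField R)]
    (h : IsRegularLocalRing R ∨ CAlgX.IsAdicFormallySmooth k R (maximalIdeal R)) :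
    ∃ (n : ℕ) (e : R ≃+* MvPowerSeries (Fin n) (ResidueField R)),
      ∀ x : k, e (algebraMap k R x) =
        MvPowerSeries.C (algebraMap k (ResidueField R) x) := by
  classical
  obtain ⟨σ, hσ⟩ := Groth.Agent.S2452.result (k := k) (A := R)
  let σ' : KF R →+* R := σ.toRingHom
  letI : Algebra (KF R) R := σ'.toAlgebra
  letI : Algebra k (KF R) := inferInstanceAs (Algebra k (ResidueField R))
  haveI : IsScalarTower k (KF R) R :=
    IsScalarTower.of_algebraMap_eq (fun x => (σ.commutes x).symm)
  have hk : Function.Bijective (algebraMap (KF R) (ResidueField R)) := by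
    have h1 : ∀ x : KF R, algebraMap (KF R) (ResidueField R) x = x := fun x => hσ x
    constructor
    · intro x y hxy
      rw [h1, h1] at hxy
      exact hxy
    · intro y
      exact ⟨y, h1 y⟩
  have key : ∀ (d : ℕ) (e : R ≃ₐ[KF R] MvPowerSeries (Fin d) (KF R)),
      ∃ (n : ℕ) (e : R ≃+* MvPowerSeries (Fin n) (ResidueField R)),
        ∀ x : k, e (algebraMap k R x) =
          MvPowerSeries.C (algebraMap k (ResidueField R) x) := by
    intro d e
    refine ⟨d, e.toRingEquiv, fun x => ?_⟩
    have h1 : algebraMap k R x = algebraMap (KF R) R (algebraMap k (KF R) x) :=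
      IsScalarTower.algebraMap_apply k (KF R) R x
    rw [h1]
    change e (algebraMap (KF R) R (algebraMap k (KF R) x)) = _
    rw [e.commutes]
    rfl
  rcases h with hreg | hfs
  · haveI := hreg
    obtain ⟨d, ⟨e⟩⟩ := Groth.Agent.S9443.result R (KF R) hk
    exact key d e
  · obtain ⟨d, ψ, hψ⟩ := regular_of_fs_aux hk hfs
    exact key d (AlgEquiv.ofBijective ψ hψ).symm

end H14.FSReg
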