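import Mathlib
import Groth.Agent.S2451
import Groth.Agent.S2453
import Groth.Agent.S0548
import Groth.Agent.S9318
import Groth.Agent.Lib.helper14.FSRegular
import Groth.Agent.Lib.helper14.AdicFSPowerSeries
import Groth.Agent.Lib.helper14.CohenSmooth
import Groth.Agent.Lib.helper25.Sep1
import Groth.Agent.Lib.helper20.RegQuot4

set_option autoImplicit false
universe u

/-!
# Adic formal smoothness over a field (no separability hypothesis on the residue field)

* `exists_primeField`: every field contains a field over which every field is formally smooth.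
* `comp`: adic formal smoothness composes with discrete formal smoothness of the base.
* `baseChange`, `localization`: permanence.
* `exists_equiv_of_fs`, `isRegularLocalRing_of_fs`: a Noetherian local algebra over a field which is
  formally smooth for its adic topology has completion a power series ring, and is regular.
* `isGeometricallyRegular_of_fs`.
-/

namespace H14.FSField

open IsLocalRing TensorProduct

/-- every field contains a (prime) field over which all field extensions are formally smooth -/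
theorem exists_primeField (k : Type u) [Field k] :
    ∃ (k₀ : Type u) (_ : Field k₀) (_ : Algebra k₀ k),
      ∀ (L : Type u) [Field L] [Algebra k₀ L], Algebra.FormallySmooth k₀ L := by
  classical
  obtain ⟨p, hp⟩ := CharP.exists k
  rcases CharP.char_is_prime_or_zero k p with hprime | h0
  · haveI : Fact p.Prime := ⟨hprime⟩
    let φ : ULift.{u} (ZMod p) →+* k :=
      (ZMod.castHom (dvd_refl p) k).comp (ULift.ringEquiv : ULift.{u} (ZMod p) ≃+* ZMod p).toRingHom
    refine ⟨ULift.{u} (ZMod p), inferInstance, φ.toAlgebra, ?_⟩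
    intro L _ _
    exact H14.CohenSmooth.formallySmooth_of_perfectField p
  · subst h0
    haveI : CharZero k := CharP.charP_to_charZero k
    let φ : ULift.{u} ℚ →+* k :=
      (algebraMap ℚ k).comp (ULift.ringEquiv : ULift.{u} ℚ ≃+* ℚ).toRingHom
    haveI : CharZero (ULift.{u} ℚ) :=
      charZero_of_injective_ringHom
        (f := ((ULift.ringEquiv : ULift.{u} ℚ ≃+* ℚ).symm : ℚ →+* ULift.{u} ℚ))
        (ULift.ringEquiv : ULift.{u} ℚ ≃+* ℚ).symm.injective
    refine ⟨ULift.{u} ℚ, inferInstance, φ.toAlgebra, ?_⟩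
    intro L _ _
    exact Groth.Agent.Lib.helper25.Sep.formallySmooth_of_charZero

/-- adic formal smoothness composes with formal smoothness of the base -/
theorem comp {k₀ k S : Type u} [CommRing k₀] [CommRing k] [CommRing S] [Algebra k₀ k] [Algebra k S]
    [Algebra k₀ S] [IsScalarTower k₀ k S] [Algebra.FormallySmooth k₀ k] (𝔫 : Ideal S)
    (h : CAlgX.IsAdicFormallySmooth k S 𝔫) : CAlgX.IsAdicFormallySmooth k₀ S 𝔫 := by
  intro A _ _ J hJ ψ hψ
  let ψ₀ : k →ₐ[k₀] A ⧸ J := ψ.comp (IsScalarTower.toAlgHom k₀ k S)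
  obtain ⟨g, hg⟩ := Algebra.FormallySmooth.exists_lift J ⟨2, hJ⟩ ψ₀
  letI : Algebra k A := g.toRingHom.toAlgebra
  haveI : IsScalarTower k₀ k A := IsScalarTower.of_algebraMap_eq (fun r => (g.commutes r).symm)
  let ψk : S →ₐ[k] A ⧸ J :=
    { ψ.toRingHom with
      commutes' := fun r => by
        have h1 := AlgHom.congr_fun hg r
        change ψ (algebraMap k S r) = Ideal.Quotient.mk J (g r)
        exact h1.symm }
  obtain ⟨χ, hχ⟩ := h A J hJ ψk hψ
  refine ⟨χ.restrictScalars k₀, ?_⟩
  ext x
  exact AlgHom.congr_fun hχ x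

/-- base change of adic formal smoothness -/
theorem baseChange {k k' S : Type u} [CommRing k] [CommRing k'] [Algebra k k'] [CommRing S]
    [Algebra k S] (𝔫 : Ideal S) (h : CAlgX.IsAdicFormallySmooth k S 𝔫) :
    CAlgX.IsAdicFormallySmooth k' (k' ⊗[k] S)
      (𝔫.map (Algebra.TensorProduct.includeRight : S →ₐ[k] k' ⊗[k] S).toRingHom) := by
  intro A _ _ J hJ ψ hψ
  obtain ⟨m, hm⟩ := hψ
  letI : Algebra k A := ((algebraMap k' A).comp (algebraMap k k')).toAlgebra
  haveI : IsScalarTower k k' A := IsScalarTower.of_algebraMap_eq (fun r => rfl)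
  let ψ₀ : S →ₐ[k] A ⧸ J :=
    (ψ.restrictScalars k).comp (Algebra.TensorProduct.includeRight : S →ₐ[k] k' ⊗[k] S)
  have hψ₀ : ∀ x ∈ 𝔫 ^ m, ψ₀ x = 0 := by
    intro x hx
    apply hm
    rw [← Ideal.map_pow]
    exact Ideal.mem_map_of_mem _ hx
  obtain ⟨χ₀, hχ₀⟩ := h A J hJ ψ₀ ⟨m, hψ₀⟩
  let χ : k' ⊗[k] S →ₐ[k'] A :=
    Algebra.TensorProduct.lift (Algebra.ofId k' A) χ₀ (fun _ _ => Commute.all _ _)
  refine ⟨χ, ?_⟩
  apply Algebra.TensorProduct.ext'
  intro a b
  have h1 : χ (a ⊗ₜ b) = algebraMap k' A a * χ₀ b := by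
    simp [χ, Algebra.ofId_apply]
  have h2 : Ideal.Quotient.mk J (χ₀ b) = ψ (1 ⊗ₜ b) := AlgHom.congr_fun hχ₀ b
  change Ideal.Quotient.mk J (χ (a ⊗ₜ b)) = ψ (a ⊗ₜ b)
  rw [h1, map_mul, h2]
  have h3 : (a ⊗ₜ[k] b : k' ⊗[k] S) = a • (1 ⊗ₜ b) := by
    rw [TensorProduct.smul_tmul', smul_eq_mul, mul_one]
  rw [h3, map_smul, Algebra.smul_def]
  rfl

/-- localization of adic formal smoothness at a prime containing the ideal of definition -/
theorem localization {R S : Type u} [CommRing R] [CommRing S] [Algebra R S] (𝔞 q : Ideal S)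
    [q.IsPrime] (hle : 𝔞 ≤ q) (h : CAlgX.IsAdicFormallySmooth R S 𝔞) :
    CAlgX.IsAdicFormallySmooth R (Localization.AtPrime q)
      (maximalIdeal (Localization.AtPrime q)) := by
  intro A _ _ J hJ ψ hψ
  obtain ⟨m, hm⟩ := hψ
  let ψ₀ : S →ₐ[R] A ⧸ J := ψ.comp (IsScalarTower.toAlgHom R S (Localization.AtPrime q))
  have hψ₀ : ∀ x ∈ 𝔞 ^ m, ψ₀ x = 0 := by
    intro x hx
    apply hm
    rw [← Localization.AtPrime.map_eq_maximalIdeal, ← Ideal.map_pow]
    exact Ideal.mem_map_of_mem _ (Ideal.pow_right_mono hle m hx)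
  obtain ⟨χ₀, hχ₀⟩ := h A J hJ ψ₀ ⟨m, hψ₀⟩
  have hunit : ∀ y : q.primeCompl, IsUnit (χ₀ y) := by
    intro y
    rw [← IsNilpotent.isUnit_quotient_mk_iff (I := J) ⟨2, hJ⟩]
    have h1 : Ideal.Quotient.mk J (χ₀ y) = ψ (algebraMap S (Localization.AtPrime q) y) :=
      AlgHom.congr_fun hχ₀ y
    rw [h1]
    exact (IsLocalization.map_units (Localization.AtPrime q) y).map ψ
  let χ : Localization.AtPrime q →ₐ[R] A := IsLocalization.liftAlgHom (M := q.primeCompl) hunit
  refine ⟨χ, ?_⟩
  apply AlgHom.coe_ringHom_injective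
  apply IsLocalization.ringHom_ext q.primeCompl
  ext x
  have h1 : χ (algebraMap S (Localization.AtPrime q) x) = χ₀ x := by
    simp [χ]
  change Ideal.Quotient.mk J (χ (algebraMap S (Localization.AtPrime q) x)) =
    ψ (algebraMap S (Localization.AtPrime q) x)
  rw [h1]
  exact AlgHom.congr_fun hχ₀ x

/-- a Noetherian local algebra over a field which is formally smooth for its adic topology has
completion isomorphic to a power series ring over the residue field -/
theorem exists_equiv_of_fs {k B : Type u} [Field k] [CommRing B] [IsLocalRing B]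
    [IsNoetherianRing B] [Algebra k B]
    (h : CAlgX.IsAdicFormallySmooth k B (maximalIdeal B)) :
    ∃ n : ℕ, Nonempty (AdicCompletion (maximalIdeal B) B ≃+*
      MvPowerSeries (Fin n) (ResidueField B)) := by
  classical
  haveI : IsNoetherianRing (AdicCompletion (maximalIdeal B) B) := Groth.Agent.S0543.result B _
  have fg : (maximalIdeal B).FG := IsNoetherian.noetherian _
  have hbij : Function.Bijective
      (ResidueField.map (algebraMap B (AdicCompletion (maximalIdeal B) B))) :=
    AdicCompletion.residueField_map_bijective B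
  let g : ResidueField B ≃+* ResidueField (AdicCompletion (maximalIdeal B) B) :=
    RingEquiv.ofBijective _ hbij
  have h1 : CAlgX.IsAdicFormallySmooth k (AdicCompletion (maximalIdeal B) B)
      (maximalIdeal (AdicCompletion (maximalIdeal B) B)) := by
    have := (Groth.Agent.S9318.result (R := k) (maximalIdeal B) fg).mp h
    rwa [← AdicCompletion.maximalIdeal_eq_map] at this
  obtain ⟨k₀, _, _, hk₀⟩ := exists_primeField k
  letI : Algebra k₀ (AdicCompletion (maximalIdeal B) B) :=
    ((algebraMap k (AdicCompletion (maximalIdeal B) B)).comp (algebraMap k₀ k)).toAlgebra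
  haveI : IsScalarTower k₀ k (AdicCompletion (maximalIdeal B) B) :=
    IsScalarTower.of_algebraMap_eq (fun r => rfl)
  haveI : Algebra.FormallySmooth k₀ k := hk₀ k
  have h2 := comp (k₀ := k₀) _ h1
  haveI : Algebra.FormallySmooth k₀ (ResidueField (AdicCompletion (maximalIdeal B) B)) := hk₀ _
  haveI : Algebra.IsGeometricallyReduced k₀
      (ResidueField (AdicCompletion (maximalIdeal B) B)) :=
    Groth.Agent.S2451.result.mp inferInstance
  obtain ⟨n, e, -⟩ := H14.FSReg.exists_equiv (k := k₀) (Or.inr h2)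
  exact ⟨n, ⟨e.trans (H14S2453.mapEquiv n g.symm)⟩⟩

/-- a Noetherian local algebra over a field which is formally smooth for its adic topology is
regular -/
theorem isRegularLocalRing_of_fs {k B : Type u} [Field k] [CommRing B] [IsLocalRing B]
    [IsNoetherianRing B] [Algebra k B]
    (h : CAlgX.IsAdicFormallySmooth k B (maximalIdeal B)) : IsRegularLocalRing B := by
  obtain ⟨n, ⟨e⟩⟩ := exists_equiv_of_fs h
  rw [Groth.Agent.S0548.result]
  haveI := Groth.Agent.Lib.helper19.isRegularLocalRing_mvPowerSeries (ResidueField B) n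
  exact IsRegularLocalRing.of_ringEquiv e.symm


/-- a Noetherian local algebra over a field which is formally smooth for its adic topology is
geometrically regular -/
theorem isGeometricallyRegular_of_fs {k A : Type u} [Field k] [CommRing A] [IsLocalRing A]
    [IsNoetherianRing A] [Algebra k A]
    (h : CAlgX.IsAdicFormallySmooth k A (maximalIdeal A)) : CAlg.IsGeometricallyRegular k A := by
  classical
  intro k' _ _ hfin
  -- the flipped tensor product is finite over `A`
  let e : A ⊗[k] k' ≃ₐ[k] k' ⊗[k] A := Algebra.TensorProduct.comm k A k'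
  haveI : Module.Finite A (A ⊗[k] k') := inferInstance
  haveI : IsNoetherianRing (A ⊗[k] k') := Algebra.FiniteType.isNoetherianRing A (A ⊗[k] k')
  haveI : IsNoetherianRing (k' ⊗[k] A) := isNoetherianRing_of_ringEquiv (A ⊗[k] k') e.toRingEquiv
  let ι : A →+* k' ⊗[k] A := (Algebra.TensorProduct.includeRight : A →ₐ[k] k' ⊗[k] A).toRingHom
  have hι : ι = (e : A ⊗[k] k' →+* k' ⊗[k] A).comp (algebraMap A (A ⊗[k] k')) := by
    ext a
    change (1 : k') ⊗ₜ[k] a = e (a ⊗ₜ[k] 1)
    simp [e]
  have hιfin : ι.Finite := by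
    rw [hι]
    exact RingHom.Finite.comp (RingHom.Finite.of_surjective _ e.surjective)
      ((RingHom.finite_algebraMap).mpr inferInstance)
  have h' := baseChange (k' := k') _ h
  apply Groth.Agent.Lib.helper20.RegQuot.isRegularRing_of_maximal
  intro n' hn'
  have hcomap : (n'.comap ι).IsMaximal :=
    Ideal.isMaximal_comap_of_isIntegral_of_isMaximal' ι hιfin.to_isIntegral n'
  have hle : (maximalIdeal A).map ι ≤ n' := by
    rw [Ideal.map_le_iff_le_comap, ← IsLocalRing.eq_maximalIdeal hcomap]
  have h'' := localization _ n' hle h'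
  exact isRegularLocalRing_of_fs h''

end H14.FSField
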