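import Mathlib
import Groth.Agent.Lib.helper14.FSField

/-!
# An Artinian local algebra formally smooth over a field is a field (universe polymorphic)
-/

set_option autoImplicit false
universe u v

namespace H14.FSArt

open IsLocalRing

/-- transport of formal smoothness to `ULift`s, in the adic (`CAlgX`) form -/
theorem isAdicFormallySmooth_ulift {k : Type u} {R : Type v} [Field k] [CommRing R] [Algebra k R]
    [Algebra.FormallySmooth k R] :
    letI : Algebra (ULift.{v} k) (ULift.{u} R) :=
      ((ULift.ringEquiv.symm : R ≃+* ULift.{u} R).toRingHom.comp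
        ((algebraMap k R).comp (ULift.ringEquiv : ULift.{v} k ≃+* k).toRingHom)).toAlgebra
    ∀ 𝔫 : Ideal (ULift.{u} R), CAlgX.IsAdicFormallySmooth (ULift.{v} k) (ULift.{u} R) 𝔫 := by
  letI : Algebra (ULift.{v} k) (ULift.{u} R) :=
    ((ULift.ringEquiv.symm : R ≃+* ULift.{u} R).toRingHom.comp
      ((algebraMap k R).comp (ULift.ringEquiv : ULift.{v} k ≃+* k).toRingHom)).toAlgebra
  intro 𝔫 C _ _ J hJ ψ _
  letI : Algebra k C :=
    ((algebraMap (ULift.{v} k) C).comp (ULift.ringEquiv.symm : k ≃+* ULift.{v} k).toRingHom).toAlgebra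
  have hkC : ∀ c : k, algebraMap k C c = algebraMap (ULift.{v} k) C (ULift.up c) := fun _ => rfl
  have hkR : ∀ c : ULift.{v} k, algebraMap (ULift.{v} k) (ULift.{u} R) c =
      ULift.up (algebraMap k R c.down) := fun _ => rfl
  let ψ₀ : R →ₐ[k] C ⧸ J :=
    { toRingHom := ψ.toRingHom.comp (ULift.ringEquiv.symm : R ≃+* ULift.{u} R).toRingHom
      commutes' := fun c => by
        change ψ (ULift.up (algebraMap k R c)) = Ideal.Quotient.mk J (algebraMap k C c)
        rw [hkC]
        have h1 := ψ.commutes (ULift.up c)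
        rw [hkR] at h1
        rw [h1]
        rfl }
  obtain ⟨χ₀, hχ₀⟩ := Algebra.FormallySmooth.comp_surjective k R J hJ ψ₀
  refine ⟨{ toRingHom := χ₀.toRingHom.comp (ULift.ringEquiv : ULift.{u} R ≃+* R).toRingHom
            commutes' := fun c => ?_ }, ?_⟩
  · change χ₀ (algebraMap (ULift.{v} k) (ULift.{u} R) c).down = _
    rw [hkR, χ₀.commutes, hkC]
  · ext x
    have := AlgHom.congr_fun hχ₀ x.down
    exact this

theorem maximalIdeal_eq_bot_of_fs {k : Type u} {R : Type v} [Field k] [CommRing R] [Algebra k R]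
    [IsLocalRing R] [IsArtinianRing R] [Algebra.FormallySmooth k R] : maximalIdeal R = ⊥ := by
  letI : Algebra (ULift.{v} k) (ULift.{u} R) :=
    ((ULift.ringEquiv.symm : R ≃+* ULift.{u} R).toRingHom.comp
      ((algebraMap k R).comp (ULift.ringEquiv : ULift.{v} k ≃+* k).toRingHom)).toAlgebra
  haveI : IsLocalRing (ULift.{u} R) := (ULift.ringEquiv.symm : R ≃+* ULift.{u} R).isLocalRing
  haveI : IsNoetherianRing (ULift.{u} R) :=
    isNoetherianRing_of_ringEquiv R (ULift.ringEquiv.symm : R ≃+* ULift.{u} R)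
  have hfs := isAdicFormallySmooth_ulift (k := k) (R := R) (maximalIdeal (ULift.{u} R))
  haveI : IsRegularLocalRing (ULift.{u} R) := H14.FSField.isRegularLocalRing_of_fs hfs
  haveI : IsRegularLocalRing R :=
    IsRegularLocalRing.of_ringEquiv (ULift.ringEquiv : ULift.{u} R ≃+* R)
  have h1 := IsRegularLocalRing.spanFinrank_maximalIdeal (R := R)
  have h2 : ringKrullDim R = 0 := (ringKrullDimZero_iff_ringKrullDim_eq_zero).1 inferInstance
  rw [h2] at h1
  have h3 : (maximalIdeal R).spanFinrank = 0 := by exact_mod_cast h1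
  exact (Submodule.spanFinrank_eq_zero_iff_eq_bot
    ((isNoetherianRing_iff_ideal_fg R).mp inferInstance _)).1 h3

end H14.FSArt
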