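import Mathlib
import Groth.Prelude.Def_CAlgX
import Groth.Agent.S2451
import Groth.Agent.S0543
import Groth.Agent.S0548
import Groth.Agent.S9318
import Groth.Agent.Lib.helper14.FSRegular
import Groth.Agent.Lib.helper14.AdicFSPowerSeries
import Groth.Agent.Lib.helper14.FSField

/-!
# Regular local algebras with separable residue field are formally smooth

`H14.FSJac.fs_of_regular`: a regular Noetherian local `k`-algebra whose residue field is
geometrically reduced (separable) over the field `k` is formally smooth over `k` for the adic
topology.
-/

set_option autoImplicit false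
universe u

namespace H14.FSJac

open IsLocalRing

theorem fs_of_regular {k A : Type u} [Field k] [CommRing A]
    [Algebra k A] [IsRegularLocalRing A] [Algebra.IsGeometricallyReduced k (ResidueField A)] :
    CAlgX.IsAdicFormallySmooth k A (maximalIdeal A) := by
  classical
  have fg : (maximalIdeal A).FG := IsNoetherian.noetherian _
  rw [Groth.Agent.S9318.result (maximalIdeal A) fg]
  set Ah := AdicCompletion (maximalIdeal A) A with hAh
  haveI : IsNoetherianRing Ah := Groth.Agent.S0543.result A _
  haveI : IsRegularLocalRing Ah := (Groth.Agent.S0548.result A).1 inferInstance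
  rw [← AdicCompletion.maximalIdeal_eq_map]
  -- residue fields
  haveI : Algebra.FormallySmooth k (ResidueField A) := Groth.Agent.S2451.result.2 inferInstance
  let f : ResidueField A →ₐ[k] ResidueField Ah :=
    { ResidueField.map (algebraMap A Ah) with
      commutes' := fun x => by
        change ResidueField.map (algebraMap A Ah) (residue A (algebraMap k A x)) = _
        rw [ResidueField.map_residue, ← IsScalarTower.algebraMap_apply]
        rfl }
  have hf : Function.Bijective f := AdicCompletion.residueField_map_bijective A
  haveI : Algebra.FormallySmooth k (ResidueField Ah) :=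
    Algebra.FormallySmooth.of_equiv (AlgEquiv.ofBijective f hf)
  haveI : Algebra.IsGeometricallyReduced k (ResidueField Ah) :=
    Groth.Agent.S2451.result.1 inferInstance
  obtain ⟨n, e, he⟩ := H14.FSReg.exists_equiv (k := k) (R := Ah) (Or.inl inferInstance)
  apply H14.AFS.of_ringEquiv e ?_ (maximalIdeal Ah)
    (maximalIdeal (MvPowerSeries (Fin n) (ResidueField Ah))) ?_
    (H14.AFS.mvPowerSeries (Fin n) _ (fun i => H14.AFS.X_mem_maximalIdeal i))
  · intro r
    rw [he, MvPowerSeries.algebraMap_apply]
  · intro y hy
    rw [mem_maximalIdeal, mem_nonunits_iff] at hy ⊢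
    intro hu
    apply hy
    have := hu.map e
    rwa [RingEquiv.apply_symm_apply] at this

end H14.FSJac
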