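import Mathlib
import Groth.Prelude.Def_CAlgX
import Groth.Agent.S2451
import Groth.Agent.Lib.helper14.FSJacA
import Groth.Agent.Lib.helper14.FSField
import Groth.Agent.Lib.helper25.Sep4

/-!
# Jacobian criterion for adic formal smoothness over a field

* `H14.FSJac.injective_of_fs`: if the local `k`-algebra `A` is formally smooth for the adic topology
  then `Ω_{k/ℤ} ⊗_k K → Ω_{A/ℤ} ⊗_A K` is injective (`K` the residue field).
* `H14.FSJac.fs_of_regular_of_injective`: a regular Noetherian local `k`-algebra for which this map is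
  injective is formally smooth.
* `H14.FSJac.fs_iff`: the equivalence.
-/

set_option autoImplicit false
universe u

namespace H14.FSJac

open IsLocalRing TensorProduct

theorem exists_derivation_extension {k A : Type u} [Field k] [CommRing A] [IsLocalRing A]
    [Algebra k A]
    (hinj : Function.Injective
      ((KaehlerDifferential.mapBaseChange ℤ k A).lTensor (ResidueField A)))
    {M : Type u} [AddCommGroup M] [Module A M] [Module (ResidueField A) M]
    [IsScalarTower A (ResidueField A) M] [Module k M] [IsScalarTower k A M]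
    (δ : Derivation ℤ k M) :
    ∃ D : Derivation ℤ A M, ∀ c : k, D (algebraMap k A c) = δ c := by
  classical
  let K := ResidueField A
  let f : K ⊗[A] (A ⊗[k] Ω[k⁄ℤ]) →ₗ[K] K ⊗[A] Ω[A⁄ℤ] :=
    (KaehlerDifferential.mapBaseChange ℤ k A).baseChange K
  have hf : Function.Injective f := by
    change Function.Injective ((KaehlerDifferential.mapBaseChange ℤ k A).baseChange K :
      K ⊗[A] (A ⊗[k] Ω[k⁄ℤ]) → K ⊗[A] Ω[A⁄ℤ])
    rw [LinearMap.baseChange_eq_ltensor]
    exact hinj
  obtain ⟨r, hr⟩ := f.exists_leftInverse_of_injective (LinearMap.ker_eq_bot.2 hf)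
  let g₁ : A ⊗[k] Ω[k⁄ℤ] →ₗ[A] M := LinearMap.liftBaseChange A δ.liftKaehlerDifferential
  let g : K ⊗[A] (A ⊗[k] Ω[k⁄ℤ]) →ₗ[K] M := LinearMap.liftBaseChange K g₁
  let h : Ω[A⁄ℤ] →ₗ[A] M := ((g ∘ₗ r).restrictScalars A) ∘ₗ (TensorProduct.mk A K Ω[A⁄ℤ] 1)
  refine ⟨h.compDer (KaehlerDifferential.D ℤ A), fun c => ?_⟩
  have h1 : (1 : K) ⊗ₜ[A] KaehlerDifferential.D ℤ A (algebraMap k A c) =
      f ((1 : K) ⊗ₜ[A] ((1 : A) ⊗ₜ[k] KaehlerDifferential.D ℤ k c)) := by
    change _ = (KaehlerDifferential.mapBaseChange ℤ k A).baseChange K _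
    rw [LinearMap.baseChange_tmul, KaehlerDifferential.mapBaseChange_tmul, one_smul,
      KaehlerDifferential.map_D]
  have h2 : r (f ((1 : K) ⊗ₜ[A] ((1 : A) ⊗ₜ[k] KaehlerDifferential.D ℤ k c))) =
      (1 : K) ⊗ₜ[A] ((1 : A) ⊗ₜ[k] KaehlerDifferential.D ℤ k c) := LinearMap.congr_fun hr _
  change g (r ((1 : K) ⊗ₜ[A] KaehlerDifferential.D ℤ A (algebraMap k A c))) = δ c
  rw [h1, h2]
  simp [g, g₁]

theorem lift_of_torsion {k₀ k A : Type u} [Field k₀] [Field k] [CommRing A] [IsLocalRing A]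
    [Algebra k₀ k] [Algebra k A] [Algebra k₀ A] [IsScalarTower k₀ k A]
    (h₀ : CAlgX.IsAdicFormallySmooth k₀ A (maximalIdeal A))
    (hinj : Function.Injective
      ((KaehlerDifferential.mapBaseChange ℤ k A).lTensor (ResidueField A)))
    (E : Type u) [CommRing E] [Algebra k E] (J : Ideal E) (hJ : J ^ 2 = ⊥)
    (ψ : A →ₐ[k] E ⧸ J) (hψ : ∃ n : ℕ, ∀ x ∈ maximalIdeal A ^ n, ψ x = 0)
    (h1 : ∀ x ∈ maximalIdeal A, ∀ e : E, Ideal.Quotient.mk J e = ψ x → ∀ j ∈ J, e * j = 0) :
    ∃ χ : A →ₐ[k] E, (Ideal.Quotient.mkₐ k J).comp χ = ψ := by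
  classical
  letI : Algebra k₀ E := ((algebraMap k E).comp (algebraMap k₀ k)).toAlgebra
  haveI : IsScalarTower k₀ k E := IsScalarTower.of_algebraMap_eq (fun _ => rfl)
  haveI : IsScalarTower k₀ k (E ⧸ J) := IsScalarTower.of_algebraMap_eq (fun _ => rfl)
  obtain ⟨χ₀, hχ₀⟩ := h₀ E J hJ (ψ.restrictScalars k₀) hψ
  have hmk : ∀ a, Ideal.Quotient.mk J (χ₀ a) = ψ a := fun a => AlgHom.congr_fun hχ₀ a
  have hJJ : ∀ x ∈ J, ∀ y ∈ J, x * y = 0 := by
    intro x hx y hy
    have : x * y ∈ J ^ 2 := by rw [pow_two]; exact Ideal.mul_mem_mul hx hy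
    rwa [hJ, Ideal.mem_bot] at this
  have hδ : ∀ c : k, algebraMap k E c - χ₀ (algebraMap k A c) ∈ J := by
    intro c
    rw [← Ideal.Quotient.eq_zero_iff_mem, map_sub, hmk, ψ.commutes, sub_eq_zero]
    rfl
  letI modA : Module A J := Module.compHom J χ₀.toRingHom
  have hsmulA : ∀ (a : A) (j : J), ((a • j : J) : E) = χ₀ a * j := fun a j => rfl
  have hsmulk : ∀ (c : k) (j : J), ((c • j : J) : E) = algebraMap k E c * j := fun c j => by
    rw [Submodule.coe_smul_of_tower, Algebra.smul_def]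
  have hM : Module.IsTorsionBySet A J (maximalIdeal A) := by
    intro j a
    apply Subtype.ext
    rw [hsmulA]
    exact h1 a.1 a.2 _ (hmk _) j j.2
  letI modK : Module (ResidueField A) J := hM.module
  haveI : IsScalarTower A (ResidueField A) J := hM.isScalarTower
  haveI : IsScalarTower k A J := by
    refine ⟨fun c a j => ?_⟩
    apply Subtype.ext
    rw [hsmulA, hsmulk, hsmulA, Algebra.smul_def, map_mul, ← mul_assoc]
    have := hJJ _ (hδ c) (χ₀ a * j) (J.mul_mem_left _ j.2)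
    rw [sub_mul, sub_eq_zero] at this
    rw [mul_assoc, ← this, mul_assoc]
  let δ₀ : k →+ J :=
    { toFun := fun c => ⟨algebraMap k E c - χ₀ (algebraMap k A c), hδ c⟩
      map_zero' := by
        apply Subtype.ext
        simp
      map_add' := fun a b => by
        apply Subtype.ext
        simp only [map_add, Submodule.coe_add]
        ring }
  let δ : Derivation ℤ k J := Derivation.mk' δ₀.toIntLinearMap (by
    intro a b
    apply Subtype.ext
    change algebraMap k E (a * b) - χ₀ (algebraMap k A (a * b)) =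
      ((a • δ₀ b + b • δ₀ a : J) : E)
    rw [Submodule.coe_add, hsmulk, hsmulk]
    change _ = algebraMap k E a * (algebraMap k E b - χ₀ (algebraMap k A b)) +
      algebraMap k E b * (algebraMap k E a - χ₀ (algebraMap k A a))
    have := hJJ _ (hδ a) _ (hδ b)
    simp only [map_mul]
    linear_combination (-1 : E) * this)
  obtain ⟨D, hD⟩ := exists_derivation_extension hinj δ
  have hDc : ∀ c : k, ((D (algebraMap k A c) : J) : E) =
      algebraMap k E c - χ₀ (algebraMap k A c) := by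
    intro c
    rw [hD]
    rfl
  let χ : A →ₐ[k] E :=
    { toFun := fun a => χ₀ a + (D a : J)
      map_one' := by
        rw [map_one, D.map_one_eq_zero, Submodule.coe_zero, add_zero]
      map_mul' := fun a b => by
        rw [map_mul, D.leibniz, Submodule.coe_add, hsmulA, hsmulA]
        have := hJJ _ (D a).2 _ (D b).2
        linear_combination (-1 : E) * this
      map_zero' := by
        rw [map_zero, map_zero, Submodule.coe_zero, add_zero]
      map_add' := fun a b => by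
        rw [map_add, map_add, Submodule.coe_add]
        ring
      commutes' := fun c => by
        change χ₀ (algebraMap k A c) + ((D (algebraMap k A c) : J) : E) = _
        rw [hDc]
        ring }
  refine ⟨χ, ?_⟩
  ext a
  change Ideal.Quotient.mk J (χ₀ a + (D a : J)) = ψ a
  rw [map_add, hmk, Ideal.Quotient.eq_zero_iff_mem.2 (D a).2, add_zero]

theorem lift_of_pow {k₀ k A : Type u} [Field k₀] [Field k] [CommRing A] [IsLocalRing A]
    [Algebra k₀ k] [Algebra k A] [Algebra k₀ A] [IsScalarTower k₀ k A]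
    (h₀ : CAlgX.IsAdicFormallySmooth k₀ A (maximalIdeal A))
    (hinj : Function.Injective
      ((KaehlerDifferential.mapBaseChange ℤ k A).lTensor (ResidueField A))) (m : ℕ) :
    ∀ (E : Type u) [CommRing E] [Algebra k E] (J : Ideal E), J ^ 2 = ⊥ →
      ∀ ψ : A →ₐ[k] E ⧸ J, (∃ n : ℕ, ∀ x ∈ maximalIdeal A ^ n, ψ x = 0) →
      (∀ x ∈ maximalIdeal A ^ m, ∀ e : E, Ideal.Quotient.mk J e = ψ x → ∀ j ∈ J, e * j = 0) →
      ∃ χ : A →ₐ[k] E, (Ideal.Quotient.mkₐ k J).comp χ = ψ := by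
  classical
  induction m with
  | zero =>
    intro E _ _ J hJ ψ hψ h
    exact lift_of_torsion h₀ hinj E J hJ ψ hψ (fun x _ => h x (by simp))
  | succ m ih =>
    intro E _ _ J hJ ψ hψ hm1
    let S : Set E := {y | ∃ x ∈ maximalIdeal A ^ m, ∃ e : E, Ideal.Quotient.mk J e = ψ x ∧
      ∃ j ∈ J, y = e * j}
    let J' : Ideal E := Ideal.span S
    have hJ'J : J' ≤ J := by
      rw [Ideal.span_le]
      rintro y ⟨x, _, e, _, j, hj, rfl⟩
      exact J.mul_mem_left _ hj
    have hJ'2 : J' ^ 2 = ⊥ := by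
      rw [eq_bot_iff, ← hJ]
      exact Ideal.pow_right_mono hJ'J 2
    let Jb : Ideal (E ⧸ J') := J.map (Ideal.Quotient.mkₐ k J')
    have hJb2 : Jb ^ 2 = ⊥ := by
      change (J.map (Ideal.Quotient.mk J')) ^ 2 = ⊥
      rw [← Ideal.map_pow, hJ, Ideal.map_bot]
    let e := DoubleQuot.quotQuotEquivQuotOfLEₐ k hJ'J
    have he : ∀ z : E, e (Ideal.Quotient.mk Jb (Ideal.Quotient.mk J' z)) =
        Ideal.Quotient.mk J z := fun z => rfl
    let ψb : A →ₐ[k] (E ⧸ J') ⧸ Jb := (e.symm : _ →ₐ[k] _).comp ψ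
    have hψb : ∃ n : ℕ, ∀ x ∈ maximalIdeal A ^ n, ψb x = 0 := by
      obtain ⟨n, hn⟩ := hψ
      refine ⟨n, fun x hx => ?_⟩
      change e.symm (ψ x) = 0
      rw [hn x hx, map_zero]
    have hkey : ∀ (a : A) (e₁ : E) (e' : E ⧸ J'), Ideal.Quotient.mk J' e₁ = e' →
        Ideal.Quotient.mk Jb e' = ψb a → Ideal.Quotient.mk J e₁ = ψ a := by
      intro a e₁ e' h1 h2
      rw [← he, h1, h2]
      change e (e.symm (ψ a)) = ψ a
      rw [AlgEquiv.apply_symm_apply]
    have hmb : ∀ x ∈ maximalIdeal A ^ m, ∀ e' : E ⧸ J', Ideal.Quotient.mk Jb e' = ψb x →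
        ∀ j' ∈ Jb, e' * j' = 0 := by
      intro x hx e' he' j' hj'
      obtain ⟨e₁, rfl⟩ := Ideal.Quotient.mk_surjective e'
      obtain ⟨j, hj, rfl⟩ := (Ideal.mem_map_iff_of_surjective (Ideal.Quotient.mkₐ k J')
        Ideal.Quotient.mk_surjective).1 hj'
      change Ideal.Quotient.mk J' e₁ * Ideal.Quotient.mk J' j = 0
      rw [← map_mul, Ideal.Quotient.eq_zero_iff_mem]
      apply Ideal.subset_span
      exact ⟨x, hx, e₁, hkey x e₁ _ rfl he', j, hj, rfl⟩
    obtain ⟨χb, hχb⟩ := ih (E ⧸ J') Jb hJb2 ψb hψb hmb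
    have hχb' : ∀ a, Ideal.Quotient.mk Jb (χb a) = ψb a := fun a => AlgHom.congr_fun hχb a
    have hχbk : ∃ n : ℕ, ∀ x ∈ maximalIdeal A ^ n, χb x = 0 := by
      obtain ⟨n, hn⟩ := hψb
      refine ⟨n * 2, fun x hx => ?_⟩
      have h1 : maximalIdeal A ^ n ≤ Jb.comap χb.toRingHom := by
        intro y hy
        rw [Ideal.mem_comap]
        change χb y ∈ Jb
        rw [← Ideal.Quotient.eq_zero_iff_mem, hχb' y, hn y hy]
      have h2 : (maximalIdeal A ^ n) ^ 2 ≤ (Jb ^ 2).comap χb.toRingHom :=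
        (Ideal.pow_right_mono h1 _).trans (Ideal.le_comap_pow _ _)
      rw [pow_mul] at hx
      have := h2 hx
      rw [hJb2] at this
      simpa using this
    have h1' : ∀ x ∈ maximalIdeal A, ∀ e₁ : E, Ideal.Quotient.mk J' e₁ = χb x →
        ∀ j' ∈ J', e₁ * j' = 0 := by
      intro x hx e₁ he₁ j' hj'
      have h3 : Ideal.Quotient.mk J e₁ = ψ x := hkey x e₁ _ he₁ (hχb' x)
      induction hj' using Submodule.span_induction with
      | mem y hy =>
        obtain ⟨x₂, hx₂, e₂, he₂, j, hj, rfl⟩ := hy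
        rw [← mul_assoc]
        apply hm1 (x * x₂) ?_ (e₁ * e₂) ?_ j hj
        · rw [pow_succ']
          exact Ideal.mul_mem_mul hx hx₂
        · rw [map_mul, map_mul, h3, he₂]
      | zero => rw [mul_zero]
      | add y z _ _ hy hz => rw [mul_add, hy, hz, add_zero]
      | smul c y _ hy => rw [smul_eq_mul, mul_left_comm, hy, mul_zero]
    obtain ⟨χ, hχ⟩ := lift_of_torsion h₀ hinj E J' hJ'2 χb hχbk h1'
    refine ⟨χ, ?_⟩
    ext a
    change Ideal.Quotient.mk J (χ a) = ψ a
    exact hkey a (χ a) (χb a) (AlgHom.congr_fun hχ a) (hχb' a)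

theorem injective_of_fs {k A : Type u} [Field k] [CommRing A] [IsLocalRing A] [Algebra k A]
    (h : CAlgX.IsAdicFormallySmooth k A (maximalIdeal A)) :
    Function.Injective
      ((KaehlerDifferential.mapBaseChange ℤ k A).lTensor (ResidueField A)) := by
  classical
  let K := ResidueField A
  let f : K ⊗[A] (A ⊗[k] Ω[k⁄ℤ]) →ₗ[K] K ⊗[A] Ω[A⁄ℤ] :=
    (KaehlerDifferential.mapBaseChange ℤ k A).baseChange K
  suffices hf : Function.Injective f by
    have h2 : (f : K ⊗[A] (A ⊗[k] Ω[k⁄ℤ]) → K ⊗[A] Ω[A⁄ℤ]) =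
        (KaehlerDifferential.mapBaseChange ℤ k A).lTensor K := LinearMap.baseChange_eq_ltensor _
    rw [← h2]
    exact hf
  rw [injective_iff_map_eq_zero]
  intro ω hω
  rw [← Module.forall_dual_apply_eq_zero_iff K]
  intro φ
  -- the derivation `c ↦ φ (1 ⊗ (1 ⊗ d c))`
  let D₀ : k →+ K :=
    { toFun := fun c => φ ((1 : K) ⊗ₜ[A] ((1 : A) ⊗ₜ[k] KaehlerDifferential.D ℤ k c))
      map_zero' := by simp
      map_add' := fun a b => by
        rw [map_add, TensorProduct.tmul_add, TensorProduct.tmul_add, map_add] }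
  have hsm : ∀ (c : k) (w : Ω[k⁄ℤ]), φ ((1 : K) ⊗ₜ[A] ((1 : A) ⊗ₜ[k] (c • w))) =
      algebraMap k K c * φ ((1 : K) ⊗ₜ[A] ((1 : A) ⊗ₜ[k] w)) := by
    intro c w
    have e1 : (1 : A) ⊗ₜ[k] (c • w) = (algebraMap k A c) • ((1 : A) ⊗ₜ[k] w) := by
      rw [TensorProduct.tmul_smul, algebraMap_smul]
    have e2 : (1 : K) ⊗ₜ[A] ((algebraMap k A c) • ((1 : A) ⊗ₜ[k] w)) =
        (algebraMap k K c) • ((1 : K) ⊗ₜ[A] ((1 : A) ⊗ₜ[k] w)) := by
      rw [TensorProduct.tmul_smul, ← algebraMap_smul K (algebraMap k A c),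
        ← IsScalarTower.algebraMap_apply]
    rw [e1, e2, map_smul, smul_eq_mul]
  let D : Derivation ℤ k K := Derivation.mk' D₀.toIntLinearMap (by
    intro a b
    change φ ((1 : K) ⊗ₜ[A] ((1 : A) ⊗ₜ[k] KaehlerDifferential.D ℤ k (a * b))) =
      a • φ ((1 : K) ⊗ₜ[A] ((1 : A) ⊗ₜ[k] KaehlerDifferential.D ℤ k b)) +
      b • φ ((1 : K) ⊗ₜ[A] ((1 : A) ⊗ₜ[k] KaehlerDifferential.D ℤ k a))
    rw [Derivation.leibniz, TensorProduct.tmul_add, TensorProduct.tmul_add, map_add, hsm, hsm,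
      Algebra.smul_def, Algebra.smul_def])
  obtain ⟨δ, hadd, hmul, hc⟩ :=
    Groth.Agent.Lib.helper25.Sep.exists_derivation_of_adicFormallySmooth h D
  have h0 : δ 0 = 0 := by
    have := hadd 0 0
    rw [add_zero] at this
    exact left_eq_add.1 this
  let δ₀ : A →+ K :=
    { toFun := δ
      map_zero' := h0
      map_add' := hadd }
  let DA : Derivation ℤ A K := Derivation.mk' δ₀.toIntLinearMap (by
    intro a b
    change δ (a * b) = a • δ b + b • δ a
    rw [hmul, Algebra.smul_def, Algebra.smul_def]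
    rfl)
  let Λ : K ⊗[A] Ω[A⁄ℤ] →ₗ[K] K := LinearMap.liftBaseChange K DA.liftKaehlerDifferential
  have hbase : ∀ w : Ω[k⁄ℤ], Λ (f ((1 : K) ⊗ₜ[A] ((1 : A) ⊗ₜ[k] w))) =
      φ ((1 : K) ⊗ₜ[A] ((1 : A) ⊗ₜ[k] w)) := by
    intro w
    have hw : w ∈ Submodule.span k (Set.range (KaehlerDifferential.D ℤ k)) := by
      rw [KaehlerDifferential.span_range_derivation]; trivial
    induction hw using Submodule.span_induction with
    | mem w hw =>
      obtain ⟨c, rfl⟩ := hw
      change Λ ((KaehlerDifferential.mapBaseChange ℤ k A).baseChange K _) = _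
      rw [LinearMap.baseChange_tmul, KaehlerDifferential.mapBaseChange_tmul, one_smul,
        KaehlerDifferential.map_D]
      change LinearMap.liftBaseChange K DA.liftKaehlerDifferential _ = _
      rw [LinearMap.liftBaseChange_tmul, one_smul, Derivation.liftKaehlerDifferential_comp_D]
      exact hc c
    | zero => simp
    | add y z _ _ hy hz =>
      rw [TensorProduct.tmul_add, TensorProduct.tmul_add, map_add, map_add, map_add, hy, hz]
    | smul c y _ hy =>
      rw [hsm, ← hy]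
      have e1 : (1 : A) ⊗ₜ[k] (c • y) = (algebraMap k A c) • ((1 : A) ⊗ₜ[k] y) := by
        rw [TensorProduct.tmul_smul, algebraMap_smul]
      have e2 : (1 : K) ⊗ₜ[A] ((algebraMap k A c) • ((1 : A) ⊗ₜ[k] y)) =
          (algebraMap k K c) • ((1 : K) ⊗ₜ[A] ((1 : A) ⊗ₜ[k] y)) := by
        rw [TensorProduct.tmul_smul, ← algebraMap_smul K (algebraMap k A c),
          ← IsScalarTower.algebraMap_apply]
      rw [e1, e2, map_smul, map_smul, smul_eq_mul]
  have hmid : ∀ y : A ⊗[k] Ω[k⁄ℤ], Λ (f ((1 : K) ⊗ₜ[A] y)) = φ ((1 : K) ⊗ₜ[A] y) := by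
    intro y
    induction y using TensorProduct.induction_on with
    | zero => simp
    | add y z hy hz =>
      rw [TensorProduct.tmul_add, map_add, map_add, map_add, hy, hz]
    | tmul a w =>
      have ha : (1 : K) ⊗ₜ[A] (a ⊗ₜ[k] w) =
          (algebraMap A K a) • ((1 : K) ⊗ₜ[A] ((1 : A) ⊗ₜ[k] w)) := by
        rw [algebraMap_smul, ← TensorProduct.tmul_smul, TensorProduct.smul_tmul', smul_eq_mul,
          mul_one]
      rw [ha, map_smul, map_smul, map_smul, hbase]
  have hkey : ∀ t : K ⊗[A] (A ⊗[k] Ω[k⁄ℤ]), Λ (f t) = φ t := by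
    intro t
    induction t using TensorProduct.induction_on with
    | zero => simp
    | add x y hx hy => rw [map_add, map_add, map_add, hx, hy]
    | tmul x y =>
      have hx : x ⊗ₜ[A] y = x • ((1 : K) ⊗ₜ[A] y) := by
        rw [TensorProduct.smul_tmul', smul_eq_mul, mul_one]
      rw [hx, map_smul, map_smul, map_smul, hmid]
  rw [← hkey, hω, map_zero]

theorem fs_of_regular_of_injective {k A : Type u} [Field k] [CommRing A] [IsLocalRing A]
    [IsNoetherianRing A] [Algebra k A] (hreg : IsRegularLocalRing A)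
    (hinj : Function.Injective
      ((KaehlerDifferential.mapBaseChange ℤ k A).lTensor (ResidueField A))) :
    CAlgX.IsAdicFormallySmooth k A (maximalIdeal A) := by
  classical
  obtain ⟨k₀, _, _, hk₀⟩ := H14.FSField.exists_primeField k
  letI : Algebra k₀ A := ((algebraMap k A).comp (algebraMap k₀ k)).toAlgebra
  haveI : IsScalarTower k₀ k A := IsScalarTower.of_algebraMap_eq (fun _ => rfl)
  haveI : Algebra.FormallySmooth k₀ (ResidueField A) := hk₀ _
  haveI : Algebra.IsGeometricallyReduced k₀ (ResidueField A) :=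
    Groth.Agent.S2451.result.1 inferInstance
  have h₀ : CAlgX.IsAdicFormallySmooth k₀ A (maximalIdeal A) := fs_of_regular
  intro E _ _ J hJ ψ hψ
  obtain ⟨n, hn⟩ := hψ
  apply lift_of_pow h₀ hinj n E J hJ ψ ⟨n, hn⟩
  intro x hx e he j hj
  have heJ : e ∈ J := by rw [← Ideal.Quotient.eq_zero_iff_mem, he, hn x hx]
  have : e * j ∈ J ^ 2 := by rw [pow_two]; exact Ideal.mul_mem_mul heJ hj
  rwa [hJ, Ideal.mem_bot] at this

theorem fs_iff {k A : Type u} [Field k] [CommRing A] [IsLocalRing A] [IsNoetherianRing A]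
    [Algebra k A] :
    CAlgX.IsAdicFormallySmooth k A (maximalIdeal A) ↔
      (IsRegularLocalRing A ∧ Function.Injective
        ((KaehlerDifferential.mapBaseChange ℤ k A).lTensor (ResidueField A))) :=
  ⟨fun h => ⟨H14.FSField.isRegularLocalRing_of_fs h, injective_of_fs h⟩,
    fun h => fs_of_regular_of_injective h.1 h.2⟩

end H14.FSJac
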