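import Mathlib
import Groth.Prelude.Def_EGA41
import Groth.Agent.Lib.helper25.PBasisG
import Groth.Agent.Lib.helper25.PB2

/-!
# Adjoining `p`-th roots of a `p`-independent family

For a field `k` of characteristic `p` and `a : Fin r → k` we study `Bq p a = k[T]/(T_i^p - a_i)`
(notation of `helper25.PB2`).

* `H14.PRoot.li_of_li`: linear independence of `d a_i` in `Ω_{k/ℤ}` gives linear independence in
  `Ω_{k/k₀}` when `ℤ → k₀` is surjective.
* `H14.PRoot.span_mon`: the reduced monomials span `Bq p a`.
* `H14.PRoot.isField`: if the `a_i` are `p`-independent then `Bq p a` is a field.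
* `H14.PRoot.nonempty_equiv`: `Bq p a ⊗[k] A ≃+* Bq p (algebraMap ∘ a)`.
-/

set_option autoImplicit false
universe u

namespace H14.PRoot

open EGA41 Groth.Agent.Lib.helper25.PBasisA Groth.Agent.Lib.helper25.PB
  Groth.Agent.Lib.helper25.PBasisF TensorProduct

section W0
variable {k₀ k : Type u} [Field k₀] [Field k] [Algebra k₀ k]

theorem map_injective (hs : Function.Surjective (algebraMap ℤ k₀)) :
    Function.Injective (KaehlerDifferential.map ℤ k₀ k k) := by
  haveI : Subsingleton (Ω[k₀⁄ℤ]) := KaehlerDifferential.subsingleton_of_surjective ℤ k₀ hs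
  rw [← LinearMap.ker_eq_bot, ← KaehlerDifferential.range_mapBaseChange, eq_bot_iff]
  rintro _ ⟨x, rfl⟩
  rw [Subsingleton.elim x 0, map_zero]
  exact Submodule.zero_mem _

theorem li_of_li (hs : Function.Surjective (algebraMap ℤ k₀)) {ι : Type*} (a : ι → k)
    (h : LinearIndependent k (fun i => KaehlerDifferential.D ℤ k (a i))) :
    LinearIndependent k (fun i => KaehlerDifferential.D k₀ k (a i)) := by
  have := h.map' (KaehlerDifferential.map ℤ k₀ k k) (LinearMap.ker_eq_bot.2 (map_injective hs))
  have h2 : (fun i => KaehlerDifferential.D k₀ k (a i)) =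
      (KaehlerDifferential.map ℤ k₀ k k) ∘ fun i => KaehlerDifferential.D ℤ k (a i) := by
    funext i
    simp [KaehlerDifferential.map_D]
  rw [h2]
  exact this

end W0

section W1
variable {k : Type u} [Field k] (p : ℕ) [hp : Fact p.Prime] [CharP k p] {r : ℕ} (a : Fin r → k)

/-- the classes of the variables, indexed in universe `u` -/
noncomputable def tU (i : ULift.{u} (Fin r)) : Bq p a := tq p a i.down

/-- the reduced monomials span `k[T]/(T_i^p - a_i)` -/
theorem span_mon : Submodule.span k (Set.range fun e : Ered p (ULift.{u} (Fin r)) =>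
    pMonomial (tU p a) e.1) = ⊤ := by
  classical
  set S := Submodule.span k (Set.range fun e : Ered p (ULift.{u} (Fin r)) =>
    pMonomial (tU p a) e.1) with hS
  have hsd : ∀ (c : k) (x : Bq p a), c • x = algebraMap k (Bq p a) c * x :=
    fun c x => Algebra.smul_def c x
  have hmul : ∀ (i : Fin r) (s : Bq p a), s ∈ S → s * tq p a i ∈ S := by
    intro i s hs
    induction hs using Submodule.span_induction with
    | mem s hs =>
      obtain ⟨e, rfl⟩ := hs
      let j : ULift.{u} (Fin r) := ⟨i⟩
      by_cases hlt : e.1 j + 1 < p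
      · have : pMonomial (tU p a) e.1 * tq p a i =
            pMonomial (tU p a) (e.1 + Finsupp.single j 1) := by
          rw [pMonomial_add, pMonomial_single, pow_one]
          rfl
        rw [this]
        refine Submodule.subset_span ⟨⟨e.1 + Finsupp.single j 1, fun j' => ?_⟩, rfl⟩
        rw [Finsupp.add_apply, Finsupp.single_apply]
        split_ifs with hj
        · subst hj; exact hlt
        · rw [add_zero]; exact e.2 j'
      · have hej : e.1 j = p - 1 := by
          have := e.2 j
          omega
        have hdecomp : e.1 = e.1.erase j + Finsupp.single j (p - 1) := by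
          rw [← hej, Finsupp.erase_add_single]
        have : pMonomial (tU p a) e.1 * tq p a i =
            a i • pMonomial (tU p a) (e.1.erase j) := by
          conv_lhs => rw [hdecomp]
          rw [pMonomial_add, pMonomial_single, mul_assoc]
          have h2 : tU p a j ^ (p - 1) * tq p a i = tq p a i ^ p := by
            change tq p a i ^ (p - 1) * tq p a i = _
            rw [← pow_succ, Nat.sub_add_cancel hp.out.one_le]
          rw [h2, tq_pow, hsd, mul_comm]
        rw [this]
        apply Submodule.smul_mem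
        refine Submodule.subset_span ⟨⟨e.1.erase j, fun j' => ?_⟩, rfl⟩
        rw [Finsupp.erase_apply]
        split_ifs
        · exact hp.out.pos
        · exact e.2 j'
    | zero => rw [zero_mul]; exact Submodule.zero_mem _
    | add x y _ _ hx hy => rw [add_mul]; exact Submodule.add_mem _ hx hy
    | smul c x _ hx => rw [smul_mul_assoc]; exact Submodule.smul_mem _ _ hx
  rw [eq_top_iff]
  intro b _
  obtain ⟨q, rfl⟩ := Ideal.Quotient.mk_surjective b
  clear * - hmul hsd
  induction q using MvPolynomial.induction_on with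
  | C c =>
    have : (Ideal.Quotient.mk (Iq p a) (MvPolynomial.C c) : Bq p a) =
        c • pMonomial (tU p a) (0 : ULift.{u} (Fin r) →₀ ℕ) := by
      rw [pMonomial_zero, hsd, mul_one]
      rfl
    rw [this]
    apply Submodule.smul_mem
    exact Submodule.subset_span ⟨⟨0, fun _ => hp.out.pos⟩, rfl⟩
  | add x y hx hy => rw [map_add]; exact Submodule.add_mem _ hx hy
  | mul_X x i hx =>
    rw [map_mul]
    exact hmul i _ hx

variable {k₀ : Type u} [Field k₀] [Algebra k₀ k]

theorem eq_zero_of_pow_eq_zero
    (hpi : IsPIndependent p k₀ (fun i : ULift.{u} (Fin r) => a i.down)) (b : Bq p a)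
    (hb : b ^ p = 0) : b = 0 := by
  classical
  haveI := charP_Bq p a
  haveI := nontrivial_Bq p a
  have hsd : ∀ (c : k) (x : Bq p a), c • x = algebraMap k (Bq p a) c * x :=
    fun c x => Algebra.smul_def c x
  have hb' : b ∈ Submodule.span k (Set.range fun e : Ered p (ULift.{u} (Fin r)) =>
      pMonomial (tU p a) e.1) := by rw [span_mon]; trivial
  obtain ⟨c, rfl⟩ := (Finsupp.mem_span_range_iff_exists_finsupp).1 hb'
  set a' : ULift.{u} (Fin r) → k := fun i => a i.down with ha'
  have hmon : ∀ e : Ered p (ULift.{u} (Fin r)), pMonomial (tU p a) e.1 ^ p =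
      algebraMap k (Bq p a) (pMonomial a' e.1) := by
    intro e
    have h1 := map_pMonomial (tU p a) (frobenius (Bq p a) p) e.1
    have h2 := map_pMonomial a' (algebraMap k (Bq p a)) e.1
    rw [h2]
    rw [frobenius_def] at h1
    rw [h1]
    congr 1
    funext i
    rw [frobenius_def]
    exact tq_pow p a i.down
  have hpow : (c.sum fun e x => x • pMonomial (tU p a) e.1) ^ p =
      algebraMap k (Bq p a) (c.sum fun e x => x ^ p * pMonomial a' e.1) := by
    rw [← frobenius_def, map_finsuppSum, map_finsuppSum]
    refine Finsupp.sum_congr fun e _ => ?_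
    rw [frobenius_def, smul_pow, hmon, hsd, ← map_mul]
  have hinj : Function.Injective (algebraMap k (Bq p a)) := (algebraMap k (Bq p a)).injective
  have h0 : (c.sum fun e x => x ^ p * pMonomial a' e.1) = 0 :=
    hinj (by rw [← hpow, hb, map_zero])
  let φ : k → pPowerSubalgebra p k₀ k := fun x => ⟨x ^ p, Algebra.subset_adjoin ⟨x, rfl⟩⟩
  have hφ0 : φ 0 = 0 := Subtype.ext (zero_pow hp.out.ne_zero)
  let l := c.mapRange φ hφ0
  have hl : Finsupp.linearCombination (pPowerSubalgebra p k₀ k)
      (fun e : Ered p (ULift.{u} (Fin r)) => pMonomial a' e.1) l = 0 := by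
    rw [Finsupp.linearCombination_apply, Finsupp.sum_mapRange_index (by intro; simp)]
    exact h0
  have hl0 : l = 0 := linearIndependent_iff.1 hpi l hl
  have hc : c = 0 := by
    ext e
    have := DFunLike.congr_fun hl0 e
    have h3 : (c e) ^ p = 0 := congrArg Subtype.val this
    rw [Finsupp.zero_apply]
    exact pow_eq_zero_iff hp.out.ne_zero |>.1 h3
  rw [hc]
  simp

theorem isField (hpi : IsPIndependent p k₀ (fun i : ULift.{u} (Fin r) => a i.down)) :
    IsField (Bq p a) := by
  haveI := nontrivial_Bq p a
  refine ⟨exists_pair_ne _, mul_comm, fun {b} hb => ?_⟩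
  obtain ⟨c, hc⟩ := pow_mem_range p a b
  have hc0 : c ≠ 0 := by
    rintro rfl
    rw [map_zero] at hc
    exact hb (eq_zero_of_pow_eq_zero p a hpi b hc)
  have hu : IsUnit (b ^ p) := by
    rw [hc]
    exact (IsUnit.mk0 c hc0).map _
  have := (isUnit_pow_iff hp.out.ne_zero).1 hu
  obtain ⟨u, rfl⟩ := this
  exact ⟨↑u⁻¹, u.mul_inv⟩

end W1

section W3
variable {k A : Type u} [CommRing k] [CommRing A] [Algebra k A] (p : ℕ) {r : ℕ} (a : Fin r → k)

theorem nonempty_equiv :
    Nonempty ((Bq p a) ⊗[k] A ≃+* Bq p (fun i => algebraMap k A (a i))) := by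
  classical
  let P := MvPolynomial (Fin r) k
  let e1 : Bq p a ⊗[k] A ≃ₐ[k] A ⊗[k] Bq p a := Algebra.TensorProduct.comm k _ _
  let e2 := Algebra.TensorProduct.tensorQuotientEquiv (R := k) A P A (Iq p a)
  let e3 : A ⊗[k] P ≃ₐ[A] MvPolynomial (Fin r) A := MvPolynomial.algebraTensorAlgEquiv k A
  have h : Iq p (fun i => algebraMap k A (a i)) =
      ((Iq p a).map (Algebra.TensorProduct.includeRight (A := A) (R := k))).map
        (e3.toRingEquiv : A ⊗[k] P →+* MvPolynomial (Fin r) A) := by
    rw [Iq, Iq, Ideal.map_span, ← Set.range_comp, Ideal.map_span, ← Set.range_comp]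
    congr 2
    funext i
    change _ = e3 ((1 : A) ⊗ₜ[k] (MvPolynomial.X i ^ p - MvPolynomial.C (a i)))
    rw [MvPolynomial.algebraTensorAlgEquiv_tmul, one_smul]
    simp
  let e4 := Ideal.quotientEquiv _ _ e3.toRingEquiv h
  exact ⟨e1.toRingEquiv.trans (e2.toRingEquiv.trans e4)⟩

end W3

end H14.PRoot
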