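import Mathlib
import Groth.Prelude.Def_EGA41
import Groth.Prelude.Def_CAlgX
import Groth.Agent.Lib.helper14.PRoot
import Groth.Agent.Lib.helper14.FSJacB
import Groth.Agent.Lib.helper25.Sep1
import Groth.Agent.S2473
import Groth.Agent.S2451

/-!
# Geometric regularity criterion for adic formal smoothness over a field

`H14.PRoot.fs_of_regular_baseChange`: a Noetherian local `k`-algebra `A` such that `k' ⊗_k A` is
regular for every finite extension `k'` of `k` with `k'^p ⊆ k` (`p` the characteristic exponent) is
formally smooth over `k` for the adic topology.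
-/

set_option autoImplicit false
universe u

namespace H14.PRoot

open EGA41 Groth.Agent.Lib.helper25.PBasisA Groth.Agent.Lib.helper25.PB
  Groth.Agent.Lib.helper25.PBasisF TensorProduct IsLocalRing

theorem li_of_regular {k A : Type u} [Field k] [CommRing A] [IsRegularLocalRing A] [Algebra k A]
    (p : ℕ) [hp : Fact p.Prime] [CharP k p]
    (hyp : ∀ (k' : Type u) [Field k'] [Algebra k k'], Module.Finite k k' →
      (∀ x : k', x ^ p ∈ (algebraMap k k').range) → IsRegularRing (k' ⊗[k] A))
    {r : ℕ} (a : Fin r → k)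
    (hli : LinearIndependent k (fun i => KaehlerDifferential.D ℤ k (a i))) :
    LinearIndependent (ResidueField A)
      (fun i => (1 : ResidueField A) ⊗ₜ[A] KaehlerDifferential.D ℤ A (algebraMap k A (a i))) := by
  classical
  -- the prime field
  let φ : ULift.{u} (ZMod p) →+* k :=
    (ZMod.castHom (dvd_refl p) k).comp (ULift.ringEquiv : ULift.{u} (ZMod p) ≃+* ZMod p).toRingHom
  letI : Algebra (ULift.{u} (ZMod p)) k := φ.toAlgebra
  have hs : Function.Surjective (algebraMap ℤ (ULift.{u} (ZMod p))) := by
    intro x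
    refine ⟨(x.down.val : ℤ), ?_⟩
    rw [eq_intCast, ← map_intCast (ULift.ringEquiv.symm : ZMod p ≃+* ULift.{u} (ZMod p)),
      Int.cast_natCast, ZMod.natCast_zmod_val]
    rfl
  have hli' := li_of_li (k₀ := ULift.{u} (ZMod p)) hs a hli
  have hli'' : LinearIndependent k (fun i : ULift.{u} (Fin r) =>
      KaehlerDifferential.D (ULift.{u} (ZMod p)) k (a i.down)) :=
    hli'.comp ULift.down ULift.down_injective
  have hpi : IsPIndependent p (ULift.{u} (ZMod p)) (fun i : ULift.{u} (Fin r) => a i.down) :=
    Groth.Agent.Lib.helper25.PBasisG.isPIndependent_of_li_D _ hli''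
  have hF := isField p a hpi
  letI : Field (Bq p a) := hF.toField
  have hfin : Module.Finite k (Bq p a) := finite_Bq p a
  have hpow : ∀ x : Bq p a, x ^ p ∈ (algebraMap k (Bq p a)).range := by
    intro x
    obtain ⟨c, hc⟩ := pow_mem_range p a x
    exact ⟨c, hc.symm⟩
  have hreg : IsRegularRing (Bq p a ⊗[k] A) := hyp (Bq p a) hfin hpow
  obtain ⟨e⟩ := nonempty_equiv (A := A) p a
  haveI : CharP (ResidueField A) p :=
    charP_of_injective_algebraMap (algebraMap k (ResidueField A)).injective p
  have hp2 : (p : A) ∈ maximalIdeal A ^ 2 := by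
    have : (p : A) = 0 := by
      rw [← map_natCast (algebraMap k A), CharP.cast_eq_zero, map_zero]
    rw [this]
    exact Submodule.zero_mem _
  have h := Groth.Agent.S2473.result (A := A) p (fun (_ : Fin r) (_ : Fin p) => (0 : A))
    (fun i => algebraMap k A (a i)) hp2
  refine h.2.1 ?_
  refine IsRegularRing.of_ringEquiv (e.trans (Ideal.quotEquivOfEq ?_))
  unfold Iq
  congr 2
  funext i
  simp

theorem injective_of_li {k A : Type u} [Field k] [CommRing A] [IsLocalRing A] [Algebra k A]
    (H : ∀ (r : ℕ) (a : Fin r → k),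
      LinearIndependent k (fun i => KaehlerDifferential.D ℤ k (a i)) →
      LinearIndependent (ResidueField A)
        (fun i => (1 : ResidueField A) ⊗ₜ[A] KaehlerDifferential.D ℤ A (algebraMap k A (a i)))) :
    Function.Injective
      ((KaehlerDifferential.mapBaseChange ℤ k A).lTensor (ResidueField A)) := by
  classical
  let K := ResidueField A
  let f : K ⊗[A] (A ⊗[k] Ω[k⁄ℤ]) →ₗ[K] K ⊗[A] Ω[A⁄ℤ] :=
    (KaehlerDifferential.mapBaseChange ℤ k A).baseChange K
  suffices hf : Function.Injective f by
    have h2 : (f : K ⊗[A] (A ⊗[k] Ω[k⁄ℤ]) → K ⊗[A] Ω[A⁄ℤ]) =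
        (KaehlerDifferential.mapBaseChange ℤ k A).lTensor K := LinearMap.baseChange_eq_ltensor _
    rw [← h2]
    exact hf
  obtain ⟨b, hbs, hbspan, hbli⟩ := exists_linearIndependent k (Set.range (KaehlerDifferential.D ℤ k))
  rw [KaehlerDifferential.span_range_derivation] at hbspan
  let B₀ : Module.Basis b k Ω[k⁄ℤ] := Module.Basis.mk hbli (by rw [Subtype.range_coe, hbspan])
  have hB₀ : ∀ i, B₀ i = i.1 := fun i => Module.Basis.mk_apply _ _ i
  have hx : ∀ i : b, ∃ x : k, KaehlerDifferential.D ℤ k x = i.1 := fun i => hbs i.2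
  choose x hx using hx
  let B₂ : Module.Basis b K (K ⊗[A] (A ⊗[k] Ω[k⁄ℤ])) := (B₀.baseChange A).baseChange K
  have hB₂ : ∀ i, B₂ i = (1 : K) ⊗ₜ[A] ((1 : A) ⊗ₜ[k] KaehlerDifferential.D ℤ k (x i)) := by
    intro i
    rw [Module.Basis.baseChange_apply, Module.Basis.baseChange_apply, hB₀, hx]
  apply LinearMap.injective_of_linearIndependent (v := B₂) B₂.span_eq
  have hfB : ∀ i, f (B₂ i) =
      (1 : K) ⊗ₜ[A] KaehlerDifferential.D ℤ A (algebraMap k A (x i)) := by
    intro i
    rw [hB₂]
    change (KaehlerDifferential.mapBaseChange ℤ k A).baseChange K _ = _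
    rw [LinearMap.baseChange_tmul, KaehlerDifferential.mapBaseChange_tmul, one_smul,
      KaehlerDifferential.map_D]
  rw [linearIndependent_iff_finset_linearIndependent]
  intro s
  let e := s.equivFin
  have h1 : LinearIndependent k (fun i : Fin s.card =>
      KaehlerDifferential.D ℤ k (x (e.symm i).1)) := by
    have := B₀.linearIndependent.comp (fun i : Fin s.card => (e.symm i).1)
      (Subtype.val_injective.comp e.symm.injective)
    have h5 : (fun i : Fin s.card => KaehlerDifferential.D ℤ k (x (e.symm i).1)) =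
        ⇑B₀ ∘ fun i : Fin s.card => (e.symm i).1 := by
      funext i
      rw [Function.comp_apply, hB₀, hx]
    rw [h5]
    exact this
  have h2 := H s.card (fun i => x (e.symm i).1) h1
  have h3 := h2.comp e e.injective
  have h6 : (⇑f ∘ ⇑B₂) ∘ (Subtype.val : s → b) =
      (fun i : Fin s.card => (1 : ResidueField A) ⊗ₜ[A]
        KaehlerDifferential.D ℤ A (algebraMap k A (x (e.symm i).1))) ∘ ⇑e := by
    funext i
    rw [Function.comp_apply, Function.comp_apply, Function.comp_apply, hfB,
      Equiv.symm_apply_apply]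
  rw [h6]
  exact h3

theorem fs_of_regular_baseChange {k A : Type u} [Field k] (p : ℕ) [ExpChar k p] [CommRing A]
    [IsLocalRing A] [IsNoetherianRing A] [Algebra k A]
    (hyp : ∀ (k' : Type u) [Field k'] [Algebra k k'], Module.Finite k k' →
      (∀ x : k', x ^ p ∈ (algebraMap k k').range) → IsRegularRing (k' ⊗[k] A)) :
    CAlgX.IsAdicFormallySmooth k A (maximalIdeal A) := by
  classical
  have h1 : IsRegularRing (k ⊗[k] A) := hyp k (Module.Finite.self k) (fun x => ⟨x ^ p, rfl⟩)
  haveI : IsRegularRing A := IsRegularRing.of_ringEquiv (Algebra.TensorProduct.lid k A).toRingEquiv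
  haveI hreg : IsRegularLocalRing A := IsRegularLocalRing.of_isRegularRing_of_isLocalRing A
  cases ‹ExpChar k p› with
  | zero =>
    haveI : Algebra.FormallySmooth k (ResidueField A) :=
      Groth.Agent.Lib.helper25.Sep.formallySmooth_of_charZero
    haveI : Algebra.IsGeometricallyReduced k (ResidueField A) :=
      Groth.Agent.S2451.result.1 inferInstance
    exact H14.FSJac.fs_of_regular
  | prime hp =>
    haveI : Fact p.Prime := ⟨hp⟩
    exact H14.FSJac.fs_of_regular_of_injective hreg
      (injective_of_li (fun r a hli => li_of_regular p hyp a hli))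

end H14.PRoot
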