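import Mathlib
import Groth.Prelude.Def_CAlgX
import Groth.Agent.Lib.helper14.FSJacC
import Groth.Agent.Lib.helper20.RegQuot6

/-!
# Localizations of formally smooth local algebras over a field

`H14.PRoot.fs_localization`: if a Noetherian local `k`-algebra is formally smooth for its adic topology,
so are its localizations at primes. `isRegularRing_tensor_localization`.
-/

set_option autoImplicit false
universe u

namespace H14.PRoot

open TensorProduct IsLocalRing

theorem isRegularRing_tensor_localization {k A k' : Type u} [Field k] [CommRing A] [Algebra k A]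
    [Field k'] [Algebra k k'] (hreg : IsRegularRing (k' ⊗[k] A)) (p : Ideal A) [p.IsPrime] :
    IsRegularRing (k' ⊗[k] Localization.AtPrime p) := by
  classical
  let Ap := Localization.AtPrime p
  let S' := A ⊗[k] k'
  haveI : IsRegularRing S' :=
    IsRegularRing.of_ringEquiv (Algebra.TensorProduct.comm k k' A).toRingEquiv
  let M := Algebra.algebraMapSubmonoid S' p.primeCompl
  haveI : IsRegularRing (Localization M) :=
    Groth.Agent.Lib.helper20.RegQuot.isRegularRing_localization M
  haveI : IsLocalization M (S' ⊗[A] Ap) := IsLocalization.tensor Ap p.primeCompl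
  let e1 : Localization M ≃ₐ[S'] S' ⊗[A] Ap := Localization.algEquiv M _
  let e2 : S' ⊗[A] Ap ≃ₐ[A] Ap ⊗[A] S' := Algebra.TensorProduct.comm A S' Ap
  let e3 : Ap ⊗[A] (A ⊗[k] k') ≃ₐ[A] Ap ⊗[k] k' :=
    Algebra.TensorProduct.cancelBaseChange k A A Ap k'
  let e4 : Ap ⊗[k] k' ≃ₐ[k] k' ⊗[k] Ap := Algebra.TensorProduct.comm k Ap k'
  exact IsRegularRing.of_ringEquiv
    (e1.toRingEquiv.trans (e2.toRingEquiv.trans (e3.toRingEquiv.trans e4.toRingEquiv)))

theorem fs_localization {k A : Type u} [Field k] [CommRing A]
    [IsLocalRing A] [IsNoetherianRing A] [Algebra k A]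
    (h : CAlgX.IsAdicFormallySmooth k A (maximalIdeal A))
    (p : Ideal A) [p.IsPrime] :
    CAlgX.IsAdicFormallySmooth k (Localization.AtPrime p)
      (maximalIdeal (Localization.AtPrime p)) := by
  obtain ⟨q, hq⟩ := ExpChar.exists k
  haveI : IsNoetherianRing (Localization.AtPrime p) :=
    IsLocalization.isNoetherianRing p.primeCompl _ inferInstance
  apply fs_of_regular_baseChange q
  intro k' _ _ hfin _
  exact isRegularRing_tensor_localization (H14.FSField.isGeometricallyRegular_of_fs h k' hfin) p

end H14.PRoot
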