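import Mathlib
import Groth.Prelude.Def_EGA41
import Groth.Agent.Lib.helper14.FibProd
import Groth.Agent.Lib.helper14.FSAdic
import Groth.Agent.Lib.helper14.FSAdicLift

/-!
# Formal smoothness of formally projective adic algebras: reduction modulo the ideal of definition
-/

universe u

namespace H14.FSProj

/-- the lifting property against `A`-algebras killed by `𝔞` -/
def Q (A : Type u) [CommRing A] (𝔞 : Ideal A) (B : Type u) [CommRing B] [Algebra A B]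
    (𝔟 : Ideal B) : Prop :=
  ∀ (E E' : Type u) [CommRing E] [CommRing E'] [Algebra A E] [Algebra A E'] (q : E →ₐ[A] E'),
    Function.Surjective q → IsNilpotent (RingHom.ker q.toRingHom) →
    (∀ a ∈ 𝔞, algebraMap A E a = 0) →
    ∀ u : B →ₐ[A] E', (∃ k : ℕ, ∀ x ∈ 𝔟 ^ k, u x = 0) → ∃ v : B →ₐ[A] E, q.comp v = u

section abstract

variable {A B C C' D : Type u} [CommRing A] [CommRing B] [CommRing C] [CommRing C'] [CommRing D]
    [Algebra A B] [Algebra A C] [Algebra A C'] [Algebra A D]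

theorem core_abstract
    (𝔞 : Ideal A) (𝔟 : Ideal B) (hQ : Q A 𝔞 B 𝔟)
    (p : C →ₐ[A] C')
    (hK2 : ∀ x y : C, p x = 0 → p y = 0 → x * y = 0)
    (h𝔞K : ∀ a ∈ 𝔞, ∀ x : C, p x = 0 → a • x = 0)
    (u : B →ₐ[A] C') (w : B →ₗ[A] C) (hw : ∀ b, p (w b) = u b) (M : ℕ)
    (hwM : ∀ x ∈ 𝔟 ^ M, w x = 0)
    (pr1 : D →ₐ[A] C) (pr2 : D →ₐ[A] B) (hcomm : ∀ d, p (pr1 d) = u (pr2 d))
    (hext : ∀ d, pr1 d = 0 → pr2 d = 0 → d = 0) (hpr2surj : Function.Surjective pr2)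
    (hzero : ∀ β ∈ 𝔟 ^ M, ∃ d, pr1 d = 0 ∧ pr2 d = β) :
    ∃ v : B →ₐ[A] C, p.comp v = u := by
  classical
  have hker : ∀ d : D, pr2 d = 0 → p (pr1 d) = 0 := fun d hd => by
    rw [hcomm, hd, map_zero]
  -- elements of `𝔞 D`
  have h𝔞D : ∀ d ∈ 𝔞.map (algebraMap A D), pr1 d = w (pr2 d) := by
    intro d hd
    have hd' : d ∈ 𝔞 • (⊤ : Submodule A D) := by
      rw [Ideal.smul_top_eq_map, Submodule.restrictScalars_mem]; exact hd
    refine Submodule.smul_induction_on hd' (fun a ha x _ => ?_) (fun x y hx hy => ?_)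
    · rw [map_smul, map_smul, map_smul]
      have h1 : p (pr1 x - w (pr2 x)) = 0 := by rw [map_sub, hcomm, hw, sub_self]
      have := h𝔞K a ha _ h1
      rw [smul_sub, sub_eq_zero] at this
      exact this
    · rw [map_add, map_add, map_add, hx, hy]
  -- the ideals
  obtain ⟨𝔑, h𝔑def⟩ : ∃ 𝔑 : Ideal D, 𝔑 = 𝔞.map (algebraMap A D) ⊔
      (RingHom.ker pr1.toRingHom ⊓ (𝔟 ^ M).comap pr2.toRingHom) := ⟨_, rfl⟩
  obtain ⟨𝔅, h𝔅def⟩ : ∃ 𝔅 : Ideal B, 𝔅 = 𝔞.map (algebraMap A B) ⊔ 𝔟 ^ M := ⟨_, rfl⟩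
  have h𝔑mem : ∀ d, d ∈ 𝔑 ↔ ∃ d₁ ∈ 𝔞.map (algebraMap A D), ∃ d₂, (pr1 d₂ = 0 ∧ pr2 d₂ ∈ 𝔟 ^ M) ∧
      d₁ + d₂ = d := by
    intro d
    rw [h𝔑def, Submodule.mem_sup]
    rfl
  have hmap𝔞 : (𝔞.map (algebraMap A D)).map pr2.toRingHom = 𝔞.map (algebraMap A B) := by
    rw [Ideal.map_map]
    congr 1
    exact pr2.comp_algebraMap
  have h𝔑 : 𝔑 ≤ 𝔅.comap pr2 := by
    intro d hd
    obtain ⟨d₁, hd₁, d₂, hd₂, rfl⟩ := (h𝔑mem d).mp hd
    rw [Ideal.mem_comap, map_add, h𝔅def]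
    refine Submodule.add_mem_sup ?_ hd₂.2
    rw [← hmap𝔞]
    exact Ideal.mem_map_of_mem _ hd₁
  -- adjusting elements
  have adjust : ∀ (d : D) (b : B), pr2 d - b ∈ 𝔅 →
      ∃ d' : D, pr2 d' = b ∧ d - d' ∈ 𝔑 := by
    intro d b hdb
    rw [h𝔅def] at hdb
    obtain ⟨x, hx, β, hβ, hxβ⟩ := Submodule.mem_sup.mp hdb
    rw [← hmap𝔞] at hx
    obtain ⟨d₁, hd₁, hd₁x⟩ :=
      (Ideal.mem_map_iff_of_surjective pr2.toRingHom hpr2surj).mp hx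
    replace hd₁x : pr2 d₁ = x := hd₁x
    obtain ⟨d₂, hd₂1, hd₂2⟩ := hzero β hβ
    refine ⟨d - d₁ - d₂, ?_, ?_⟩
    · rw [map_sub, map_sub, hd₁x, hd₂2]
      linear_combination (-1 : B) * hxβ
    · have : d - (d - d₁ - d₂) = d₁ + d₂ := by ring
      rw [this, h𝔑mem]
      exact ⟨d₁, hd₁, d₂, ⟨hd₂1, by rw [hd₂2]; exact hβ⟩, rfl⟩
  -- uniqueness
  have uniq : ∀ d d' : D, pr2 d = pr2 d' → d - d' ∈ 𝔑 → d = d' := by
    intro d d' h1 h2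
    obtain ⟨d₁, hd₁, d₂, hd₂, h12⟩ := (h𝔑mem _).mp h2
    have h0 : pr2 d₁ + pr2 d₂ = 0 := by
      rw [← map_add, h12, map_sub, h1, sub_self]
    have h3 : pr2 d₁ ∈ 𝔟 ^ M := by
      have : pr2 d₁ = - pr2 d₂ := by linear_combination h0
      rw [this]
      exact neg_mem hd₂.2
    have h4 : d - d' = 0 := by
      apply hext
      · rw [← h12, map_add, h𝔞D d₁ hd₁, hwM _ h3, hd₂.1, add_zero]
      · rw [map_sub, h1, sub_self]
    exact sub_eq_zero.mp h4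
  let q : (D ⧸ 𝔑) →ₐ[A] (B ⧸ 𝔅) := Ideal.quotientMapₐ 𝔅 pr2 h𝔑
  have hq_mk : ∀ d, q (Ideal.Quotient.mk 𝔑 d) = Ideal.Quotient.mk 𝔅 (pr2 d) := fun d => rfl
  have hqsurj : Function.Surjective q := by
    intro y
    obtain ⟨b, rfl⟩ := Ideal.Quotient.mk_surjective y
    obtain ⟨d, rfl⟩ := hpr2surj b
    exact ⟨Ideal.Quotient.mk 𝔑 d, hq_mk d⟩
  -- the kernel of `q`
  have hkerq : ∀ e, q e = 0 → ∃ d : D, pr2 d = 0 ∧ e = Ideal.Quotient.mk 𝔑 d := by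
    intro e he
    obtain ⟨d, rfl⟩ := Ideal.Quotient.mk_surjective e
    rw [hq_mk, Ideal.Quotient.eq_zero_iff_mem] at he
    obtain ⟨d', hd'1, hd'2⟩ := adjust d 0 (by rw [sub_zero]; exact he)
    exact ⟨d', hd'1, Ideal.Quotient.eq.mpr hd'2⟩
  have hkerq2 : IsNilpotent (RingHom.ker q.toRingHom) := by
    refine ⟨2, ?_⟩
    rw [Ideal.zero_eq_bot, eq_bot_iff, pow_two, Ideal.mul_le]
    intro e he e' he'
    obtain ⟨d, hd, rfl⟩ := hkerq e he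
    obtain ⟨d', hd', rfl⟩ := hkerq e' he'
    rw [Ideal.mem_bot, ← map_mul]
    have : d * d' = 0 := by
      apply hext
      · rw [map_mul]
        exact hK2 _ _ (hker d hd) (hker d' hd')
      · rw [map_mul, hd, zero_mul]
    rw [this, map_zero]
  have h𝔞E : ∀ a ∈ 𝔞, algebraMap A (D ⧸ 𝔑) a = 0 := by
    intro a ha
    change Ideal.Quotient.mk 𝔑 (algebraMap A D a) = 0
    rw [Ideal.Quotient.eq_zero_iff_mem, h𝔑mem]
    exact ⟨_, Ideal.mem_map_of_mem _ ha, 0, ⟨map_zero _, by rw [map_zero]; exact zero_mem _⟩,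
      add_zero _⟩
  let π' : B →ₐ[A] B ⧸ 𝔅 := Ideal.Quotient.mkₐ A 𝔅
  have hπ'kill : ∀ x ∈ 𝔟 ^ M, π' x = 0 := fun x hx =>
    Ideal.Quotient.eq_zero_iff_mem.mpr (by rw [h𝔅def]; exact Ideal.mem_sup_right hx)
  obtain ⟨t, ht⟩ := hQ _ _ q hqsurj hkerq2 h𝔞E π' ⟨M, hπ'kill⟩
  have ht' : ∀ b, q (t b) = Ideal.Quotient.mk 𝔅 b := fun b => congrArg (fun φ => φ b) ht
  -- the section
  have hex : ∀ b : B, ∃ d : D, pr2 d = b ∧ Ideal.Quotient.mk 𝔑 d = t b := by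
    intro b
    obtain ⟨d, hd⟩ := Ideal.Quotient.mk_surjective (t b)
    have h1 : Ideal.Quotient.mk 𝔅 (pr2 d) = Ideal.Quotient.mk 𝔅 b := by
      rw [← hq_mk, hd, ht']
    obtain ⟨d', hd'1, hd'2⟩ := adjust d b (Ideal.Quotient.eq.mp h1)
    exact ⟨d', hd'1, by rw [← hd]; exact (Ideal.Quotient.eq.mpr hd'2).symm⟩
  choose σ hσ1 hσ2 using hex
  have uniq' : ∀ (b : B) (d : D), pr2 d = b → Ideal.Quotient.mk 𝔑 d = t b → σ b = d := by
    intro b d h1 h2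
    apply uniq
    · rw [hσ1, h1]
    · rw [← Ideal.Quotient.eq, hσ2, h2]
  let σa : B →ₐ[A] D :=
    { toFun := σ
      map_one' := uniq' 1 1 (map_one _) (by rw [map_one, map_one])
      map_mul' := fun x y => uniq' _ _ (by rw [map_mul, hσ1, hσ1])
        (by rw [map_mul, map_mul, hσ2, hσ2])
      map_zero' := uniq' 0 0 (map_zero _) (by rw [map_zero, map_zero])
      map_add' := fun x y => uniq' _ _ (by rw [map_add, hσ1, hσ1])
        (by rw [map_add, map_add, hσ2, hσ2])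
      commutes' := fun a => uniq' _ _ (pr2.commutes a) (by rw [t.commutes]; rfl) }
  refine ⟨pr1.comp σa, ?_⟩
  ext b
  change p (pr1 (σ b)) = u b
  rw [hcomm, hσ1]

end abstract

open H14.FibProd in
theorem core {A B C C' : Type u} [CommRing A] [CommRing B] [CommRing C] [CommRing C']
    [Algebra A B] [Algebra A C] [Algebra A C']
    (𝔞 : Ideal A) (𝔟 : Ideal B) (hQ : Q A 𝔞 B 𝔟)
    (p : C →ₐ[A] C') (hp : Function.Surjective p)
    (hK2 : ∀ x y : C, p x = 0 → p y = 0 → x * y = 0)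
    (h𝔞K : ∀ a ∈ 𝔞, ∀ x : C, p x = 0 → a • x = 0)
    (u : B →ₐ[A] C') (w : B →ₗ[A] C) (hw : ∀ b, p (w b) = u b) (M : ℕ)
    (huM : ∀ x ∈ 𝔟 ^ M, u x = 0) (hwM : ∀ x ∈ 𝔟 ^ M, w x = 0) :
    ∃ v : B →ₐ[A] C, p.comp v = u :=
  core_abstract 𝔞 𝔟 hQ p hK2 h𝔞K u w hw M hwM (pr1 p u) (pr2 p u) (fun d => H14.FibProd.comm p u d)
    (fun d h1 h2 => ext' p u (by rw [h1, map_zero]) (by rw [h2, map_zero])) (pr2_surjective p u hp)
    (fun β hβ => ⟨⟨(0, β), by change p 0 = u β; rw [map_zero, huM β hβ]⟩, rfl, rfl⟩)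

theorem kills_of_lift {A B C C' : Type u} [CommRing A] [CommRing B] [CommRing C] [CommRing C']
    [Algebra A B] [Algebra A C] [Algebra A C'] (𝔟 : Ideal B)
    (p : C →ₐ[A] C') (hK2 : ∀ x y : C, p x = 0 → p y = 0 → x * y = 0)
    (u : B →ₐ[A] C') (v : B →ₐ[A] C) (hv : ∀ b, p (v b) = u b) (M : ℕ)
    (huM : ∀ x ∈ 𝔟 ^ M, u x = 0) : ∀ x ∈ 𝔟 ^ (M + M), v x = 0 := by
  intro x hx
  rw [pow_add] at hx
  refine Submodule.mul_induction_on hx (fun a ha b hb => ?_) (fun a b ha hb => ?_)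
  · rw [map_mul]; exact hK2 _ _ (by rw [hv, huM a ha]) (by rw [hv, huM b hb])
  · rw [map_add, ha, hb, add_zero]

theorem lift_of_Q {A B : Type u} [CommRing A] [CommRing B] [Algebra A B] (𝔞 : Ideal A) (𝔟 : Ideal B)
    (hQ : Q A 𝔞 B 𝔟)
    (hproj : ∀ (n : ℕ) (P Q : Type u) [AddCommGroup P] [Module A P] [AddCommGroup Q] [Module A Q],
      (∀ a ∈ 𝔞 ^ n, ∀ y : P, a • y = 0) → (∀ a ∈ 𝔞 ^ n, ∀ y : Q, a • y = 0) →
      ∀ f : P →ₗ[A] Q, Function.Surjective f → ∀ v : B →ₗ[A] Q, (∃ m : ℕ, ∀ x ∈ 𝔟 ^ m, v x = 0) →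
        ∃ w : B →ₗ[A] P, (∃ m : ℕ, ∀ x ∈ 𝔟 ^ m, w x = 0) ∧ f ∘ₗ w = v) (i : ℕ) :
    ∀ (C C' : Type u) [CommRing C] [CommRing C'] [Algebra A C] [Algebra A C']
      (p : C →ₐ[A] C'),
      Function.Surjective p → (∀ x y : C, p x = 0 → p y = 0 → x * y = 0) →
      (∀ a ∈ 𝔞 ^ i, ∀ x : C, p x = 0 → a • x = 0) → (∃ k : ℕ, ∀ a ∈ 𝔞 ^ k, ∀ x : C, a • x = 0) →
      ∀ u : B →ₐ[A] C', (∃ k : ℕ, ∀ x ∈ 𝔟 ^ k, u x = 0) → ∃ v : B →ₐ[A] C, p.comp v = u := by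
  classical
  induction i with
  | zero =>
    intro C C' _ _ _ _ p hp _ h0 _ u _
    have hinj : Function.Injective p := by
      rw [injective_iff_map_eq_zero]
      intro x hx
      have := h0 1 (by rw [pow_zero, Ideal.one_eq_top]; trivial) x hx
      rwa [one_smul] at this
    let e : C ≃ₐ[A] C' := AlgEquiv.ofBijective p ⟨hinj, hp⟩
    refine ⟨(e.symm : C' →ₐ[A] C).comp u, ?_⟩
    ext b
    change e (e.symm (u b)) = u b
    rw [AlgEquiv.apply_symm_apply]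
  | succ i ih =>
    intro C C' _ _ _ _ p hp hK2 hi hC u hu
    obtain ⟨k, hk⟩ := hC
    obtain ⟨M, huM⟩ := hu
    -- the ideal `𝔞^i K`
    obtain ⟨K₁, hK₁def⟩ : ∃ K₁ : Ideal C,
      K₁ = Ideal.span {y | ∃ a ∈ 𝔞 ^ i, ∃ x : C, p x = 0 ∧ y = a • x} := ⟨_, rfl⟩
    have hK₁gen : ∀ a ∈ 𝔞 ^ i, ∀ x : C, p x = 0 → a • x ∈ K₁ := by
      intro a ha x hx
      rw [hK₁def]
      exact Ideal.subset_span ⟨a, ha, x, hx, rfl⟩
    have hK₁ker : ∀ y ∈ K₁, p y = 0 := by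
      intro y hy
      have hle : K₁ ≤ RingHom.ker p.toRingHom := by
        rw [hK₁def, Ideal.span_le]
        rintro _ ⟨a, _, x, hx, rfl⟩
        change p (a • x) = 0
        rw [map_smul, hx, smul_zero]
      exact hle hy
    have hK₁𝔞 : ∀ a ∈ 𝔞, ∀ y ∈ K₁, a • y = 0 := by
      intro a ha y hy
      rw [hK₁def] at hy
      refine Submodule.span_induction ?_ ?_ ?_ ?_ hy
      · rintro _ ⟨a', ha', x, hx, rfl⟩
        rw [smul_smul]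
        apply hi _ _ x hx
        rw [pow_succ']
        exact Ideal.mul_mem_mul ha ha'
      · rw [smul_zero]
      · intro x y _ _ hx hy
        rw [smul_add, hx, hy, add_zero]
      · intro c x _ hx
        rw [smul_eq_mul, ← mul_smul_comm, hx, mul_zero]
    let p₁ : (C ⧸ K₁) →ₐ[A] C' := Ideal.Quotient.liftₐ K₁ p hK₁ker
    have hp₁mk : ∀ c, p₁ (Ideal.Quotient.mk K₁ c) = p c := fun c => rfl
    have hp₁surj : Function.Surjective p₁ := by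
      intro y
      obtain ⟨c, rfl⟩ := hp y
      exact ⟨Ideal.Quotient.mk K₁ c, hp₁mk c⟩
    have hp₁K2 : ∀ x y : C ⧸ K₁, p₁ x = 0 → p₁ y = 0 → x * y = 0 := by
      intro x y hx hy
      obtain ⟨c, rfl⟩ := Ideal.Quotient.mk_surjective x
      obtain ⟨c', rfl⟩ := Ideal.Quotient.mk_surjective y
      rw [hp₁mk] at hx hy
      rw [← map_mul, hK2 c c' hx hy, map_zero]
    have hp₁i : ∀ a ∈ 𝔞 ^ i, ∀ x : C ⧸ K₁, p₁ x = 0 → a • x = 0 := by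
      intro a ha x hx
      obtain ⟨c, rfl⟩ := Ideal.Quotient.mk_surjective x
      rw [hp₁mk] at hx
      change Ideal.Quotient.mk K₁ (a • c) = 0
      rw [Ideal.Quotient.eq_zero_iff_mem]
      exact hK₁gen a ha c hx
    have hk₁ : ∀ a ∈ 𝔞 ^ k, ∀ x : C ⧸ K₁, a • x = 0 := by
      intro a ha x
      obtain ⟨c, rfl⟩ := Ideal.Quotient.mk_surjective x
      change Ideal.Quotient.mk K₁ (a • c) = 0
      rw [hk a ha c, map_zero]
    obtain ⟨u₁, hu₁⟩ := ih (C ⧸ K₁) C' p₁ hp₁surj hp₁K2 hp₁i ⟨k, hk₁⟩ u ⟨M, huM⟩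
    have hu₁' : ∀ b, p₁ (u₁ b) = u b := fun b => congrArg (fun φ => φ b) hu₁
    have hu₁kill := kills_of_lift 𝔟 p₁ hp₁K2 u u₁ hu₁' M huM
    -- the linear lift
    obtain ⟨w, ⟨m, hwm⟩, hw⟩ := hproj k C (C ⧸ K₁) hk hk₁ (Ideal.Quotient.mkₐ A K₁).toLinearMap
      Ideal.Quotient.mk_surjective u₁.toLinearMap ⟨M + M, hu₁kill⟩
    have hw' : ∀ b, Ideal.Quotient.mkₐ A K₁ (w b) = u₁ b := fun b =>
      congrArg (fun φ => φ b) hw
    obtain ⟨v, hv⟩ := core 𝔞 𝔟 hQ (Ideal.Quotient.mkₐ A K₁) Ideal.Quotient.mk_surjective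
      (fun x y hx hy => hK2 x y (hK₁ker x (Ideal.Quotient.eq_zero_iff_mem.mp hx))
        (hK₁ker y (Ideal.Quotient.eq_zero_iff_mem.mp hy)))
      (fun a ha x hx => hK₁𝔞 a ha x (Ideal.Quotient.eq_zero_iff_mem.mp hx))
      u₁ w hw' (max (M + M) m)
      (fun x hx => hu₁kill x (Ideal.pow_le_pow_right (le_max_left _ _) hx))
      (fun x hx => hwm x (Ideal.pow_le_pow_right (le_max_right _ _) hx))
    have hv' : ∀ b, Ideal.Quotient.mk K₁ (v b) = u₁ b := fun b => congrArg (fun φ => φ b) hv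
    refine ⟨v, ?_⟩
    ext b
    change p (v b) = u b
    rw [← hp₁mk, hv', hu₁']

/-- formal smoothness of the reduction gives `Q` -/
theorem Q_of_quotient {A B : Type u} [CommRing A] [CommRing B] [Algebra A B] (𝔞 : Ideal A)
    (𝔟 : Ideal B)
    (h₀ : EGA41.IsFormallySmoothAdic (A ⧸ 𝔞) ⊥ (B ⧸ 𝔞.map (algebraMap A B))
        (𝔟.map (Ideal.Quotient.mk (𝔞.map (algebraMap A B))))) : Q A 𝔞 B 𝔟 := by
  intro E E' _ _ _ _ q hq hnil h𝔞E u hu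
  obtain ⟨l, hl⟩ := hu
  have h𝔞E' : ∀ a ∈ 𝔞, algebraMap A E' a = 0 := by
    intro a ha
    rw [← q.commutes, h𝔞E a ha, map_zero]
  letI : Algebra (A ⧸ 𝔞) E := (Ideal.Quotient.lift 𝔞 (algebraMap A E) h𝔞E).toAlgebra
  letI : Algebra (A ⧸ 𝔞) E' := (Ideal.Quotient.lift 𝔞 (algebraMap A E') h𝔞E').toAlgebra
  haveI : IsScalarTower A (A ⧸ 𝔞) E := IsScalarTower.of_algebraMap_eq (fun r => rfl)
  haveI : IsScalarTower A (A ⧸ 𝔞) E' := IsScalarTower.of_algebraMap_eq (fun r => rfl)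
  let q₀ : E →ₐ[A ⧸ 𝔞] E' :=
    { q.toRingHom with
      commutes' := by
        intro r
        obtain ⟨a, rfl⟩ := Ideal.Quotient.mk_surjective r
        exact q.commutes a }
  have hq₀ : ∀ x, q₀ x = q x := fun x => rfl
  have hukill : ∀ x ∈ 𝔞.map (algebraMap A B), u x = 0 := by
    intro x hx
    have hle : 𝔞.map (algebraMap A B) ≤ RingHom.ker u.toRingHom := by
      rw [Ideal.map_le_iff_le_comap]
      intro a ha
      rw [Ideal.mem_comap, RingHom.mem_ker]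
      change u (algebraMap A B a) = 0
      rw [u.commutes, h𝔞E' a ha]
    exact hle hx
  let u0 : (B ⧸ 𝔞.map (algebraMap A B)) →+* E' := Ideal.Quotient.lift _ u.toRingHom hukill
  have hu0 : ∀ b : B, u0 (Ideal.Quotient.mk _ b) = u b := fun b => rfl
  let u₀ : (B ⧸ 𝔞.map (algebraMap A B)) →ₐ[A ⧸ 𝔞] E' :=
    { u0 with
      commutes' := by
        intro r
        obtain ⟨a, rfl⟩ := Ideal.Quotient.mk_surjective r
        change u0 (Ideal.Quotient.mk _ (algebraMap A B a)) = _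
        rw [hu0, u.commutes]
        rfl }
  have hu₀ : ∀ x ∈ (𝔟.map (Ideal.Quotient.mk (𝔞.map (algebraMap A B)))) ^ l, u₀ x = 0 := by
    intro x hx
    replace hx := (Ideal.map_pow (Ideal.Quotient.mk (𝔞.map (algebraMap A B))) 𝔟 l).ge hx
    have hle : (𝔟 ^ l).map (Ideal.Quotient.mk (𝔞.map (algebraMap A B))) ≤
        RingHom.ker u₀.toRingHom := by
      rw [Ideal.map_le_iff_le_comap]
      intro b hb
      rw [Ideal.mem_comap, RingHom.mem_ker]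
      change u0 (Ideal.Quotient.mk _ b) = 0
      rw [hu0]
      exact hl b hb
    exact hle hx
  obtain ⟨v₀, hv₀⟩ := H14.FSAdic.lift_of_surjective h₀ q₀ hq hnil ⟨1, by simp⟩ u₀ ⟨l, hu₀⟩
  have hv₀' : ∀ x, q (v₀ x) = u₀ x := fun x => congrArg (fun φ => φ x) hv₀
  refine ⟨(v₀.restrictScalars A).comp (Ideal.Quotient.mkₐ A _), ?_⟩
  ext b
  change q (v₀ (Ideal.Quotient.mk _ b)) = u b
  rw [hv₀']
  rfl

theorem of_quotient {A B : Type u} [CommRing A] [CommRing B] [Algebra A B] (𝔞 : Ideal A)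
    (𝔟 : Ideal B)
    (hproj : ∀ (n : ℕ) (P Q : Type u) [AddCommGroup P] [Module A P] [AddCommGroup Q] [Module A Q],
      (∀ a ∈ 𝔞 ^ n, ∀ y : P, a • y = 0) → (∀ a ∈ 𝔞 ^ n, ∀ y : Q, a • y = 0) →
      ∀ f : P →ₗ[A] Q, Function.Surjective f → ∀ v : B →ₗ[A] Q, (∃ m : ℕ, ∀ x ∈ 𝔟 ^ m, v x = 0) →
        ∃ w : B →ₗ[A] P, (∃ m : ℕ, ∀ x ∈ 𝔟 ^ m, w x = 0) ∧ f ∘ₗ w = v)
    (h₀ : EGA41.IsFormallySmoothAdic (A ⧸ 𝔞) ⊥ (B ⧸ 𝔞.map (algebraMap A B))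
        (𝔟.map (Ideal.Quotient.mk (𝔞.map (algebraMap A B))))) :
    EGA41.IsFormallySmoothAdic A 𝔞 B 𝔟 := by
  apply H14.FSAdic.of_sq
  intro C _ _ J hJ hC u hu
  obtain ⟨k, hk⟩ := hC
  have hkC : ∀ a ∈ 𝔞 ^ k, ∀ x : C, a • x = 0 := by
    intro a ha x
    have : algebraMap A C a ∈ (𝔞 ^ k).map (algebraMap A C) := Ideal.mem_map_of_mem _ ha
    rw [hk, Ideal.mem_bot] at this
    rw [Algebra.smul_def, this, zero_mul]
  refine lift_of_Q 𝔞 𝔟 (Q_of_quotient 𝔞 𝔟 h₀) hproj k C (C ⧸ J) (Ideal.Quotient.mkₐ A J)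
    Ideal.Quotient.mk_surjective ?_ (fun a ha x _ => hkC a ha x) ⟨k, hkC⟩ u hu
  intro x y hx hy
  have : x * y ∈ J ^ 2 := by
    rw [pow_two]
    exact Ideal.mul_mem_mul (Ideal.Quotient.eq_zero_iff_mem.mp hx)
      (Ideal.Quotient.eq_zero_iff_mem.mp hy)
  rw [hJ] at this
  exact this

end H14.FSProj
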