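import Groth.Prelude.Def_FlatCA

set_option autoImplicit false
universe u

namespace H14.FM

open TensorProduct FlatCA

theorem exists_smul_mem_of_tmul_one_eq_zero {R : Type*} [CommRing R] (p : Ideal R) [p.IsPrime]
    {N : Type*} [AddCommGroup N] [Module R N] (n : N)
    (h : n ⊗ₜ[R] (1 : p.ResidueField) = 0) : ∃ r ∉ p, r • n ∈ p • (⊤ : Submodule R N) := by
  -- move to `κ ⊗[R/p] ((R/p) ⊗[R] N)`
  have h1 : (1 : p.ResidueField) ⊗ₜ[R ⧸ p] ((1 : R ⧸ p) ⊗ₜ[R] n) = 0 := by
    have h2 : (1 : p.ResidueField) ⊗ₜ[R] n = 0 := by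
      have := congrArg (TensorProduct.comm R N p.ResidueField) h
      simpa using this
    have h3 : (TensorProduct.AlgebraTensorModule.cancelBaseChange R (R ⧸ p) (R ⧸ p)
        p.ResidueField N) ((1 : p.ResidueField) ⊗ₜ[R ⧸ p] ((1 : R ⧸ p) ⊗ₜ[R] n)) = 0 := by
      rw [TensorProduct.AlgebraTensorModule.cancelBaseChange_tmul, one_smul, h2]
    exact (LinearEquiv.map_eq_zero_iff _).mp h3
  have hloc : IsLocalizedModule (nonZeroDivisors (R ⧸ p))
      (TensorProduct.mk (R ⧸ p) p.ResidueField ((R ⧸ p) ⊗[R] N) 1) :=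
    (isLocalizedModule_iff_isBaseChange (nonZeroDivisors (R ⧸ p)) p.ResidueField _).mpr
      (TensorProduct.isBaseChange (R ⧸ p) ((R ⧸ p) ⊗[R] N) p.ResidueField)
  obtain ⟨c, hc⟩ := (IsLocalizedModule.eq_zero_iff (nonZeroDivisors (R ⧸ p))
    (TensorProduct.mk (R ⧸ p) p.ResidueField ((R ⧸ p) ⊗[R] N) 1)).mp h1
  obtain ⟨r, hr⟩ := Ideal.Quotient.mk_surjective (c : R ⧸ p)
  refine ⟨r, ?_, ?_⟩
  · intro hrp
    have : (c : R ⧸ p) = 0 := by rw [← hr]; exact Ideal.Quotient.eq_zero_iff_mem.mpr hrp
    exact nonZeroDivisors.coe_ne_zero c this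
  · have h4 : (Ideal.Quotient.mk p r) ⊗ₜ[R] n = (0 : (R ⧸ p) ⊗[R] N) := by
      rw [hr]
      have : (c : R ⧸ p) • ((1 : R ⧸ p) ⊗ₜ[R] n) = 0 := hc
      rwa [TensorProduct.smul_tmul', smul_eq_mul, mul_one] at this
    have h5 := congrArg (TensorProduct.quotTensorEquivQuotSMul N p) h4
    rw [TensorProduct.quotTensorEquivQuotSMul_mk_tmul, map_zero,
      Submodule.Quotient.mk_eq_zero] at h5
    exact h5

attribute [local instance] Algebra.TensorProduct.rightAlgebra

variable {R S : Type u} [CommRing R] [CommRing S] [Algebra R S] (N : Type u) [AddCommGroup N]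
  [Module S N] [Module R N] [IsScalarTower R S N] (p : Ideal R) [p.IsPrime]

omit [Module R N] [IsScalarTower R S N] in
theorem smul_eq_fsmul (s : S) (x : (p.Fiber S) ⊗[S] N) :
    s • x = (algebraMap S (p.Fiber S) s) • x := by
  induction x using TensorProduct.induction_on with
  | zero => simp
  | tmul a n =>
    rw [TensorProduct.smul_tmul', TensorProduct.smul_tmul', Algebra.smul_def, smul_eq_mul]
  | add x y hx hy => rw [smul_add, hx, hy, smul_add]

theorem algebraMap_fiber (r : R) :
    algebraMap S (p.Fiber S) (algebraMap R S r) = algebraMap R (p.Fiber S) r := by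
  rw [Algebra.TensorProduct.algebraMap_apply, Algebra.TensorProduct.right_algebraMap_apply,
    Algebra.algebraMap_eq_smul_one, Algebra.algebraMap_eq_smul_one (A := p.ResidueField),
    TensorProduct.smul_tmul]

theorem isUnit_algebraMap_fiber {r : R} (hr : r ∉ p) : IsUnit (algebraMap R (p.Fiber S) r) := by
  have h1 : IsUnit (algebraMap R p.ResidueField r) := by
    rw [isUnit_iff_ne_zero, Ne, Ideal.algebraMap_residueField_eq_zero]
    exact hr
  have := h1.map (algebraMap p.ResidueField (p.Fiber S))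
  rwa [← IsScalarTower.algebraMap_apply] at this

/-- elements outside `p` act invertibly on the fibre module -/
theorem smul_injective {r : R} (hr : r ∉ p) :
    Function.Injective fun x : (p.Fiber S) ⊗[S] N => (algebraMap R S r) • x := by
  intro x y hxy
  simp only [smul_eq_fsmul, algebraMap_fiber] at hxy
  exact (isUnit_algebraMap_fiber p hr).smul_left_cancel.mp hxy

theorem exists_smul_eq_one_tmul (x : (p.Fiber S) ⊗[S] N) :
    ∃ r ∉ p, ∃ n : N, (algebraMap R S r) • x = (1 : p.Fiber S) ⊗ₜ[S] n := by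
  induction x using TensorProduct.induction_on with
  | zero => exact ⟨1, fun h => (Ideal.IsPrime.ne_top inferInstance) ((Ideal.eq_top_iff_one p).mpr h), 0, by simp⟩
  | tmul a n =>
    obtain ⟨r, hr, s, hs⟩ := Ideal.Fiber.exists_smul_eq_one_tmul p a
    refine ⟨r, hr, s • n, ?_⟩
    rw [TensorProduct.smul_tmul', algebraMap_smul, hs, TensorProduct.tmul_smul,
      TensorProduct.smul_tmul']
    congr 1
    rw [Algebra.smul_def, mul_one, Algebra.TensorProduct.right_algebraMap_apply]
  | add x y hx hy =>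
    obtain ⟨r₁, hr₁, n₁, h₁⟩ := hx
    obtain ⟨r₂, hr₂, n₂, h₂⟩ := hy
    refine ⟨r₁ * r₂, fun h => ((Ideal.IsPrime.mem_or_mem inferInstance h).elim hr₁ hr₂), 
      r₂ • n₁ + r₁ • n₂, ?_⟩
    rw [smul_add, map_mul, mul_comm, mul_smul, h₁, mul_comm, mul_smul, h₂, TensorProduct.tmul_add,
      TensorProduct.tmul_smul, TensorProduct.tmul_smul, algebraMap_smul, algebraMap_smul]

theorem algebraMap_fiber_eq_zero {c : S} (hc : c ∈ p.map (algebraMap R S)) :
    algebraMap S (p.Fiber S) c = 0 := by
  have : p.map (algebraMap R S) ≤ RingHom.ker (algebraMap S (p.Fiber S)) := by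
    rw [Ideal.map_le_iff_le_comap]
    intro a ha
    rw [Ideal.mem_comap, RingHom.mem_ker, algebraMap_fiber,
      IsScalarTower.algebraMap_apply R p.ResidueField (p.Fiber S),
      (Ideal.algebraMap_residueField_eq_zero).mpr ha, map_zero]
  exact this hc

theorem one_tmul_eq_zero_of_mem {y : N}
    (hy : y ∈ (p.map (algebraMap R S)) • (⊤ : Submodule S N)) :
    (1 : p.Fiber S) ⊗ₜ[S] y = 0 := by
  induction hy using Submodule.smul_induction_on' with
  | smul c hc m _ =>
    rw [← TensorProduct.smul_tmul, Algebra.smul_def, mul_one, algebraMap_fiber_eq_zero p hc,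
      TensorProduct.zero_tmul]
  | add x _ y _ hx hy => rw [TensorProduct.tmul_add, hx, hy, add_zero]

/-- the comparison isomorphism with `N ⊗[R] κ(p)` -/
noncomputable def toTensorResidue : (p.Fiber S) ⊗[S] N ≃ₗ[S] N ⊗[R] p.ResidueField :=
  (TensorProduct.comm S (p.Fiber S) N).trans
    ((TensorProduct.congr (LinearEquiv.refl S N)
      (Algebra.TensorProduct.commRight R S p.ResidueField).symm.toLinearEquiv).trans
      (TensorProduct.AlgebraTensorModule.cancelBaseChange R S S N p.ResidueField))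

theorem toTensorResidue_one_tmul (n : N) :
    toTensorResidue N p ((1 : p.Fiber S) ⊗ₜ[S] n) = n ⊗ₜ[R] (1 : p.ResidueField) := by
  simp [toTensorResidue, Algebra.TensorProduct.one_def]

theorem one_tmul_eq_zero_iff (n : N) :
    (1 : p.Fiber S) ⊗ₜ[S] n = 0 ↔
      ∃ r ∉ p, r • n ∈ (p.map (algebraMap R S)) • (⊤ : Submodule S N) := by
  constructor
  · intro h
    have h1 := congrArg (toTensorResidue N p) h
    rw [toTensorResidue_one_tmul, map_zero] at h1
    obtain ⟨r, hr, hrn⟩ := exists_smul_mem_of_tmul_one_eq_zero p n h1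
    refine ⟨r, hr, ?_⟩
    have hle : ∀ y ∈ p • (⊤ : Submodule R N),
        y ∈ (p.map (algebraMap R S)) • (⊤ : Submodule S N) := by
      intro y hy
      induction hy using Submodule.smul_induction_on' with
      | smul a ha m _ =>
        rw [← algebraMap_smul S a m]
        exact Submodule.smul_mem_smul (Ideal.mem_map_of_mem _ ha) trivial
      | add x _ y _ hx hy => exact add_mem hx hy
    exact hle _ hrn
  · rintro ⟨r, hr, hrn⟩
    apply smul_injective N p hr
    simp only [smul_zero]
    rw [← TensorProduct.tmul_smul, algebraMap_smul]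
    exact one_tmul_eq_zero_of_mem N p hrn

end H14.FM
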