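import Groth.Agent.Lib.helper14.FiberMod

set_option autoImplicit false
universe u

namespace H14.FM

open TensorProduct FlatCA

attribute [local instance] Algebra.TensorProduct.rightAlgebra

variable {R S : Type u} [CommRing R] [CommRing S] [Algebra R S] (N : Type u) [AddCommGroup N]
  [Module S N] [Module R N] [IsScalarTower R S N] (p : Ideal R) [p.IsPrime]

local notation "Nbar" => N ⧸ (Ideal.map (algebraMap R S) p) • (⊤ : Submodule S N)

theorem mem_ann_one_tmul (n : N) (s : S) :
    s ∈ (Submodule.span S {(1 : p.Fiber S) ⊗ₜ[S] n}).annihilator ↔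
      ∃ r ∉ p, r • s • n ∈ (p.map (algebraMap R S)) • (⊤ : Submodule S N) := by
  rw [Submodule.mem_annihilator_span_singleton, ← TensorProduct.tmul_smul, one_tmul_eq_zero_iff]

theorem mem_ann_mk (n : N) (s : S) :
    s ∈ (Submodule.span S {(Submodule.Quotient.mk n : Nbar)}).annihilator ↔
      s • n ∈ (p.map (algebraMap R S)) • (⊤ : Submodule S N) := by
  rw [Submodule.mem_annihilator_span_singleton, ← Submodule.Quotient.mk_smul,
    Submodule.Quotient.mk_eq_zero]

/-- the annihilator of `x` and of `r • x` agree for `r ∉ p`. -/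
theorem ann_smul_eq {r : R} (hr : r ∉ p) (x : (p.Fiber S) ⊗[S] N) :
    (Submodule.span S {(algebraMap R S r) • x}).annihilator =
      (Submodule.span S {x}).annihilator := by
  ext s
  rw [Submodule.mem_annihilator_span_singleton, Submodule.mem_annihilator_span_singleton,
    smul_comm]
  constructor
  · intro h
    apply smul_injective N p hr
    simpa using h
  · intro h
    rw [h, smul_zero]

/-- S9665 -/
theorem mem_ass_fiber_of_mem_ass_quot (q : Ideal S) [q.IsPrime]
    (hq : q.comap (algebraMap R S) = p) (h : q ∈ ass S (Nbar)) :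
    q ∈ ass S ((p.Fiber S) ⊗[S] N) := by
  obtain ⟨hqp, m, hm⟩ := h
  obtain ⟨n, rfl⟩ := Submodule.Quotient.mk_surjective _ m
  refine ⟨hqp, (1 : p.Fiber S) ⊗ₜ[S] n, ?_⟩
  ext s
  rw [mem_ann_one_tmul]
  constructor
  · intro hs
    refine ⟨1, fun h => (Ideal.IsPrime.ne_top inferInstance) ((Ideal.eq_top_iff_one p).mpr h), ?_⟩
    rw [one_smul, ← mem_ann_mk, ← hm]
    exact hs
  · rintro ⟨r, hr, hrs⟩
    rw [← algebraMap_smul S r, smul_smul, ← mem_ann_mk, ← hm] at hrs
    rcases Ideal.IsPrime.mem_or_mem inferInstance hrs with h1 | h1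
    · exact absurd (by rw [← hq]; exact h1) hr
    · exact h1

/-- every element of the fibre module has the same annihilator as some `1 ⊗ n` -/
theorem exists_ann_eq_ann_one_tmul (x : (p.Fiber S) ⊗[S] N) :
    ∃ n : N, (Submodule.span S {x}).annihilator =
      (Submodule.span S {(1 : p.Fiber S) ⊗ₜ[S] n}).annihilator := by
  obtain ⟨r, hr, n, hn⟩ := exists_smul_eq_one_tmul N p x
  exact ⟨n, by rw [← hn, ann_smul_eq N p hr]⟩

/-- S9666 -/
theorem mem_ass_quot_of_mem_ass_fiber [IsNoetherianRing S] (q : Ideal S) [q.IsPrime]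
    (hq : q.comap (algebraMap R S) = p) (h : q ∈ ass S ((p.Fiber S) ⊗[S] N)) :
    q ∈ ass S Nbar := by
  classical
  obtain ⟨hqp, x, hx⟩ := h
  obtain ⟨n, hn⟩ := exists_ann_eq_ann_one_tmul N p x
  rw [hn] at hx
  have hmem : ∀ s : S, s ∈ q ↔
      ∃ r ∉ p, r • s • n ∈ (p.map (algebraMap R S)) • (⊤ : Submodule S N) := by
    intro s
    rw [hx, mem_ann_one_tmul]
  obtain ⟨T, hT⟩ := (isNoetherianRing_iff_ideal_fg S).mp inferInstance q
  have hTq : ∀ s ∈ T, s ∈ q := fun s hs => hT ▸ Ideal.subset_span hs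
  choose! ρ hρ using fun s (hs : s ∈ q) => (hmem s).mp hs
  let r₀ : R := ∏ s ∈ T, ρ s
  have hr₀ : r₀ ∉ p := by
    intro h
    obtain ⟨s, hs, hsp⟩ := (Ideal.IsPrime.prod_mem_iff).mp h
    exact (hρ s (hTq s hs)).1 hsp
  refine ⟨hqp, Submodule.Quotient.mk (r₀ • n), ?_⟩
  ext s
  rw [mem_ann_mk]
  constructor
  · intro hs
    have hle : q ≤ (Submodule.span S {(Submodule.Quotient.mk (r₀ • n) : Nbar)}).annihilator := by
      rw [← hT, Ideal.span_le]
      intro t ht
      rw [SetLike.mem_coe, mem_ann_mk]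
      obtain ⟨c, hc⟩ := Finset.dvd_prod_of_mem ρ ht
      have h1 := (hρ t (hTq t ht)).2
      have : t • r₀ • n = c • (ρ t • t • n) := by
        change t • (∏ s ∈ T, ρ s) • n = _
        rw [hc, mul_smul, smul_comm t (ρ t), smul_comm c, smul_comm t c]
      rw [this, ← algebraMap_smul S c]
      exact Submodule.smul_mem _ _ h1
    exact (mem_ann_mk N p _ _).mp (hle hs)
  · intro hs
    rw [hmem]
    refine ⟨r₀, hr₀, ?_⟩
    rwa [smul_comm] 

theorem comap_ann_fiber (x : (p.Fiber S) ⊗[S] N) :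
    (Submodule.span (p.Fiber S) {x}).annihilator.comap
      (Algebra.TensorProduct.includeRight (R := R) (A := p.ResidueField) (B := S)).toRingHom =
      (Submodule.span S {x}).annihilator := by
  ext s
  rw [Ideal.mem_comap, Submodule.mem_annihilator_span_singleton,
    Submodule.mem_annihilator_span_singleton, smul_eq_fsmul]
  rfl

theorem isPrime_ann_fiber (x : (p.Fiber S) ⊗[S] N)
    (h : (Submodule.span S {x}).annihilator.IsPrime) :
    (Submodule.span (p.Fiber S) {x}).annihilator.IsPrime := by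
  have hmemq : ∀ s : S, (1 : p.ResidueField) ⊗ₜ[R] s ∈
      (Submodule.span (p.Fiber S) {x}).annihilator ↔ s ∈ (Submodule.span S {x}).annihilator := by
    intro s
    rw [← comap_ann_fiber]
    rfl
  have hunit : ∀ {r : R} (_ : r ∉ p) (a : p.Fiber S),
      r • a ∈ (Submodule.span (p.Fiber S) {x}).annihilator →
        a ∈ (Submodule.span (p.Fiber S) {x}).annihilator := by
    intro r hr a ha
    rw [Algebra.smul_def] at ha
    exact (Ideal.unit_mul_mem_iff_mem _ (isUnit_algebraMap_fiber p hr)).mp ha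
  refine ⟨?_, ?_⟩
  · intro htop
    apply h.ne_top
    rw [Ideal.eq_top_iff_one, ← hmemq, htop]
    trivial
  · intro a b hab
    obtain ⟨r₁, hr₁, s₁, h₁⟩ := Ideal.Fiber.exists_smul_eq_one_tmul p a
    obtain ⟨r₂, hr₂, s₂, h₂⟩ := Ideal.Fiber.exists_smul_eq_one_tmul p b
    have h3 : (1 : p.ResidueField) ⊗ₜ[R] (s₁ * s₂) ∈
        (Submodule.span (p.Fiber S) {x}).annihilator := by
      have : (1 : p.ResidueField) ⊗ₜ[R] (s₁ * s₂) = (r₁ • a) * (r₂ • b) := by
        rw [h₁, h₂, Algebra.TensorProduct.tmul_mul_tmul, one_mul]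
      rw [this, smul_mul_smul_comm, Algebra.smul_def]
      exact Ideal.mul_mem_left _ _ hab
    rw [hmemq] at h3
    rcases h.mem_or_mem h3 with h4 | h4
    · left
      apply hunit hr₁
      rw [h₁, hmemq]
      exact h4
    · right
      apply hunit hr₂
      rw [h₂, hmemq]
      exact h4

/-- S9664 -/
theorem mem_ass_fiber_iff (q : Ideal S) [q.IsPrime] :
    q ∈ ass S ((p.Fiber S) ⊗[S] N) ↔
      ∃ Q ∈ ass (p.Fiber S) ((p.Fiber S) ⊗[S] N),
        Q.comap (Algebra.TensorProduct.includeRight (R := R) (A := p.ResidueField)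
          (B := S)).toRingHom = q := by
  constructor
  · rintro ⟨hqp, x, hx⟩
    refine ⟨(Submodule.span (p.Fiber S) {x}).annihilator,
      ⟨isPrime_ann_fiber N p x (hx ▸ hqp), x, rfl⟩, ?_⟩
    rw [comap_ann_fiber, hx]
  · rintro ⟨Q, ⟨hQ, x, rfl⟩, rfl⟩
    exact ⟨inferInstance, x, comap_ann_fiber N p x⟩

end H14.FM
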