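import Groth.Agent.Lib.helper14.FiberModNoeth
import Mathlib

set_option autoImplicit false
universe u

namespace H14.FM

open TensorProduct FlatCA LinearMap

theorem eq_zero_of_fg_of_subtype_eq_zero_lTensor {R M N : Type*} [CommRing R] [AddCommGroup M]
    [Module R M] [AddCommGroup N] [Module R N] {Q : Submodule R N} (hQ : Q.FG) {t : M ⊗[R] Q}
    (h : lTensor M Q.subtype t = 0) :
    ∃ (Q' : Submodule R N) (hQQ' : Q ≤ Q'), Q'.FG ∧ lTensor M (Submodule.inclusion hQQ') t = 0 := by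
  classical
  have h' : lTensor M Q.subtype t = lTensor M Q.subtype 0 := by rw [h, map_zero]
  simp only [← Submodule.FG.lTensor.directLimit_apply' R M N Q hQ,
    EmbeddingLike.apply_eq_iff_eq] at h'
  obtain ⟨Q', hQQ', h''⟩ := Module.DirectLimit.exists_eq_of_of_eq h'
  exact ⟨Q'.val, Subtype.coe_le_coe.mpr hQQ', Q'.property, by simpa using h''⟩

theorem exists_fg_kill_finset {R M N : Type*} [CommRing R] [AddCommGroup M]
    [Module R M] [AddCommGroup N] [Module R N] {Q : Submodule R N} (hQ : Q.FG)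
    (T : Finset (M ⊗[R] Q)) (h : ∀ t ∈ T, lTensor M Q.subtype t = 0) :
    ∃ (Q' : Submodule R N) (hQQ' : Q ≤ Q'), Q'.FG ∧
      ∀ t ∈ T, lTensor M (Submodule.inclusion hQQ') t = 0 := by
  classical
  induction T using Finset.induction_on with
  | empty => exact ⟨Q, le_rfl, hQ, by simp⟩
  | insert a T _ ih =>
    obtain ⟨Q₁, h₁, hfg₁, hk₁⟩ := ih fun t ht => h t (Finset.mem_insert_of_mem ht)
    obtain ⟨Q₂, h₂, hfg₂, hk₂⟩ := eq_zero_of_fg_of_subtype_eq_zero_lTensor hQ
      (h a (Finset.mem_insert_self a T))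
    refine ⟨Q₁ ⊔ Q₂, h₁.trans le_sup_left, hfg₁.sup hfg₂, ?_⟩
    intro t ht
    rcases Finset.mem_insert.mp ht with rfl | ht
    · have : Submodule.inclusion (h₂.trans (le_sup_right : Q₂ ≤ Q₁ ⊔ Q₂)) =
          (Submodule.inclusion (le_sup_right : Q₂ ≤ Q₁ ⊔ Q₂)).comp (Submodule.inclusion h₂) := rfl
      rw [show Submodule.inclusion (h₁.trans (le_sup_left : Q₁ ≤ Q₁ ⊔ Q₂)) =
        Submodule.inclusion (h₂.trans (le_sup_right : Q₂ ≤ Q₁ ⊔ Q₂)) from rfl, this,
        lTensor_comp, LinearMap.comp_apply, hk₂, map_zero]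
    · have : Submodule.inclusion (h₁.trans (le_sup_left : Q₁ ≤ Q₁ ⊔ Q₂)) =
          (Submodule.inclusion (le_sup_left : Q₁ ≤ Q₁ ⊔ Q₂)).comp (Submodule.inclusion h₁) := rfl
      rw [this, lTensor_comp, LinearMap.comp_apply, hk₁ t ht, map_zero]

variable {R S : Type u} [CommRing R] [CommRing S] [Algebra R S] (N : Type u) [AddCommGroup N]
  [Module S N] [Module R N] [IsScalarTower R S N]

/-- S9667 -/
theorem exists_fg_mem_ass_of_noeth [IsNoetherianRing S] (M : Type u) [AddCommGroup M] [Module R M]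
    (q : Ideal S) (h : q ∈ ass S (N ⊗[R] M)) :
    ∃ M' : Submodule R M, M'.FG ∧ q ∈ ass S (N ⊗[R] ↥M') := by
  classical
  obtain ⟨hq, x, hx⟩ := h
  obtain ⟨M₀, hfin, hM₀⟩ := TensorProduct.exists_finite_submodule_right_of_setFinite
    ({x} : Set (N ⊗[R] M)) (Set.finite_singleton x)
  obtain ⟨x₀, hx₀⟩ := hM₀ (Set.mem_singleton x)
  have hfg₀ : M₀.FG := Module.Finite.iff_fg.mp hfin
  obtain ⟨T, hT⟩ := (isNoetherianRing_iff_ideal_fg S).mp inferInstance q
  obtain ⟨M', hle, hfg', hkill⟩ := exists_fg_kill_finset hfg₀ (T.image fun t => t • x₀) (by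
    intro y hy
    obtain ⟨t, ht, rfl⟩ := Finset.mem_image.mp hy
    rw [lTensor_smul, hx₀]
    have : t ∈ q := hT ▸ Ideal.subset_span ht
    rw [hx] at this
    exact (Submodule.mem_annihilator_span_singleton x t).mp this)
  refine ⟨M', hfg', hq, lTensor N (Submodule.inclusion hle) x₀, ?_⟩
  have hx' : lTensor N M'.subtype (lTensor N (Submodule.inclusion hle) x₀) = x := by
    rw [← LinearMap.comp_apply, ← lTensor_comp, Submodule.subtype_comp_inclusion, hx₀]
  apply le_antisymm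
  · rw [← hT, Ideal.span_le]
    intro t ht
    rw [SetLike.mem_coe, Submodule.mem_annihilator_span_singleton, ← lTensor_smul]
    exact hkill _ (Finset.mem_image_of_mem _ ht)
  · intro s hs
    rw [Submodule.mem_annihilator_span_singleton] at hs
    rw [hx, Submodule.mem_annihilator_span_singleton, ← hx', ← lTensor_smul, hs, map_zero]

end H14.FM
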