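import Groth.Agent.Lib.helper14.FiberModAss
import Mathlib

set_option autoImplicit false
universe u

namespace H14.FM

open TensorProduct FlatCA

theorem mem_smul_top_of_smul_mem_of_flat {R : Type*} [CommRing R] (p : Ideal R) [p.IsPrime]
    {N : Type*} [AddCommGroup N] [Module R N] [Module.Flat R N] {r : R} (hr : r ∉ p) {n : N}
    (h : r • n ∈ p • (⊤ : Submodule R N)) : n ∈ p • (⊤ : Submodule R N) := by
  have hreg : IsSMulRegular ((R ⧸ p) ⊗[R] N) (Ideal.Quotient.mk p r) := by
    have hnz : Ideal.Quotient.mk p r ∈ nonZeroDivisors (R ⧸ p) := by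
      apply mem_nonZeroDivisors_of_ne_zero
      rw [Ne, Ideal.Quotient.eq_zero_iff_mem]
      exact hr
    exact Module.Flat.isSMulRegular_of_nonZeroDivisors (R := R ⧸ p) (M := (R ⧸ p) ⊗[R] N) hnz
  have h1 : (Ideal.Quotient.mk p r) • ((1 : R ⧸ p) ⊗ₜ[R] n) = 0 := by
    apply (TensorProduct.quotTensorEquivQuotSMul N p).injective
    rw [TensorProduct.smul_tmul', smul_eq_mul, mul_one,
      TensorProduct.quotTensorEquivQuotSMul_mk_tmul, map_zero, Submodule.Quotient.mk_eq_zero]
    exact h
  have h2 : (1 : R ⧸ p) ⊗ₜ[R] n = 0 := hreg (by simp only [h1, smul_zero])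
  have h3 := congrArg (TensorProduct.quotTensorEquivQuotSMul N p) h2
  rwa [TensorProduct.quotTensorEquivQuotSMul_mk_one_tmul, map_zero,
    Submodule.Quotient.mk_eq_zero] at h3

variable {R S : Type u} [CommRing R] [CommRing S] [Algebra R S] (N : Type u) [AddCommGroup N]
  [Module S N] [Module R N] [IsScalarTower R S N] (p : Ideal R) [p.IsPrime]

theorem mem_map_smul_top_iff (y : N) :
    y ∈ (p.map (algebraMap R S)) • (⊤ : Submodule S N) ↔ y ∈ p • (⊤ : Submodule R N) := by
  constructor
  · intro hy
    have key : ∀ c ∈ p.map (algebraMap R S), ∀ m : N, c • m ∈ p • (⊤ : Submodule R N) := by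
      intro c hc
      induction hc using Submodule.span_induction with
      | mem x hx =>
        obtain ⟨a, ha, rfl⟩ := hx
        intro m
        rw [algebraMap_smul]
        exact Submodule.smul_mem_smul ha trivial
      | zero => intro m; rw [zero_smul]; exact zero_mem _
      | add x y _ _ hx hy => intro m; rw [add_smul]; exact add_mem (hx m) (hy m)
      | smul s x _ hx => intro m; rw [smul_eq_mul, mul_comm, mul_smul]; exact hx _
    induction hy using Submodule.smul_induction_on' with
    | smul c hc m _ => exact key c hc m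
    | add x _ y _ hx hy => exact add_mem hx hy
  · intro hy
    induction hy using Submodule.smul_induction_on' with
    | smul a ha m _ =>
      rw [← algebraMap_smul S a m]
      exact Submodule.smul_mem_smul (Ideal.mem_map_of_mem _ ha) trivial
    | add x _ y _ hx hy => exact add_mem hx hy

attribute [local instance] Algebra.TensorProduct.rightAlgebra

local notation "Nbar" => N ⧸ (Ideal.map (algebraMap R S) p) • (⊤ : Submodule S N)

theorem mem_of_smul_mem_of_flat [Module.Flat R N] {r : R} (hr : r ∉ p) {n : N}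
    (h : r • n ∈ (p.map (algebraMap R S)) • (⊤ : Submodule S N)) :
    n ∈ (p.map (algebraMap R S)) • (⊤ : Submodule S N) := by
  rw [mem_map_smul_top_iff] at h ⊢
  exact mem_smul_top_of_smul_mem_of_flat p hr h

theorem ann_one_tmul_eq_of_flat [Module.Flat R N] (n : N) :
    (Submodule.span S {(1 : p.Fiber S) ⊗ₜ[S] n}).annihilator =
      (Submodule.span S {(Submodule.Quotient.mk n : Nbar)}).annihilator := by
  ext s
  rw [mem_ann_one_tmul, mem_ann_mk]
  constructor
  · rintro ⟨r, hr, h⟩
    exact mem_of_smul_mem_of_flat N p hr h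
  · intro h
    exact ⟨1, fun h => (Ideal.IsPrime.ne_top inferInstance) ((Ideal.eq_top_iff_one p).mpr h),
      by rwa [one_smul]⟩

/-- S9669 -/
theorem ass_quot_eq_ass_fiber_of_flat [Module.Flat R N] :
    ass S Nbar = ass S ((p.Fiber S) ⊗[S] N) ∧
      ∀ q ∈ ass S Nbar, q.comap (algebraMap R S) = p := by
  refine ⟨?_, ?_⟩
  · ext q
    constructor
    · rintro ⟨hq, m, hm⟩
      obtain ⟨n, rfl⟩ := Submodule.Quotient.mk_surjective _ m
      exact ⟨hq, (1 : p.Fiber S) ⊗ₜ[S] n, by rw [hm, ann_one_tmul_eq_of_flat]⟩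
    · rintro ⟨hq, x, hx⟩
      obtain ⟨n, hn⟩ := exists_ann_eq_ann_one_tmul N p x
      exact ⟨hq, Submodule.Quotient.mk n, by rw [hx, hn, ann_one_tmul_eq_of_flat]⟩
  · rintro q ⟨hq, m, hm⟩
    obtain ⟨n, rfl⟩ := Submodule.Quotient.mk_surjective _ m
    ext a
    rw [Ideal.mem_comap, hm, mem_ann_mk]
    constructor
    · intro h
      by_contra ha
      rw [algebraMap_smul] at h
      have hn := mem_of_smul_mem_of_flat N p ha h
      apply hq.ne_top
      rw [hm, Ideal.eq_top_iff_one, mem_ann_mk, one_smul]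
      exact hn
    · intro ha
      exact Submodule.smul_mem_smul (Ideal.mem_map_of_mem _ ha) trivial

end H14.FM
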