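import Groth.Agent.Lib.helper14.FiberModTensor
import Mathlib

set_option autoImplicit false
universe u

namespace H14.FM

open TensorProduct FlatCA

variable {R S : Type u} [CommRing R] [CommRing S] [Algebra R S] (N : Type u) [AddCommGroup N]
  [Module S N] [Module R N] [IsScalarTower R S N]

theorem ann_smul_eq_of_not_mem {M : Type*} [AddCommGroup M] [Module S M] {q : Ideal S}
    (hq : q.IsPrime) (x : M) (hx : q = (Submodule.span S {x}).annihilator) {s : S} (hs : s ∉ q) :
    (Submodule.span S {s • x}).annihilator = q := by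
  ext t
  rw [Submodule.mem_annihilator_span_singleton, smul_smul,
    ← Submodule.mem_annihilator_span_singleton, ← hx]
  constructor
  · intro h
    exact (hq.mem_or_mem h).resolve_right hs
  · intro h
    exact Ideal.mul_mem_right _ _ h

theorem ass_tensor_subset_of_exact [Module.Flat R N] {M₁ M₂ M₃ : Type*}
    [AddCommGroup M₁] [Module R M₁] [AddCommGroup M₂] [Module R M₂] [AddCommGroup M₃] [Module R M₃]
    (f : M₁ →ₗ[R] M₂) (g : M₂ →ₗ[R] M₃) (hf : Function.Injective f)
    (hg : Function.Surjective g) (hfg : Function.Exact f g) (q : Ideal S) (h : q ∈ ass S (N ⊗[R] M₂)) :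
    q ∈ ass S (N ⊗[R] M₁) ∨ q ∈ ass S (N ⊗[R] M₃) := by
  obtain ⟨hq, x, hx⟩ := h
  have hex : Function.Exact (f.lTensor N) (g.lTensor N) := lTensor_exact N hfg hg
  have hinj : Function.Injective (f.lTensor N) :=
    Module.Flat.lTensor_preserves_injective_linearMap _ hf
  by_cases hA : ∃ s ∉ q, s • x ∈ LinearMap.range (f.lTensor N)
  · left
    obtain ⟨s, hs, x₁, hx₁⟩ := hA
    refine ⟨hq, x₁, ?_⟩
    rw [← ann_eq_of_lTensor_injective N f hinj x₁, hx₁, ann_smul_eq_of_not_mem hq x hx hs]
  · right
    push Not at hA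
    refine ⟨hq, g.lTensor N x, ?_⟩
    ext t
    rw [Submodule.mem_annihilator_span_singleton, ← lTensor_smul, hex]
    constructor
    · intro ht
      refine ⟨0, ?_⟩
      rw [map_zero]
      exact ((Submodule.mem_annihilator_span_singleton x t).mp (hx ▸ ht)).symm
    · intro ht
      by_contra htq
      exact hA t htq ht

theorem mem_map_smul_top_iff' (p : Ideal R) (y : N) :
    y ∈ (p.map (algebraMap R S)) • (⊤ : Submodule S N) ↔ y ∈ p • (⊤ : Submodule R N) := by
  constructor
  · intro hy
    have key : ∀ c ∈ p.map (algebraMap R S), ∀ m : N, c • m ∈ p • (⊤ : Submodule R N) := by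
      intro c hc
      induction hc using Submodule.span_induction with
      | mem x hx =>
        obtain ⟨a, ha, rfl⟩ := hx
        intro m
        rw [algebraMap_smul]
        exact Submodule.smul_mem_smul ha trivial
      | zero => intro m; rw [zero_smul]; exact zero_mem _
      | add x y _ _ hx hy => intro m; rw [add_smul]; exact add_mem (hx m) (hy m)
      | smul s x _ hx => intro m; rw [smul_eq_mul, mul_comm, mul_smul]; exact hx _
    induction hy using Submodule.smul_induction_on' with
    | smul c hc m _ => exact key c hc m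
    | add x _ y _ hx hy => exact add_mem hx hy
  · intro hy
    induction hy using Submodule.smul_induction_on' with
    | smul a ha m _ =>
      rw [← algebraMap_smul S a m]
      exact Submodule.smul_mem_smul (Ideal.mem_map_of_mem _ ha) trivial
    | add x _ y _ hx hy => exact add_mem hx hy

theorem mem_ass_quot_of_mem_ass_tensor_quot (p' : Ideal R) (q : Ideal S)
    (h : q ∈ ass S (N ⊗[R] (R ⧸ p'))) :
    q ∈ ass S (N ⧸ (p'.map (algebraMap R S)) • (⊤ : Submodule S N)) := by
  obtain ⟨hq, y, hy⟩ := h
  obtain ⟨nbar, hn⟩ := (TensorProduct.tensorQuotEquivQuotSMul N p').symm.surjective y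
  obtain ⟨n, rfl⟩ := Submodule.Quotient.mk_surjective _ nbar
  rw [TensorProduct.tensorQuotEquivQuotSMul_symm_mk] at hn
  refine ⟨hq, Submodule.Quotient.mk n, ?_⟩
  ext s
  rw [hy, ← hn, Submodule.mem_annihilator_span_singleton, Submodule.mem_annihilator_span_singleton,
    TensorProduct.smul_tmul', ← Submodule.Quotient.mk_smul, Submodule.Quotient.mk_eq_zero,
    mem_map_smul_top_iff', ← (TensorProduct.tensorQuotEquivQuotSMul N p').map_eq_zero_iff]
  have h2 : (1 : R ⧸ p') = Ideal.Quotient.mk p' 1 := rfl
  rw [h2, TensorProduct.tensorQuotEquivQuotSMul_tmul_mk, one_smul, Submodule.Quotient.mk_eq_zero]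

theorem exists_prime_mem_ass_quot [IsNoetherianRing R] [Module.Flat R N] (M : Type u)
    [AddCommGroup M] [Module R M] [Module.Finite R M] (q : Ideal S)
    (h : q ∈ ass S (N ⊗[R] M)) :
    ∃ (p' : Ideal R) (_ : p'.IsPrime),
      q ∈ ass S (N ⧸ (p'.map (algebraMap R S)) • (⊤ : Submodule S N)) := by
  revert q
  induction ‹Module.Finite R M› using
    IsNoetherianRing.induction_on_isQuotientEquivQuotientPrime R with
  | subsingleton M =>
    rintro q ⟨hq, x, hx⟩
    exfalso
    apply hq.ne_top
    rw [hx, Subsingleton.elim x 0, Ideal.eq_top_iff_one, Submodule.mem_annihilator_span_singleton,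
      smul_zero]
  | quotient M p' e =>
    rintro q ⟨hq, x, hx⟩
    refine ⟨p'.1, p'.2, mem_ass_quot_of_mem_ass_tensor_quot N p'.1 q ⟨hq, e.toLinearMap.lTensor N x, ?_⟩⟩
    rw [hx, ann_eq_of_lTensor_injective N e.toLinearMap ?_ x]
    exact (LinearEquiv.lTensor N e).injective
  | exact M₁ M₂ M₃ f g hf hg hfg h₁ h₃ =>
    intro q hq
    rcases ass_tensor_subset_of_exact N f g hf hg hfg q hq with h | h
    · exact h₁ q h
    · exact h₃ q h

end H14.FM
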