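import Groth.Agent.Lib.helper14.FiberModFlat
import Mathlib

set_option autoImplicit false
universe u

namespace H14.FM

open TensorProduct FlatCA

variable {R S : Type u} [CommRing R] [CommRing S] [Algebra R S] (N : Type u) [AddCommGroup N]
  [Module S N] [Module R N] [IsScalarTower R S N]

/-- `N ⊗ f` commutes with the `S`-action on the left factor -/
theorem lTensor_smul {M M' : Type*} [AddCommGroup M] [Module R M] [AddCommGroup M'] [Module R M']
    (f : M' →ₗ[R] M) (s : S) (y : N ⊗[R] M') :
    f.lTensor N (s • y) = s • f.lTensor N y := by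
  induction y using TensorProduct.induction_on with
  | zero => simp
  | tmul n m => simp [TensorProduct.smul_tmul']
  | add x y hx hy => rw [smul_add, map_add, hx, hy, map_add, smul_add]

theorem ann_eq_of_lTensor_injective {M M' : Type*} [AddCommGroup M] [Module R M]
    [AddCommGroup M'] [Module R M'] (f : M' →ₗ[R] M) (hf : Function.Injective (f.lTensor N))
    (y : N ⊗[R] M') :
    (Submodule.span S {f.lTensor N y}).annihilator = (Submodule.span S {y}).annihilator := by
  ext s
  rw [Submodule.mem_annihilator_span_singleton, Submodule.mem_annihilator_span_singleton,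
    ← lTensor_smul, ← map_zero (f.lTensor N), hf.eq_iff]

/-- S9668 -/
theorem exists_fg_mem_ass_of_flat [Module.Flat R N] (M : Type u) [AddCommGroup M] [Module R M]
    (q : Ideal S) (h : q ∈ ass S (N ⊗[R] M)) :
    ∃ M' : Submodule R M, M'.FG ∧ q ∈ ass S (N ⊗[R] ↥M') := by
  obtain ⟨hq, x, hx⟩ := h
  obtain ⟨M', hfin, hM'⟩ := TensorProduct.exists_finite_submodule_right_of_setFinite
    ({x} : Set (N ⊗[R] M)) (Set.finite_singleton x)
  obtain ⟨x', hx'⟩ := hM' (Set.mem_singleton x)
  refine ⟨M', Module.Finite.iff_fg.mp hfin, hq, x', ?_⟩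
  rw [hx, ← hx']
  exact ann_eq_of_lTensor_injective N _
    (Module.Flat.lTensor_preserves_injective_linearMap _ (Submodule.injective_subtype M')) x'

/-- for `p = ann m` and flat `N`: `y ⊗ m = 0` iff `y ∈ pN`. -/
theorem tmul_eq_zero_iff_of_ann_eq [Module.Flat R N] {M : Type*} [AddCommGroup M] [Module R M]
    (p : Ideal R) (m : M) (hp : p = (Submodule.span R {m}).annihilator) (y : N) :
    y ⊗ₜ[R] m = 0 ↔ y ∈ p • (⊤ : Submodule R N) := by
  have hker : LinearMap.ker (LinearMap.toSpanSingleton R M m) = p := by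
    ext a
    rw [LinearMap.mem_ker, LinearMap.toSpanSingleton_apply, hp,
      Submodule.mem_annihilator_span_singleton]
  let f : (R ⧸ p) →ₗ[R] M := Submodule.liftQ p (LinearMap.toSpanSingleton R M m) hker.ge
  have hf : Function.Injective f := by
    rw [← LinearMap.ker_eq_bot]
    exact Submodule.ker_liftQ_eq_bot _ _ _ hker.le
  have hfl : Function.Injective (f.lTensor N) :=
    Module.Flat.lTensor_preserves_injective_linearMap _ hf
  have h1 : y ⊗ₜ[R] m = f.lTensor N (y ⊗ₜ[R] (1 : R ⧸ p)) := by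
    rw [LinearMap.lTensor_tmul]
    congr 1
    change m = Submodule.liftQ p (LinearMap.toSpanSingleton R M m) hker.ge (Submodule.Quotient.mk 1)
    rw [Submodule.liftQ_apply, LinearMap.toSpanSingleton_apply, one_smul]
  rw [h1, ← map_zero (f.lTensor N), hfl.eq_iff,
    ← (TensorProduct.tensorQuotEquivQuotSMul N p).map_eq_zero_iff]
  have h2 : (1 : R ⧸ p) = Ideal.Quotient.mk p 1 := rfl
  rw [h2, TensorProduct.tensorQuotEquivQuotSMul_tmul_mk, one_smul, Submodule.Quotient.mk_eq_zero]

attribute [local instance] Algebra.TensorProduct.rightAlgebra in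
/-- S9648 -/
theorem comap_mem_ass_tensor_of_flat [Module.Flat R N] (M : Type u) [AddCommGroup M] [Module R M]
    (p : Ideal R) [p.IsPrime] (hp : p ∈ ass R M) (Q : Ideal (p.Fiber S))
    (hQ : Q ∈ ass (p.Fiber S) ((p.Fiber S) ⊗[S] N)) :
    Q.comap (Algebra.TensorProduct.includeRight (R := R) (A := p.ResidueField)
      (B := S)).toRingHom ∈ ass S (N ⊗[R] M) := by
  haveI := hQ.1
  have hq1 := (mem_ass_fiber_iff N p (Q.comap (Algebra.TensorProduct.includeRight (R := R)
    (A := p.ResidueField) (B := S)).toRingHom)).mpr ⟨Q, hQ, rfl⟩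
  rw [← (ass_quot_eq_ass_fiber_of_flat N p).1] at hq1
  obtain ⟨hqp, mbar, hm⟩ := hq1
  obtain ⟨n, rfl⟩ := Submodule.Quotient.mk_surjective _ mbar
  obtain ⟨-, m, hpm⟩ := hp
  refine ⟨hqp, n ⊗ₜ[R] m, ?_⟩
  ext s
  rw [hm, mem_ann_mk, Submodule.mem_annihilator_span_singleton, TensorProduct.smul_tmul',
    tmul_eq_zero_iff_of_ann_eq N p m hpm, mem_map_smul_top_iff]

end H14.FM
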