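import Mathlib
import Groth.Prelude.Def_Found

set_option autoImplicit false
universe u v

namespace H14.FieldDesc

open TensorProduct

section

variable {F k k' : Type*} [Field F] [Field k] [Field k'] [Algebra F k] [Algebra k k'] [Algebra F k']
  [IsScalarTower F k k'] {n : ℕ} (b : Module.Basis (Fin n) k k')

/-- the `F`-span of the basis -/
abbrev W : Submodule F k' := Submodule.span F (Set.range b)

theorem smul_mem_W (x : k) (hx : x ∈ Set.range (algebraMap F k)) (a : Fin n) :
    x • b a ∈ W (F := F) b := by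
  obtain ⟨γ, rfl⟩ := hx
  rw [algebraMap_smul]
  exact Submodule.smul_mem _ _ (Submodule.subset_span ⟨a, rfl⟩)

theorem one_mem_W (h1 : ∀ e, b.repr 1 e ∈ Set.range (algebraMap F k)) : (1 : k') ∈ W (F := F) b := by
  rw [← b.sum_repr 1]
  exact Submodule.sum_mem _ fun e _ => smul_mem_W b _ (h1 e) e

theorem mul_mem_W (hm : ∀ a c e, b.repr (b a * b c) e ∈ Set.range (algebraMap F k))
    (x y : k') (hx : x ∈ W (F := F) b) (hy : y ∈ W (F := F) b) : x * y ∈ W (F := F) b := by
  have h : W (F := F) b * W (F := F) b ≤ W (F := F) b := by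
    rw [W, Submodule.span_mul_span, Submodule.span_le]
    rintro _ ⟨_, ⟨a, rfl⟩, _, ⟨c, rfl⟩, rfl⟩
    change b a * b c ∈ W (F := F) b
    rw [← b.sum_repr (b a * b c)]
    exact Submodule.sum_mem _ fun e _ => smul_mem_W b _ (hm a c e) e
  exact h (Submodule.mul_mem_mul hx hy)

/-- the descended subalgebra -/
def F' (h1 : ∀ e, b.repr 1 e ∈ Set.range (algebraMap F k))
    (hm : ∀ a c e, b.repr (b a * b c) e ∈ Set.range (algebraMap F k)) : Subalgebra F k' :=
  (W (F := F) b).toSubalgebra (one_mem_W b h1) (mul_mem_W b hm)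

theorem linearIndependent_F : LinearIndependent F (fun a => b a) :=
  LinearIndependent.restrict_scalars (K := k)
    (by
      intro x y hxy
      simp only [Algebra.smul_def, mul_one] at hxy
      exact (algebraMap F k).injective hxy) b.linearIndependent

/-- the `F`-basis of `W` -/
noncomputable def basisW : Module.Basis (Fin n) F (W (F := F) b) :=
  Module.Basis.span (linearIndependent_F (F := F) b)

theorem basisW_apply (a : Fin n) : ((basisW (F := F) b a : W (F := F) b) : k') = b a := by
  rw [basisW, Module.Basis.span_apply]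

end

section

variable {F k k' : Type*} [Field F] [Field k] [Field k'] [Algebra F k] [Algebra k k'] [Algebra F k']
  [IsScalarTower F k k'] {n : ℕ} (b : Module.Basis (Fin n) k k')
  (h1 : ∀ e, b.repr 1 e ∈ Set.range (algebraMap F k))
  (hm : ∀ a c e, b.repr (b a * b c) e ∈ Set.range (algebraMap F k))

/-- the identification `W ≃ F'` -/
noncomputable def e₀ : W (F := F) b ≃ₗ[F] F' b h1 hm :=
  (LinearEquiv.ofEq _ _ (Submodule.toSubalgebra_toSubmodule _ _ _).symm).trans
    (Subalgebra.toSubmoduleEquiv _)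

theorem e₀_coe (x : W (F := F) b) : ((e₀ b h1 hm x : F' b h1 hm) : k') = x := rfl

/-- the `F`-basis of `F'` -/
noncomputable def basisF' : Module.Basis (Fin n) F (F' b h1 hm) :=
  (basisW (F := F) b).map (e₀ b h1 hm)

theorem basisF'_apply (a : Fin n) : ((basisF' b h1 hm a : F' b h1 hm) : k') = b a := by
  rw [basisF', Module.Basis.map_apply, e₀_coe, basisW_apply]

instance : Module.Finite F (F' b h1 hm) := Module.Finite.of_basis (basisF' b h1 hm)

theorem isField_F' : IsField (F' b h1 hm) :=
  isField_of_isIntegral_of_isField' (R := F) (Field.toIsField F)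

variable (A : Type*) [CommRing A] [Algebra k A] [Algebra F A] [IsScalarTower F k A]

/-- comparison map -/
noncomputable def Θ : A ⊗[F] (F' b h1 hm) →ₐ[A] A ⊗[k] k' :=
  Algebra.TensorProduct.productLeftAlgHom
    (Algebra.TensorProduct.includeLeft : A →ₐ[A] A ⊗[k] k')
    (((Algebra.TensorProduct.includeRight : k' →ₐ[k] A ⊗[k] k').restrictScalars F).comp
      (F' b h1 hm).val)

theorem Θ_bijective : Function.Bijective (Θ b h1 hm A) := by
  let B₁ := Algebra.TensorProduct.basis A (basisF' b h1 hm)
  let B₂ := Algebra.TensorProduct.basis A b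
  have h : (Θ b h1 hm A).toLinearMap = (B₁.equiv B₂ (Equiv.refl _)).toLinearMap := by
    apply B₁.ext
    intro a
    rw [LinearEquiv.coe_coe, Module.Basis.equiv_apply, Equiv.refl_apply]
    simp only [B₁, B₂, AlgHom.toLinearMap_apply, Algebra.TensorProduct.basis_apply]
    simp [Θ, basisF'_apply]
  have h2 : (Θ b h1 hm A : A ⊗[F] (F' b h1 hm) → A ⊗[k] k') = (B₁.equiv B₂ (Equiv.refl _)) := by
    funext x
    exact congrArg (fun φ => φ x) h
  rw [h2]
  exact (B₁.equiv B₂ (Equiv.refl _)).bijective

theorem nonempty_ringEquiv : Nonempty ((F' b h1 hm) ⊗[F] A ≃+* k' ⊗[k] A) :=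
  ⟨((Algebra.TensorProduct.comm F (F' b h1 hm) A).toRingEquiv.trans
    (RingEquiv.ofBijective (Θ b h1 hm A) (Θ_bijective b h1 hm A))).trans
    (Algebra.TensorProduct.comm k A k').toRingEquiv⟩

end

section Directed

theorem exists_index_of_finset {k : Type*} {ι : Type*} [Field k] (K : ι → Type*) [∀ i, Field (K i)]
    [∀ i, Algebra (K i) k]
    (hdir : ∀ i j, ∃ l, Set.range (algebraMap (K i) k) ⊆ Set.range (algebraMap (K l) k) ∧
      Set.range (algebraMap (K j) k) ⊆ Set.range (algebraMap (K l) k))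
    (hcov : ∀ x : k, ∃ i, x ∈ Set.range (algebraMap (K i) k)) (s : Finset k) :
    ∃ i, ∀ x ∈ s, x ∈ Set.range (algebraMap (K i) k) := by
  classical
  induction s using Finset.induction_on with
  | empty =>
    obtain ⟨i, -⟩ := hcov 0
    exact ⟨i, fun x hx => absurd hx (Finset.notMem_empty x)⟩
  | insert x s _ ih =>
    obtain ⟨i, hi⟩ := ih
    obtain ⟨j, hj⟩ := hcov x
    obtain ⟨l, hl1, hl2⟩ := hdir i j
    refine ⟨l, fun y hy => ?_⟩
    rcases Finset.mem_insert.mp hy with rfl | hy
    · exact hl2 hj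
    · exact hl1 (hi y hy)

theorem main (k : Type u) [Field k] {ι : Type u}
    (K : ι → Type u) [∀ i, Field (K i)] [∀ i, Algebra (K i) k]
    (hdir : ∀ i j, ∃ l, Set.range (algebraMap (K i) k) ⊆ Set.range (algebraMap (K l) k) ∧
      Set.range (algebraMap (K j) k) ⊆ Set.range (algebraMap (K l) k))
    (hcov : ∀ x : k, ∃ i, x ∈ Set.range (algebraMap (K i) k))
    (A : Type u) [CommRing A] [Algebra k A] [∀ i, Algebra (K i) A]
    [∀ i, IsScalarTower (K i) k A] (h : ∀ i, CAlg.IsGeometricallyRegular (K i) A) :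
    CAlg.IsGeometricallyRegular k A := by
  intro k' _ _ hfin
  let b : Module.Basis (Fin (Module.finrank k k')) k k' := Module.finBasis k k'
  let s : Set k := Set.range (fun e => b.repr 1 e) ∪
    Set.range (fun (x : Fin (Module.finrank k k') × Fin (Module.finrank k k') ×
      Fin (Module.finrank k k')) => b.repr (b x.1 * b x.2.1) x.2.2)
  have hs : s.Finite := (Set.finite_range _).union (Set.finite_range _)
  obtain ⟨i, hi⟩ := exists_index_of_finset K hdir hcov hs.toFinset
  have hi' : ∀ x ∈ s, x ∈ Set.range (algebraMap (K i) k) := fun x hx =>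
    hi x (hs.mem_toFinset.mpr hx)
  letI : Algebra (K i) k' := ((algebraMap k k').comp (algebraMap (K i) k)).toAlgebra
  haveI : IsScalarTower (K i) k k' := IsScalarTower.of_algebraMap_eq fun _ => rfl
  have h1 : ∀ e, b.repr 1 e ∈ Set.range (algebraMap (K i) k) := fun e =>
    hi' _ (Or.inl ⟨e, rfl⟩)
  have hm : ∀ a c e, b.repr (b a * b c) e ∈ Set.range (algebraMap (K i) k) := fun a c e =>
    hi' _ (Or.inr ⟨(a, c, e), rfl⟩)
  letI : Field (F' b h1 hm) := (isField_F' b h1 hm).toField
  have hreg : IsRegularRing ((F' b h1 hm) ⊗[K i] A) := h i (F' b h1 hm) inferInstance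
  obtain ⟨e⟩ := nonempty_ringEquiv b h1 hm A
  exact IsRegularRing.of_ringEquiv e

end Directed

end H14.FieldDesc
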