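import Mathlib
import Groth.Agent.Lib.helper14.CohenSmooth
import Groth.Agent.Lib.helper14.CohenLift
import Groth.Agent.S2456
import Groth.Agent.S2462

/-!
# Lifting ring homs from a field into a complete Noetherian local ring containing that field
-/

universe u

namespace H14.FieldLift

open IsLocalRing

/-- ring homs out of `ULift (ZMod p)` are unique -/
theorem ulift_zmod_ringHom_ext (p : ℕ) (R : Type u) [CommRing R] (f g : ULift.{u} (ZMod p) →+* R) :
    f = g := by
  have h : f.comp (ULift.ringEquiv.symm : ZMod p ≃+* ULift.{u} (ZMod p)).toRingHom =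
      g.comp (ULift.ringEquiv.symm : ZMod p ≃+* ULift.{u} (ZMod p)).toRingHom :=
    Subsingleton.elim _ _
  ext x
  have := RingHom.congr_fun h x.down
  exact this

/-- Let `C` be a complete Noetherian local ring and `K` a field with a ring hom `s : K → C`.  Then
every ring hom `K → C/J` (`J ≠ ⊤`) lifts to a ring hom `K → C`. -/
theorem field_lift {K C : Type u} [Field K] [CommRing C] [IsLocalRing C] [IsNoetherianRing C]
    [IsAdicComplete (maximalIdeal C) C] (J : Ideal C) (hJ : J ≠ ⊤) (w : K →+* C ⧸ J)
    (s : K →+* C) : ∃ v : K →+* C, (Ideal.Quotient.mk J).comp v = w := by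
  classical
  haveI : Nontrivial (C ⧸ J) := Ideal.Quotient.nontrivial_iff.mpr hJ
  haveI : IsLocalRing (C ⧸ J) :=
    IsLocalRing.of_surjective' (Ideal.Quotient.mk J) Ideal.Quotient.mk_surjective
  obtain ⟨p, hp⟩ := CharP.exists K
  rcases CharP.char_is_prime_or_zero K p with hprime | h0
  · -- characteristic `p`
    haveI : Fact p.Prime := ⟨hprime⟩
    letI algK : Algebra (ULift.{u} (ZMod p)) K :=
      ((ZMod.castHom (dvd_refl p) K).comp
        (ULift.ringEquiv : ULift.{u} (ZMod p) ≃+* ZMod p).toRingHom).toAlgebra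
    letI algC : Algebra (ULift.{u} (ZMod p)) C :=
      (s.comp (algebraMap (ULift.{u} (ZMod p)) K)).toAlgebra
    haveI : Algebra.FormallySmooth (ULift.{u} (ZMod p)) K :=
      H14.CohenSmooth.formallySmooth_of_perfectField p
    have hB : EGA41.IsFormallySmoothAdic (ULift.{u} (ZMod p)) ⊥ K ⊥ := by
      intro D _ _ I hI _ ψ _
      exact Algebra.FormallySmooth.exists_lift I hI ψ
    let wa : K →ₐ[ULift.{u} (ZMod p)] C ⧸ J :=
      { w with
        commutes' := fun a => RingHom.congr_fun
          (ulift_zmod_ringHom_ext p _ (w.comp (algebraMap _ K)) (algebraMap _ (C ⧸ J))) a }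
    have hwa : ∀ x, wa x = w x := fun x => rfl
    obtain ⟨v, -, hv⟩ := Groth.Agent.S2462.result (⊥ : Ideal (ULift.{u} (ZMod p))) (⊥ : Ideal K) hB
      (by rw [Ideal.map_bot]; exact bot_le) J hJ wa (by rw [Ideal.map_bot]; exact bot_le)
    refine ⟨v.toRingHom, ?_⟩
    ext x
    have := congrArg (fun φ => φ x) hv
    rw [← hwa]
    simpa using this
  · -- characteristic zero
    subst h0
    haveI : CharZero K := CharP.charP_to_charZero K
    haveI : IsLocalHom w := by
      constructor
      intro x hx
      have hx0 : x ≠ 0 := by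
        rintro rfl
        rw [map_zero] at hx
        exact not_isUnit_zero hx
      exact isUnit_iff_ne_zero.mpr hx0
    obtain ⟨v, -, hv⟩ := H14S2456.main (W := K) (Or.inl ⟨Field.toIsField K, inferInstance⟩) J hJ w
    exact ⟨v, hv⟩

end H14.FieldLift
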