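import Mathlib

universe u v

namespace H14S13366

open Polynomial

section field

variable {k : Type u} [Field k] (p : ℕ) [hp : Fact p.Prime] [CharP k p]

variable {V : Type v} [AddCommGroup V] [Module k V]

omit [CharP k p] hp in
theorem T_sum {ι : Type*} (T : V →+ V) (hT : ∀ (r : k) (v : V), T (r • v) = r ^ p • T v)
    (s : Finset ι) (c : ι → k) (v : ι → V) :
    T (∑ i ∈ s, c i • v i) = ∑ i ∈ s, c i ^ p • T (v i) := by
  rw [map_sum]
  exact Finset.sum_congr rfl (fun i _ => hT _ _)

omit [CharP k p] in
theorem injective_of_span [FiniteDimensional k V] (T : V →+ V)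
    (hT : ∀ (r : k) (v : V), T (r • v) = r ^ p • T v)
    (hspan : Submodule.span k (Set.range T) = ⊤) : Function.Injective T := by
  let b := Module.finBasis k V
  have h1 : ⊤ ≤ Submodule.span k (Set.range (fun j => T (b j))) := by
    rw [← hspan, Submodule.span_le]
    rintro _ ⟨v, rfl⟩
    rw [← b.sum_repr v, T_sum p T hT]
    exact Submodule.sum_mem _ (fun j _ => Submodule.smul_mem _ _ (Submodule.subset_span ⟨j, rfl⟩))
  have hli : LinearIndependent k (fun j => T (b j)) :=
    linearIndependent_of_top_le_span_of_card_eq_finrank h1 (by simp)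
  rw [injective_iff_map_eq_zero]
  intro v hv
  have hv' : ∑ j, (b.repr v j) ^ p • T (b j) = 0 := by
    rw [← T_sum p T hT, b.sum_repr v, hv]
  have h2 := Fintype.linearIndependent_iff.mp hli _ hv'
  apply b.repr.injective
  ext j
  rw [map_zero, Finsupp.zero_apply]
  exact (pow_eq_zero_iff hp.out.ne_zero).mp (h2 j)

/-- the auxiliary polynomials -/
noncomputable def Qn (a : ℕ → k) : ℕ → k[X]
  | 0 => 0
  | (i+1) => (Qn a i) ^ p + C (a i) * X ^ p

omit hp [CharP k p] in
theorem Qn_succ (a : ℕ → k) (i : ℕ) : Qn p a (i+1) = (Qn p a i) ^ p + C (a i) * X ^ p := rfl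

omit hp in
theorem derivative_Qn (a : ℕ → k) (i : ℕ) : derivative (Qn p a i) = 0 := by
  cases i with
  | zero => simp [Qn]
  | succ i =>
    rw [Qn_succ, derivative_add, derivative_pow, derivative_mul, derivative_C, derivative_X_pow,
      CharP.cast_eq_zero k p]
    simp

omit [CharP k p] in
theorem eval_zero_Qn (a : ℕ → k) (i : ℕ) : eval 0 (Qn p a i) = 0 := by
  induction i with
  | zero => simp [Qn]
  | succ i ih =>
    rw [Qn_succ, eval_add, eval_pow, ih, eval_mul, eval_pow, eval_X, zero_pow hp.out.ne_zero,
      mul_zero, add_zero]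

omit [CharP k p] in
theorem Qn_eq_zero (a : ℕ → k) (i : ℕ) (h : ∀ j < i, a j = 0) : Qn p a i = 0 := by
  induction i with
  | zero => rfl
  | succ i ih =>
    rw [Qn_succ, ih (fun j hj => h j (Nat.lt_succ_of_lt hj)), h i (Nat.lt_succ_self i),
      zero_pow hp.out.ne_zero, map_zero, zero_mul, add_zero]

omit [CharP k p] in
theorem le_natDegree_Qn (a : ℕ → k) (i : ℕ) (h : ∃ j < i, a j ≠ 0) :
    p ≤ natDegree (Qn p a i) := by
  induction i with
  | zero =>
    obtain ⟨j, hj, -⟩ := h
    exact absurd hj (Nat.not_lt_zero j)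
  | succ i ih =>
    have hp2 : 2 ≤ p := hp.out.two_le
    by_cases h' : ∃ j < i, a j ≠ 0
    · have h1 := ih h'
      have h2 : natDegree ((Qn p a i) ^ p) = p * natDegree (Qn p a i) := natDegree_pow _ _
      have h3 : natDegree (C (a i) * X ^ p) ≤ p := natDegree_C_mul_X_pow_le _ _
      have h4 : natDegree (C (a i) * X ^ p) < natDegree ((Qn p a i) ^ p) := by
        rw [h2]
        nlinarith
      rw [Qn_succ, natDegree_add_eq_left_of_natDegree_lt h4, h2]
      nlinarith
    · push Not at h'
      obtain ⟨j, hj, hj0⟩ := h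
      have hji : j = i := by
        rcases Nat.lt_succ_iff_lt_or_eq.mp hj with h1 | h1
        · exact absurd (h' j h1) hj0
        · exact h1
      subst hji
      rw [Qn_succ, Qn_eq_zero p a j h', zero_pow hp.out.ne_zero, zero_add,
        natDegree_C_mul_X_pow p (a j) hj0]

variable [IsSepClosed k]

theorem exists_as (c : k) : ∃ a : k, a ^ p - a = c := by
  obtain ⟨x, hx⟩ := IsSepClosed.exists_root_C_mul_X_pow_add_C_mul_X_add_C (k := k) (n := p) 1 (-1)
    (-c) (CharP.cast_eq_zero k p) hp.out.two_le (by simp)
  refine ⟨x, ?_⟩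
  linear_combination hx

/-- a nonzero root of `Qn r - X` -/
theorem exists_root_Qn (a : ℕ → k) (r : ℕ) (h : ∃ j < r, a j ≠ 0) :
    ∃ z : k, z ≠ 0 ∧ eval z (Qn p a r) = z := by
  classical
  have hp2 : 2 ≤ p := hp.out.two_le
  set P : k[X] := Qn p a r - X with hP
  have hdeg : natDegree P = natDegree (Qn p a r) := by
    apply natDegree_sub_eq_left_of_natDegree_lt
    rw [natDegree_X]
    have := le_natDegree_Qn p a r h
    omega
  have hder : derivative P = -1 := by
    rw [hP, derivative_sub, derivative_Qn, derivative_X, zero_sub]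
  have hsep : P.Separable := by
    rw [separable_def, hder]
    exact isCoprime_one_right.neg_right
  have hsplit : P.Splits := IsSepClosed.splits_of_separable P hsep
  have hcard : P.roots.card = natDegree P := hsplit.natDegree_eq_card_roots.symm
  have hnodup : P.roots.Nodup := nodup_roots hsep
  have h2 : 2 ≤ P.roots.card := by
    rw [hcard, hdeg]
    have := le_natDegree_Qn p a r h
    omega
  by_contra hcon
  push Not at hcon
  have hall : ∀ z ∈ P.roots, z = 0 := by
    intro z hz
    by_contra hz0
    apply hcon z hz0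
    have := (mem_roots'.mp hz).2
    rw [IsRoot.def, hP, eval_sub, eval_X, sub_eq_zero] at this
    exact this
  have h3 : P.roots.toFinset ⊆ {0} := by
    intro z hz
    rw [Multiset.mem_toFinset] at hz
    rw [Finset.mem_singleton]
    exact hall z hz
  have h4 := Finset.card_le_card h3
  rw [Multiset.toFinset_card_of_nodup hnodup, Finset.card_singleton] at h4
  omega

end field

end H14S13366
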