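import Mathlib
import Groth.Agent.Lib.helper14.FrobModA

universe u v

namespace H14S13366

open Polynomial

section field2

variable {k : Type u} [Field k] (p : ℕ) [hp : Fact p.Prime] [CharP k p] [IsSepClosed k]

variable {V : Type v} [AddCommGroup V] [Module k V]

/-- existence of a nonzero fixed vector (cyclic vector argument) -/
theorem exists_fixed [FiniteDimensional k V] (T : V →+ V)
    (hT : ∀ (r : k) (v : V), T (r • v) = r ^ p • T v) (hinj : Function.Injective T)
    (v₀ : V) (hv₀ : v₀ ≠ 0) : ∃ w : V, w ≠ 0 ∧ T w = w := by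
  classical
  set u : ℕ → V := fun i => (⇑T)^[i] v₀ with hu
  have hTu : ∀ i, T (u i) = u (i + 1) := fun i => (Function.iterate_succ_apply' (⇑T) i v₀).symm
  -- the dependency predicate
  let Q : ℕ → Prop := fun r => u r ∈ Submodule.span k (Set.range (fun i : Fin r => u i))
  have hex : ∃ r, Q r := by
    by_contra hcon
    push Not at hcon
    have hli : ∀ r, LinearIndependent k (fun i : Fin r => u i) := by
      intro r
      induction r with
      | zero => exact linearIndependent_empty_type
      | succ r ih =>
        rw [linearIndependent_finSucc']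
        exact ⟨ih, hcon r⟩
    have := (hli (Module.finrank k V + 1)).fintype_card_le_finrank
    rw [Fintype.card_fin] at this
    omega
  have hr := Nat.find_spec hex
  have hmin : ∀ r', r' < Nat.find hex → ¬ Q r' := fun r' h => Nat.find_min hex h
  set r := Nat.find hex with hrdef
  -- r ≥ 1
  have hr0 : r ≠ 0 := by
    intro h0
    rw [h0] at hr
    have h1 : u 0 ∈ Submodule.span k (Set.range (fun i : Fin 0 => u i)) := hr
    have h2 : Set.range (fun i : Fin 0 => u i) = ∅ := Set.range_eq_empty _
    rw [h2, Submodule.span_empty, Submodule.mem_bot] at h1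
    exact hv₀ h1
  obtain ⟨s, hs'⟩ := Nat.exists_eq_succ_of_ne_zero hr0
  have hs : r = s + 1 := hs'
  -- coefficients
  obtain ⟨c, hc⟩ := (Submodule.mem_span_range_iff_exists_fun k).mp hr
  let a : ℕ → k := fun i => if h : i < r then c ⟨i, h⟩ else 0
  have hrel : u r = ∑ i ∈ Finset.range r, a i • u i := by
    rw [← hc, ← Fin.sum_univ_eq_sum_range (fun i => a i • u i) r]
    apply Finset.sum_congr rfl
    intro i _
    have : a i = c i := by
      simp only [a]
      rw [dif_pos i.2]
    rw [this]
  have hane : ∃ j < r, a j ≠ 0 := by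
    by_contra hcon
    push Not at hcon
    have h0 : u r = 0 := by
      rw [hrel]
      apply Finset.sum_eq_zero
      intro i hi
      rw [hcon i (Finset.mem_range.mp hi), zero_smul]
    have h1 : (⇑T)^[r] v₀ = (⇑T)^[r] 0 := by
      rw [iterate_map_zero T r]
      exact h0
    exact hv₀ (hinj.iterate r h1)
  obtain ⟨z, hz0, hz⟩ := exists_root_Qn p a r hane
  let x : ℕ → k := fun i => eval z (Qn p a (i + 1))
  have hx0 : x 0 = a 0 * z ^ p := by
    simp only [x, Qn_succ, Qn, eval_add, eval_pow, eval_zero, eval_mul, eval_C, eval_X,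
      zero_pow hp.out.ne_zero, zero_add]
  have hxs : ∀ i, x (i + 1) = x i ^ p + a (i + 1) * z ^ p := by
    intro i
    simp only [x]
    rw [Qn_succ p a (i + 1), eval_add, eval_pow, eval_mul, eval_C, eval_pow, eval_X]
  have hxz : x s = z := by
    simp only [x]
    rw [← hs]
    exact hz
  refine ⟨∑ i ∈ Finset.range r, x i • u i, ?_, ?_⟩
  · intro hw
    apply hmin s (by omega)
    show u s ∈ Submodule.span k (Set.range (fun i : Fin s => u i))
    rw [hs, Finset.sum_range_succ, hxz] at hw
    have h1 : u s = z⁻¹ • (-∑ i ∈ Finset.range s, x i • u i) := by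
      rw [eq_inv_smul_iff₀ hz0]
      exact eq_neg_of_add_eq_zero_right hw
    rw [h1]
    apply Submodule.smul_mem
    apply Submodule.neg_mem
    apply Submodule.sum_mem
    intro i hi
    apply Submodule.smul_mem
    exact Submodule.subset_span ⟨⟨i, Finset.mem_range.mp hi⟩, rfl⟩
  · calc T (∑ i ∈ Finset.range r, x i • u i)
        = ∑ i ∈ Finset.range (s + 1), x i ^ p • u (i + 1) := by
          rw [T_sum p T hT, hs]
          exact Finset.sum_congr rfl (fun i _ => by rw [hTu])
      _ = ∑ i ∈ Finset.range s, x i ^ p • u (i + 1) + z ^ p • u r := by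
          rw [Finset.sum_range_succ, hxz, hs]
      _ = ∑ i ∈ Finset.range s, x i ^ p • u (i + 1) +
            (∑ i ∈ Finset.range s, (a (i + 1) * z ^ p) • u (i + 1) + (a 0 * z ^ p) • u 0) := by
          rw [hrel, hs, Finset.sum_range_succ', smul_add, Finset.smul_sum]
          congr 2
          · apply Finset.sum_congr rfl
            intro i _
            rw [smul_smul, mul_comm]
          · rw [smul_smul, mul_comm]
      _ = ∑ i ∈ Finset.range s, x (i + 1) • u (i + 1) + x 0 • u 0 := by
          rw [← add_assoc, ← Finset.sum_add_distrib, hx0]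
          congr 1
          apply Finset.sum_congr rfl
          intro i _
          rw [hxs, add_smul]
      _ = ∑ i ∈ Finset.range r, x i • u i := by
          rw [hs, Finset.sum_range_succ']

end field2

end H14S13366
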