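import Mathlib
import Groth.Agent.Lib.helper14.FrobModB

universe u v

namespace H14S13366

open Polynomial

section field3

variable {k : Type u} [Field k] (p : ℕ) [hp : Fact p.Prime] [CharP k p] [IsSepClosed k]

variable {V : Type v} [AddCommGroup V] [Module k V]

/-- the fixed vectors span -/
theorem span_fixed_eq_top [FiniteDimensional k V] (T : V →+ V)
    (hT : ∀ (r : k) (v : V), T (r • v) = r ^ p • T v)
    (hspan : Submodule.span k (Set.range T) = ⊤) :
    Submodule.span k {w : V | T w = w} = ⊤ := by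
  set W := Submodule.span k {w : V | T w = w} with hWdef
  let T' : V →ₛₗ[frobenius k p] V :=
    { toFun := T
      map_add' := T.map_add
      map_smul' := fun r v => by simpa [frobenius_def] using hT r v }
  have hW : W ≤ W.comap T' := by
    rw [hWdef, Submodule.span_le]
    intro w hw
    have hw' : T w = w := hw
    show T w ∈ W
    rw [hw']
    exact Submodule.subset_span hw
  by_contra hne
  haveI : Nontrivial (V ⧸ W) := Submodule.Quotient.nontrivial_iff.mpr hne
  let Tq' : V ⧸ W →ₛₗ[frobenius k p] V ⧸ W := W.mapQ W T' hW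
  let Tq : V ⧸ W →+ V ⧸ W := Tq'.toAddMonoidHom
  have hTqmk : ∀ v : V, Tq (W.mkQ v) = W.mkQ (T v) := fun v => rfl
  have hTq : ∀ (r : k) (x : V ⧸ W), Tq (r • x) = r ^ p • Tq x := by
    intro r x
    have h1 : Tq' (r • x) = (frobenius k p r) • Tq' x := Tq'.map_smulₛₗ r x
    rw [frobenius_def] at h1
    exact h1
  have hspanq : Submodule.span k (Set.range Tq) = ⊤ := by
    rw [eq_top_iff]
    intro y _
    obtain ⟨v, rfl⟩ := W.mkQ_surjective y
    have hv : v ∈ Submodule.span k (Set.range T) := by
      rw [hspan]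
      trivial
    have hle : (Submodule.span k (Set.range T)).map W.mkQ ≤ Submodule.span k (Set.range Tq) := by
      rw [Submodule.map_span, Submodule.span_le]
      rintro _ ⟨_, ⟨v', rfl⟩, rfl⟩
      exact Submodule.subset_span ⟨W.mkQ v', hTqmk v'⟩
    exact hle ⟨v, hv, rfl⟩
  have hinjq := injective_of_span p Tq hTq hspanq
  obtain ⟨y₀, hy₀⟩ := exists_ne (0 : V ⧸ W)
  obtain ⟨ubar, hu0, hufix⟩ := exists_fixed p Tq hTq hinjq y₀ hy₀
  obtain ⟨u, rfl⟩ := W.mkQ_surjective ubar
  have hmem : T u - u ∈ W := by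
    rw [← Submodule.Quotient.mk_eq_zero, Submodule.Quotient.mk_sub]
    exact sub_eq_zero.mpr hufix
  have hsurj : ∀ w ∈ W, ∀ a : k, ∃ w' ∈ W, T w' - w' = a • w := by
    intro w hw
    induction hw using Submodule.span_induction with
    | mem w hw =>
      intro a
      have hw' : T w = w := hw
      obtain ⟨a', ha'⟩ := exists_as p a
      exact ⟨a' • w, Submodule.smul_mem _ _ (Submodule.subset_span hw),
        by rw [hT, hw', ← sub_smul, ha']⟩
    | zero =>
      intro a
      exact ⟨0, Submodule.zero_mem _, by simp⟩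
    | add x y _ _ hx hy =>
      intro a
      obtain ⟨x', hx', hx''⟩ := hx a
      obtain ⟨y', hy', hy''⟩ := hy a
      exact ⟨x' + y', Submodule.add_mem _ hx' hy', by rw [map_add, smul_add, ← hx'', ← hy'']; abel⟩
    | smul b x _ hx =>
      intro a
      obtain ⟨x', hx', hx''⟩ := hx (a * b)
      exact ⟨x', hx', by rw [hx'', mul_smul]⟩
  obtain ⟨w', hw'W, hw'⟩ := hsurj (T u - u) hmem 1
  rw [one_smul] at hw'
  have hfix : T (u - w') = u - w' := by
    rw [map_sub]
    have h1 : T u - T w' - (u - w') = (T u - u) - (T w' - w') := by abel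
    rw [← sub_eq_zero, h1, hw', sub_self]
  have h1 : u - w' ∈ W := Submodule.subset_span hfix
  have h2 : u ∈ W := by
    have := W.add_mem h1 hw'W
    simpa using this
  exact hu0 ((Submodule.Quotient.mk_eq_zero W).mpr h2)

/-- a basis of fixed vectors -/
theorem exists_basis_fixed [FiniteDimensional k V] (T : V →+ V)
    (hT : ∀ (r : k) (v : V), T (r • v) = r ^ p • T v)
    (hspan : Submodule.span k (Set.range T) = ⊤) :
    ∃ b : Module.Basis (Fin (Module.finrank k V)) k V, ∀ i, T (b i) = b i := by
  have hs : ⊤ ≤ Submodule.span k {w : V | T w = w} := (span_fixed_eq_top p T hT hspan).ge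
  let b₀ := Module.Basis.ofSpan hs
  haveI : Fintype ↑((linearIndepOn_empty k id).extend (Set.empty_subset {w : V | T w = w})) :=
    FiniteDimensional.fintypeBasisIndex b₀
  have hcard := Module.finrank_eq_card_basis b₀
  let e := Fintype.equivFinOfCardEq hcard.symm
  refine ⟨b₀.reindex e, fun i => ?_⟩
  have h1 : (b₀.reindex e) i ∈ Set.range b₀ := by
    rw [Module.Basis.reindex_apply]
    exact ⟨_, rfl⟩
  exact Module.Basis.ofSpan_subset hs h1

end field3

end H14S13366
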