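import Mathlib
import Groth.Agent.Lib.helper14.FrobModC
import Groth.Agent.Lib.lead.HenselMv

universe u v

namespace H14S13366

open Polynomial IsLocalRing

section ring

variable (p : ℕ) [hp : Fact p.Prime] {R : Type u} [CommRing R] [HenselianLocalRing R]
  [IsSepClosed (ResidueField R)] [CharP R p]

omit [HenselianLocalRing R] [IsSepClosed (ResidueField R)] in
theorem charP_residue [IsLocalRing R] : CharP (ResidueField R) p := by
  rw [CharP.charP_iff_prime_eq_zero hp.out, ← map_natCast (residue R) p, CharP.cast_eq_zero R p,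
    map_zero]

theorem exists_as_ring (c : R) : ∃ a : R, a ^ p - a = c := by
  haveI := charP_residue p (R := R)
  obtain ⟨abar, habar⟩ := exists_as p (residue R c)
  obtain ⟨a₀, rfl⟩ := residue_surjective abar
  have hp1 : 1 < p := hp.out.one_lt
  let f : R[X] := X ^ p - (X + C c)
  have hf : f.Monic := by
    apply monic_X_pow_sub
    calc degree (X + C c : R[X]) ≤ 1 := by
          compute_degree
      _ < (p : WithBot ℕ) := by exact_mod_cast hp1
  have h1 : f.eval a₀ ∈ maximalIdeal R := by
    rw [← residue_eq_zero_iff]
    simp only [f, eval_sub, eval_pow, eval_X, eval_add, eval_C, map_sub, map_pow, map_add]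
    rw [← habar]
    ring
  have hder : derivative f = -1 := by
    simp only [f, derivative_sub, derivative_X_pow, derivative_add, derivative_X, derivative_C,
      CharP.cast_eq_zero R p, map_zero, zero_mul, add_zero, zero_sub]
  have h2 : IsUnit (f.derivative.eval a₀) := by
    rw [hder]
    simp
  obtain ⟨a, ha, -⟩ := HenselianLocalRing.is_henselian f hf a₀ h1 h2
  refine ⟨a, ?_⟩
  have : eval a f = 0 := ha
  simp only [f, eval_sub, eval_pow, eval_X, eval_add, eval_C] at this
  linear_combination this

theorem fixed_scalar (c : R) (hc : c ^ p = c) :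
    ∃ j : ZMod p, (ZMod.castHom (dvd_refl p) R) j = c := by
  haveI := charP_residue p (R := R)
  have h1 : (residue R c) ^ p = residue R c := by rw [← map_pow, hc]
  obtain ⟨n, hn⟩ := (mem_bot_iff_intCast p (ResidueField R)).mp
    ((Subfield.mem_bot_iff_pow_eq_self (ResidueField R) p).mpr h1)
  have hnp : ((n : ℤ) : R) ^ p = (n : R) := by
    have h2 : ((n : ZMod p)) ^ p = (n : ZMod p) := ZMod.pow_card _
    have h3 := congrArg (ZMod.castHom (dvd_refl p) R) h2
    rw [map_pow, map_intCast] at h3
    exact h3
  set b := c - (n : R) with hb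
  have hbp : b ^ p = b := by rw [hb, sub_pow_char, hc, hnp]
  have hbm : b ∈ maximalIdeal R := by
    rw [← residue_eq_zero_iff, hb, map_sub, map_intCast, hn, sub_self]
  have hb0 : b = 0 := by
    have hp1 : p - 1 ≠ 0 := by have := hp.out.two_le; omega
    have h4 : b * (1 - b ^ (p - 1)) = 0 := by
      have : b * b ^ (p - 1) = b ^ p := by
        rw [← pow_succ', Nat.sub_add_cancel hp.out.one_le]
      rw [mul_sub, mul_one, this, hbp, sub_self]
    have hu : IsUnit (1 - b ^ (p - 1)) :=
      isUnit_one_sub_self_of_mem_nonunits _ (Ideal.pow_mem_of_mem _ hbm _ (Nat.pos_of_ne_zero hp1))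
    exact hu.mul_left_eq_zero.mp h4
  refine ⟨(n : ZMod p), ?_⟩
  rw [map_intCast]
  exact (sub_eq_zero.mp hb0).symm

theorem card_fixed_scalar : Nat.card {c : R // c ^ p = c} = p := by
  have hcast : ∀ j : ZMod p, ((ZMod.castHom (dvd_refl p) R) j) ^ p =
      (ZMod.castHom (dvd_refl p) R) j := by
    intro j
    rw [← map_pow, ZMod.pow_card]
  let φ : ZMod p → {c : R // c ^ p = c} := fun j => ⟨_, hcast j⟩
  have hφ : Function.Bijective φ := by
    constructor
    · intro i j hij
      exact (ZMod.castHom (dvd_refl p) R).injective (congrArg Subtype.val hij)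
    · rintro ⟨c, hc⟩
      obtain ⟨j, hj⟩ := fixed_scalar p c hc
      exact ⟨j, Subtype.ext hj⟩
  rw [← Nat.card_congr (Equiv.ofBijective φ hφ), Nat.card_zmod]

end ring


section matrix

variable (p : ℕ) {S : Type*} [CommRing S] {n : ℕ}

/-- the coordinate map `x ↦ B x^{(p)}` -/
def Tm (B : Matrix (Fin n) (Fin n) S) (x : Fin n → S) : Fin n → S :=
  fun i => ∑ j, B i j * x j ^ p

theorem Tm_apply (B : Matrix (Fin n) (Fin n) S) (x : Fin n → S) (i : Fin n) :
    Tm p B x i = ∑ j, B i j * x j ^ p := rfl

theorem map_Tm {S' : Type*} [CommRing S'] (φ : S →+* S') (B : Matrix (Fin n) (Fin n) S)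
    (x : Fin n → S) (i : Fin n) : φ (Tm p B x i) = Tm p (B.map φ) (fun j => φ (x j)) i := by
  simp only [Tm_apply, map_sum, map_mul, map_pow, Matrix.map_apply]

/-- as an additive map in characteristic `p` -/
def TmHom [hp : Fact p.Prime] [CharP S p] (B : Matrix (Fin n) (Fin n) S) :
    (Fin n → S) →+ (Fin n → S) where
  toFun := Tm p B
  map_zero' := by
    ext i
    simp [Tm_apply, zero_pow hp.out.ne_zero]
  map_add' x y := by
    ext i
    simp only [Tm_apply, Pi.add_apply, add_pow_char, mul_add, Finset.sum_add_distrib]

theorem TmHom_apply [hp : Fact p.Prime] [CharP S p] (B : Matrix (Fin n) (Fin n) S)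
    (x : Fin n → S) : TmHom p B x = Tm p B x := rfl

theorem TmHom_smul [hp : Fact p.Prime] [CharP S p] (B : Matrix (Fin n) (Fin n) S) (r : S)
    (x : Fin n → S) : TmHom p B (r • x) = r ^ p • TmHom p B x := by
  ext i
  simp only [TmHom_apply, Tm_apply, Pi.smul_apply, smul_eq_mul, mul_pow, Finset.mul_sum]
  apply Finset.sum_congr rfl
  intro j _
  ring

theorem T_sumR {M : Type*} [AddCommGroup M] [Module S M] {ι : Type*} (T : M →+ M)
    (hT : ∀ (r : S) (v : M), T (r • v) = r ^ p • T v)
    (s : Finset ι) (c : ι → S) (v : ι → M) :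
    T (∑ i ∈ s, c i • v i) = ∑ i ∈ s, c i ^ p • T (v i) := by
  rw [map_sum]
  exact Finset.sum_congr rfl (fun i _ => hT _ _)

theorem repr_T {M : Type*} [AddCommGroup M] [Module S M] (T : M →+ M)
    (hT : ∀ (r : S) (v : M), T (r • v) = r ^ p • T v) (e : Module.Basis (Fin n) S M) (m : M)
    (i : Fin n) :
    e.repr (T m) i = Tm p (fun i j => e.repr (T (e j)) i) (fun j => e.repr m j) i := by
  conv_lhs => rw [← e.sum_repr m, T_sumR p T hT]
  rw [map_sum, Finsupp.coe_finsetSum, Finset.sum_apply, Tm_apply]
  apply Finset.sum_congr rfl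
  intro j _
  rw [map_smul, Finsupp.smul_apply, smul_eq_mul, mul_comm]

end matrix


section main

open Groth.Agent.Lib.lead.HenselLocal

variable (p : ℕ) [hp : Fact p.Prime] {R : Type u} [CommRing R] [HenselianLocalRing R]
  [IsSepClosed (ResidueField R)] [CharP R p]
  {M : Type v} [AddCommGroup M] [Module R M] [Module.Free R M] [Module.Finite R M]

set_option maxHeartbeats 1600000 in
/-- a basis of fixed vectors over a strictly henselian local ring -/
theorem exists_basis_fixed_ring (T : M →+ M) (hT : ∀ (r : R) (m : M), T (r • m) = r ^ p • T m)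
    (hspan : Submodule.span R (Set.range T) = ⊤) :
    ∃ bw : Module.Basis (Fin (Module.finrank R M)) R M, ∀ l, T (bw l) = bw l := by
  classical
  haveI := charP_residue p (R := R)
  set n := Module.finrank R M with hn
  let e : Module.Basis (Fin n) R M := Module.finBasis R M
  let A : Matrix (Fin n) (Fin n) R := fun i j => e.repr (T (e j)) i
  have hrepr : ∀ m i, e.repr (T m) i = Tm p A (fun j => e.repr m j) i :=
    fun m i => repr_T p T hT e m i
  let Abar : Matrix (Fin n) (Fin n) (ResidueField R) := A.map (residue R)
  let π : M → (Fin n → ResidueField R) := fun m i => residue R (e.repr m i)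
  have hπT : ∀ m, π (T m) = Tm p Abar (π m) := by
    intro m
    ext i
    show residue R (e.repr (T m) i) = _
    rw [hrepr, map_Tm]
  let Tb : (Fin n → ResidueField R) →+ (Fin n → ResidueField R) := TmHom p Abar
  have hTb : ∀ (r : ResidueField R) x, Tb (r • x) = r ^ p • Tb x := TmHom_smul p Abar
  have hspanb : Submodule.span (ResidueField R) (Set.range Tb) = ⊤ := by
    rw [eq_top_iff]
    intro y _
    choose ytil hytil using fun i => residue_surjective (y i)
    have hy : y = π (∑ i, ytil i • e i) := by
      ext i
      show y i = residue R (e.repr (∑ i, ytil i • e i) i)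
      rw [e.repr_sum_self, hytil]
    have key : ∀ m ∈ Submodule.span R (Set.range T),
        π m ∈ Submodule.span (ResidueField R) (Set.range Tb) := by
      intro m hm
      induction hm using Submodule.span_induction with
      | mem m hm =>
        obtain ⟨m', rfl⟩ := hm
        rw [hπT]
        exact Submodule.subset_span ⟨π m', rfl⟩
      | zero =>
        have : π 0 = 0 := by
          ext i
          simp [π]
        rw [this]
        exact Submodule.zero_mem _
      | add x y _ _ hx hy =>
        have : π (x + y) = π x + π y := by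
          ext i
          simp [π]
        rw [this]
        exact Submodule.add_mem _ hx hy
      | smul r x _ hx =>
        have : π (r • x) = residue R r • π x := by
          ext i
          simp [π]
        rw [this]
        exact Submodule.smul_mem _ _ hx
    rw [hy]
    exact key _ (by rw [hspan]; trivial)
  obtain ⟨b0, hb0⟩ := exists_basis_fixed p Tb hTb hspanb
  have hfr : Module.finrank (ResidueField R) (Fin n → ResidueField R) = n :=
    Module.finrank_fin_fun _
  let bb : Module.Basis (Fin n) (ResidueField R) (Fin n → ResidueField R) :=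
    b0.reindex (finCongr hfr)
  have hbb : ∀ l, Tm p Abar (bb l) = bb l := by
    intro l
    rw [Module.Basis.reindex_apply]
    exact hb0 _
  -- Hensel lifting
  have hlift : ∀ l : Fin n, ∃ x : Fin n → R, Tm p A x = x ∧ ∀ i, residue R (x i) = bb l i := by
    intro l
    choose a₀ ha₀ using fun i => residue_surjective (bb l i)
    let P : Fin n → MvPolynomial (Fin n) R := fun i =>
      ∑ j, MvPolynomial.C (A i j) * MvPolynomial.X j ^ p - MvPolynomial.X i
    have hev : ∀ (x : Fin n → R) i, MvPolynomial.eval x (P i) = Tm p A x i - x i := by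
      intro x i
      simp [P, Tm_apply]
    have h₀ : ∀ i, MvPolynomial.eval a₀ (P i) ∈ maximalIdeal R := by
      intro i
      rw [hev, ← residue_eq_zero_iff, map_sub, sub_eq_zero, map_Tm]
      have h1 : (fun j => residue R (a₀ j)) = bb l := funext ha₀
      rw [h1, ha₀]
      exact congrFun (hbb l) i
    have hpd : ∀ i j, MvPolynomial.pderiv j (P i) = if i = j then -1 else 0 := by
      intro i j
      have h1 : ∀ j', MvPolynomial.pderiv j (MvPolynomial.C (A i j') *
          (MvPolynomial.X j' : MvPolynomial (Fin n) R) ^ p) = 0 := by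
        intro j'
        rw [MvPolynomial.pderiv_C_mul, MvPolynomial.pderiv_pow, CharP.cast_eq_zero, zero_mul,
          zero_mul, mul_zero]
      simp only [P, map_sub, map_sum, h1, Finset.sum_const_zero, zero_sub]
      rw [MvPolynomial.pderiv_X, Pi.single_apply]
      split_ifs <;> simp
    have hJ : IsUnit (Matrix.of (fun i j =>
        MvPolynomial.eval a₀ (MvPolynomial.pderiv j (P i)))).det := by
      have h1 : Matrix.of (fun i j => MvPolynomial.eval a₀ (MvPolynomial.pderiv j (P i))) =
          (-1 : Matrix (Fin n) (Fin n) R) := by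
        ext i j
        rw [Matrix.of_apply, hpd, Matrix.neg_apply, Matrix.one_apply]
        split_ifs <;> simp
      rw [h1, Matrix.det_neg, Matrix.det_one, mul_one]
      exact (isUnit_one.neg).pow _
    obtain ⟨a, ha, haa⟩ := exists_common_zero_of_isUnit_jacobian n P a₀ h₀ hJ
    refine ⟨a, ?_, ?_⟩
    · ext i
      have := ha i
      rw [hev, sub_eq_zero] at this
      exact this
    · intro i
      rw [← ha₀ i]
      have := haa i
      rw [← residue_eq_zero_iff, map_sub, sub_eq_zero] at this
      exact this
  choose x hxfix hxres using hlift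
  let w : Fin n → M := fun l => ∑ i, x l i • e i
  have hwrepr : ∀ l i, e.repr (w l) i = x l i := by
    intro l i
    show e.repr (∑ i, x l i • e i) i = x l i
    rw [e.repr_sum_self]
  have hwfix : ∀ l, T (w l) = w l := by
    intro l
    apply e.repr.injective
    ext i
    rw [hrepr]
    have h1 : (fun j => e.repr (w l) j) = x l := funext (hwrepr l)
    rw [h1, hxfix l, hwrepr]
  have hdet : IsUnit (e.det w) := by
    rw [e.det_apply, ← residue_ne_zero_iff_isUnit, RingHom.map_det]
    have h1 : (residue R).mapMatrix (e.toMatrix w) =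
        (Pi.basisFun (ResidueField R) (Fin n)).toMatrix bb := by
      ext i l
      rw [RingHom.mapMatrix_apply, Matrix.map_apply, Module.Basis.toMatrix_apply,
        Module.Basis.toMatrix_apply, hwrepr, hxres, Pi.basisFun_repr]
    rw [h1, ← Module.Basis.det_apply]
    exact ((Pi.basisFun (ResidueField R) (Fin n)).isUnit_det bb).ne_zero
  obtain ⟨hli, hsp⟩ := e.is_basis_iff_det.mpr hdet
  refine ⟨Module.Basis.mk hli hsp.ge, fun l => ?_⟩
  rw [Module.Basis.mk_apply]
  exact hwfix l


theorem final (T : M →+ M) (hT : ∀ (r : R) (m : M), T (r • m) = r ^ p • T m)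
    (hspan : Submodule.span R (Set.range T) = ⊤) :
    Function.Surjective (fun m => T m - m) ∧
      Nat.card {m : M // T m = m} = p ^ Module.finrank R M := by
  obtain ⟨bw, hbw⟩ := exists_basis_fixed_ring p T hT hspan
  have hTrepr : ∀ m l, bw.repr (T m) l = (bw.repr m l) ^ p := by
    intro m l
    conv_lhs => rw [← bw.sum_repr m, T_sumR p T hT]
    simp only [hbw]
    rw [bw.repr_sum_self]
  constructor
  · intro y
    choose c hc using fun l => exists_as_ring p (bw.repr y l)
    refine ⟨∑ l, c l • bw l, ?_⟩
    apply bw.repr.injective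
    ext l
    show bw.repr (T (∑ l, c l • bw l) - ∑ l, c l • bw l) l = bw.repr y l
    rw [map_sub, Finsupp.sub_apply, hTrepr, bw.repr_sum_self, hc]
  · let Φ : {m : M // T m = m} ≃ (Fin (Module.finrank R M) → {c : R // c ^ p = c}) :=
      { toFun := fun m l => ⟨bw.repr m.1 l, by rw [← hTrepr, m.2]⟩
        invFun := fun c => ⟨∑ l, (c l).1 • bw l, by
          apply bw.repr.injective
          ext l
          rw [hTrepr, bw.repr_sum_self, (c l).2]⟩
        left_inv := fun m => Subtype.ext (bw.sum_repr m.1)
        right_inv := fun c => by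
          ext l
          show bw.repr (∑ l, (c l).1 • bw l) l = (c l).1
          rw [bw.repr_sum_self] }
    rw [Nat.card_congr Φ, Nat.card_fun, card_fixed_scalar, Nat.card_fin]

end main

end H14S13366
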