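import Mathlib
import Groth.Agent.Lib.helper14.FrobModD

universe u v

namespace H14S13366

open Polynomial IsLocalRing

section generic

variable (p : ℕ) {S : Type*} [CommRing S] {M : Type*} [AddCommGroup M] [Module S M] {n : ℕ}

theorem final_of_basis (hAS : ∀ c : S, ∃ a : S, a ^ p - a = c)
    (hcard : Nat.card {c : S // c ^ p = c} = p)
    (T : M →+ M) (hT : ∀ (r : S) (m : M), T (r • m) = r ^ p • T m)
    (bw : Module.Basis (Fin n) S M) (hbw : ∀ l, T (bw l) = bw l) :
    Function.Surjective (fun m => T m - m) ∧ Nat.card {m : M // T m = m} = p ^ n := by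
  have hTrepr : ∀ m l, bw.repr (T m) l = (bw.repr m l) ^ p := by
    intro m l
    conv_lhs => rw [← bw.sum_repr m, T_sumR p T hT]
    simp only [hbw]
    rw [bw.repr_sum_self]
  constructor
  · intro y
    choose c hc using fun l => hAS (bw.repr y l)
    refine ⟨∑ l, c l • bw l, ?_⟩
    apply bw.repr.injective
    ext l
    show bw.repr (T (∑ l, c l • bw l) - ∑ l, c l • bw l) l = bw.repr y l
    rw [map_sub, Finsupp.sub_apply, hTrepr, bw.repr_sum_self, hc]
  · let Φ : {m : M // T m = m} ≃ (Fin n → {c : S // c ^ p = c}) :=
      { toFun := fun m l => ⟨bw.repr m.1 l, by rw [← hTrepr, m.2]⟩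
        invFun := fun c => ⟨∑ l, (c l).1 • bw l, by
          apply bw.repr.injective
          ext l
          rw [hTrepr, bw.repr_sum_self, (c l).2]⟩
        left_inv := fun m => Subtype.ext (bw.sum_repr m.1)
        right_inv := fun c => by
          ext l
          show bw.repr (∑ l, (c l).1 • bw l) l = (c l).1
          rw [bw.repr_sum_self] }
    rw [Nat.card_congr Φ, Nat.card_fun, hcard, Nat.card_fin]

end generic

section fieldfinal

variable {k : Type u} [Field k] (p : ℕ) [hp : Fact p.Prime] [CharP k p] [IsSepClosed k]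
variable {V : Type v} [AddCommGroup V] [Module k V]

omit [IsSepClosed k] in
theorem card_fixed_field : Nat.card {c : k // c ^ p = c} = p := by
  have h1 : Nat.card {c : k // c ^ p = c} = Nat.card (⊥ : Subfield k) :=
    Nat.card_congr (Equiv.subtypeEquivRight
      (fun c => (Subfield.mem_bot_iff_pow_eq_self k p).symm))
  rw [h1, Subfield.card_bot k p]

theorem final_field [FiniteDimensional k V] (T : V →+ V)
    (hT : ∀ (r : k) (v : V), T (r • v) = r ^ p • T v)
    (hspan : Submodule.span k (Set.range T) = ⊤) :
    Function.Surjective (fun m => T m - m) ∧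
      Nat.card {m : V // T m = m} = p ^ Module.finrank k V := by
  obtain ⟨b, hb⟩ := exists_basis_fixed p T hT hspan
  exact final_of_basis p (exists_as p) (card_fixed_field p) T hT b hb

end fieldfinal

end H14S13366
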