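import Mathlib
import Groth.Agent.Lib.helper14.FrobModE

universe u v

namespace H14S13366

open Polynomial IsLocalRing

section dvr

variable (p : ℕ) [hp : Fact p.Prime] {R : Type u} [CommRing R] [IsDomain R]
  [IsDiscreteValuationRing R] [HenselianLocalRing R] [IsSepClosed (ResidueField R)] [CharP R p]
  {M : Type v} [AddCommGroup M] [Module R M] [Module.Finite R M]

/-- the semilinear map attached to `T` -/
def semi (T : M →+ M) (hT : ∀ (r : R) (m : M), T (r • m) = r ^ p • T m) :
    M →ₛₗ[frobenius R p] M :=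
  { toFun := T
    map_add' := T.map_add
    map_smul' := fun r v => by simpa [frobenius_def] using hT r v }

omit [IsDomain R] [IsDiscreteValuationRing R] [HenselianLocalRing R]
  [IsSepClosed (ResidueField R)] [Module.Finite R M] in
theorem semi_apply (T : M →+ M) (hT : ∀ (r : R) (m : M), T (r • m) = r ^ p • T m) (m : M) :
    semi p T hT m = T m := rfl

/-- a module with a bijective Frobenius-semilinear map over a DVR is torsion -/
theorem torsion_all (T : M →+ M) (hT : ∀ (r : R) (m : M), T (r • m) = r ^ p • T m)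
    (hsurj : Function.Surjective T) (m : M) : m ∈ Submodule.torsion R M := by
  set tors := Submodule.torsion R M with htorsdef
  have htors : tors ≤ tors.comap (semi p T hT) := by
    intro x hx
    obtain ⟨a, ha⟩ := (Submodule.mem_torsion_iff x).mp hx
    rw [Submodule.mem_comap, semi_apply]
    refine (Submodule.mem_torsion_iff _).mpr ⟨a ^ p, ?_⟩
    have h1 : (a : R) ^ p • T x = 0 := by
      rw [← hT]
      have : (a : R) • x = 0 := ha
      rw [this, map_zero]
    exact h1
  let TF' : M ⧸ tors →ₛₗ[frobenius R p] M ⧸ tors := tors.mapQ tors (semi p T hT) htors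
  let TF : M ⧸ tors →+ M ⧸ tors := TF'.toAddMonoidHom
  have hTFmk : ∀ x : M, TF (tors.mkQ x) = tors.mkQ (T x) := fun x => rfl
  have hTF : ∀ (r : R) (x : M ⧸ tors), TF (r • x) = r ^ p • TF x := by
    intro r x
    have h1 : TF' (r • x) = (frobenius R p r) • TF' x := TF'.map_smulₛₗ r x
    rw [frobenius_def] at h1
    exact h1
  have hTFsurj : Function.Surjective TF := by
    intro y
    obtain ⟨x, rfl⟩ := tors.mkQ_surjective y
    obtain ⟨x', rfl⟩ := hsurj x
    exact ⟨tors.mkQ x', hTFmk x'⟩
  have hspanF : Submodule.span R (Set.range TF) = ⊤ := by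
    rw [hTFsurj.range_eq, Submodule.span_univ]
  obtain ⟨bw, hbw⟩ := exists_basis_fixed_ring p TF hTF hspanF
  have hTrepr : ∀ x l, bw.repr (TF x) l = (bw.repr x l) ^ p := by
    intro x l
    conv_lhs => rw [← bw.sum_repr x, T_sumR p TF hTF]
    simp only [hbw]
    rw [bw.repr_sum_self]
  by_cases h0 : Module.finrank R (M ⧸ tors) = 0
  · haveI : IsEmpty (Fin (Module.finrank R (M ⧸ tors))) := by
      rw [h0]
      infer_instance
    have h1 : tors.mkQ m = 0 := by
      rw [← bw.sum_repr (tors.mkQ m)]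
      exact Finset.sum_of_isEmpty _
    exact (Submodule.Quotient.mk_eq_zero tors).mp h1
  · exfalso
    obtain ⟨ϖ, hϖ⟩ := IsDiscreteValuationRing.exists_irreducible R
    let l₀ : Fin (Module.finrank R (M ⧸ tors)) := ⟨0, Nat.pos_of_ne_zero h0⟩
    obtain ⟨x, hx⟩ := hTFsurj (ϖ • bw l₀)
    have h1 := hTrepr x l₀
    rw [hx, map_smul, Finsupp.smul_apply, bw.repr_self, Finsupp.single_eq_same, smul_eq_mul,
      mul_one] at h1
    have hp2 : 2 ≤ p := hp.out.two_le
    set c := bw.repr x l₀ with hc
    have h2 : ϖ = c * c ^ (p - 1) := by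
      rw [h1, ← pow_succ', Nat.sub_add_cancel hp.out.one_le]
    have hcu : IsUnit c := by
      rcases hϖ.isUnit_or_isUnit h2 with h | h
      · exact h
      · exact (isUnit_pow_iff (by omega)).mp h
    exact hϖ.not_isUnit (h1 ▸ hcu.pow p)

/-- a uniform power of the uniformizer kills `M` -/
theorem exists_pow_smul_eq_zero (T : M →+ M) (hT : ∀ (r : R) (m : M), T (r • m) = r ^ p • T m)
    (hsurj : Function.Surjective T) (ϖ : R) (hϖ : Irreducible ϖ) :
    ∃ K : ℕ, ∀ m : M, ϖ ^ K • m = 0 := by
  classical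
  have h1 : ∀ m : M, ∃ k : ℕ, ϖ ^ k • m = 0 := by
    intro m
    obtain ⟨a, ha⟩ := (Submodule.mem_torsion_iff m).mp (torsion_all p T hT hsurj m)
    have ha0 : (a : R) ≠ 0 := nonZeroDivisors.coe_ne_zero a
    obtain ⟨k, u, hu⟩ := IsDiscreteValuationRing.eq_unit_mul_pow_irreducible ha0 hϖ
    refine ⟨k, ?_⟩
    have h2 : (a : R) • m = 0 := ha
    rw [hu, mul_smul] at h2
    have h3 := congrArg (fun z => ((u⁻¹ : Rˣ) : R) • z) h2
    simp only [smul_zero] at h3
    rwa [← mul_smul, Units.inv_mul, one_smul] at h3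
  choose k hk using h1
  obtain ⟨s, hs⟩ := (Module.Finite.fg_top : (⊤ : Submodule R M).FG)
  refine ⟨s.sup k, fun m => ?_⟩
  have hm : m ∈ Submodule.span R (s : Set M) := by
    rw [hs]
    trivial
  induction hm using Submodule.span_induction with
  | mem x hx =>
    have hle : k x ≤ s.sup k := Finset.le_sup hx
    rw [← Nat.sub_add_cancel hle, pow_add, mul_smul, hk, smul_zero]
  | zero => rw [smul_zero]
  | add x y _ _ hx hy => rw [smul_add, hx, hy, add_zero]
  | smul r x _ hx => rw [smul_comm, hx, smul_zero]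


omit [IsDomain R] [IsDiscreteValuationRing R] [HenselianLocalRing R]
  [IsSepClosed (ResidueField R)] [Module.Finite R M] [CharP R p] hp in
theorem iterate_smul (T : M →+ M) (hT : ∀ (r : R) (m : M), T (r • m) = r ^ p • T m) (ϖ : R)
    (i : ℕ) : ∀ (e : ℕ) (y : M), (⇑T)^[i] (ϖ ^ e • y) = ϖ ^ (e * p ^ i) • (⇑T)^[i] y := by
  induction i with
  | zero =>
    intro e y
    simp
  | succ i ih =>
    intro e y
    rw [Function.iterate_succ_apply, Function.iterate_succ_apply, hT, ← pow_mul, ih]
    congr 2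
    ring

/-- abstract snake lemma for `T - 1` -/
theorem snake {M V : Type*} [AddCommGroup M] [AddCommGroup V] (T : M →+ M) (N : AddSubgroup M)
    (q : M →+ V) (hq : Function.Surjective q) (hker : ∀ x, q x = 0 ↔ x ∈ N)
    (Tq : V →+ V) (hTq : ∀ x, Tq (q x) = q (T x))
    (hN1 : ∀ z ∈ N, T z - z = 0 → z = 0) (hN2 : ∀ y ∈ N, ∃ z ∈ N, T z - z = y)
    (hV1 : Function.Surjective (fun v => Tq v - v)) :
    Function.Surjective (fun m => T m - m) ∧
      Nat.card {m : M // T m = m} = Nat.card {v : V // Tq v = v} := by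
  constructor
  · intro y
    obtain ⟨xbar, hxbar⟩ := hV1 (q y)
    obtain ⟨x, rfl⟩ := hq xbar
    have hxbar' : Tq (q x) - q x = q y := hxbar
    have h1 : T x - x - y ∈ N := by
      rw [← hker, map_sub, map_sub, ← hTq]
      exact sub_eq_zero.mpr hxbar'
    obtain ⟨z, hzN, hz⟩ := hN2 (-(T x - x - y)) (N.neg_mem h1)
    refine ⟨x + z, ?_⟩
    show T (x + z) - (x + z) = y
    rw [map_add]
    have : T x + T z - (x + z) = (T x - x) + (T z - z) := by abel
    rw [this, hz]
    abel
  · let ρ : {m : M // T m = m} → {v : V // Tq v = v} :=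
      fun m => ⟨q m.1, by rw [hTq, m.2]⟩
    have hρ : Function.Bijective ρ := by
      constructor
      · intro m m' h
        have h1 : q m.1 = q m'.1 := congrArg Subtype.val h
        have h2 : m.1 - m'.1 ∈ N := by
          rw [← hker, map_sub, h1, sub_self]
        have h3 : T (m.1 - m'.1) - (m.1 - m'.1) = 0 := by
          rw [map_sub, m.2, m'.2, sub_self]
        exact Subtype.ext (sub_eq_zero.mp (hN1 _ h2 h3))
      · rintro ⟨v, hv⟩
        obtain ⟨x, rfl⟩ := hq v
        have h1 : T x - x ∈ N := by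
          rw [← hker, map_sub, ← hTq]
          exact sub_eq_zero.mpr hv
        obtain ⟨z, hzN, hz⟩ := hN2 (-(T x - x)) (N.neg_mem h1)
        have hfix : T (x + z) = x + z := by
          rw [map_add, ← sub_eq_zero]
          have : T x + T z - (x + z) = (T x - x) + (T z - z) := by abel
          rw [this, hz]
          abel
        refine ⟨⟨x + z, hfix⟩, Subtype.ext ?_⟩
        show q (x + z) = q x
        rw [map_add, (hker z).mpr hzN, add_zero]
    exact Nat.card_congr (Equiv.ofBijective ρ hρ)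

open TensorProduct in
/-- the induced semilinear map on `κ ⊗ M` -/
noncomputable def Tbar (T : M →+ M) (hT : ∀ (r : R) (m : M), T (r • m) = r ^ p • T m) :
    (ResidueField R) ⊗[R] M →+ (ResidueField R) ⊗[R] M :=
  haveI := charP_residue p (R := R)
  TensorProduct.liftAddHom
    { toFun := fun c =>
        { toFun := fun m => (c ^ p) ⊗ₜ[R] T m
          map_zero' := by rw [map_zero, tmul_zero]
          map_add' := fun m m' => by rw [map_add, tmul_add] }
      map_zero' := by
        ext m
        show ((0 : ResidueField R) ^ p) ⊗ₜ[R] T m = 0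
        rw [zero_pow hp.out.ne_zero, zero_tmul]
      map_add' := fun c c' => by
        ext m
        show ((c + c') ^ p) ⊗ₜ[R] T m = (c ^ p) ⊗ₜ[R] T m + (c' ^ p) ⊗ₜ[R] T m
        rw [add_pow_char, add_tmul] }
    (fun r c m => by
      show ((r • c) ^ p) ⊗ₜ[R] T m = (c ^ p) ⊗ₜ[R] T (r • m)
      rw [hT, Algebra.smul_def, mul_pow, ← map_pow, ← Algebra.smul_def, smul_tmul])

open TensorProduct in
omit [IsDomain R] [IsDiscreteValuationRing R] [IsSepClosed (ResidueField R)]
  [Module.Finite R M] in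
theorem Tbar_tmul (T : M →+ M) (hT : ∀ (r : R) (m : M), T (r • m) = r ^ p • T m)
    (c : ResidueField R) (m : M) : Tbar p T hT (c ⊗ₜ[R] m) = (c ^ p) ⊗ₜ[R] T m := rfl

open TensorProduct in
omit [IsDomain R] [IsDiscreteValuationRing R] [IsSepClosed (ResidueField R)]
  [Module.Finite R M] in
theorem Tbar_smul (T : M →+ M) (hT : ∀ (r : R) (m : M), T (r • m) = r ^ p • T m)
    (c : ResidueField R) (v : (ResidueField R) ⊗[R] M) :
    Tbar p T hT (c • v) = c ^ p • Tbar p T hT v := by
  induction v using TensorProduct.induction_on with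
  | zero => simp
  | tmul c' m =>
    rw [smul_tmul', Tbar_tmul, Tbar_tmul, smul_tmul', smul_eq_mul, smul_eq_mul, mul_pow]
  | add x y hx hy => rw [smul_add, map_add, hx, hy, map_add, smul_add]

open TensorProduct in
set_option maxHeartbeats 1600000 in
theorem final_dvr (T : M →+ M) (hT : ∀ (r : R) (m : M), T (r • m) = r ^ p • T m)
    (hbij : Function.Bijective T) :
    Function.Surjective (fun m => T m - m) ∧
      Nat.card {m : M // T m = m} =
        p ^ Module.finrank (ResidueField R) (TensorProduct R (ResidueField R) M) := by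
  classical
  haveI := charP_residue p (R := R)
  obtain ⟨ϖ, hϖ⟩ := IsDiscreteValuationRing.exists_irreducible R
  obtain ⟨K, hK⟩ := exists_pow_smul_eq_zero p T hT hbij.2 ϖ hϖ
  have hp2 : 2 ≤ p := hp.out.two_le
  let N : Submodule R M := maximalIdeal R • (⊤ : Submodule R M)
  have hϖm : ϖ ∈ maximalIdeal R := by
    rw [hϖ.maximalIdeal_eq]
    exact Ideal.mem_span_singleton_self ϖ
  have hN_of : ∀ y : M, ϖ • y ∈ N := fun y => Submodule.smul_mem_smul hϖm Submodule.mem_top
  have hN_mem : ∀ x ∈ N, ∃ y : M, x = ϖ • y := by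
    intro x hx
    refine Submodule.smul_induction_on hx ?_ ?_
    · intro a ha y _
      rw [hϖ.maximalIdeal_eq, Ideal.mem_span_singleton'] at ha
      obtain ⟨b, rfl⟩ := ha
      exact ⟨b • y, by rw [smul_smul, mul_comm]⟩
    · rintro x y ⟨x', rfl⟩ ⟨y', rfl⟩
      exact ⟨x' + y', by rw [smul_add]⟩
  have hN_T : ∀ x ∈ N, T x ∈ N := by
    intro x hx
    obtain ⟨y, rfl⟩ := hN_mem x hx
    rw [hT, ← Nat.sub_add_cancel hp.out.one_le, pow_succ', mul_smul]
    exact hN_of _
  have hN_iter : ∀ i, ∀ x ∈ N, (⇑T)^[i] x ∈ N := by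
    intro i
    induction i with
    | zero => intro x hx; exact hx
    | succ i ih =>
      intro x hx
      rw [Function.iterate_succ_apply']
      exact hN_T _ (ih x hx)
  have hnil : ∀ x ∈ N, (⇑T)^[K] x = 0 := by
    intro x hx
    obtain ⟨y, rfl⟩ := hN_mem x hx
    have h1 := iterate_smul p T hT ϖ K 1 y
    rw [pow_one, one_mul] at h1
    rw [h1]
    have hle : K ≤ p ^ K := (Nat.lt_pow_self (by omega : 1 < p)).le
    rw [← Nat.sub_add_cancel hle, pow_add, mul_smul, hK, smul_zero]
  have hN1 : ∀ z ∈ N.toAddSubgroup, T z - z = 0 → z = 0 := by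
    intro z hz h
    have hfix : T z = z := sub_eq_zero.mp h
    have h1 : (⇑T)^[K] z = z := Function.iterate_fixed hfix K
    rw [← h1]
    exact hnil z hz
  have hN2 : ∀ y ∈ N.toAddSubgroup, ∃ z ∈ N.toAddSubgroup, T z - z = y := by
    intro y hy
    refine ⟨-∑ i ∈ Finset.range K, (⇑T)^[i] y, ?_, ?_⟩
    · exact N.neg_mem (N.sum_mem (fun i _ => hN_iter i y hy))
    · rw [map_neg, map_sum]
      have h1 : ∀ i ∈ Finset.range K, T ((⇑T)^[i] y) = (⇑T)^[i + 1] y :=
        fun i _ => (Function.iterate_succ_apply' (⇑T) i y).symm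
      rw [Finset.sum_congr rfl h1, neg_sub_neg, ← Finset.sum_sub_distrib,
        Finset.sum_range_sub' (fun i => (⇑T)^[i] y) K, hnil y hy, sub_zero]
      rfl
  -- the quotient map
  let q : M →+ (ResidueField R) ⊗[R] M := (TensorProduct.mk R (ResidueField R) M 1).toAddMonoidHom
  have hqdef : ∀ m, q m = (1 : ResidueField R) ⊗ₜ[R] m := fun m => rfl
  have hqsurj : Function.Surjective q := by
    intro v
    induction v using TensorProduct.induction_on with
    | zero => exact ⟨0, map_zero q⟩
    | tmul c m =>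
      obtain ⟨r, rfl⟩ := residue_surjective c
      refine ⟨r • m, ?_⟩
      rw [hqdef, ← smul_tmul, Algebra.smul_def, mul_one]
      rfl
    | add x y hx hy =>
      obtain ⟨x', rfl⟩ := hx
      obtain ⟨y', rfl⟩ := hy
      exact ⟨x' + y', map_add q x' y'⟩
  have hker : ∀ x, q x = 0 ↔ x ∈ N.toAddSubgroup := by
    intro x
    constructor
    · intro h
      have h1 : TensorProduct.quotTensorEquivQuotSMul M (maximalIdeal R) (q x) = 0 := by
        rw [h]
        exact map_zero _
      have h2 : TensorProduct.quotTensorEquivQuotSMul M (maximalIdeal R) (q x) =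
          Submodule.Quotient.mk x :=
        TensorProduct.quotTensorEquivQuotSMul_mk_one_tmul (maximalIdeal R) x
      rw [h2] at h1
      exact (Submodule.Quotient.mk_eq_zero _).mp h1
    · intro hx
      obtain ⟨y, rfl⟩ := hN_mem x hx
      rw [hqdef, ← smul_tmul, Algebra.smul_def, mul_one]
      have : algebraMap R (ResidueField R) ϖ = 0 := (residue_eq_zero_iff ϖ).mpr hϖm
      rw [this, zero_tmul]
  have hTq : ∀ x, Tbar p T hT (q x) = q (T x) := by
    intro x
    rw [hqdef, Tbar_tmul, one_pow]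
    rfl
  have hTqsurj : Function.Surjective (Tbar p T hT) := by
    intro y
    obtain ⟨x, rfl⟩ := hqsurj y
    obtain ⟨x', rfl⟩ := hbij.2 x
    exact ⟨q x', hTq x'⟩
  have hspanq : Submodule.span (ResidueField R) (Set.range (Tbar p T hT)) = ⊤ := by
    rw [hTqsurj.range_eq, Submodule.span_univ]
  obtain ⟨hV1, hV2⟩ := final_field p (Tbar p T hT) (Tbar_smul p T hT) hspanq
  obtain ⟨h1, h2⟩ := snake T N.toAddSubgroup q hqsurj hker (Tbar p T hT) hTq hN1 hN2 hV1
  exact ⟨h1, h2.trans hV2⟩

end dvr

end H14S13366
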