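import Mathlib
import Groth.Agent.S9642

/-! Geometric irreducibility helpers (helper14). -/

set_option autoImplicit false
universe u

namespace Groth.Agent.H14

open TensorProduct

/-- Irreducibility of spectra transfers along ring isomorphisms. -/
theorem irreducibleSpace_of_ringEquiv {A B : Type*} [CommRing A] [CommRing B] (e : A ≃+* B)
    [IrreducibleSpace (PrimeSpectrum A)] : IrreducibleSpace (PrimeSpectrum B) :=
  (PrimeSpectrum.homeomorphOfRingEquiv e).irreducibleSpace_iff.mp inferInstance

/-- If `S` is geometrically irreducible over the field `k` and `A` is a `k`-algebra with irreducible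
spectrum, then `A ⊗[k] S` has irreducible spectrum. -/
theorem irreducibleSpace_tensor {k A S : Type u} [Field k] [CommRing A] [CommRing S]
    [Algebra k A] [Algebra k S]
    (hS : ∀ (k' : Type u) [Field k'] [Algebra k k'], IrreducibleSpace (PrimeSpectrum (k' ⊗[k] S)))
    [IrreducibleSpace (PrimeSpectrum A)] : IrreducibleSpace (PrimeSpectrum (A ⊗[k] S)) := by
  refine Groth.Agent.S9642.result (R := A) (S := A ⊗[k] S)
    PrimeSpectrum.isOpenMap_comap_algebraMap_tensorProduct_of_field Set.univ dense_univ ?_
  intro p _
  haveI := hS p.asIdeal.ResidueField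
  exact irreducibleSpace_of_ringEquiv
    (Algebra.TensorProduct.cancelBaseChange k A p.asIdeal.ResidueField p.asIdeal.ResidueField S).symm.toRingEquiv

end Groth.Agent.H14
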