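import Mathlib

set_option autoImplicit false
universe u

namespace H14.Glue

/-- uniformization of exponents over a finite index set -/
theorem exists_uniform {α : Type*} [Finite α] (P : α → ℕ → Prop)
    (hmono : ∀ a n m, n ≤ m → P a n → P a m) (h : ∀ a, ∃ n, P a n) : ∃ n, ∀ a, P a n := by
  choose n hn using h
  cases nonempty_fintype α
  exact ⟨Finset.univ.sup n, fun a => hmono a _ _ (Finset.le_sup (Finset.mem_univ a)) (hn a)⟩

section Abstract

variable {R : Type*} [CommRing R] {N Nb Nab : Type*} [AddCommGroup N] [Module R N]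
  [AddCommGroup Nb] [Module R Nb] [AddCommGroup Nab] [Module R Nab]

theorem pow_smul_surj (b : R) (g : N →ₗ[R] Nb) [IsLocalizedModule (Submonoid.powers b) g] (p : Nb) :
    ∃ (n : ℕ) (x : N), b ^ n • p = g x := by
  obtain ⟨⟨x, ⟨_, n, rfl⟩⟩, hx⟩ := IsLocalizedModule.surj (Submonoid.powers b) g p
  exact ⟨n, x, hx⟩

theorem pow_smul_eq_of_eq (b : R) (g : N →ₗ[R] Nb) [IsLocalizedModule (Submonoid.powers b) g]
    {x y : N} (h : g x = g y) : ∃ n : ℕ, b ^ n • x = b ^ n • y := by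
  obtain ⟨⟨_, n, rfl⟩, hc⟩ := IsLocalizedModule.exists_of_eq (S := Submonoid.powers b) (f := g) h
  exact ⟨n, hc⟩

theorem pow_smul_cancel (b : R) (g : N →ₗ[R] Nb) [IsLocalizedModule (Submonoid.powers b) g]
    {p q : Nb} (n : ℕ) (h : b ^ n • p = b ^ n • q) : p = q :=
  IsLocalizedModule.smul_injective g (⟨b ^ n, n, rfl⟩ : Submonoid.powers b) h

/-- `v : N_b → N_{ab}` with `v ∘ g = t` is "injective up to powers of `a`". -/
theorem exists_pow_smul_eq_of_v_eq (a b c : R) (hc : c = a * b) (g : N →ₗ[R] Nb)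
    [IsLocalizedModule (Submonoid.powers b) g] (t : N →ₗ[R] Nab)
    [IsLocalizedModule (Submonoid.powers c) t] (v : Nb →ₗ[R] Nab) (hv : v ∘ₗ g = t)
    {p q : Nb} (h : v p = v q) : ∃ e : ℕ, a ^ e • p = a ^ e • q := by
  obtain ⟨n₁, p', hp'⟩ := pow_smul_surj b g p
  obtain ⟨n₂, q', hq'⟩ := pow_smul_surj b g q
  have hvg : ∀ x, v (g x) = t x := fun x => by rw [← hv]; rfl
  have h1 : t (b ^ n₂ • p') = t (b ^ n₁ • q') := by
    rw [map_smul, map_smul, ← hvg p', ← hvg q', ← hp', ← hq', map_smul, map_smul, h, smul_comm]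
  obtain ⟨e, he⟩ := pow_smul_eq_of_eq c t h1
  refine ⟨e, ?_⟩
  apply pow_smul_cancel b g (e + n₂ + n₁)
  have h2 := congrArg g he
  simp only [map_smul] at h2
  rw [← hp', ← hq', hc, smul_smul, smul_smul, smul_smul, smul_smul] at h2
  rw [smul_smul, smul_smul]
  have e1 : b ^ (e + n₂ + n₁) * a ^ e = (a * b) ^ e * b ^ n₂ * b ^ n₁ := by ring
  have e2 : (a * b) ^ e * b ^ n₁ * b ^ n₂ = (a * b) ^ e * b ^ n₂ * b ^ n₁ := by ring
  rw [e1, h2, e2]

end Abstract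

section Concrete

variable {R : Type u} [CommRing R] {ι : Type u} [Finite ι] (f : ι → R)
    (Mi : ι → Type u) [∀ i, AddCommGroup (Mi i)] [∀ i, Module R (Mi i)]
    (Mij : ι → ι → Type u) [∀ i j, AddCommGroup (Mij i j)] [∀ i j, Module R (Mij i j)]
    (g : ∀ i j, Mi i →ₗ[R] Mij i j) [∀ i j, IsLocalizedModule (Submonoid.powers (f j)) (g i j)]
    (ψ : ∀ i j, Mij i j ≃ₗ[R] Mij j i)
    (T : ι → ι → ι → Type u) [∀ i j k, AddCommGroup (T i j k)] [∀ i j k, Module R (T i j k)]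
    (t : ∀ i j k, Mi i →ₗ[R] T i j k)
    [∀ i j k, IsLocalizedModule (Submonoid.powers (f j * f k)) (t i j k)]
    (u : ∀ i j k, Mij i j →ₗ[R] T i j k) (hu : ∀ i j k, u i j k ∘ₗ g i j = t i j k)
    (v : ∀ i j k, Mij i k →ₗ[R] T i j k) (hv : ∀ i j k, v i j k ∘ₗ g i k = t i j k)
    (Ψ₁ : ∀ i j k, T i j k →ₗ[R] T j i k)
    (hΨ₁ : ∀ i j k, Ψ₁ i j k ∘ₗ u i j k = u j i k ∘ₗ (ψ i j).toLinearMap)
    (Ψ₂ : ∀ i j k, T j i k →ₗ[R] T k i j)
    (hΨ₂ : ∀ i j k, Ψ₂ i j k ∘ₗ v j i k = v k i j ∘ₗ (ψ j k).toLinearMap)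
    (Ψ₃ : ∀ i j k, T i j k →ₗ[R] T k i j)
    (hΨ₃ : ∀ i j k, Ψ₃ i j k ∘ₗ v i j k = u k i j ∘ₗ (ψ i k).toLinearMap)
    (hcoc : ∀ i j k, Ψ₂ i j k ∘ₗ Ψ₁ i j k = Ψ₃ i j k)

include hu hv hΨ₁ hΨ₂ hΨ₃ hcoc in
/-- the cocycle condition in elementwise form -/
theorem cocycle_elt (i j k : ι) (x : Mi i) (w : Mi j) (n : ℕ)
    (hw : f i ^ n • ψ i j (g i j x) = g j i w) :
    f i ^ n • u k i j (ψ i k (g i k x)) = v k i j (ψ j k (g j k w)) := by
  have hu' : ∀ i j k x, u i j k (g i j x) = t i j k x := fun i j k x => by rw [← hu]; rfl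
  have hv' : ∀ i j k x, v i j k (g i k x) = t i j k x := fun i j k x => by rw [← hv]; rfl
  have h1 : ∀ i j k z, Ψ₁ i j k (u i j k z) = u j i k (ψ i j z) :=
    fun i j k z => congrArg (fun φ => φ z) (hΨ₁ i j k)
  have h2 : ∀ i j k z, Ψ₂ i j k (v j i k z) = v k i j (ψ j k z) :=
    fun i j k z => congrArg (fun φ => φ z) (hΨ₂ i j k)
  have h3 : ∀ i j k z, Ψ₃ i j k (v i j k z) = u k i j (ψ i k z) :=
    fun i j k z => congrArg (fun φ => φ z) (hΨ₃ i j k)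
  have hc : ∀ i j k z, Ψ₂ i j k (Ψ₁ i j k z) = Ψ₃ i j k z :=
    fun i j k z => congrArg (fun φ => φ z) (hcoc i j k)
  calc f i ^ n • u k i j (ψ i k (g i k x))
      = f i ^ n • Ψ₃ i j k (t i j k x) := by rw [← h3, hv']
    _ = f i ^ n • Ψ₂ i j k (Ψ₁ i j k (t i j k x)) := by rw [hc]
    _ = f i ^ n • Ψ₂ i j k (u j i k (ψ i j (g i j x))) := by rw [← hu', h1]
    _ = Ψ₂ i j k (u j i k (f i ^ n • ψ i j (g i j x))) := by rw [map_smul, map_smul]
    _ = Ψ₂ i j k (t j i k w) := by rw [hw, hu']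
    _ = v k i j (ψ j k (g j k w)) := by rw [← hv', h2]

include f t hu hv hΨ₁ hΨ₂ hΨ₃ hcoc in
/-- `ψ a a` is the identity on the image of `g a a`. -/
theorem psi_self (a : ι) (x : Mi a) : ψ a a (g a a x) = g a a x := by
  have hu' : ∀ i j k x, u i j k (g i j x) = t i j k x := fun i j k x => by rw [← hu]; rfl
  have hv' : ∀ i j k x, v i j k (g i k x) = t i j k x := fun i j k x => by rw [← hv]; rfl
  obtain ⟨n, w, hw⟩ := pow_smul_surj (f a) (g a a) (ψ a a (g a a x))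
  have h1 := cocycle_elt f Mi Mij g ψ T t u hu v hv Ψ₁ hΨ₁ Ψ₂ hΨ₂ Ψ₃ hΨ₃ hcoc a a a x w n hw
  rw [← map_smul, hw, hu', ← hv'] at h1
  obtain ⟨e, he⟩ := exists_pow_smul_eq_of_v_eq (f a) (f a) (f a * f a) rfl (g a a) (t a a a)
    (v a a a) (hv a a a) h1
  have h2 : g a a w = ψ a a (g a a w) := pow_smul_cancel (f a) (g a a) e he
  rw [← hw, map_smul] at h2
  have h3 := pow_smul_cancel (f a) (g a a) n h2
  exact ((ψ a a).injective h3).symm

include hu hv hΨ₁ hΨ₂ hΨ₃ hcoc in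
theorem main (hMi : ∀ i, IsUnit (algebraMap R (Module.End R (Mi i)) (f i)))
    (M : Submodule R (∀ i, Mi i))
    (hM : ∀ m : ∀ i, Mi i, m ∈ M ↔ ∀ i j, g i j (m i) = ψ j i (g j i (m j))) (a : ι) :
    IsLocalizedModule (Submonoid.powers (f a))
      ((LinearMap.proj a).comp M.subtype : ↥M →ₗ[R] Mi a) := by
  have hu' : ∀ i j k x, u i j k (g i j x) = t i j k x := fun i j k x => by rw [← hu]; rfl
  have hv' : ∀ i j k x, v i j k (g i k x) = t i j k x := fun i j k x => by rw [← hv]; rfl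
  have hunit : ∀ n : ℕ, IsUnit (algebraMap R (Module.End R (Mi a)) (f a ^ n)) := fun n => by
    rw [map_pow]; exact (hMi a).pow n
  have hinj : ∀ (n : ℕ) (p q : Mi a), f a ^ n • p = f a ^ n • q → p = q := by
    intro n p q h
    have := ((Module.End.isUnit_iff _).mp (hunit n)).injective
    apply this
    rw [Module.algebraMap_end_apply, Module.algebraMap_end_apply]
    exact h
  refine ⟨?_, ?_, ?_⟩
  · rintro ⟨_, n, rfl⟩
    exact hunit n
  · intro y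
    have h1 : ∃ n, ∀ j, ∃ w : Mi j, f a ^ n • ψ a j (g a j y) = g j a w := by
      apply exists_uniform (fun j n => ∃ w : Mi j, f a ^ n • ψ a j (g a j y) = g j a w)
      · rintro j n m hnm ⟨w, hw⟩
        obtain ⟨r, rfl⟩ := Nat.exists_eq_add_of_le hnm
        exact ⟨f a ^ r • w, by rw [map_smul, ← hw, smul_smul, ← pow_add, add_comm]⟩
      · intro j
        obtain ⟨n, w, hw⟩ := pow_smul_surj (f a) (g j a) (ψ a j (g a j y))
        exact ⟨n, w, hw⟩
    obtain ⟨n, hn⟩ := h1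
    choose w hw using hn
    have h2 : ∃ N, ∀ jk : ι × ι, f a ^ N • g jk.1 jk.2 (w jk.1) =
        f a ^ N • ψ jk.2 jk.1 (g jk.2 jk.1 (w jk.2)) := by
      apply exists_uniform (fun (jk : ι × ι) N => f a ^ N • g jk.1 jk.2 (w jk.1) =
        f a ^ N • ψ jk.2 jk.1 (g jk.2 jk.1 (w jk.2)))
      · rintro ⟨j, k⟩ N N' hNN' h
        obtain ⟨r, rfl⟩ := Nat.exists_eq_add_of_le hNN'
        rw [add_comm, pow_add, mul_smul, mul_smul, h]
      · rintro ⟨j, k⟩
        have hc := cocycle_elt f Mi Mij g ψ T t u hu v hv Ψ₁ hΨ₁ Ψ₂ hΨ₂ Ψ₃ hΨ₃ hcoc a k j y (w k) n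
          (hw k)
        rw [← map_smul, hw j, hu', ← hv'] at hc
        exact exists_pow_smul_eq_of_v_eq (f a) (f k) (f a * f k) rfl (g j k) (t j a k) (v j a k)
          (hv j a k) hc
    obtain ⟨N, hN⟩ := h2
    have hm : (fun j => f a ^ N • w j) ∈ M := by
      rw [hM]
      intro i j
      simp only [map_smul]
      exact hN (i, j)
    refine ⟨(⟨fun j => f a ^ N • w j, hm⟩, ⟨f a ^ (N + n), N + n, rfl⟩), ?_⟩
    change f a ^ (N + n) • y = f a ^ N • w a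
    have hwa : w a = f a ^ n • y := by
      have h3 := hw a
      rw [psi_self f Mi Mij g ψ T t u hu v hv Ψ₁ hΨ₁ Ψ₂ hΨ₂ Ψ₃ hΨ₃ hcoc a y, ← map_smul] at h3
      obtain ⟨c, hc⟩ := pow_smul_eq_of_eq (f a) (g a a) h3
      exact (hinj c _ _ hc).symm
    rw [hwa, smul_smul, pow_add]
  · intro m m' h
    have h0 : (m : ∀ i, Mi i) a = (m' : ∀ i, Mi i) a := h
    have h1 : ∃ N, ∀ j, f a ^ N • (m : ∀ i, Mi i) j = f a ^ N • (m' : ∀ i, Mi i) j := by
      apply exists_uniform (fun j N => f a ^ N • (m : ∀ i, Mi i) j = f a ^ N • (m' : ∀ i, Mi i) j)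
      · intro j N N' hNN' h
        obtain ⟨r, rfl⟩ := Nat.exists_eq_add_of_le hNN'
        rw [add_comm, pow_add, mul_smul, mul_smul, h]
      · intro j
        have e1 := (hM m).mp m.2 j a
        have e2 := (hM m').mp m'.2 j a
        have : g j a ((m : ∀ i, Mi i) j) = g j a ((m' : ∀ i, Mi i) j) := by rw [e1, e2, h0]
        exact pow_smul_eq_of_eq (f a) (g j a) this
    obtain ⟨N, hN⟩ := h1
    refine ⟨⟨f a ^ N, N, rfl⟩, ?_⟩
    apply Subtype.ext
    funext j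
    exact hN j

end Concrete

end H14.Glue
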