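import Mathlib
import Groth.Prelude.Def_Hensel
import Groth.Agent.Lib.lead.Hzn7
import Groth.Agent.Lib.lead.HenselLocal
import Groth.Agent.S9468
import Groth.Agent.S9469

/-!
# Pairs `(S, q)` with trivial residue extension and the henselization of `R_p` (parts a, c)
-/

universe u

open IsLocalRing TensorProduct

namespace Groth.Agent.Lib.helper14.HznPairs

/-- If `H` is a henselization of `A` and `B` is an unramified local `A`-algebra essentially of
finite type with trivial residue extension mapping locally to `H`, then `H` is a henselization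
of `B`. -/
theorem isHenselization_trans (A B : Type u) [CommRing A] [IsLocalRing A] [CommRing B] [IsLocalRing B]
    [Algebra A B] [IsLocalHom (algebraMap A B)]
    (H : Type u) [CommRing H] [IsLocalRing H] [Algebra A H] [IsLocalHom (algebraMap A H)]
    [hH : Hensel.IsHenselization A H]
    [Algebra B H] [IsScalarTower A B H] [IsLocalHom (algebraMap B H)]
    [Algebra.FormallyUnramified A B] [Algebra.EssFiniteType A B]
    (hres : Function.Surjective (ResidueField.map (algebraMap A B))) :
    Hensel.IsHenselization B H := by
  obtain ⟨M⟩ := Groth.Agent.Lib.lead.Hzn.exists_model (R := A) H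
  refine ⟨hH.henselian, ?_⟩
  intro T _ _ φ hφ
  have hφA : IsLocalHom (φ.comp (algebraMap A B)) := RingHom.isLocalHom_comp _ _
  obtain ⟨g, hg, hgu⟩ := hH.universal T (φ.comp (algebraMap A B)) hφA
  -- `g` maps the maximal ideal into the maximal ideal
  have hgm : maximalIdeal H ≤ (maximalIdeal T).comap g := by
    rw [← M.map_maximalIdeal, Ideal.map_le_iff_le_comap]
    intro a ha
    rw [Ideal.mem_comap, Ideal.mem_comap]
    have : g (algebraMap A H a) = (φ.comp (algebraMap A B)) a := RingHom.congr_fun hg a
    rw [this]
    exact map_nonunit (φ.comp (algebraMap A B)) a ha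
  letI : Algebra A T := (φ.comp (algebraMap A B)).toAlgebra
  let f₁ : B →ₐ[A] T :=
    { g.comp (algebraMap B H) with
      commutes' := fun a => by
        show g (algebraMap B H (algebraMap A B a)) = φ (algebraMap A B a)
        rw [← IsScalarTower.algebraMap_apply A B H]
        exact RingHom.congr_fun hg a }
  let f₂ : B →ₐ[A] T := { φ with commutes' := fun a => rfl }
  have hf : f₁ = f₂ := by
    apply Groth.Agent.Lib.lead.HenselLocal.unramified_algHom_ext
    intro b
    obtain ⟨y, hy⟩ := hres (residue B b)
    obtain ⟨a, rfl⟩ := residue_surjective y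
    rw [ResidueField.map_residue] at hy
    have hmem : b - algebraMap A B a ∈ maximalIdeal B := by
      rw [← residue_eq_zero_iff, map_sub, hy, sub_self]
    have h1 : f₁ (b - algebraMap A B a) ∈ maximalIdeal T := by
      show g (algebraMap B H (b - algebraMap A B a)) ∈ maximalIdeal T
      exact hgm (map_nonunit (algebraMap B H) _ hmem)
    have h2 : f₂ (b - algebraMap A B a) ∈ maximalIdeal T := by
      show φ (b - algebraMap A B a) ∈ maximalIdeal T
      exact map_nonunit φ _ hmem
    rw [← residue_eq_zero_iff, map_sub, map_sub, sub_eq_zero, f₁.commutes] at h1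
    rw [← residue_eq_zero_iff, map_sub, map_sub, sub_eq_zero, f₂.commutes] at h2
    rw [h1, h2]
  refine ⟨g, ?_, ?_⟩
  · ext b
    exact AlgHom.congr_fun hf b
  · intro g' hg'
    apply hgu
    ext a
    simp only [RingHom.comp_apply]
    rw [IsScalarTower.algebraMap_apply A B H]
    exact RingHom.congr_fun hg' (algebraMap A B a)

section
variable (R : Type u) [CommRing R] (p : Ideal R) [p.IsPrime] (Rh : Type u) [CommRing Rh]
    [IsLocalRing Rh]
    [Algebra (Localization.AtPrime p) Rh] [IsLocalHom (algebraMap (Localization.AtPrime p) Rh)]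
    [hRh : Hensel.IsHenselization (Localization.AtPrime p) Rh] [Algebra R Rh]
    [IsScalarTower R (Localization.AtPrime p) Rh]

include hRh in
theorem residue_bijective :
    Function.Bijective (ResidueField.map (algebraMap (Localization.AtPrime p) Rh)) := by
  obtain ⟨M⟩ := Groth.Agent.Lib.lead.Hzn.exists_model (R := Localization.AtPrime p) Rh
  exact M.residue_bijective

/-- the residue equivalence -/
noncomputable def resEquiv : p.ResidueField ≃+* ResidueField Rh :=
  RingEquiv.ofBijective _ (residue_bijective R p Rh)

theorem resEquiv_algebraMap (r : R) :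
    resEquiv R p Rh (algebraMap R p.ResidueField r) = residue Rh (algebraMap R Rh r) := by
  show ResidueField.map (algebraMap (Localization.AtPrime p) Rh)
    (residue _ (algebraMap R (Localization.AtPrime p) r)) = _
  rw [ResidueField.map_residue, ← IsScalarTower.algebraMap_apply]

/-- the retraction attached to an algebra map into `Rh` -/
noncomputable def retr {S : Type u} [CommRing S] [Algebra R S] (f : S →ₐ[R] Rh) :
    S →ₐ[R] p.ResidueField :=
  { ((resEquiv R p Rh).symm.toRingHom.comp ((residue Rh).comp f.toRingHom)) with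
    commutes' := fun r => by
      show (resEquiv R p Rh).symm (residue Rh (f (algebraMap R S r))) = _
      rw [RingEquiv.symm_apply_eq, f.commutes, resEquiv_algebraMap] }

theorem retr_apply {S : Type u} [CommRing S] [Algebra R S] (f : S →ₐ[R] Rh) (x : S) :
    retr R p Rh f x = (resEquiv R p Rh).symm (residue Rh (f x)) := rfl

theorem ker_retr {S : Type u} [CommRing S] [Algebra R S] (f : S →ₐ[R] Rh) :
    RingHom.ker (retr R p Rh f) = (maximalIdeal Rh).comap f.toRingHom := by
  ext x
  rw [RingHom.mem_ker, retr_apply, map_eq_zero_iff _ (resEquiv R p Rh).symm.injective,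
    residue_eq_zero_iff, Ideal.mem_comap]
  rfl

theorem exists_map (S : Type u) [CommRing S] [Algebra R S] [Algebra.Etale R S]
    (θ : S →ₐ[R] p.ResidueField) : ∃ f : S →ₐ[R] Rh, retr R p Rh f = θ := by
  haveI : HenselianLocalRing Rh := hRh.henselian
  let ψ₀ : S →ₐ[R] ResidueField Rh :=
    { (resEquiv R p Rh).toRingHom.comp θ.toRingHom with
      commutes' := fun r => by
        show resEquiv R p Rh (θ (algebraMap R S r)) = _
        rw [θ.commutes, resEquiv_algebraMap]
        rfl }
  let ψ : Rh ⊗[R] S →ₐ[Rh] ResidueField Rh :=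
    Algebra.TensorProduct.lift (Algebra.ofId Rh _) ψ₀ (fun _ _ => Commute.all _ _)
  obtain ⟨σ, hσ⟩ := Groth.Agent.Lib.lead.HenselLocal.etale_exists_section (R := Rh) (Rh ⊗[R] S) ψ
  refine ⟨(σ.restrictScalars R).comp Algebra.TensorProduct.includeRight, ?_⟩
  ext x
  rw [retr_apply, RingEquiv.symm_apply_eq]
  have h1 := AlgHom.congr_fun hσ ((1 : Rh) ⊗ₜ[R] x)
  have h2 : ψ ((1 : Rh) ⊗ₜ[R] x) = resEquiv R p Rh (θ x) := by
    simp only [ψ, Algebra.TensorProduct.lift_tmul, map_one, one_mul]
    rfl
  rw [← h2, ← h1]
  rfl

theorem part_a (S : Type u) [CommRing S] [Algebra R S] [Algebra.Etale R S] (q : Ideal S) [q.IsPrime]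
    (hq : p = q.comap (algebraMap R S))
    (hbij : Function.Bijective (Ideal.ResidueField.map p q (algebraMap R S) hq)) :
    ∃! f : S →ₐ[R] Rh, (maximalIdeal Rh).comap f.toRingHom = q := by
  obtain ⟨θ, hθ⟩ := Groth.Agent.S9468.exists_retraction R p S q hq hbij
  obtain ⟨f, hf⟩ := exists_map R p Rh S θ
  refine ⟨f, ?_, ?_⟩
  · show (maximalIdeal Rh).comap f.toRingHom = q
    rw [← ker_retr R p Rh f, hf, hθ]
  · intro f' hf'
    have hf'' : (maximalIdeal Rh).comap f'.toRingHom = q := hf'
    have hret : retr R p Rh f' = retr R p Rh f := by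
      apply Groth.Agent.S9469.retraction_unique R p S q hq hbij
      · rw [ker_retr, hf'']
      · rw [hf, hθ]
    apply Groth.Agent.Lib.lead.HenselLocal.unramified_algHom_ext
    intro a
    have := AlgHom.congr_fun hret a
    rw [retr_apply, retr_apply] at this
    exact (resEquiv R p Rh).symm.injective this


set_option maxHeartbeats 800000 in
theorem part_c_aux (S : Type u) [CommRing S] [Algebra R S] [Algebra.Etale R S] (q : Ideal S)
    [q.IsPrime] (hq : p = q.comap (algebraMap R S))
    (hbij : Function.Bijective (Ideal.ResidueField.map p q (algebraMap R S) hq))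
    (f : S →ₐ[R] Rh) (hf : (maximalIdeal Rh).comap f.toRingHom = q) (s : S) (hs : f s = 0) :
    ∃ g : S, g ∉ q ∧ g * s = 0 := by
  have hunits : ∀ y : q.primeCompl, IsUnit (f.toRingHom y) := by
    intro y
    by_contra hn
    have h1 : (y : S) ∈ (maximalIdeal Rh).comap f.toRingHom := hn
    rw [hf] at h1
    exact y.2 h1
  letI : Algebra (Localization.AtPrime p) (Localization.AtPrime q) :=
    (Localization.localRingHom p q (algebraMap R S) hq).toAlgebra
  letI : Algebra (Localization.AtPrime q) Rh :=
    (IsLocalization.lift (M := q.primeCompl) hunits).toAlgebra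
  have hlift : ∀ x : S, algebraMap (Localization.AtPrime q) Rh (algebraMap S _ x) = f x :=
    fun x => IsLocalization.lift_eq hunits x
  haveI : IsScalarTower R (Localization.AtPrime p) (Localization.AtPrime q) :=
    .of_algebraMap_eq (fun r => by
      show algebraMap R (Localization.AtPrime q) r =
        Localization.localRingHom p q _ hq (algebraMap R _ r)
      rw [Localization.localRingHom_to_map, ← IsScalarTower.algebraMap_apply])
  haveI : IsScalarTower (Localization.AtPrime p) (Localization.AtPrime q) Rh :=
    .of_algebraMap_eq' (by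
      apply IsLocalization.ringHom_ext p.primeCompl
      ext r
      simp only [RingHom.comp_apply]
      rw [← IsScalarTower.algebraMap_apply R (Localization.AtPrime p) Rh]
      show _ = algebraMap (Localization.AtPrime q) Rh
        (Localization.localRingHom p q _ hq (algebraMap R _ r))
      rw [Localization.localRingHom_to_map, hlift, f.commutes])
  haveI : IsLocalHom (algebraMap (Localization.AtPrime p) (Localization.AtPrime q)) :=
    Localization.isLocalHom_localRingHom _ _ _ hq
  haveI : IsLocalHom (algebraMap (Localization.AtPrime q) Rh) := by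
    refine ⟨fun x hx => ?_⟩
    obtain ⟨a, t, rfl⟩ := IsLocalization.exists_mk'_eq q.primeCompl x
    have h1 : algebraMap (Localization.AtPrime q) Rh (IsLocalization.mk' _ a t) * f t = f a := by
      rw [← hlift (t : S), ← map_mul, IsLocalization.mk'_spec, hlift]
    have h2 : IsUnit (f a) := by
      rw [← h1]
      exact hx.mul (hunits t)
    have h3 : a ∉ q := by
      intro ha
      rw [← hf] at ha
      exact ha h2
    exact (IsLocalization.AtPrime.isUnit_mk'_iff (Localization.AtPrime q) q a t).mpr h3
  haveI : Algebra.FormallyUnramified S (Localization.AtPrime q) :=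
    Algebra.FormallyUnramified.of_isLocalization q.primeCompl
  haveI : Algebra.FormallyUnramified R (Localization.AtPrime q) :=
    Algebra.FormallyUnramified.comp R S _
  haveI : Algebra.FormallyUnramified (Localization.AtPrime p) (Localization.AtPrime q) :=
    Algebra.FormallyUnramified.of_restrictScalars R _ _
  haveI : Algebra.EssFiniteType S (Localization.AtPrime q) :=
    Algebra.EssFiniteType.of_isLocalization _ q.primeCompl
  haveI : Algebra.EssFiniteType R (Localization.AtPrime q) := Algebra.EssFiniteType.comp R S _
  haveI : Algebra.EssFiniteType (Localization.AtPrime p) (Localization.AtPrime q) :=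
    Algebra.EssFiniteType.of_comp R _ _
  haveI : Hensel.IsHenselization (Localization.AtPrime q) Rh :=
    isHenselization_trans (Localization.AtPrime p) (Localization.AtPrime q) Rh hbij.2
  obtain ⟨M⟩ := Groth.Agent.Lib.lead.Hzn.exists_model (R := Localization.AtPrime q) Rh
  haveI : Module.FaithfullyFlat (Localization.AtPrime q) Rh := M.faithfullyFlat
  have hinj : Function.Injective (algebraMap (Localization.AtPrime q) Rh) :=
    FaithfulSMul.algebraMap_injective _ _
  have h0 : algebraMap S (Localization.AtPrime q) s = 0 := by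
    apply hinj
    rw [hlift, hs, map_zero]
  obtain ⟨g, hg⟩ := (IsLocalization.map_eq_zero_iff q.primeCompl (Localization.AtPrime q) s).mp h0
  exact ⟨g, g.2, hg⟩

theorem part_c (S : Type u) [CommRing S] [Algebra R S] [Algebra.Etale R S] (q : Ideal S)
    [q.IsPrime] (hq : p = q.comap (algebraMap R S))
    (hbij : Function.Bijective (Ideal.ResidueField.map p q (algebraMap R S) hq))
    (f : S →ₐ[R] Rh) (hf : (maximalIdeal Rh).comap f.toRingHom = q) (s : S) (hs : f s = 0) :
    ∃ (S' : Type u) (_ : CommRing S') (_ : Algebra R S') (_ : Algebra.Etale R S') (q' : Ideal S')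
      (_ : q'.IsPrime) (hq' : p = q'.comap (algebraMap R S')),
      Function.Bijective (Ideal.ResidueField.map p q' (algebraMap R S') hq') ∧
        ∃ φ : S →ₐ[R] S', q'.comap φ.toRingHom = q ∧ φ s = 0 := by
  obtain ⟨g, hgq, hgs⟩ := part_c_aux R p Rh S q hq hbij f hf s hs
  obtain ⟨θ, hθ⟩ := Groth.Agent.S9468.exists_retraction R p S q hq hbij
  have hθg : IsUnit (θ g) := by
    rw [isUnit_iff_ne_zero]
    intro h0
    apply hgq
    rw [← hθ]
    exact RingHom.mem_ker.mpr h0
  let θ₃ : Localization.Away g →ₐ[R] p.ResidueField :=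
    IsLocalization.liftAlgHom (M := Submonoid.powers g) (f := θ) (by
      rintro ⟨_, n, rfl⟩
      rw [map_pow]
      exact hθg.pow n)
  have hθ₃ : ∀ x : S, θ₃ (algebraMap S (Localization.Away g) x) = θ x := by
    intro x
    exact IsLocalization.lift_eq _ x
  haveI : (RingHom.ker θ₃).IsPrime := RingHom.ker_isPrime θ₃
  have hq₃ : p = (RingHom.ker θ₃).comap (algebraMap R (Localization.Away g)) := by
    ext r
    rw [Ideal.mem_comap, RingHom.mem_ker]
    show _ ↔ θ₃ (algebraMap R _ r) = 0
    rw [θ₃.commutes, Ideal.algebraMap_residueField_eq_zero]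
  refine ⟨Localization.Away g, inferInstance, inferInstance, inferInstance, RingHom.ker θ₃,
    inferInstance, hq₃, Groth.Agent.S9468.bijective_of_retraction R p _ _ hq₃ θ₃ rfl,
    IsScalarTower.toAlgHom R S (Localization.Away g), ?_, ?_⟩
  · rw [← hθ]
    ext x
    rw [Ideal.mem_comap, RingHom.mem_ker, RingHom.mem_ker]
    show θ₃ (algebraMap S _ x) = 0 ↔ _
    rw [hθ₃]
  · show algebraMap S (Localization.Away g) s = 0
    rw [IsLocalization.map_eq_zero_iff (Submonoid.powers g)]
    exact ⟨⟨g, Submonoid.mem_powers g⟩, hgs⟩

end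

end Groth.Agent.Lib.helper14.HznPairs
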