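import Mathlib
import Groth.Prelude.Def_Hensel
import Groth.Agent.Lib.helper14.HznPairsA

/-!
# Pairs `(S, q)` with trivial residue extension and the henselization of `R_p` (part b):
every element of the henselization comes from an étale algebra.
-/

universe u

open IsLocalRing TensorProduct Polynomial

namespace Groth.Agent.Lib.helper14.HznPairs

section rep

variable (R : Type u) [CommRing R] (Rh : Type u) [CommRing Rh] [Algebra R Rh]

/-- `x` is represented by an étale `R`-algebra mapping to `Rh` -/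
def Rep (x : Rh) : Prop :=
  ∃ (S : Type u) (_ : CommRing S) (_ : Algebra R S) (_ : Algebra.Etale R S) (f : S →ₐ[R] Rh)
    (s : S), f s = x

variable {R Rh}

theorem rep_algebraMap (r : R) : Rep R Rh (algebraMap R Rh r) :=
  ⟨R, inferInstance, inferInstance, inferInstance, Algebra.ofId R Rh, r, rfl⟩

theorem rep_neg {x : Rh} (hx : Rep R Rh x) : Rep R Rh (-x) := by
  obtain ⟨S, _, _, _, f, s, rfl⟩ := hx
  exact ⟨S, inferInstance, inferInstance, inferInstance, f, -s, map_neg f s⟩

/-- two algebra maps into `Rh` are dominated by a common one -/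
theorem exists_common {S₁ : Type u} [CommRing S₁] [Algebra R S₁] [Algebra.Etale R S₁]
    (f₁ : S₁ →ₐ[R] Rh) {S₂ : Type u} [CommRing S₂] [Algebra R S₂] [Algebra.Etale R S₂]
    (f₂ : S₂ →ₐ[R] Rh) :
    ∃ (S : Type u) (_ : CommRing S) (_ : Algebra R S) (_ : Algebra.Etale R S) (f : S →ₐ[R] Rh),
      Set.range f₁ ⊆ Set.range f ∧ Set.range f₂ ⊆ Set.range f := by
  haveI : Algebra.Etale R (S₁ ⊗[R] S₂) := Algebra.Etale.comp R S₁ (S₁ ⊗[R] S₂)
  refine ⟨S₁ ⊗[R] S₂, inferInstance, inferInstance, inferInstance,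
    Algebra.TensorProduct.productMap f₁ f₂, ?_, ?_⟩
  · rintro _ ⟨s, rfl⟩
    exact ⟨s ⊗ₜ 1, by simp⟩
  · rintro _ ⟨s, rfl⟩
    exact ⟨1 ⊗ₜ s, by simp⟩

theorem rep_add {x y : Rh} (hx : Rep R Rh x) (hy : Rep R Rh y) : Rep R Rh (x + y) := by
  obtain ⟨S₁, _, _, _, f₁, s₁, rfl⟩ := hx
  obtain ⟨S₂, _, _, _, f₂, s₂, rfl⟩ := hy
  obtain ⟨S, _, _, _, f, h1, h2⟩ := exists_common f₁ f₂
  obtain ⟨a, ha⟩ := h1 ⟨s₁, rfl⟩
  obtain ⟨b, hb⟩ := h2 ⟨s₂, rfl⟩
  exact ⟨S, inferInstance, inferInstance, inferInstance, f, a + b, by rw [map_add, ha, hb]⟩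

theorem rep_mul {x y : Rh} (hx : Rep R Rh x) (hy : Rep R Rh y) : Rep R Rh (x * y) := by
  obtain ⟨S₁, _, _, _, f₁, s₁, rfl⟩ := hx
  obtain ⟨S₂, _, _, _, f₂, s₂, rfl⟩ := hy
  obtain ⟨S, _, _, _, f, h1, h2⟩ := exists_common f₁ f₂
  obtain ⟨a, ha⟩ := h1 ⟨s₁, rfl⟩
  obtain ⟨b, hb⟩ := h2 ⟨s₂, rfl⟩
  exact ⟨S, inferInstance, inferInstance, inferInstance, f, a * b, by rw [map_mul, ha, hb]⟩

theorem rep_inv {x : Rh} (hx : Rep R Rh x) (u : Rhˣ) (hu : (u : Rh) = x) :
    Rep R Rh ((u⁻¹ : Rhˣ) : Rh) := by
  obtain ⟨S, _, _, _, f, s, rfl⟩ := hx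
  have hus : IsUnit (f s) := hu ▸ u.isUnit
  let f' : Localization.Away s →ₐ[R] Rh := IsLocalization.Away.liftAlgHom (f := f) s hus
  refine ⟨Localization.Away s, inferInstance, inferInstance, inferInstance, f',
    IsLocalization.Away.invSelf s, ?_⟩
  have h1 : f' (algebraMap S _ s) = f s := IsLocalization.Away.lift_eq s hus s
  have h2 : f' (algebraMap S _ s) * f' (IsLocalization.Away.invSelf s) = 1 := by
    rw [← map_mul, IsLocalization.Away.mul_invSelf, map_one]
  rw [h1, ← hu] at h2
  exact (Units.eq_inv_of_mul_eq_one_left h2)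

variable (R Rh)

/-- the subring of represented elements -/
def repSubring : Subring Rh where
  carrier := {x | Rep R Rh x}
  mul_mem' := rep_mul
  one_mem' := by simpa using rep_algebraMap (R := R) (Rh := Rh) 1
  add_mem' := rep_add
  zero_mem' := by simpa using rep_algebraMap (R := R) (Rh := Rh) 0
  neg_mem' := rep_neg

theorem mem_repSubring (x : Rh) : x ∈ repSubring R Rh ↔ Rep R Rh x := Iff.rfl

theorem isUnit_iff_repSubring (a : repSubring R Rh) : IsUnit a ↔ IsUnit (a : Rh) := by
  constructor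
  · intro h
    exact h.map (repSubring R Rh).subtype
  · rintro ⟨u, hu⟩
    have hr : Rep R Rh ((u⁻¹ : Rhˣ) : Rh) := rep_inv a.2 u hu
    refine IsUnit.of_mul_eq_one (⟨_, hr⟩ : repSubring R Rh) ?_
    apply Subtype.ext
    show (a : Rh) * ((u⁻¹ : Rhˣ) : Rh) = 1
    rw [← hu]
    exact u.mul_inv

instance [IsLocalRing Rh] : IsLocalRing (repSubring R Rh) := by
  apply IsLocalRing.of_nonunits_add
  intro a b ha hb
  rw [mem_nonunits_iff, isUnit_iff_repSubring] at ha hb ⊢
  have : (a : Rh) + (b : Rh) ∈ maximalIdeal Rh := (maximalIdeal Rh).add_mem ha hb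
  exact this

theorem mem_maximalIdeal_repSubring [IsLocalRing Rh] (a : repSubring R Rh) :
    a ∈ maximalIdeal (repSubring R Rh) ↔ (a : Rh) ∈ maximalIdeal Rh := by
  rw [mem_maximalIdeal, mem_maximalIdeal, mem_nonunits_iff, mem_nonunits_iff,
    isUnit_iff_repSubring]

/-- polynomials with represented coefficients -/
def RepPoly (F : Rh[X]) : Prop :=
  ∃ (S : Type u) (_ : CommRing S) (_ : Algebra R S) (_ : Algebra.Etale R S) (f : S →ₐ[R] Rh),
    ∀ n, F.coeff n ∈ Set.range f

variable {R Rh}

theorem repPoly_monomial (n : ℕ) {x : Rh} (hx : Rep R Rh x) : RepPoly R Rh (monomial n x) := by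
  obtain ⟨S, _, _, _, f, s, rfl⟩ := hx
  refine ⟨S, inferInstance, inferInstance, inferInstance, f, fun m => ?_⟩
  rw [coeff_monomial]
  split_ifs
  · exact ⟨s, rfl⟩
  · exact ⟨0, map_zero f⟩

theorem repPoly_add {F G : Rh[X]} (hF : RepPoly R Rh F) (hG : RepPoly R Rh G) :
    RepPoly R Rh (F + G) := by
  obtain ⟨S₁, _, _, _, f₁, h₁⟩ := hF
  obtain ⟨S₂, _, _, _, f₂, h₂⟩ := hG
  obtain ⟨S, _, _, _, f, h1, h2⟩ := exists_common f₁ f₂
  refine ⟨S, inferInstance, inferInstance, inferInstance, f, fun n => ?_⟩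
  obtain ⟨a, ha⟩ := h1 (h₁ n)
  obtain ⟨b, hb⟩ := h2 (h₂ n)
  exact ⟨a + b, by rw [map_add, ha, hb, coeff_add]⟩

theorem repPoly_map_subtype (F' : (repSubring R Rh)[X]) :
    RepPoly R Rh (F'.map (repSubring R Rh).subtype) := by
  induction F' using Polynomial.induction_on' with
  | add p q hp hq =>
    rw [Polynomial.map_add]
    exact repPoly_add hp hq
  | monomial n a =>
    rw [Polynomial.map_monomial]
    exact repPoly_monomial n a.2

theorem rep_root [IsLocalRing Rh] (F : Rh[X]) (hF : F.Monic) (hrep : RepPoly R Rh F) (a : Rh)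
    (ha : F.eval a = 0) (hu : IsUnit (F.derivative.eval a)) : Rep R Rh a := by
  obtain ⟨S, _, _, _, f, hc⟩ := hrep
  have hl : F ∈ Polynomial.lifts f.toRingHom := (Polynomial.lifts_iff_coeff_lifts F).mpr hc
  obtain ⟨G, hGF, -, hGm⟩ := Polynomial.lifts_and_degree_eq_and_monic hl hF
  let P : StandardEtalePair S := ⟨G, hGm, derivative G, ⟨1, 0, 1, by simp⟩⟩
  letI : Algebra S Rh := f.toRingHom.toAlgebra
  haveI : IsScalarTower R S Rh := .of_algebraMap_eq (fun r => (f.commutes r).symm)
  have hmap : P.HasMap a := by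
    refine ⟨?_, ?_⟩
    · show aeval a G = 0
      rw [Polynomial.aeval_def, ← Polynomial.eval_map]
      show eval a (G.map f.toRingHom) = 0
      rw [hGF, ha]
    · show IsUnit (aeval a (derivative G))
      rw [Polynomial.aeval_def, ← Polynomial.eval_map]
      show IsUnit (eval a ((derivative G).map f.toRingHom))
      rw [← Polynomial.derivative_map, hGF]
      exact hu
  letI : Algebra R P.Ring := ((algebraMap S P.Ring).comp (algebraMap R S)).toAlgebra
  haveI : IsScalarTower R S P.Ring := .of_algebraMap_eq (fun _ => rfl)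
  haveI : Algebra.Etale R P.Ring := Algebra.Etale.comp R S P.Ring
  exact ⟨P.Ring, inferInstance, inferInstance, inferInstance, (P.lift a hmap).restrictScalars R,
    P.X, P.lift_X a hmap⟩

variable (R Rh)

theorem henselian_repSubring [HenselianLocalRing Rh] : HenselianLocalRing (repSubring R Rh) := by
  refine { toIsLocalRing := inferInstance, is_henselian := ?_ }
  intro F' hF' a₀' h1 h2
  have h1' : (F'.map (repSubring R Rh).subtype).eval ((repSubring R Rh).subtype a₀') ∈
      maximalIdeal Rh := by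
    rw [Polynomial.eval_map, Polynomial.eval₂_hom]
    exact (mem_maximalIdeal_repSubring R Rh _).mp h1
  have h2' : IsUnit ((F'.map (repSubring R Rh).subtype).derivative.eval
      ((repSubring R Rh).subtype a₀')) := by
    rw [Polynomial.derivative_map, Polynomial.eval_map, Polynomial.eval₂_hom]
    exact h2.map _
  obtain ⟨a, ha, haa₀⟩ := HenselianLocalRing.is_henselian (F'.map (repSubring R Rh).subtype)
    (hF'.map _) ((repSubring R Rh).subtype a₀') h1' h2'
  have hu : IsUnit ((F'.map (repSubring R Rh).subtype).derivative.eval a) := by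
    have hd := Polynomial.sub_dvd_eval_sub a ((repSubring R Rh).subtype a₀')
      (F'.map (repSubring R Rh).subtype).derivative
    have hmem := Ideal.mem_of_dvd _ hd haa₀
    by_contra hn
    have hn' : (F'.map (repSubring R Rh).subtype).derivative.eval a ∈ maximalIdeal Rh := hn
    have h3 := (maximalIdeal Rh).sub_mem hn' hmem
    rw [sub_sub_cancel] at h3
    exact h3 h2'
  have hrep : Rep R Rh a := rep_root _ (hF'.map _) (repPoly_map_subtype F') a ha hu
  refine ⟨⟨a, hrep⟩, ?_, ?_⟩
  · apply Subtype.ext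
    show (repSubring R Rh).subtype (F'.eval ⟨a, hrep⟩) = 0
    rw [← Polynomial.eval₂_hom, ← Polynomial.eval_map]
    exact ha
  · rw [mem_maximalIdeal_repSubring]
    exact haa₀

end rep

section main

variable (R : Type u) [CommRing R] (p : Ideal R) [p.IsPrime] (Rh : Type u) [CommRing Rh]
    [IsLocalRing Rh]
    [Algebra (Localization.AtPrime p) Rh] [IsLocalHom (algebraMap (Localization.AtPrime p) Rh)]
    [hRh : Hensel.IsHenselization (Localization.AtPrime p) Rh] [Algebra R Rh]
    [IsScalarTower R (Localization.AtPrime p) Rh]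

include hRh in
theorem rep_all (x : Rh) : Rep R Rh x := by
  haveI : HenselianLocalRing Rh := hRh.henselian
  haveI : HenselianLocalRing (repSubring R Rh) := henselian_repSubring R Rh
  -- the structure map lands in the subring
  have hmem : ∀ y : Localization.AtPrime p, algebraMap _ Rh y ∈ repSubring R Rh := by
    intro y
    obtain ⟨a, b, rfl⟩ := IsLocalization.exists_mk'_eq p.primeCompl y
    have hb : IsUnit (algebraMap R Rh b) := by
      rw [IsScalarTower.algebraMap_apply R (Localization.AtPrime p) Rh]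
      exact (IsLocalization.map_units _ b).map _
    obtain ⟨u, hu⟩ := hb
    have h1 : algebraMap (Localization.AtPrime p) Rh (IsLocalization.mk' _ a b) =
        algebraMap R Rh a * ((u⁻¹ : Rhˣ) : Rh) := by
      rw [Units.eq_mul_inv_iff_mul_eq, hu, IsScalarTower.algebraMap_apply R (Localization.AtPrime p) Rh,
        IsScalarTower.algebraMap_apply R (Localization.AtPrime p) Rh a, ← map_mul,
        IsLocalization.mk'_spec]
    rw [h1]
    exact rep_mul (rep_algebraMap a) (rep_inv (rep_algebraMap (b : R)) u hu)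
  let j : Localization.AtPrime p →+* repSubring R Rh :=
    (algebraMap (Localization.AtPrime p) Rh).codRestrict (repSubring R Rh) hmem
  have hj : (repSubring R Rh).subtype.comp j = algebraMap (Localization.AtPrime p) Rh := by
    ext y
    rfl
  have hjl : IsLocalHom j := by
    refine ⟨fun y hy => ?_⟩
    have h1 : IsUnit ((repSubring R Rh).subtype (j y)) := hy.map _
    exact isUnit_of_map_unit (algebraMap (Localization.AtPrime p) Rh) y h1
  obtain ⟨g, hg, -⟩ := hRh.universal (repSubring R Rh) j hjl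
  obtain ⟨k, -, hku⟩ := hRh.universal Rh (algebraMap (Localization.AtPrime p) Rh) inferInstance
  have h1 : (repSubring R Rh).subtype.comp g = k :=
    hku _ (by show ((repSubring R Rh).subtype.comp g).comp _ = _; rw [RingHom.comp_assoc, hg, hj])
  have h2 : RingHom.id Rh = k := hku _ (by show (RingHom.id Rh).comp _ = _; simp)
  have h3 : (repSubring R Rh).subtype (g x) = x := by
    have := RingHom.congr_fun (h1.trans h2.symm) x
    exact this
  rw [← h3]
  exact (g x).2

/-- part (b) -/
theorem part_b (x : Rh) :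
    ∃ (S : Type u) (_ : CommRing S) (_ : Algebra R S) (_ : Algebra.Etale R S) (q : Ideal S)
      (_ : q.IsPrime) (hq : p = q.comap (algebraMap R S)),
      Function.Bijective (Ideal.ResidueField.map p q (algebraMap R S) hq) ∧
        ∃ (f : S →ₐ[R] Rh) (s : S), (maximalIdeal Rh).comap f.toRingHom = q ∧ f s = x := by
  obtain ⟨S, _, _, _, f, s, hs⟩ := rep_all R p Rh x
  haveI : ((maximalIdeal Rh).comap f.toRingHom).IsPrime := Ideal.comap_isPrime _ _
  have hq : p = ((maximalIdeal Rh).comap f.toRingHom).comap (algebraMap R S) := by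
    rw [← ker_retr R p Rh f]
    ext r
    rw [Ideal.mem_comap, RingHom.mem_ker]
    show _ ↔ retr R p Rh f (algebraMap R _ r) = 0
    rw [(retr R p Rh f).commutes, Ideal.algebraMap_residueField_eq_zero]
  exact ⟨S, inferInstance, inferInstance, inferInstance, (maximalIdeal Rh).comap f.toRingHom,
    inferInstance, hq,
    Groth.Agent.S9468.bijective_of_retraction R p S _ hq (retr R p Rh f) (ker_retr R p Rh f),
    f, s, rfl, hs⟩

end main

end Groth.Agent.Lib.helper14.HznPairs
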