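import Mathlib

set_option autoImplicit false
universe u

namespace H14.Idem

section G
variable {A B : Type*} [CommRing A] [CommRing B] [Algebra A B] (M : Submonoid A)

theorem localizationAlgebra_injective_of
    (h : ∀ a : A, (∃ m ∈ M, algebraMap A B (m * a) = 0) → ∃ m' ∈ M, m' * a = 0) :
    Function.Injective (algebraMap (Localization M)
      (Localization (Algebra.algebraMapSubmonoid B M))) := by
  rw [injective_iff_map_eq_zero]
  intro x hx
  obtain ⟨a, s, rfl⟩ := IsLocalization.exists_mk'_eq M x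
  rw [IsLocalization.algebraMap_mk' (S := B) (Rₘ := Localization M)
    (Sₘ := Localization (Algebra.algebraMapSubmonoid B M)), IsLocalization.mk'_eq_zero_iff] at hx
  obtain ⟨⟨_, m₀, hm₀, rfl⟩, hm⟩ := hx
  obtain ⟨m', hm', hma⟩ := h a ⟨m₀, hm₀, by rw [map_mul]; exact hm⟩
  rw [IsLocalization.mk'_eq_zero_iff]
  exact ⟨⟨m', hm'⟩, hma⟩

theorem localizationAlgebra_surjective_of
    (h : ∀ b : B, ∃ a : A, ∃ m ∈ M, ∃ k ∈ M,
      algebraMap A B k * (algebraMap A B m * b - algebraMap A B a) = 0) :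
    Function.Surjective (algebraMap (Localization M)
      (Localization (Algebra.algebraMapSubmonoid B M))) := by
  intro y
  obtain ⟨b, ⟨_, t₀, ht₀, rfl⟩, rfl⟩ :=
    IsLocalization.exists_mk'_eq (Algebra.algebraMapSubmonoid B M) y
  obtain ⟨a, m, hm, k, hk, hak⟩ := h b
  refine ⟨IsLocalization.mk' (Localization M) a (⟨m, hm⟩ * ⟨t₀, ht₀⟩ : M), ?_⟩
  rw [IsLocalization.algebraMap_mk' (S := B) (Rₘ := Localization M)
    (Sₘ := Localization (Algebra.algebraMapSubmonoid B M)), IsLocalization.mk'_eq_iff_eq]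
  rw [IsLocalization.eq_iff_exists (Algebra.algebraMapSubmonoid B M)]
  refine ⟨⟨algebraMap A B k, k, hk, rfl⟩, ?_⟩
  simp only [Submonoid.coe_mul, map_mul]
  rw [mul_sub, sub_eq_zero] at hak
  calc algebraMap A B k * (algebraMap A B t₀ * algebraMap A B a)
      = algebraMap A B t₀ * (algebraMap A B k * algebraMap A B a) := by ring
    _ = algebraMap A B t₀ * (algebraMap A B k * (algebraMap A B m * b)) := by rw [hak]
    _ = algebraMap A B k * (algebraMap A B m * algebraMap A B t₀ * b) := by ring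

end G

section Data
variable {A C : Type*} [CommRing A] [CommRing C] [Algebra A C] (f : A)

local notation "Af" => Localization.Away f
local notation "Cf" => Localization (Algebra.algebraMapSubmonoid C (Submonoid.powers f))

theorem map_eq_zero_iff_of_idem (e : Af) (he : IsIdempotentElem e) [IsLocalization.Away e Cf]
    (x : Af) : algebraMap Af Cf x = 0 ↔ e * x = 0 := by
  rw [IsLocalization.map_eq_zero_iff (Submonoid.powers e) Cf]
  constructor
  · rintro ⟨⟨_, n, rfl⟩, hn⟩
    simp only at hn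
    rcases n with _ | n
    · rw [pow_zero, one_mul] at hn
      rw [hn, mul_zero]
    · rwa [he.pow_succ_eq] at hn
  · intro h
    exact ⟨⟨e, Submonoid.mem_powers e⟩, h⟩

theorem map_idem_eq_one (e : Af) (he : IsIdempotentElem e) [IsLocalization.Away e Cf] :
    algebraMap Af Cf e = 1 := by
  have hu : IsUnit (algebraMap Af Cf e) :=
    IsLocalization.map_units Cf (⟨e, Submonoid.mem_powers e⟩ : Submonoid.powers e)
  have hi : IsIdempotentElem (algebraMap Af Cf e) := he.map _
  exact (IsIdempotentElem.iff_eq_one_of_isUnit hu).mp hi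

theorem map_surjective_of_idem (e : Af) (he : IsIdempotentElem e) [IsLocalization.Away e Cf] :
    Function.Surjective (algebraMap Af Cf) := by
  intro z
  obtain ⟨⟨x, ⟨_, n, rfl⟩⟩, hx⟩ := IsLocalization.surj (Submonoid.powers e) z
  refine ⟨x, ?_⟩
  simp only at hx
  rw [← hx, map_pow, map_idem_eq_one f e he, one_pow, mul_one]

theorem algebraMap_comm (a : A) :
    algebraMap Af Cf (algebraMap A Af a) = algebraMap C Cf (algebraMap A C a) := by
  rw [← IsScalarTower.algebraMap_apply A Af Cf, IsScalarTower.algebraMap_apply A C Cf]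

theorem map_C_eq_zero_iff (c : C) :
    algebraMap C Cf c = 0 ↔ ∃ n : ℕ, algebraMap A C (f ^ n) * c = 0 := by
  rw [IsLocalization.map_eq_zero_iff (Algebra.algebraMapSubmonoid C (Submonoid.powers f)) Cf]
  constructor
  · rintro ⟨⟨_, _, ⟨n, rfl⟩, rfl⟩, hn⟩
    exact ⟨n, hn⟩
  · rintro ⟨n, hn⟩
    exact ⟨⟨algebraMap A C (f ^ n), f ^ n, ⟨n, rfl⟩, rfl⟩, hn⟩

theorem map_A_eq_zero_iff (a : A) :
    algebraMap A Af a = 0 ↔ ∃ n : ℕ, f ^ n * a = 0 := by
  rw [IsLocalization.map_eq_zero_iff (Submonoid.powers f) Af]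
  constructor
  · rintro ⟨⟨_, n, rfl⟩, hn⟩
    exact ⟨n, hn⟩
  · rintro ⟨n, hn⟩
    exact ⟨⟨f ^ n, n, rfl⟩, hn⟩

theorem exists_data (e : Af) (he : IsIdempotentElem e) [IsLocalization.Away e Cf] :
    ∃ (a_e : A) (n_e l : ℕ),
      (∀ b : A, algebraMap A C b = 0 → ∃ n : ℕ, f ^ n * (a_e * b) = 0) ∧
      algebraMap A C (f ^ l * (f ^ n_e - a_e)) = 0 ∧
      ∀ c : C, ∃ (a : A) (n k : ℕ),
        algebraMap A C (f ^ k) * (algebraMap A C (f ^ n) * c - algebraMap A C a) = 0 := by
  obtain ⟨a_e, ⟨_, n_e, rfl⟩, hae⟩ := IsLocalization.exists_mk'_eq (Submonoid.powers f) e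
  -- `e * f^n_e = a_e` in `Af`
  have hspec : e * algebraMap A Af (f ^ n_e) = algebraMap A Af a_e := by
    rw [← hae]
    exact IsLocalization.mk'_spec Af a_e (⟨f ^ n_e, n_e, rfl⟩ : Submonoid.powers f)
  have hunit : IsUnit (algebraMap A Af (f ^ n_e)) :=
    IsLocalization.map_units Af (⟨f ^ n_e, n_e, rfl⟩ : Submonoid.powers f)
  refine ⟨a_e, n_e, ?_⟩
  -- E2
  have hE2 : ∃ l : ℕ, algebraMap A C (f ^ l * (f ^ n_e - a_e)) = 0 := by
    have h1 : algebraMap Af Cf (algebraMap A Af (f ^ n_e - a_e)) = 0 := by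
      rw [map_sub, ← hspec, map_sub, map_mul, map_idem_eq_one f e he, one_mul, sub_self]
    rw [algebraMap_comm, map_C_eq_zero_iff] at h1
    obtain ⟨l, hl⟩ := h1
    exact ⟨l, by rw [map_mul]; exact hl⟩
  obtain ⟨l, hl⟩ := hE2
  refine ⟨l, ?_, hl, ?_⟩
  · intro b hb
    have h1 : algebraMap Af Cf (algebraMap A Af b) = 0 := by
      rw [algebraMap_comm, hb, map_zero]
    rw [map_eq_zero_iff_of_idem f e he] at h1
    have h2 : algebraMap A Af (a_e * b) = 0 := by
      rw [map_mul, ← hspec, mul_assoc, mul_comm (algebraMap A Af (f ^ n_e)), ← mul_assoc, h1,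
        zero_mul]
    exact (map_A_eq_zero_iff f _).mp h2
  · intro c
    obtain ⟨x, hx⟩ := map_surjective_of_idem f e he (algebraMap C Cf c)
    obtain ⟨a, ⟨_, n, rfl⟩, rfl⟩ := IsLocalization.exists_mk'_eq (Submonoid.powers f) x
    have h1 : algebraMap C Cf (algebraMap A C (f ^ n) * c - algebraMap A C a) = 0 := by
      rw [map_sub, map_mul, ← hx, ← algebraMap_comm, ← algebraMap_comm, ← map_mul,
        mul_comm, IsLocalization.mk'_spec, sub_self]
    rw [map_C_eq_zero_iff] at h1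
    obtain ⟨k, hk⟩ := h1
    exact ⟨a, n, k, hk⟩

end Data

section Main
variable {A : Type*} [CommRing A]

/-- power trick: if powers of generators kill `x` then so do powers of any element of the span -/
theorem exists_pow_mul_eq_zero_of_mem_span (s : Set A) (x : A)
    (hx : ∀ g ∈ s, ∃ n : ℕ, g ^ n * x = 0) {f : A} (hf : f ∈ Ideal.span s) :
    ∃ n : ℕ, f ^ n * x = 0 := by
  have hle : Ideal.span s ≤ ((Submodule.span A {x}).annihilator).radical := by
    rw [Ideal.span_le]
    intro g hg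
    obtain ⟨n, hn⟩ := hx g hg
    exact ⟨n, by rw [Submodule.mem_annihilator_span_singleton, smul_eq_mul]; exact hn⟩
  obtain ⟨n, hn⟩ := hle hf
  exact ⟨n, by rw [Submodule.mem_annihilator_span_singleton, smul_eq_mul] at hn; exact hn⟩

variable {C : Type*} [CommRing C] [Algebra A C]

/-- the ideal `K` -/
def K (s : Set A) : Ideal A where
  carrier := {a | ∀ b : A, algebraMap A C b = 0 → ∀ g ∈ s, ∃ n : ℕ, g ^ n * (a * b) = 0}
  add_mem' := by
    intro a a' ha ha' b hb g hg
    obtain ⟨n, hn⟩ := ha b hb g hg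
    obtain ⟨n', hn'⟩ := ha' b hb g hg
    exact ⟨n + n', by linear_combination g ^ n' * hn + g ^ n * hn'⟩
  zero_mem' := fun b _ g _ => ⟨0, by simp⟩
  smul_mem' := by
    intro c a ha b hb g hg
    obtain ⟨n, hn⟩ := ha b hb g hg
    exact ⟨n, by rw [smul_eq_mul]; linear_combination c * hn⟩

theorem mem_K {s : Set A} {a : A} : a ∈ K (C := C) s ↔
    ∀ b : A, algebraMap A C b = 0 → ∀ g ∈ s, ∃ n : ℕ, g ^ n * (a * b) = 0 := Iff.rfl

theorem exists_data' (f : A)
    (h : ∃ e : Localization.Away f, IsIdempotentElem e ∧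
      IsLocalization.Away e (Localization (Algebra.algebraMapSubmonoid C (Submonoid.powers f)))) :
    ∃ (a_e : A) (n_e l : ℕ),
      (∀ b : A, algebraMap A C b = 0 → ∃ n : ℕ, f ^ n * (a_e * b) = 0) ∧
      algebraMap A C (f ^ l * (f ^ n_e - a_e)) = 0 ∧
      ∀ c : C, ∃ (a : A) (n k : ℕ),
        algebraMap A C (f ^ k) * (algebraMap A C (f ^ n) * c - algebraMap A C a) = 0 := by
  obtain ⟨e, he, hloc⟩ := h
  exact exists_data f e he

theorem main (s : Finset A)
    (h : ∀ f ∈ Ideal.span (s : Set A), ∃ e : Localization.Away f, IsIdempotentElem e ∧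
      IsLocalization.Away e (Localization (Algebra.algebraMapSubmonoid C (Submonoid.powers f))))
    (f : A) (hf : f ∈ Ideal.span (s : Set A)) :
    Function.Bijective
      (algebraMap (Localization.Away f)
        (Localization (Algebra.algebraMapSubmonoid (C × (A ⧸ K (C := C) (s : Set A)))
          (Submonoid.powers f)))) := by
  obtain ⟨a_e, n_e, l, E1, E2, E3⟩ := exists_data' (C := C) f (h f hf)
  have hK : ∀ a ∈ K (C := C) (s : Set A), ∀ b : A, algebraMap A C b = 0 →
      ∃ n : ℕ, f ^ n * (a * b) = 0 := by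
    intro a ha b hb
    exact exists_pow_mul_eq_zero_of_mem_span (s : Set A) (a * b) (fun g hg => ha b hb g hg) hf
  constructor
  · apply localizationAlgebra_injective_of
    rintro a ⟨_, ⟨m, rfl⟩, hm⟩
    rw [Prod.algebraMap_apply, Prod.mk_eq_zero] at hm
    obtain ⟨hm1, hm2⟩ := hm
    rw [Ideal.Quotient.algebraMap_eq, Ideal.Quotient.eq_zero_iff_mem] at hm2
    obtain ⟨n, hn⟩ := hK _ hm2 _ E2
    obtain ⟨t, ht⟩ := E1 _ hm1
    refine ⟨f ^ (t + n + l + n_e + m), ⟨_, rfl⟩, ?_⟩
    linear_combination (f ^ t) * hn + f ^ (n + l) * ht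
  · -- the key claim
    have P : ∀ g ∈ s, ∃ t : ℕ, ∀ N : ℕ, t ≤ N → ∀ b : A, algebraMap A C b = 0 →
        ∃ n : ℕ, g ^ n * (f ^ N * a_e * b) = 0 := by
      intro g hg
      obtain ⟨a_g, n_g, l_g, E1g, E2g, -⟩ :=
        exists_data' (C := C) g (h g (Ideal.subset_span hg))
      obtain ⟨t, ht⟩ := E1 _ E2g
      refine ⟨t, fun N hN b hb => ?_⟩
      obtain ⟨n, hn⟩ := E1g b hb
      obtain ⟨r, rfl⟩ := Nat.exists_eq_add_of_le hN
      refine ⟨n + l_g + n_g, ?_⟩
      linear_combination (g ^ n * f ^ r * b) * ht + (g ^ l_g * f ^ (t + r) * a_e) * hn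
    choose! t ht using P
    have hN : f ^ (s.sup t) * a_e ∈ K (C := C) (s : Set A) := by
      rw [mem_K]
      intro b hb g hg
      exact ht g hg _ (Finset.le_sup hg) b hb
    set N := s.sup t
    apply localizationAlgebra_surjective_of
    rintro ⟨c, d'⟩
    obtain ⟨d, rfl⟩ := Ideal.Quotient.mk_surjective d'
    obtain ⟨a₁, n₁, k₁, h1⟩ := E3 c
    refine ⟨a_e * a₁ + f ^ n₁ * (f ^ n_e - a_e) * d, f ^ (n_e + n₁), ⟨_, rfl⟩,
      f ^ (k₁ + l + N), ⟨_, rfl⟩, ?_⟩
    rw [Prod.algebraMap_apply, Prod.algebraMap_apply, Prod.algebraMap_apply]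
    refine Prod.ext ?_ ?_
    · simp only [Prod.fst_mul, Prod.fst_sub, Prod.fst_zero]
      simp only [map_mul, map_add, map_sub, map_pow] at E2 h1 ⊢
      linear_combination
        ((algebraMap A C f) ^ (k₁ + N) * (algebraMap A C f) ^ n₁ * c
          - (algebraMap A C f) ^ (k₁ + N) * (algebraMap A C f) ^ n₁ * algebraMap A C d) * E2
        + (algebraMap A C f) ^ (l + N) * algebraMap A C a_e * h1
    · simp only [Prod.snd_mul, Prod.snd_sub, Prod.snd_zero]
      rw [Ideal.Quotient.algebraMap_eq, ← map_mul, ← map_sub, ← map_mul,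
        Ideal.Quotient.eq_zero_iff_mem]
      have : f ^ (k₁ + l + N) * (f ^ (n_e + n₁) * d - (a_e * a₁ + f ^ n₁ * (f ^ n_e - a_e) * d))
          = f ^ N * a_e * (f ^ (k₁ + l) * (f ^ n₁ * d - a₁)) := by ring
      rw [this]
      exact Ideal.mul_mem_right _ _ hN

end Main

end H14.Idem
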