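import Mathlib
import Groth.Prelude.Def_EGA41
import Groth.Prelude.Def_CAlgX
import Groth.Agent.Lib.helper14.FieldLift
import Groth.Agent.Lib.helper14.FSJacB
import Groth.Agent.Lib.helper19.PSComplete
import Groth.Agent.Lib.helper19.CoeffField
import Groth.Agent.Lib.helper25.PB3

/-!
# Formally smooth local algebras with prescribed residue field

For fields `k ⊆ K` with imperfection module `Υ_{K/k} = ker (K ⊗ Ω_k → Ω_K)`:

* `H14.Imperf.finite_imperfection_of_fs`: if some Noetherian local `k`-algebra formally smooth for its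
  adic topology has residue field `K`, then `Υ_{K/k}` is finite-dimensional.
* `H14.Imperf.exists_of_finrank_le`: conversely for `n ≥ dim Υ_{K/k}` there is a complete such algebra
  of dimension `n` (a power series ring `K[[X_1..X_n]]` with a twisted `k`-algebra structure `Tw φ`).
* `H14.Imperf.injective_of_forall_extends`: injectivity of `Ω_k ⊗ κ → Ω_A ⊗ κ` from extension of
  derivations.
-/

set_option autoImplicit false
universe u

namespace H14.Imperf

open TensorProduct IsLocalRing MvPowerSeries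

section C1
variable {k K : Type u} [Field k] [Field K] [Algebra k K]

/-- a linear map on `K ⊗ Ω_k` with values in `K^n`, injective on the imperfection module -/
theorem exists_theta [Module.Finite K (EGA41.imperfection ℤ k K)] (n : ℕ)
    (hn : Module.finrank K (EGA41.imperfection ℤ k K) ≤ n) :
    ∃ θ : K ⊗[k] Ω[k⁄ℤ] →ₗ[K] (Fin n → K),
      ∀ v ∈ EGA41.imperfection ℤ k K, θ v = 0 → v = 0 := by
  classical
  haveI : Module.Free K (EGA41.imperfection ℤ k K) := by
    have := Module.Free.of_divisionRing K (↥(EGA41.imperfection ℤ k K))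
    exact this
  have h1 : Module.rank K (EGA41.imperfection ℤ k K) ≤ Module.rank K (Fin n → K) := by
    rw [← Module.finrank_eq_rank K (EGA41.imperfection ℤ k K), rank_fun']
    simp only [Fintype.card_fin]
    exact_mod_cast hn
  obtain ⟨θ₀, hθ₀⟩ := rank_le_iff_exists_linearMap.1 h1
  obtain ⟨θ, hθ⟩ := LinearMap.exists_extend θ₀
  refine ⟨θ, fun v hv h0 => ?_⟩
  have h2 : θ₀ ⟨v, hv⟩ = 0 := by
    rw [← hθ]
    exact h0
  have h3 : (⟨v, hv⟩ : EGA41.imperfection ℤ k K) = 0 := hθ₀ (by rw [h2, map_zero])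
  exact congrArg Subtype.val h3

end C1

section C2
variable {K : Type u} [Field K] (n : ℕ)

/-- elements of `𝔪²` of a power series ring over a field have no terms of degree `≤ 1` -/
theorem coeff_eq_zero_of_mem_sq (p : MvPowerSeries (Fin n) K)
    (hp : p ∈ maximalIdeal (MvPowerSeries (Fin n) K) ^ 2) (ν : Fin n →₀ ℕ) (hν : ν.degree ≤ 1) :
    coeff ν p = 0 := by
  rw [Groth.Agent.Lib.helper19.PSC.pow_eq_W] at hp
  have h1 := hp ν
  have h2 : 2 - ν.degree ≠ 0 := by omega
  rw [IsLocalRing.maximalIdeal_eq_bot, Ideal.bot_pow h2, Ideal.mem_bot] at h1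
  exact h1

end C2

section C3
variable {k K : Type u} [Field k] [Field K] [Algebra k K] {n : ℕ}
  (Dv : k → Fin n → K) (hadd : ∀ a b, Dv (a + b) = Dv a + Dv b)
  (hmul : ∀ a b, Dv (a * b) = algebraMap k K a • Dv b + algebraMap k K b • Dv a)

/-- the linear part -/
noncomputable def lin (c : k) : MvPowerSeries (Fin n) K :=
  C (algebraMap k K c) + ∑ i, C (Dv c i) * X i

theorem X_mem (i : Fin n) : (X i : MvPowerSeries (Fin n) K) ∈
    maximalIdeal (MvPowerSeries (Fin n) K) := by
  rw [mem_maximalIdeal, mem_nonunits_iff, MvPowerSeries.isUnit_iff_constantCoeff]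
  simp

theorem sum_mem (c : k) : (∑ i, C (Dv c i) * X i : MvPowerSeries (Fin n) K) ∈
    maximalIdeal (MvPowerSeries (Fin n) K) :=
  Ideal.sum_mem _ (fun i _ => Ideal.mul_mem_left _ _ (X_mem i))

include hadd hmul in
theorem exists_phi : ∃ φ : k →+* MvPowerSeries (Fin n) K,
    (∀ c, constantCoeff (φ c) = algebraMap k K c) ∧
    (∀ c i, coeff (Finsupp.single i 1) (φ c) = Dv c i) := by
  classical
  have h0 : Dv 0 = 0 := by
    have := hadd 0 0
    rw [add_zero] at this
    exact left_eq_add.1 this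
  have h1 : Dv 1 = 0 := by
    have := hmul 1 1
    rw [mul_one, map_one, one_smul] at this
    exact left_eq_add.1 this
  set 𝔪 := maximalIdeal (MvPowerSeries (Fin n) K) with h𝔪
  have hlin_add : ∀ a b, lin Dv (a + b) = lin Dv a + lin Dv b := by
    intro a b
    unfold lin
    have e : (∑ i, C ((Dv a + Dv b) i) * X i : MvPowerSeries (Fin n) K) =
        ∑ i, C (Dv a i) * X i + ∑ i, C (Dv b i) * X i := by
      rw [← Finset.sum_add_distrib]
      refine Finset.sum_congr rfl fun i _ => ?_
      rw [Pi.add_apply, map_add, add_mul]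
    rw [map_add, map_add, hadd, e]
    ring
  have hlin_mul : ∀ a b, lin Dv (a * b) - lin Dv a * lin Dv b ∈ 𝔪 ^ 2 := by
    intro a b
    have : lin Dv (a * b) - lin Dv a * lin Dv b =
        - ((∑ i, C (Dv a i) * X i) * (∑ i, C (Dv b i) * X i) : MvPowerSeries (Fin n) K) := by
      unfold lin
      rw [hmul, map_mul, map_mul]
      have e : (∑ i, C ((algebraMap k K a • Dv b + algebraMap k K b • Dv a) i) * X i :
          MvPowerSeries (Fin n) K) =
          C (algebraMap k K a) * (∑ i, C (Dv b i) * X i) +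
          C (algebraMap k K b) * (∑ i, C (Dv a i) * X i) := by
        rw [Finset.mul_sum, Finset.mul_sum, ← Finset.sum_add_distrib]
        refine Finset.sum_congr rfl fun i _ => ?_
        rw [Pi.add_apply, Pi.smul_apply, Pi.smul_apply, smul_eq_mul, smul_eq_mul, map_add,
          map_mul, map_mul]
        ring
      rw [e]
      ring
    rw [this, pow_two]
    exact Ideal.neg_mem_iff _ |>.2 (Ideal.mul_mem_mul (sum_mem Dv a) (sum_mem Dv b))
  let w : k →+* MvPowerSeries (Fin n) K ⧸ 𝔪 ^ 2 :=
    { toFun := fun c => Ideal.Quotient.mk _ (lin Dv c)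
      map_one' := by
        unfold lin
        rw [h1]
        simp
      map_mul' := fun a b => by
        rw [← map_mul, Ideal.Quotient.eq]
        exact hlin_mul a b
      map_zero' := by
        unfold lin
        rw [h0]
        simp
      map_add' := fun a b => by
        rw [hlin_add, map_add] }
  haveI : IsNoetherianRing (MvPowerSeries (Fin n) K) := by
    haveI := Groth.Agent.Lib.helper19.isRegularLocalRing_mvPowerSeries K n
    infer_instance
  haveI : IsAdicComplete (maximalIdeal (MvPowerSeries (Fin n) K)) (MvPowerSeries (Fin n) K) := by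
    rw [Groth.Agent.Lib.helper19.maximalIdeal_mvPowerSeries_eq]
    infer_instance
  have hJ : 𝔪 ^ 2 ≠ ⊤ := by
    intro h
    have : 𝔪 ^ 2 ≤ 𝔪 := Ideal.pow_le_self two_ne_zero
    rw [h] at this
    exact (maximalIdeal.isMaximal _).ne_top (top_le_iff.1 this)
  obtain ⟨v, hv⟩ := H14.FieldLift.field_lift (𝔪 ^ 2) hJ w
    ((C : K →+* MvPowerSeries (Fin n) K).comp (algebraMap k K))
  have hv' : ∀ c, v c - lin Dv c ∈ 𝔪 ^ 2 := by
    intro c
    rw [← Ideal.Quotient.eq]
    exact RingHom.congr_fun hv c
  refine ⟨v, fun c => ?_, fun c i => ?_⟩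
  · have := coeff_eq_zero_of_mem_sq n _ (hv' c) 0 (by simp)
    rw [map_sub, sub_eq_zero] at this
    rw [← coeff_zero_eq_constantCoeff_apply, this]
    unfold lin
    rw [map_add, map_sum]
    simp
  · have := coeff_eq_zero_of_mem_sq n _ (hv' c) (Finsupp.single i 1) (by simp)
    rw [map_sub, sub_eq_zero] at this
    rw [this]
    unfold lin
    rw [map_add, map_sum]
    simp [coeff_X, coeff_C, Finsupp.single_eq_single_iff]

end C3

theorem coeff_single_mul {K : Type u} [Field K] {n : ℕ} (f g : MvPowerSeries (Fin n) K) (i : Fin n) :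
    coeff (Finsupp.single i 1) (f * g) =
      constantCoeff f * coeff (Finsupp.single i 1) g +
        constantCoeff g * coeff (Finsupp.single i 1) f := by
  classical
  rw [coeff_mul, Finsupp.antidiagonal_single]
  simp [Finset.Nat.antidiagonal_succ]
  ring

section Tw
variable {k K : Type u} [Field k] [Field K] [Algebra k K] {n : ℕ}

/-- the power series ring `K[[X_1..X_n]]` with `k`-algebra structure given by `φ` -/
def Tw (_φ : k →+* MvPowerSeries (Fin n) K) : Type u := MvPowerSeries (Fin n) K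

variable (φ : k →+* MvPowerSeries (Fin n) K)

noncomputable instance : CommRing (Tw φ) := inferInstanceAs (CommRing (MvPowerSeries (Fin n) K))
instance : IsLocalRing (Tw φ) := inferInstanceAs (IsLocalRing (MvPowerSeries (Fin n) K))
noncomputable instance : Algebra k (Tw φ) := φ.toAlgebra

/-- constant coefficient -/
noncomputable def cc : Tw φ →+* K := (constantCoeff : MvPowerSeries (Fin n) K →+* K)

/-- linear coefficient -/
noncomputable def lc (i : Fin n) : Tw φ →+ K :=
  ((coeff (Finsupp.single i 1) : MvPowerSeries (Fin n) K →ₗ[K] K) : MvPowerSeries (Fin n) K →+ K)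

noncomputable instance : Algebra (Tw φ) K := (cc φ).toAlgebra

theorem smul_def' (f : Tw φ) (x : K) : f • x = cc φ f * x := rfl

theorem lc_mul (i : Fin n) (f g : Tw φ) : lc φ i (f * g) = cc φ f * lc φ i g + cc φ g * lc φ i f := by
  exact coeff_single_mul (K := K) (n := n) f g i

variable (θ : K ⊗[k] Ω[k⁄ℤ] →ₗ[K] (Fin n → K))
  (hθ : ∀ v ∈ EGA41.imperfection ℤ k K, θ v = 0 → v = 0)
  (hφ0 : ∀ c, constantCoeff (φ c) = algebraMap k K c)
  (hφ1 : ∀ c i, coeff (Finsupp.single i 1) (φ c) = θ ((1 : K) ⊗ₜ[k] KaehlerDifferential.D ℤ k c) i)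

include hθ hφ0 hφ1 in
theorem ext_K (D' : Derivation ℤ k K) :
    ∃ DA' : Derivation ℤ (Tw φ) K, ∀ c, DA' (algebraMap k (Tw φ) c) = D' c := by
  classical
  let ℓ : K ⊗[k] Ω[k⁄ℤ] →ₗ[K] K := LinearMap.liftBaseChange K D'.liftKaehlerDifferential
  let U : K ⊗[k] Ω[k⁄ℤ] →ₗ[K] Ω[K⁄ℤ] × (Fin n → K) :=
    (KaehlerDifferential.mapBaseChange ℤ k K).prod θ
  have hU : LinearMap.ker U = ⊥ := by
    rw [eq_bot_iff]
    intro v hv
    rw [LinearMap.mem_ker] at hv
    have hv1 : KaehlerDifferential.mapBaseChange ℤ k K v = 0 := congrArg Prod.fst hv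
    have hv2 : θ v = 0 := congrArg Prod.snd hv
    rw [Submodule.mem_bot]
    exact hθ v hv1 hv2
  obtain ⟨r, hr⟩ := U.exists_leftInverse_of_injective hU
  let Λ : Ω[K⁄ℤ] × (Fin n → K) →ₗ[K] K := ℓ ∘ₗ r
  let T : Tw φ →+ Ω[K⁄ℤ] × (Fin n → K) :=
    { toFun := fun f => (KaehlerDifferential.D ℤ K (cc φ f), fun i => lc φ i f)
      map_zero' := by
        ext <;> simp
      map_add' := fun f g => by
        ext <;> simp }
  have hTmul : ∀ f g : Tw φ, T (f * g) = cc φ f • T g + cc φ g • T f := by
    intro f g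
    ext
    · change KaehlerDifferential.D ℤ K (cc φ (f * g)) = _
      rw [map_mul, Derivation.leibniz]
      rfl
    · rename_i i
      change lc φ i (f * g) = _
      rw [lc_mul]
      rfl
  let DA₀ : Tw φ →+ K := (Λ : Ω[K⁄ℤ] × (Fin n → K) →+ K).comp T
  refine ⟨Derivation.mk' DA₀.toIntLinearMap ?_, ?_⟩
  · intro f g
    change Λ (T (f * g)) = f • Λ (T g) + g • Λ (T f)
    rw [hTmul, map_add, map_smul, map_smul, smul_def', smul_def', smul_eq_mul, smul_eq_mul]
  · intro c
    change Λ (T (algebraMap k (Tw φ) c)) = D' c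
    have h1 : T (algebraMap k (Tw φ) c) = U ((1 : K) ⊗ₜ[k] KaehlerDifferential.D ℤ k c) := by
      ext
      · change KaehlerDifferential.D ℤ K (constantCoeff (φ c)) = _
        rw [hφ0]
        change _ = KaehlerDifferential.mapBaseChange ℤ k K _
        rw [KaehlerDifferential.mapBaseChange_tmul, one_smul, KaehlerDifferential.map_D]
      · rename_i i
        exact hφ1 c i
    rw [h1]
    change ℓ (r (U _)) = _
    have h2 := LinearMap.congr_fun hr ((1 : K) ⊗ₜ[k] KaehlerDifferential.D ℤ k c)
    rw [LinearMap.comp_apply] at h2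
    rw [h2]
    simp [ℓ]

instance : IsLocalHom (cc φ) := by
  constructor
  intro f hf
  exact (MvPowerSeries.isUnit_iff_constantCoeff (φ := (f : MvPowerSeries (Fin n) K))).2 hf

theorem cc_surjective : Function.Surjective (cc φ) := fun x =>
  ⟨(C x : MvPowerSeries (Fin n) K), MvPowerSeries.constantCoeff_C x⟩

/-- the residue field of `Tw φ` is `K` -/
noncomputable def eps : ResidueField (Tw φ) ≃+* K :=
  RingEquiv.ofBijective (ResidueField.lift (cc φ))
    ⟨(ResidueField.lift (cc φ)).injective, fun x => by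
      obtain ⟨f, rfl⟩ := cc_surjective φ x
      exact ⟨residue _ f, ResidueField.lift_residue_apply _ _⟩⟩

theorem eps_residue (f : Tw φ) : eps φ (residue _ f) = cc φ f :=
  ResidueField.lift_residue_apply _ _

include hφ0 in
theorem eps_algebraMap (c : k) : eps φ (algebraMap k (ResidueField (Tw φ)) c) = algebraMap k K c := by
  have : algebraMap k (ResidueField (Tw φ)) c = residue _ (algebraMap k (Tw φ) c) := rfl
  rw [this, eps_residue]
  exact hφ0 c

include hθ hφ0 hφ1 in
theorem ext_residue (D : Derivation ℤ k (ResidueField (Tw φ))) :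
    ∃ DA : Derivation ℤ (Tw φ) (ResidueField (Tw φ)), ∀ c, DA (algebraMap k (Tw φ) c) = D c := by
  classical
  let εk : ResidueField (Tw φ) →ₗ[k] K :=
    { toFun := eps φ
      map_add' := map_add _
      map_smul' := fun c x => by
        rw [Algebra.smul_def, map_mul, eps_algebraMap φ hφ0, RingHom.id_apply, Algebra.smul_def] }
  let εA : K →ₗ[Tw φ] ResidueField (Tw φ) :=
    { toFun := (eps φ).symm
      map_add' := map_add _
      map_smul' := fun f x => by
        rw [smul_def', map_mul, RingHom.id_apply, ← eps_residue, RingEquiv.symm_apply_apply]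
        rfl }
  obtain ⟨DA', hDA'⟩ := ext_K φ θ hθ hφ0 hφ1 (εk.compDer D)
  refine ⟨εA.compDer DA', fun c => ?_⟩
  change (eps φ).symm (DA' (algebraMap k (Tw φ) c)) = D c
  rw [hDA']
  change (eps φ).symm (eps φ (D c)) = D c
  rw [RingEquiv.symm_apply_apply]

end Tw

theorem finite_imperfection_of_injective {k A K : Type u} [Field k] [CommRing A]
    [IsNoetherianRing A] [Algebra k A] [Field K] [Algebra k K] [Algebra A K]
    [IsScalarTower k A K]
    (hsurj : Function.Surjective (algebraMap A K))
    (hinj : Function.Injective ((KaehlerDifferential.mapBaseChange ℤ k A).lTensor K)) :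
    Module.Finite K (EGA41.imperfection ℤ k K) := by
  classical
  let Tr := Groth.Agent.Lib.helper25.PB.Tr ℤ (K := k) (L := A) (M := K)
  have hTr : Function.Injective Tr := by
    change Function.Injective (((KaehlerDifferential.mapBaseChange ℤ k A).baseChange K) ∘
      (AlgebraTensorModule.cancelBaseChange k A K K Ω[k⁄ℤ]).symm)
    refine Function.Injective.comp ?_ (LinearEquiv.injective _)
    rw [LinearMap.baseChange_eq_ltensor]
    exact hinj
  let Nker : Submodule K (K ⊗[A] Ω[A⁄ℤ]) := LinearMap.ker (KaehlerDifferential.mapBaseChange ℤ A K)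
  haveI : Module.Finite A (RingHom.ker (algebraMap A K)).Cotangent :=
    Module.Finite.of_surjective (RingHom.ker (algebraMap A K)).toCotangent
      (Ideal.toCotangent_surjective _)
  have hA : Module.Finite A ↥(LinearMap.range (KaehlerDifferential.kerCotangentToTensor ℤ A K)) :=
    Module.Finite.range _
  have heq : Nker.restrictScalars A =
      LinearMap.range (KaehlerDifferential.kerCotangentToTensor ℤ A K) := by
    ext x
    exact KaehlerDifferential.exact_kerCotangentToTensor_mapBaseChange ℤ A K hsurj x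
  haveI : Module.Finite A ↥(Nker.restrictScalars A) := heq ▸ hA
  haveI : Module.Finite A ↥Nker :=
    Module.Finite.equiv ((Submodule.restrictScalarsEquiv A K _ Nker).restrictScalars A)
  haveI : Module.Finite K ↥Nker := Module.Finite.of_restrictScalars_finite A K Nker
  let j : EGA41.imperfection ℤ k K →ₗ[K] Nker :=
    LinearMap.codRestrict Nker (Tr ∘ₗ (EGA41.imperfection ℤ k K).subtype) (fun t => by
      rw [LinearMap.mem_ker, LinearMap.comp_apply, Groth.Agent.Lib.helper25.PB.mapBaseChange_Tr]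
      exact t.2)
  have hj : Function.Injective j := by
    intro x y hxy
    have := congrArg Subtype.val hxy
    exact Subtype.ext (hTr this)
  haveI : IsNoetherian K ↥Nker := by
    have := isNoetherian_of_isNoetherianRing_of_finite K ↥Nker
    exact this
  exact Module.Finite.of_injective j hj

theorem finite_imperfection_of_fs {k A K : Type u} [Field k] [CommRing A] [IsLocalRing A]
    [IsNoetherianRing A] [Algebra k A] [Field K] [Algebra k K]
    (h : CAlgX.IsAdicFormallySmooth k A (maximalIdeal A)) (e : ResidueField A ≃ₐ[k] K) :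
    Module.Finite K (EGA41.imperfection ℤ k K) := by
  classical
  letI : Algebra A K := ((e : ResidueField A →+* K).comp (residue A)).toAlgebra
  have halg : ∀ a : A, algebraMap A K a = e (residue A a) := fun a => rfl
  haveI : IsScalarTower k A K := IsScalarTower.of_algebraMap_eq (fun c => by
    rw [halg]
    exact (e.commutes c).symm)
  have hsurj : Function.Surjective (algebraMap A K) := fun x => by
    obtain ⟨a, ha⟩ := residue_surjective (e.symm x)
    exact ⟨a, by rw [halg, ha, AlgEquiv.apply_symm_apply]⟩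
  let εA : ResidueField A ≃ₗ[A] K :=
    { e.toLinearEquiv.toAddEquiv with
      map_smul' := fun a x => by
        change e (a • x) = a • e x
        rw [Algebra.smul_def, Algebra.smul_def, map_mul, halg]
        rfl }
  have hinjκ := H14.FSJac.injective_of_fs h
  apply finite_imperfection_of_injective hsurj
  rw [injective_iff_map_eq_zero]
  intro t ht
  set f := KaehlerDifferential.mapBaseChange ℤ k A with hf
  obtain ⟨s, rfl⟩ := (LinearEquiv.rTensor (A ⊗[k] Ω[k⁄ℤ]) εA).surjective t
  have h1 : LinearMap.lTensor K f (LinearMap.rTensor (A ⊗[k] Ω[k⁄ℤ]) εA.toLinearMap s) =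
      LinearMap.rTensor (Ω[A⁄ℤ]) εA.toLinearMap (LinearMap.lTensor (ResidueField A) f s) := by
    rw [← LinearMap.comp_apply, ← LinearMap.comp_apply, LinearMap.lTensor_comp_rTensor,
      LinearMap.rTensor_comp_lTensor]
  have h2 : LinearMap.rTensor (Ω[A⁄ℤ]) εA.toLinearMap (LinearMap.lTensor (ResidueField A) f s) = 0 := by
    rw [← h1]
    exact ht
  have h3 : LinearMap.lTensor (ResidueField A) f s = 0 :=
    (LinearEquiv.rTensor (Ω[A⁄ℤ]) εA).injective (by rw [map_zero]; exact h2)
  have h4 : s = 0 := hinjκ (by rw [map_zero]; exact h3)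
  rw [h4, map_zero]

theorem injective_of_forall_extends {k A : Type u} [Field k] [CommRing A] [IsLocalRing A]
    [Algebra k A]
    (H : ∀ D : Derivation ℤ k (ResidueField A), ∃ DA : Derivation ℤ A (ResidueField A),
      ∀ c, DA (algebraMap k A c) = D c) :
    Function.Injective
      ((KaehlerDifferential.mapBaseChange ℤ k A).lTensor (ResidueField A)) := by
  classical
  let K := ResidueField A
  let f : K ⊗[A] (A ⊗[k] Ω[k⁄ℤ]) →ₗ[K] K ⊗[A] Ω[A⁄ℤ] :=
    (KaehlerDifferential.mapBaseChange ℤ k A).baseChange K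
  suffices hf : Function.Injective f by
    have h2 : (f : K ⊗[A] (A ⊗[k] Ω[k⁄ℤ]) → K ⊗[A] Ω[A⁄ℤ]) =
        (KaehlerDifferential.mapBaseChange ℤ k A).lTensor K := LinearMap.baseChange_eq_ltensor _
    rw [← h2]
    exact hf
  rw [injective_iff_map_eq_zero]
  intro ω hω
  rw [← Module.forall_dual_apply_eq_zero_iff K]
  intro φ
  -- the derivation `c ↦ φ (1 ⊗ (1 ⊗ d c))`
  let D₀ : k →+ K :=
    { toFun := fun c => φ ((1 : K) ⊗ₜ[A] ((1 : A) ⊗ₜ[k] KaehlerDifferential.D ℤ k c))
      map_zero' := by simp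
      map_add' := fun a b => by
        rw [map_add, TensorProduct.tmul_add, TensorProduct.tmul_add, map_add] }
  have hsm : ∀ (c : k) (w : Ω[k⁄ℤ]), φ ((1 : K) ⊗ₜ[A] ((1 : A) ⊗ₜ[k] (c • w))) =
      algebraMap k K c * φ ((1 : K) ⊗ₜ[A] ((1 : A) ⊗ₜ[k] w)) := by
    intro c w
    have e1 : (1 : A) ⊗ₜ[k] (c • w) = (algebraMap k A c) • ((1 : A) ⊗ₜ[k] w) := by
      rw [TensorProduct.tmul_smul, algebraMap_smul]
    have e2 : (1 : K) ⊗ₜ[A] ((algebraMap k A c) • ((1 : A) ⊗ₜ[k] w)) =
        (algebraMap k K c) • ((1 : K) ⊗ₜ[A] ((1 : A) ⊗ₜ[k] w)) := by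
      rw [TensorProduct.tmul_smul, ← algebraMap_smul K (algebraMap k A c),
        ← IsScalarTower.algebraMap_apply]
    rw [e1, e2, map_smul, smul_eq_mul]
  let D : Derivation ℤ k K := Derivation.mk' D₀.toIntLinearMap (by
    intro a b
    change φ ((1 : K) ⊗ₜ[A] ((1 : A) ⊗ₜ[k] KaehlerDifferential.D ℤ k (a * b))) =
      a • φ ((1 : K) ⊗ₜ[A] ((1 : A) ⊗ₜ[k] KaehlerDifferential.D ℤ k b)) +
      b • φ ((1 : K) ⊗ₜ[A] ((1 : A) ⊗ₜ[k] KaehlerDifferential.D ℤ k a))
    rw [Derivation.leibniz, TensorProduct.tmul_add, TensorProduct.tmul_add, map_add, hsm, hsm,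
      Algebra.smul_def, Algebra.smul_def])
  obtain ⟨DA, hc⟩ := H D
  let Λ : K ⊗[A] Ω[A⁄ℤ] →ₗ[K] K := LinearMap.liftBaseChange K DA.liftKaehlerDifferential
  have hbase : ∀ w : Ω[k⁄ℤ], Λ (f ((1 : K) ⊗ₜ[A] ((1 : A) ⊗ₜ[k] w))) =
      φ ((1 : K) ⊗ₜ[A] ((1 : A) ⊗ₜ[k] w)) := by
    intro w
    have hw : w ∈ Submodule.span k (Set.range (KaehlerDifferential.D ℤ k)) := by
      rw [KaehlerDifferential.span_range_derivation]; trivial
    induction hw using Submodule.span_induction with
    | mem w hw =>
      obtain ⟨c, rfl⟩ := hw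
      change Λ ((KaehlerDifferential.mapBaseChange ℤ k A).baseChange K _) = _
      rw [LinearMap.baseChange_tmul, KaehlerDifferential.mapBaseChange_tmul, one_smul,
        KaehlerDifferential.map_D]
      change LinearMap.liftBaseChange K DA.liftKaehlerDifferential _ = _
      rw [LinearMap.liftBaseChange_tmul, one_smul, Derivation.liftKaehlerDifferential_comp_D]
      exact hc c
    | zero => simp
    | add y z _ _ hy hz =>
      rw [TensorProduct.tmul_add, TensorProduct.tmul_add, map_add, map_add, map_add, hy, hz]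
    | smul c y _ hy =>
      rw [hsm, ← hy]
      have e1 : (1 : A) ⊗ₜ[k] (c • y) = (algebraMap k A c) • ((1 : A) ⊗ₜ[k] y) := by
        rw [TensorProduct.tmul_smul, algebraMap_smul]
      have e2 : (1 : K) ⊗ₜ[A] ((algebraMap k A c) • ((1 : A) ⊗ₜ[k] y)) =
          (algebraMap k K c) • ((1 : K) ⊗ₜ[A] ((1 : A) ⊗ₜ[k] y)) := by
        rw [TensorProduct.tmul_smul, ← algebraMap_smul K (algebraMap k A c),
          ← IsScalarTower.algebraMap_apply]
      rw [e1, e2, map_smul, map_smul, smul_eq_mul]
  have hmid : ∀ y : A ⊗[k] Ω[k⁄ℤ], Λ (f ((1 : K) ⊗ₜ[A] y)) = φ ((1 : K) ⊗ₜ[A] y) := by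
    intro y
    induction y using TensorProduct.induction_on with
    | zero => simp
    | add y z hy hz =>
      rw [TensorProduct.tmul_add, map_add, map_add, map_add, hy, hz]
    | tmul a w =>
      have ha : (1 : K) ⊗ₜ[A] (a ⊗ₜ[k] w) =
          (algebraMap A K a) • ((1 : K) ⊗ₜ[A] ((1 : A) ⊗ₜ[k] w)) := by
        rw [algebraMap_smul, ← TensorProduct.tmul_smul, TensorProduct.smul_tmul', smul_eq_mul,
          mul_one]
      rw [ha, map_smul, map_smul, map_smul, hbase]
  have hkey : ∀ t : K ⊗[A] (A ⊗[k] Ω[k⁄ℤ]), Λ (f t) = φ t := by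
    intro t
    induction t using TensorProduct.induction_on with
    | zero => simp
    | add x y hx hy => rw [map_add, map_add, map_add, hx, hy]
    | tmul x y =>
      have hx : x ⊗ₜ[A] y = x • ((1 : K) ⊗ₜ[A] y) := by
        rw [TensorProduct.smul_tmul', smul_eq_mul, mul_one]
      rw [hx, map_smul, map_smul, map_smul, hmid]
  rw [← hkey, hω, map_zero]

section main
variable {k K : Type u} [Field k] [Field K] [Algebra k K]

theorem exists_of_finrank_le [Module.Finite K (EGA41.imperfection ℤ k K)] (n : ℕ)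
    (hn : Module.finrank K (EGA41.imperfection ℤ k K) ≤ n) :
    ∃ (A : Type u) (_ : CommRing A) (_ : IsLocalRing A) (_ : IsNoetherianRing A) (_ : Algebra k A),
      IsAdicComplete (maximalIdeal A) A ∧ CAlgX.IsAdicFormallySmooth k A (maximalIdeal A) ∧
      Nonempty (ResidueField A ≃ₐ[k] K) ∧ ringKrullDim A = n := by
  classical
  obtain ⟨θ, hθ⟩ := exists_theta (k := k) (K := K) n hn
  let Dv : k → Fin n → K := fun c => θ ((1 : K) ⊗ₜ[k] KaehlerDifferential.D ℤ k c)
  have hadd : ∀ a b, Dv (a + b) = Dv a + Dv b := by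
    intro a b
    change θ _ = θ _ + θ _
    rw [map_add, TensorProduct.tmul_add, map_add]
  have hmul : ∀ a b, Dv (a * b) = algebraMap k K a • Dv b + algebraMap k K b • Dv a := by
    intro a b
    change θ _ = algebraMap k K a • θ _ + algebraMap k K b • θ _
    rw [Derivation.leibniz, TensorProduct.tmul_add, TensorProduct.tmul_smul,
      TensorProduct.tmul_smul, ← algebraMap_smul K a, ← algebraMap_smul K b, map_add, map_smul,
      map_smul]
  obtain ⟨φ, hφ0, hφ1⟩ := exists_phi Dv hadd hmul
  haveI hreg : IsRegularLocalRing (Tw φ) :=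
    Groth.Agent.Lib.helper19.isRegularLocalRing_mvPowerSeries K n
  haveI hnoeth : IsNoetherianRing (Tw φ) := inferInstance
  refine ⟨Tw φ, inferInstance, inferInstance, hnoeth, inferInstance, ?_, ?_, ⟨?_⟩, ?_⟩
  · change IsAdicComplete (maximalIdeal (MvPowerSeries (Fin n) K)) (MvPowerSeries (Fin n) K)
    rw [Groth.Agent.Lib.helper19.maximalIdeal_mvPowerSeries_eq]
    infer_instance
  · exact H14.FSJac.fs_of_regular_of_injective hreg
      (injective_of_forall_extends (ext_residue φ θ hθ hφ0 hφ1))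
  · exact
      { eps φ with
        commutes' := fun c => eps_algebraMap φ hφ0 c }
  · exact Groth.Agent.Lib.helper19.ringKrullDim_mvPowerSeries_eq K n

theorem main_result :
    ((∃ (A : Type u) (_ : CommRing A) (_ : IsLocalRing A) (_ : IsNoetherianRing A) (_ : Algebra k A),
        CAlgX.IsAdicFormallySmooth k A (maximalIdeal A) ∧ Nonempty (ResidueField A ≃ₐ[k] K)) ↔
      Module.Finite K (EGA41.imperfection ℤ k K)) ∧
    (Module.Finite K (EGA41.imperfection ℤ k K) → ∀ n : ℕ,
      Module.finrank K (EGA41.imperfection ℤ k K) ≤ n →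
      ∃ (A : Type u) (_ : CommRing A) (_ : IsLocalRing A) (_ : IsNoetherianRing A) (_ : Algebra k A),
        IsAdicComplete (maximalIdeal A) A ∧ CAlgX.IsAdicFormallySmooth k A (maximalIdeal A) ∧
        Nonempty (ResidueField A ≃ₐ[k] K) ∧ ringKrullDim A = n) := by
  refine ⟨⟨?_, ?_⟩, ?_⟩
  · rintro ⟨A, _, _, _, _, h, ⟨e⟩⟩
    exact finite_imperfection_of_fs h e
  · intro hfin
    obtain ⟨A, i1, i2, i3, i4, -, h, e, -⟩ := exists_of_finrank_le (k := k) (K := K) _ le_rfl
    exact ⟨A, i1, i2, i3, i4, h, e⟩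
  · intro hfin n hn
    exact exists_of_finrank_le n hn

end main

end H14.Imperf
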