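import Mathlib
import Groth.Agent.Lib.lead.HenselIntegral2
import Groth.Agent.Lib.lead.HenselQuot

/-!
# Rings with involution over a strictly henselian fixed ring
-/

universe u v

open IsLocalRing Polynomial

namespace H14S15578

/-- a local ring integral over a strictly henselian local ring is strictly henselian
(universe polymorphic) -/
theorem strict_of_integral_local (S : Type u) (T : Type v) [CommRing S] [HenselianLocalRing S]
    [IsSepClosed (ResidueField S)] [CommRing T] [IsLocalRing T] [Algebra S T]
    [Algebra.IsIntegral S T] :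
    HenselianLocalRing T ∧ IsSepClosed (ResidueField T) := by
  constructor
  · let eS : ULift.{max u v} S ≃+* S := ULift.ringEquiv
    let eT : ULift.{max u v} T ≃+* T := ULift.ringEquiv
    haveI : IsLocalRing (ULift.{max u v} S) := eS.symm.isLocalRing
    haveI : IsLocalRing (ULift.{max u v} T) := eT.symm.isLocalRing
    haveI : HenselianLocalRing (ULift.{max u v} S) :=
      Groth.Agent.Lib.lead.HenselQuot.henselian_of_surjective eS.symm.toRingHom eS.symm.surjective
    letI : Algebra (ULift.{max u v} S) (ULift.{max u v} T) :=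
      (eT.symm.toRingHom.comp ((algebraMap S T).comp eS.toRingHom)).toAlgebra
    haveI : Algebra.IsIntegral (ULift.{max u v} S) (ULift.{max u v} T) := by
      rw [← algebraMap_isIntegral_iff]
      show (eT.symm.toRingHom.comp ((algebraMap S T).comp eS.toRingHom)).IsIntegral
      apply RingHom.IsIntegral.trans
      · apply RingHom.IsIntegral.trans
        · exact RingHom.isIntegral_of_surjective _ eS.surjective
        · exact algebraMap_isIntegral_iff.mpr inferInstance
      · exact RingHom.isIntegral_of_surjective _ eT.symm.surjective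
    haveI : HenselianLocalRing (ULift.{max u v} T) :=
      Groth.Agent.Lib.lead.HenselLocal.henselian_of_integral_local (ULift.{max u v} S)
        (ULift.{max u v} T)
    exact Groth.Agent.Lib.lead.HenselQuot.henselian_of_surjective eT.toRingHom eT.surjective
  · haveI : IsLocalHom (algebraMap S T) := by
      have hcomap : (maximalIdeal T).comap (algebraMap S T) = maximalIdeal S :=
        IsLocalRing.eq_maximalIdeal
          (Ideal.isMaximal_comap_of_isIntegral_of_isMaximal (maximalIdeal T))
      exact ((IsLocalRing.local_hom_TFAE (algebraMap S T)).out 0 4).mpr hcomap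
    haveI : Algebra.IsIntegral (ResidueField S) (ResidueField T) := by
      constructor
      intro y
      obtain ⟨x, rfl⟩ := residue_surjective y
      obtain ⟨f, hf, hfx⟩ := Algebra.IsIntegral.isIntegral (R := S) x
      refine ⟨f.map (residue S), hf.map _, ?_⟩
      rw [eval₂_map]
      have h1 : (algebraMap (ResidueField S) (ResidueField T)).comp (residue S) =
          (residue T).comp (algebraMap S T) := by
        ext a
        rfl
      rw [h1, ← Polynomial.hom_eval₂, hfx, map_zero]
    exact Algebra.IsAlgebraic.isSepClosed (F := ResidueField S) (E := ResidueField T)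


section invol

variable (S : Type u) (R : Type v) [CommRing S] [CommRing R] [Algebra S R] (lam : R ≃+* R)
  (hlam : Function.Involutive lam)
  (hS : Function.Injective (algebraMap S R) ∧ ∀ r : R, lam r = r ↔ r ∈ Set.range (algebraMap S R))

include hlam hS in
theorem exists_trace (r : R) : ∃ t : S, algebraMap S R t = r + lam r := by
  have h : lam (r + lam r) = r + lam r := by rw [map_add, hlam r, add_comm]
  exact (hS.2 _).mp h

include hlam hS in
theorem exists_norm (r : R) : ∃ n : S, algebraMap S R n = r * lam r := by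
  have h : lam (r * lam r) = r * lam r := by rw [map_mul, hlam r, mul_comm]
  exact (hS.2 _).mp h

include hlam hS in
theorem isIntegral_invol : Algebra.IsIntegral S R := by
  constructor
  intro r
  obtain ⟨t, ht⟩ := exists_trace S R lam hlam hS r
  obtain ⟨n, hn⟩ := exists_norm S R lam hlam hS r
  refine ⟨X ^ 2 - (C t * X - C n), ?_, ?_⟩
  · apply monic_X_pow_sub
    calc degree (C t * X - C n : S[X]) ≤ 1 := by compute_degree
      _ < ((2 : ℕ) : WithBot ℕ) := by exact_mod_cast one_lt_two
  · simp only [eval₂_sub, eval₂_pow, eval₂_X, eval₂_mul, eval₂_C, ht, hn]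
    ring

set_option maxHeartbeats 1600000 in
include hlam hS in
theorem main [HenselianLocalRing S] [IsSepClosed (ResidueField S)] :
    ∃ (ι : Type) (_ : Fintype ι) (T : ι → Type v) (_ : ∀ i, CommRing (T i))
      (_ : ∀ i, HenselianLocalRing (T i)),
      (∀ i, IsSepClosed (IsLocalRing.ResidueField (T i))) ∧ Nonempty (R ≃+* (∀ i, T i)) := by
  classical
  haveI hint : Algebra.IsIntegral S R := isIntegral_invol S R lam hlam hS
  haveI : Nontrivial R := hS.1.nontrivial
  obtain ⟨M₁, hM₁⟩ := Ideal.exists_maximal R
  have hover : ∀ N : Ideal R, N.IsMaximal → N.comap (algebraMap S R) = maximalIdeal S :=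
    fun N hN => IsLocalRing.eq_maximalIdeal (Ideal.isMaximal_comap_of_isIntegral_of_isMaximal N)
  let M₂ : Ideal R := M₁.comap (lam : R →+* R)
  have hM₂ : M₂.IsMaximal := Ideal.comap_isMaximal_of_equiv lam
  have hmemM₂ : ∀ z : R, z ∈ M₂ ↔ lam z ∈ M₁ := fun z => Iff.rfl
  have hnorm : ∀ (N : Ideal R), N.IsMaximal → ∀ r ∈ N, r ∈ M₁ ∨ r ∈ M₂ := by
    intro N hN r hr
    obtain ⟨n, hn⟩ := exists_norm S R lam hlam hS r
    have h1 : n ∈ N.comap (algebraMap S R) := by
      rw [Ideal.mem_comap, hn]
      exact N.mul_mem_right _ hr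
    rw [hover N hN, ← hover M₁ hM₁, Ideal.mem_comap, hn] at h1
    rcases hM₁.isPrime.mem_or_mem h1 with h | h
    · exact Or.inl h
    · exact Or.inr h
  have hmax : ∀ N : Ideal R, N.IsMaximal → N = M₁ ∨ N = M₂ := by
    intro N hN
    have hsub : (N : Set R) ⊆ (M₁ : Set R) ∪ (M₂ : Set R) := fun r hr => hnorm N hN r hr
    rcases (Ideal.subset_union).mp hsub with h | h
    · exact Or.inl (hN.eq_of_le hM₁.ne_top h)
    · exact Or.inr (hN.eq_of_le hM₂.ne_top h)
  by_cases h12 : M₁ = M₂
  · haveI : IsLocalRing R := IsLocalRing.of_unique_max_ideal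
      ⟨M₁, hM₁, fun N hN => (hmax N hN).elim id (fun h => h.trans h12.symm)⟩
    obtain ⟨h1, h2⟩ := strict_of_integral_local S R
    exact ⟨Unit, inferInstance, fun _ => R, fun _ => inferInstance, fun _ => h1, fun _ => h2,
      ⟨(RingEquiv.piUnique (fun _ : Unit => R)).symm⟩⟩
  · -- two maximal ideals
    have hsup : M₁ ⊔ M₂ = ⊤ := Ideal.IsMaximal.coprime_of_ne hM₁ hM₂ h12
    obtain ⟨r, hr, y, hy, hry⟩ := Submodule.mem_sup.mp (hsup ▸ Submodule.mem_top : (1 : R) ∈ M₁ ⊔ M₂)
    have hy' : 1 - r ∈ M₂ := by
      have : 1 - r = y := by rw [← hry]; ring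
      rw [this]
      exact hy
    have hlr2 : lam r ∈ M₂ := by rw [hmemM₂, hlam r]; exact hr
    have hlr1 : 1 - lam r ∈ M₁ := by
      have := (hmemM₂ _).mp hy'
      rwa [map_sub, map_one] at this
    obtain ⟨t, ht⟩ := exists_trace S R lam hlam hS r
    obtain ⟨n, hn⟩ := exists_norm S R lam hlam hS r
    have hnm : n ∈ maximalIdeal S := by
      rw [← hover M₁ hM₁, Ideal.mem_comap, hn]
      exact M₁.mul_mem_right _ hr
    have htu : IsUnit t := by
      by_contra hcon
      have h1 : t ∈ maximalIdeal S := hcon
      rw [← hover M₁ hM₁, Ideal.mem_comap, ht] at h1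
      have h2 : lam r ∈ M₁ := by
        have := M₁.sub_mem h1 hr
        rwa [add_sub_cancel_left] at this
      have h3 : (1 : R) ∈ M₁ := by
        have := M₁.add_mem hlr1 h2
        rwa [sub_add_cancel] at this
      exact hM₁.ne_top ((Ideal.eq_top_iff_one _).mpr h3)
    let F : S[X] := X ^ 2 - (C t * X - C n)
    have hF : F.Monic := by
      apply monic_X_pow_sub
      calc degree (C t * X - C n : S[X]) ≤ 1 := by compute_degree
        _ < ((2 : ℕ) : WithBot ℕ) := by exact_mod_cast one_lt_two
    have hF0 : F.eval 0 ∈ maximalIdeal S := by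
      simp only [F, eval_sub, eval_pow, eval_X, eval_mul, eval_C]
      simpa using hnm
    have hF'0 : IsUnit (F.derivative.eval 0) := by
      have : F.derivative.eval 0 = -t := by
        simp [F, derivative_sub, derivative_mul]
      rw [this]
      exact htu.neg
    obtain ⟨a, ha, haa⟩ := HenselianLocalRing.is_henselian F hF 0 hF0 hF'0
    rw [sub_zero] at haa
    set α := algebraMap S R a with hα
    have hα1 : α ∈ M₁ := by
      have := haa
      rw [← hover M₁ hM₁, Ideal.mem_comap] at this
      exact this
    have hα2 : α ∈ M₂ := by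
      have := haa
      rw [← hover M₂ hM₂, Ideal.mem_comap] at this
      exact this
    have huv : (α - r) * (α - lam r) = 0 := by
      have h1 : F.eval a = 0 := ha
      have h2 := congrArg (algebraMap S R) h1
      simp only [F, eval_sub, eval_pow, eval_X, eval_mul, eval_C, map_sub, map_pow, map_mul, ht,
        hn, map_zero] at h2
      rw [← hα] at h2
      linear_combination h2
    set u := α - r with hu
    set v := α - lam r with hv
    have hu1 : u ∈ M₁ := M₁.sub_mem hα1 hr
    have hv2 : v ∈ M₂ := M₂.sub_mem hα2 hlr2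
    have hv1 : v ∉ M₁ := by
      intro h
      have h3 : (1 : R) ∈ M₁ := by
        have h4 : (1 : R) = α + (1 - lam r) - v := by rw [hv]; ring
        rw [h4]
        exact M₁.sub_mem (M₁.add_mem hα1 hlr1) h
      exact hM₁.ne_top ((Ideal.eq_top_iff_one _).mpr h3)
    have hu2 : u ∉ M₂ := by
      intro h
      have h3 : (1 : R) ∈ M₂ := by
        have h4 : (1 : R) = α + (1 - r) - u := by rw [hu]; ring
        rw [h4]
        exact M₂.sub_mem (M₂.add_mem hα2 hy') h
      exact hM₂.ne_top ((Ideal.eq_top_iff_one _).mpr h3)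
    have hw : IsUnit (u + v) := by
      by_contra hcon
      obtain ⟨N, hN, hwN⟩ := exists_max_ideal_of_mem_nonunits hcon
      rcases hmax N hN with h | h
      · rw [h] at hwN
        exact hv1 (by have := M₁.sub_mem hwN hu1; rwa [add_sub_cancel_left] at this)
      · rw [h] at hwN
        exact hu2 (by have := M₂.sub_mem hwN hv2; rwa [add_sub_cancel_right] at this)
    obtain ⟨w, hw'⟩ := hw
    let ε : Bool → R := fun b => if b then u * ((w⁻¹ : Rˣ) : R) else v * ((w⁻¹ : Rˣ) : R)
    let Mx : Bool → Ideal R := fun b => if b then M₁ else M₂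
    have hMx : ∀ b, (Mx b).IsMaximal := by
      intro b
      cases b
      · exact hM₂
      · exact hM₁
    have hεmem : ∀ b, ε b ∈ Mx b := by
      intro b
      cases b
      · exact M₂.mul_mem_right _ hv2
      · exact M₁.mul_mem_right _ hu1
    have hεsum : ∀ b, ε b + ε (!b) = 1 := by
      intro b
      cases b
      · show v * ((w⁻¹ : Rˣ) : R) + u * ((w⁻¹ : Rˣ) : R) = 1
        rw [← add_mul, add_comm, ← hw', Units.mul_inv]
      · show u * ((w⁻¹ : Rˣ) : R) + v * ((w⁻¹ : Rˣ) : R) = 1
        rw [← add_mul, ← hw', Units.mul_inv]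
    have hεmul : ∀ b, ε b * ε (!b) = 0 := by
      intro b
      cases b
      · show v * ((w⁻¹ : Rˣ) : R) * (u * ((w⁻¹ : Rˣ) : R)) = 0
        have : v * ((w⁻¹ : Rˣ) : R) * (u * ((w⁻¹ : Rˣ) : R)) =
            (u * v) * (((w⁻¹ : Rˣ) : R) * ((w⁻¹ : Rˣ) : R)) := by ring
        rw [this, huv, zero_mul]
      · show u * ((w⁻¹ : Rˣ) : R) * (v * ((w⁻¹ : Rˣ) : R)) = 0
        have : u * ((w⁻¹ : Rˣ) : R) * (v * ((w⁻¹ : Rˣ) : R)) =
            (u * v) * (((w⁻¹ : Rˣ) : R) * ((w⁻¹ : Rˣ) : R)) := by ring
        rw [this, huv, zero_mul]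
    have hMxall : ∀ N : Ideal R, N.IsMaximal → ∀ b, N = Mx b ∨ N = Mx (!b) := by
      intro N hN b
      cases b
      · exact (hmax N hN).symm
      · exact hmax N hN
    let f : Bool → Ideal R := fun b => Ideal.span {ε b}
    -- local quotients
    have hloc : ∀ b, IsLocalRing (R ⧸ f b) := by
      intro b
      haveI : Nontrivial (R ⧸ f b) := by
        rw [Ideal.Quotient.nontrivial_iff]
        intro htop
        have : f b ≤ Mx b := (Ideal.span_singleton_le_iff_mem _).mpr (hεmem b)
        exact (hMx b).ne_top (top_le_iff.mp (htop ▸ this))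
      have hunit : ∀ x : R, x ∉ Mx b → IsUnit (Ideal.Quotient.mk (f b) x) := by
        intro x hx
        have htop : Ideal.span {x} ⊔ f b = ⊤ := by
          by_contra hne
          obtain ⟨N, hN, hle⟩ := Ideal.exists_le_maximal _ hne
          have hxN : x ∈ N := hle (Ideal.mem_sup_left (Ideal.mem_span_singleton_self x))
          have hεN : ε b ∈ N := hle (Ideal.mem_sup_right (Ideal.mem_span_singleton_self _))
          rcases hMxall N hN b with rfl | rfl
          · exact hx hxN
          · have h1 : (1 : R) ∈ Mx (!b) := by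
              rw [← hεsum b]
              exact (Mx (!b)).add_mem hεN (hεmem (!b))
            exact (hMx (!b)).ne_top ((Ideal.eq_top_iff_one _).mpr h1)
        obtain ⟨p, hp, q, hq, hpq⟩ := Submodule.mem_sup.mp
          (htop ▸ Submodule.mem_top : (1 : R) ∈ Ideal.span {x} ⊔ f b)
        obtain ⟨c, rfl⟩ := Ideal.mem_span_singleton'.mp hp
        have hq0 : Ideal.Quotient.mk (f b) q = 0 := Ideal.Quotient.eq_zero_iff_mem.mpr hq
        have h1 := congrArg (Ideal.Quotient.mk (f b)) hpq
        rw [map_add, hq0, add_zero, map_mul, map_one] at h1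
        exact IsUnit.of_mul_eq_one _ (by rw [mul_comm]; exact h1)
      refine IsLocalRing.of_isUnit_or_isUnit_one_sub_self fun xbar => ?_
      obtain ⟨x, rfl⟩ := Ideal.Quotient.mk_surjective xbar
      by_cases hx : x ∈ Mx b
      · right
        rw [← map_one (Ideal.Quotient.mk (f b)), ← map_sub]
        apply hunit
        intro h
        have h1 : (1 : R) ∈ Mx b := by
          have := (Mx b).add_mem h hx
          rwa [sub_add_cancel] at this
        exact (hMx b).ne_top ((Ideal.eq_top_iff_one _).mpr h1)
      · left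
        exact hunit x hx
    haveI := hloc
    have hstrict : ∀ b, HenselianLocalRing (R ⧸ f b) ∧ IsSepClosed (ResidueField (R ⧸ f b)) := by
      intro b
      haveI : Algebra.IsIntegral S (R ⧸ f b) := by
        rw [← algebraMap_isIntegral_iff]
        have h1 : algebraMap S (R ⧸ f b) = (Ideal.Quotient.mk (f b)).comp (algebraMap S R) := rfl
        rw [h1]
        exact RingHom.IsIntegral.trans _ _ (algebraMap_isIntegral_iff.mpr hint)
          (RingHom.isIntegral_of_surjective _ Ideal.Quotient.mk_surjective)
      exact strict_of_integral_local S (R ⧸ f b)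
    have hcop : Pairwise (Function.onFun IsCoprime f) := by
      intro b b' hbb'
      have hb' : b' = !b := by
        cases b <;> cases b' <;> simp_all
      subst hb'
      show IsCoprime (Ideal.span {ε b}) (Ideal.span {ε (!b)})
      rw [Ideal.isCoprime_span_singleton_iff]
      exact ⟨1, 1, by rw [one_mul, one_mul]; exact hεsum b⟩
    have hinf : ⨅ b, f b = ⊥ := by
      rw [eq_bot_iff]
      intro x hx
      rw [Ideal.mem_iInf] at hx
      obtain ⟨c, hc⟩ := Ideal.mem_span_singleton'.mp (hx true)
      obtain ⟨d, hd⟩ := Ideal.mem_span_singleton'.mp (hx false)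
      have hs : ε true + ε false = 1 := hεsum true
      have h1 : x = x * (ε true + ε false) := by
        rw [hs, mul_one]
      rw [Ideal.mem_bot, h1, mul_add]
      have h2 : x * ε true = 0 := by
        rw [← hd]
        have := hεmul false
        have h3 : d * ε false * ε true = d * (ε false * ε (!false)) := by
          rw [mul_assoc]
          rfl
        rw [h3, this, mul_zero]
      have h3 : x * ε false = 0 := by
        rw [← hc]
        have := hεmul true
        have h4 : c * ε true * ε false = c * (ε true * ε (!true)) := by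
          rw [mul_assoc]
          rfl
        rw [h4, this, mul_zero]
      rw [h2, h3, add_zero]
    refine ⟨Bool, inferInstance, fun b => R ⧸ f b, fun b => inferInstance, fun b => (hstrict b).1,
      fun b => (hstrict b).2, ⟨?_⟩⟩
    exact (RingEquiv.quotientBot R).symm.trans
      ((Ideal.quotEquivOfEq hinf.symm).trans (Ideal.quotientInfRingEquivPiQuotient f hcop))

end invol

end H14S15578
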