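import Mathlib
import Groth.Agent.Lib.helper14.SepGenReduced
import Groth.Agent.Lib.helper14.FieldDesc
import Groth.Prelude.Def_EGA4b
import Groth.Prelude.Def_Found

set_option autoImplicit false
universe u

namespace H14.LP

open TensorProduct

/-- a property of rings checked on all localizations at primes -/
def LocProp (Q : ∀ (R : Type u) [CommRing R], Prop) (R : Type u) [CommRing R] : Prop :=
  ∀ (p : Ideal R) [p.IsPrime], Q (Localization.AtPrime p)

section

variable (Q : ∀ (R : Type u) [CommRing R], Prop)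
  (hQ : ∀ (R S : Type u) [CommRing R] [CommRing S], (R ≃+* S) → Q R → Q S)

include hQ in
theorem LocProp.of_ringEquiv {R S : Type u} [CommRing R] [CommRing S] (e : R ≃+* S)
    (h : LocProp Q R) : LocProp Q S := by
  intro q hq
  have h1 := h (q.comap e)
  exact hQ _ _ (IsLocalization.ringEquivOfRingEquiv
    (Localization.AtPrime (q.comap e)) (Localization.AtPrime q) e
    (e.map_primeCompl_comap_eq q)) h1

include hQ in
theorem LocProp.pi {ι : Type u} [Finite ι] (R : ι → Type u) [∀ i, CommRing (R i)]
    (h : ∀ i, LocProp Q (R i)) : LocProp Q (∀ i, R i) := by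
  intro p hp
  obtain ⟨⟨i, q⟩, hq⟩ := (PrimeSpectrum.sigmaToPi_bijective R).surjective ⟨p, hp⟩
  have h1 : p = q.asIdeal.comap (Pi.evalRingHom R i) := (congrArg PrimeSpectrum.asIdeal hq).symm
  subst h1
  have h2 := h i q.asIdeal
  exact hQ _ _ (RingEquiv.ofBijective _
    (Localization.AtPrime.mapPiEvalRingHom_bijective q.asIdeal)).symm h2

include hQ in
theorem LocProp.of_pi {ι : Type u} (R : ι → Type u) [∀ i, CommRing (R i)]
    (h : LocProp Q (∀ i, R i)) (i : ι) : LocProp Q (R i) := by
  intro q hq
  have h2 := h (q.comap (Pi.evalRingHom R i))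
  exact hQ _ _ (RingEquiv.ofBijective _
    (Localization.AtPrime.mapPiEvalRingHom_bijective q)) h2

end

section Pi

variable (Q : ∀ (R : Type u) [CommRing R], Prop)
  (hQ : ∀ (R S : Type u) [CommRing R] [CommRing S], (R ≃+* S) → Q R → Q S)

/-- tensoring with a reduced artinian algebra decomposes as a finite product -/
noncomputable def tensorEquivPi (E R A : Type u) [Field E] [CommRing R] [Algebra E R]
    [IsArtinianRing R] [IsReduced R] [CommRing A] [Algebra E A] :
    A ⊗[E] R ≃+* ∀ m : MaximalSpectrum R, A ⊗[E] (R ⧸ m.asIdeal) := by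
  classical
  haveI : Fintype (MaximalSpectrum R) := Fintype.ofFinite _
  exact ((Algebra.TensorProduct.congr (AlgEquiv.refl : A ≃ₐ[E] A)
    ((IsArtinianRing.equivPi R).restrictScalars E)).trans
    (Algebra.TensorProduct.piRight E E A (fun m : MaximalSpectrum R => R ⧸ m.asIdeal))).toRingEquiv

include hQ in
theorem locProp_tensor_iff (E R A : Type u) [Field E] [CommRing R] [Algebra E R]
    [IsArtinianRing R] [IsReduced R] [CommRing A] [Algebra E A] :
    LocProp Q (A ⊗[E] R) ↔ ∀ m : MaximalSpectrum R, LocProp Q (A ⊗[E] (R ⧸ m.asIdeal)) := by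
  constructor
  · intro h m
    exact LocProp.of_pi Q hQ _ (LocProp.of_ringEquiv Q hQ (tensorEquivPi E R A) h) m
  · intro h
    exact LocProp.of_ringEquiv Q hQ (tensorEquivPi E R A).symm (LocProp.pi Q hQ _ h)

end Pi

section Steps

variable (Q : ∀ (R : Type u) [CommRing R], Prop)
  (hQ : ∀ (R S : Type u) [CommRing R] [CommRing S], (R ≃+* S) → Q R → Q S)

theorem isReduced_tensor_left (k k' l : Type*) [Field k] [Field k'] [Field l] [Algebra k k']
    [Algebra.IsSeparable k k'] [Algebra k l] : IsReduced (k' ⊗[k] l) := by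
  haveI : IsReduced (l ⊗[k] k') := H14.SG.isReduced_tensor_of_isSeparable k l k'
  exact isReduced_of_injective (Algebra.TensorProduct.comm k k' l).toRingEquiv.toRingHom
    (Algebra.TensorProduct.comm k k' l).injective

include hQ in
theorem up_step (k k' l A : Type u) [Field k] [Field k'] [Field l] [Algebra k k']
    [Algebra.IsSeparable k k'] [Algebra k l] [Module.Finite k l] [CommRing A] [Algebra k' A]
    [Algebra k A] [IsScalarTower k k' A]
    (h : ∀ (l' : Type u) [Field l'] [Algebra k' l'], Module.Finite k' l' → LocProp Q (l' ⊗[k'] A)) :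
    LocProp Q (l ⊗[k] A) := by
  haveI : IsReduced (k' ⊗[k] l) := isReduced_tensor_left k k' l
  haveI : IsArtinianRing (k' ⊗[k] l) := IsArtinianRing.of_finite k' _
  have h1 : ∀ m : MaximalSpectrum (k' ⊗[k] l),
      LocProp Q (A ⊗[k'] ((k' ⊗[k] l) ⧸ m.asIdeal)) := by
    intro m
    haveI := m.isMaximal
    letI : Field ((k' ⊗[k] l) ⧸ m.asIdeal) := Ideal.Quotient.field m.asIdeal
    have := h ((k' ⊗[k] l) ⧸ m.asIdeal) inferInstance
    exact LocProp.of_ringEquiv Q hQ (Algebra.TensorProduct.comm k' _ A).toRingEquiv this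
  have h2 := (locProp_tensor_iff Q hQ k' (k' ⊗[k] l) A).mpr h1
  have h3 : LocProp Q (A ⊗[k] l) := LocProp.of_ringEquiv Q hQ
    (Algebra.TensorProduct.cancelBaseChange k k' k' A l).toRingEquiv h2
  exact LocProp.of_ringEquiv Q hQ (Algebra.TensorProduct.comm k A l).toRingEquiv h3

include hQ in
theorem finite_step (k E L A : Type u) [Field k] [Field E] [Field L] [Algebra k E]
    [Module.Finite k E] [Algebra.IsSeparable k E] [Algebra E L] [Module.Finite E L] [Algebra k L]
    [IsScalarTower k E L] [CommRing A] [Algebra E A] [Algebra k A] [IsScalarTower k E A]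
    (h : LocProp Q (L ⊗[k] A)) : LocProp Q (L ⊗[E] A) := by
  haveI : IsReduced (E ⊗[k] L) := isReduced_tensor_left k E L
  haveI : Module.Finite k L := Module.Finite.trans E L
  haveI : IsArtinianRing (E ⊗[k] L) := IsArtinianRing.of_finite E _
  have h1 : LocProp Q (A ⊗[E] (E ⊗[k] L)) := LocProp.of_ringEquiv Q hQ
    ((Algebra.TensorProduct.comm k L A).toRingEquiv.trans
      (Algebra.TensorProduct.cancelBaseChange k E E A L).symm.toRingEquiv) h
  have h2 := (locProp_tensor_iff Q hQ E (E ⊗[k] L) A).mp h1
  let μ : E ⊗[k] L →ₐ[E] L :=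
    Algebra.TensorProduct.productLeftAlgHom (Algebra.ofId E L) (AlgHom.id k L)
  have hμ : Function.Surjective μ := fun x => ⟨1 ⊗ₜ x, by simp [μ]⟩
  haveI : (RingHom.ker μ).IsMaximal := RingHom.ker_isMaximal_of_surjective μ hμ
  have h3 := h2 ⟨RingHom.ker μ, inferInstance⟩
  have h4 : LocProp Q (A ⊗[E] L) := LocProp.of_ringEquiv Q hQ
    (Algebra.TensorProduct.congr (AlgEquiv.refl : A ≃ₐ[E] A)
      (Ideal.quotientKerAlgEquivOfSurjective hμ)).toRingEquiv h3
  exact LocProp.of_ringEquiv Q hQ (Algebra.TensorProduct.comm E A L).toRingEquiv h4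

include hQ in
theorem down_step (k k' l' A : Type u) [Field k] [Field k'] [Field l'] [Algebra k k']
    [Algebra.IsSeparable k k'] [Algebra k' l'] [Module.Finite k' l'] [CommRing A] [Algebra k' A]
    [Algebra k A] [IsScalarTower k k' A]
    (h : ∀ (l : Type u) [Field l] [Algebra k l], Module.Finite k l → LocProp Q (l ⊗[k] A)) :
    LocProp Q (l' ⊗[k'] A) := by
  let b : Module.Basis (Fin (Module.finrank k' l')) k' l' := Module.finBasis k' l'
  let s : Set k' := Set.range (fun e => b.repr 1 e) ∪
    Set.range (fun (x : Fin (Module.finrank k' l') × Fin (Module.finrank k' l') ×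
      Fin (Module.finrank k' l')) => b.repr (b x.1 * b x.2.1) x.2.2)
  have hs : s.Finite := (Set.finite_range _).union (Set.finite_range _)
  let E : IntermediateField k k' := IntermediateField.adjoin k s
  haveI : FiniteDimensional k E := by
    have := IntermediateField.finiteDimensional_adjoin (K := k) (S := (hs.toFinset : Set k'))
      (fun x _ => Algebra.IsIntegral.isIntegral x)
    rw [Set.Finite.coe_toFinset] at this
    exact this
  have hsE : ∀ x ∈ s, x ∈ Set.range (algebraMap E k') := fun x hx =>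
    ⟨⟨x, IntermediateField.subset_adjoin k s hx⟩, rfl⟩
  have h1 : ∀ e, b.repr 1 e ∈ Set.range (algebraMap E k') := fun e => hsE _ (Or.inl ⟨e, rfl⟩)
  have hm : ∀ a c e, b.repr (b a * b c) e ∈ Set.range (algebraMap E k') := fun a c e =>
    hsE _ (Or.inr ⟨(a, c, e), rfl⟩)
  letI : Field (H14.FieldDesc.F' b h1 hm) := (H14.FieldDesc.isField_F' b h1 hm).toField
  letI : Algebra k (H14.FieldDesc.F' b h1 hm) :=
    ((algebraMap E (H14.FieldDesc.F' b h1 hm)).comp (algebraMap k E)).toAlgebra
  haveI : IsScalarTower k E (H14.FieldDesc.F' b h1 hm) :=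
    IsScalarTower.of_algebraMap_eq fun _ => rfl
  haveI : Module.Finite k (H14.FieldDesc.F' b h1 hm) := Module.Finite.trans E _
  have h2 : LocProp Q ((H14.FieldDesc.F' b h1 hm) ⊗[k] A) := h _ inferInstance
  have h3 : LocProp Q ((H14.FieldDesc.F' b h1 hm) ⊗[E] A) :=
    finite_step Q hQ k E (H14.FieldDesc.F' b h1 hm) A h2
  obtain ⟨e⟩ := H14.FieldDesc.nonempty_ringEquiv b h1 hm A
  exact LocProp.of_ringEquiv Q hQ e h3

end Steps

section Apps

/-- the local property for normal rings -/
def Qn (R : Type u) [CommRing R] : Prop := IsDomain R ∧ IsIntegrallyClosed R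

theorem hQn (R S : Type u) [CommRing R] [CommRing S] (e : R ≃+* S) (h : Qn R) : Qn S := by
  obtain ⟨h1, h2⟩ := h
  exact ⟨e.symm.toMulEquiv.isDomain, IsIntegrallyClosed.of_equiv e⟩

theorem isNormalRing_iff (R : Type u) [CommRing R] : EGA4.IsNormalRing R ↔ LocProp Qn R := Iff.rfl

theorem geomNormal_iff (k : Type u) [Field k] (k' : Type u) [Field k']
    [Algebra k k'] [Algebra.IsSeparable k k'] (A : Type u) [CommRing A] [Algebra k' A]
    [Algebra k A] [IsScalarTower k k' A] :
    EGA4.IsGeomNormal k A ↔ EGA4.IsGeomNormal k' A := by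
  constructor
  · intro h l' _ _ hfin
    rw [isNormalRing_iff]
    exact down_step Qn hQn k k' l' A (fun l _ _ hl => (isNormalRing_iff _).mp (h l hl))
  · intro h l _ _ hfin
    rw [isNormalRing_iff]
    exact up_step Qn hQn k k' l A (fun l' _ _ hl => (isNormalRing_iff _).mp (h l' hl))

theorem hQr (R S : Type u) [CommRing R] [CommRing S] (e : R ≃+* S) (h : IsRegularLocalRing R) :
    IsRegularLocalRing S := IsRegularLocalRing.of_ringEquiv e

theorem isRegularRing_iff' (R : Type u) [CommRing R] [IsNoetherianRing R] :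
    IsRegularRing R ↔ LocProp (fun T [CommRing T] => IsRegularLocalRing T) R := isRegularRing_iff

theorem isNoetherianRing_tensor (k l A : Type*) [Field k] [Field l] [Algebra k l]
    [Module.Finite k l] [CommRing A] [Algebra k A] [IsNoetherianRing A] :
    IsNoetherianRing (l ⊗[k] A) := by
  haveI : IsNoetherianRing (A ⊗[k] l) := IsNoetherianRing.of_finite A (A ⊗[k] l)
  exact isNoetherianRing_of_ringEquiv _ (Algebra.TensorProduct.comm k A l).toRingEquiv

theorem geomRegular_iff (k : Type u) [Field k] (k' : Type u) [Field k']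
    [Algebra k k'] [Algebra.IsSeparable k k'] (A : Type u) [CommRing A] [Algebra k' A]
    [Algebra k A] [IsScalarTower k k' A] [IsNoetherianRing A] :
    CAlg.IsGeometricallyRegular k A ↔ CAlg.IsGeometricallyRegular k' A := by
  constructor
  · intro h l' _ _ hfin
    haveI := isNoetherianRing_tensor k' l' A
    rw [isRegularRing_iff']
    refine down_step _ hQr k k' l' A (fun l _ _ hl => ?_)
    haveI := isNoetherianRing_tensor k l A
    exact (isRegularRing_iff' _).mp (h l hl)
  · intro h l _ _ hfin
    haveI := isNoetherianRing_tensor k l A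
    rw [isRegularRing_iff']
    refine up_step _ hQr k k' l A (fun l' _ _ hl => ?_)
    haveI := isNoetherianRing_tensor k' l' A
    exact (isRegularRing_iff' _).mp (h l' hl)

end Apps

end H14.LP
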