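import Groth.Prelude.Def_CAlgX
import Mathlib

set_option autoImplicit false
universe u

namespace Groth.Agent.H14

open Matrix

/-- minors of size bigger than the number of columns vanish -/
theorem minorIdeal_eq_bot_of_lt {R : Type u} [CommRing R] (m n : ℕ) (M : Matrix (Fin n) (Fin m) R)
    (r : ℕ) (hr : m < r) : CAlgX.minorIdeal M r = ⊥ := by
  unfold CAlgX.minorIdeal
  rw [Ideal.span_eq_bot]
  rintro _ ⟨⟨f, g⟩, rfl⟩
  -- `g : Fin r → Fin m` is not injective
  have hg : ¬ Function.Injective g := by
    intro hinj
    have := Fintype.card_le_of_injective g hinj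
    simp at this
    omega
  rw [Function.Injective] at hg
  push Not at hg
  obtain ⟨i, j, hij, hne⟩ := hg
  apply Matrix.det_zero_of_column_eq hne
  intro k
  simp [hij]

/-- The easy direction of McCoy's theorem. -/
theorem injective_of_annihilator_minorIdeal {R : Type u} [CommRing R] (m n : ℕ)
    (M : Matrix (Fin n) (Fin m) R) (h : (CAlgX.minorIdeal M m).annihilator = ⊥) :
    Function.Injective (Matrix.mulVecLin M) := by
  rw [← LinearMap.ker_eq_bot, LinearMap.ker_eq_bot']
  intro v hv
  have hv' : M *ᵥ v = 0 := hv
  -- every coordinate of `v` annihilates the minors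
  have key : ∀ j, v j ∈ (CAlgX.minorIdeal M m).annihilator := by
    intro j
    rw [Submodule.mem_annihilator]
    intro x hx
    unfold CAlgX.minorIdeal at hx
    refine Submodule.span_induction ?_ ?_ ?_ ?_ hx
    · rintro _ ⟨⟨f, g⟩, rfl⟩
      simp only [smul_eq_mul]
      by_cases hg : Function.Injective g
      · have hbij : Function.Bijective g := (Finite.injective_iff_bijective).mp hg
        obtain ⟨k, rfl⟩ := hbij.2 j
        set N := M.submatrix f g with hN
        have h1 : N *ᵥ (v ∘ g) = 0 := by
          ext i
          have := congrFun hv' (f i)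
          simp only [Matrix.mulVec, dotProduct, Pi.zero_apply] at this ⊢
          rw [← this]
          simp only [hN, Matrix.submatrix_apply, Function.comp_apply]
          exact (Equiv.ofBijective g hbij).sum_comp (fun j => M (f i) j * v j)
        have h2 : N.det • (v ∘ g) = 0 := by
          have : (N.adjugate * N) *ᵥ (v ∘ g) = 0 := by
            rw [← Matrix.mulVec_mulVec, h1, Matrix.mulVec_zero]
          rw [Matrix.adjugate_mul, Matrix.smul_mulVec, Matrix.one_mulVec] at this
          exact this
        have := congrFun h2 k
        simp only [Pi.smul_apply, Function.comp_apply, smul_eq_mul, Pi.zero_apply] at this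
        rw [mul_comm]; exact this
      · rw [Function.Injective] at hg
        push Not at hg
        obtain ⟨i, j', hij, hne⟩ := hg
        rw [Matrix.det_zero_of_column_eq hne, mul_zero]
        intro k
        simp [hij]
    · simp
    · intro x y _ _ hx hy
      rw [smul_add, hx, hy, add_zero]
    · intro a x _ hx
      rw [smul_comm, hx, smul_zero]
  rw [h] at key
  ext j
  exact (Submodule.mem_bot R).mp (key j)

/-- The hard direction of McCoy's theorem. -/
theorem annihilator_minorIdeal_of_injective {R : Type u} [CommRing R] (m n : ℕ)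
    (M : Matrix (Fin n) (Fin m) R) (h : Function.Injective (Matrix.mulVecLin M)) :
    (CAlgX.minorIdeal M m).annihilator = ⊥ := by
  rw [eq_bot_iff]
  intro a ha
  rw [Submodule.mem_bot]
  by_contra ha0
  -- `P r` : `a` kills all `r`-minors
  let P : ℕ → Prop := fun r => ∀ (f : Fin r → Fin n) (g : Fin r → Fin m),
    a * (M.submatrix f g).det = 0
  have hPm : P m := by
    intro f g
    rw [Submodule.mem_annihilator] at ha
    exact ha _ (Ideal.subset_span ⟨(f, g), rfl⟩)
  have hP0 : ¬ P 0 := by
    intro h0
    have := h0 Fin.elim0 Fin.elim0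
    simp at this
    exact ha0 this
  -- find `r < m` with `¬ P r` and `P (r+1)`
  have hex : ∃ r, r < m ∧ ¬ P r ∧ P (r + 1) := by
    by_contra hcon
    push Not at hcon
    have : ∀ r, r ≤ m → ¬ P r := by
      intro r
      induction r with
      | zero => intro _; exact hP0
      | succ r ih =>
        intro hr hPr
        exact hcon r (by omega) (ih (by omega)) hPr
    exact this m le_rfl hPm
  obtain ⟨r, hrm, hPr, hPr1⟩ := hex
  simp only [P] at hPr
  push Not at hPr
  obtain ⟨f, g, hfg⟩ := hPr
  -- a column not in the range of `g`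
  have hj0 : ∃ j0 : Fin m, ∀ k, g k ≠ j0 := by
    by_contra hcon
    push Not at hcon
    have hsurj : Function.Surjective g := hcon
    have := Fintype.card_le_of_surjective g hsurj
    simp at this
    omega
  obtain ⟨j0, hj0⟩ := hj0
  let g' : Fin (r + 1) → Fin m := Fin.cons j0 g
  let w : Fin (r + 1) → R := fun k => a * ((-1) ^ (k : ℕ) *
    (M.submatrix f (g' ∘ Fin.succAbove k)).det)
  let v : Fin m → R := fun j => ∑ k, if g' k = j then w k else 0
  have hMv : M *ᵥ v = 0 := by
    ext i
    simp only [Matrix.mulVec, dotProduct, Pi.zero_apply, v]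
    have h1 : ∑ j, M i j * ∑ k, (if g' k = j then w k else 0) = ∑ k, M i (g' k) * w k := by
      simp_rw [Finset.mul_sum]
      rw [Finset.sum_comm]
      apply Finset.sum_congr rfl
      intro k _
      simp
    rw [h1]
    have h2 := hPr1 (Fin.cons i f) g'
    rw [Matrix.det_succ_row_zero, Finset.mul_sum] at h2
    rw [← h2]
    apply Finset.sum_congr rfl
    intro k _
    simp only [w, Matrix.submatrix_apply, Fin.cons_zero]
    have : (M.submatrix (Fin.cons i f : Fin (r+1) → Fin n) g').submatrix Fin.succ (Fin.succAbove k)
        = M.submatrix f (g' ∘ Fin.succAbove k) := by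
      ext x y
      simp
    rw [this]
    ring
  have hv0 : v = 0 := by
    apply h
    change M *ᵥ v = M *ᵥ 0
    rw [hMv, Matrix.mulVec_zero]
  have hvj0 : v j0 = a * (M.submatrix f g).det := by
    simp only [v]
    rw [Fin.sum_univ_succ]
    have h1 : g' 0 = j0 := by simp [g']
    have h2 : ∀ k : Fin r, g' k.succ ≠ j0 := by
      intro k
      simp [g', hj0 k]
    simp only [h1, if_true, h2, if_false, Finset.sum_const_zero, add_zero, w]
    have : g' ∘ Fin.succAbove 0 = g := by
      ext x
      simp [g']
    rw [this]
    simp
  rw [hv0] at hvj0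
  exact hfg hvj0.symm

/-- McCoy's theorem in terms of the ideal of maximal minors. -/
theorem mulVecLin_injective_iff_annihilator_minorIdeal {R : Type u} [CommRing R] (m n : ℕ)
    (M : Matrix (Fin n) (Fin m) R) :
    Function.Injective (Matrix.mulVecLin M) ↔ (CAlgX.minorIdeal M m).annihilator = ⊥ :=
  ⟨annihilator_minorIdeal_of_injective m n M, injective_of_annihilator_minorIdeal m n M⟩

/-- If the annihilator of the ideal of `m`-minors vanishes (and the ring is nontrivial),
the rank of the matrix is `m`. -/
theorem matrixRank_eq_of_annihilator {R : Type u} [CommRing R] [Nontrivial R] (m n : ℕ)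
    (M : Matrix (Fin n) (Fin m) R) (h : (CAlgX.minorIdeal M m).annihilator = ⊥) :
    CAlgX.matrixRank M = m := by
  unfold CAlgX.matrixRank
  apply IsGreatest.csSup_eq
  constructor
  · simp only [Set.mem_setOf_eq]
    intro h0
    rw [h0, Submodule.annihilator_bot] at h
    exact top_ne_bot h
  · intro r hr
    simp only [Set.mem_setOf_eq] at hr
    by_contra hlt
    push Not at hlt
    exact hr (minorIdeal_eq_bot_of_lt m n M r hlt)

/-- McCoy's theorem in the rank formulation. -/
theorem mulVecLin_injective_iff_rank {R : Type u} [CommRing R] [Nontrivial R] (m n : ℕ)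
    (M : Matrix (Fin n) (Fin m) R) :
    Function.Injective (Matrix.mulVecLin M) ↔
      CAlgX.matrixRank M = m ∧ (CAlgX.detIdeal M).annihilator = ⊥ := by
  rw [mulVecLin_injective_iff_annihilator_minorIdeal]
  constructor
  · intro h
    have hr := matrixRank_eq_of_annihilator m n M h
    refine ⟨hr, ?_⟩
    unfold CAlgX.detIdeal
    rw [hr]; exact h
  · rintro ⟨hr, h⟩
    unfold CAlgX.detIdeal at h
    rw [hr] at h; exact h

end Groth.Agent.H14
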