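import Groth.Prelude.Def_Found
import Mathlib

/-!
# N-1 / N-2 under localization

`H14.finite_integralClosure_of_isLocalization`: if the integral closure of `R` in a field `L` is a
finite `R`-module then the integral closure of `M⁻¹R` in `L` is a finite `M⁻¹R`-module.
-/

set_option autoImplicit false
universe u

namespace H14

theorem finite_integralClosure_of_isLocalization {R S L : Type*} [CommRing R] [CommRing S]
    [CommRing L] (M : Submonoid R) [Algebra R S] [IsLocalization M S] [Algebra R L] [Algebra S L]
    [IsScalarTower R S L] (h : Module.Finite R (integralClosure R L)) :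
    Module.Finite S (integralClosure S L) := by
  have h' : (Subalgebra.toSubmodule (integralClosure R L)).FG :=
    (Module.Finite.iff_fg (N := Subalgebra.toSubmodule (integralClosure R L))).mp h
  obtain ⟨s, hs⟩ := h'
  refine (Module.Finite.iff_fg (N := Subalgebra.toSubmodule (integralClosure S L))).mpr ⟨s, ?_⟩
  apply le_antisymm
  · rw [Submodule.span_le]
    intro b hb
    have hb' : b ∈ Subalgebra.toSubmodule (integralClosure R L) := hs ▸ Submodule.subset_span hb
    exact IsIntegral.tower_top (A := S) hb'
  · intro z hz
    obtain ⟨m, hm⟩ := IsIntegral.exists_multiple_integral_of_isLocalization M z hz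
    have h1 : m • z ∈ Submodule.span R (s : Set L) := by
      rw [hs]; exact hm
    have h2 : m • z ∈ Submodule.span S (s : Set L) :=
      Submodule.span_le_restrictScalars R S _ h1
    obtain ⟨u, hu⟩ := IsLocalization.map_units S m
    have h3 : z = (↑u⁻¹ : S) • (m • z) := by
      rw [Submonoid.smul_def, ← algebraMap_smul S (m : R) z, ← hu, smul_smul, Units.inv_mul,
        one_smul]
    rw [h3]
    exact Submodule.smul_mem _ _ h2


theorem le_nonZeroDivisors_of_isLocalization {R S : Type*} [CommRing R] [IsDomain R] [CommRing S]
    [Nontrivial S] (M : Submonoid R) [Algebra R S] [IsLocalization M S] :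
    M ≤ nonZeroDivisors R := by
  intro m hm
  rw [mem_nonZeroDivisors_iff_ne_zero]
  rintro rfl
  have := IsLocalization.map_units S (⟨0, hm⟩ : M)
  simp at this

section

variable (R : Type u) [CommRing R] [IsDomain R] (M : Submonoid R)
    (S : Type u) [CommRing S] [IsDomain S] [Algebra R S] [IsLocalization M S]

/-- the `S`-algebra structure on `Frac R` for a localization `S` of a domain `R`. -/
@[reducible] noncomputable def algebraFractionRing : Algebra S (FractionRing R) :=
  (IsLocalization.lift (M := M) (g := algebraMap R (FractionRing R))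
    (fun y => IsLocalization.map_units (FractionRing R)
      (⟨y.1, le_nonZeroDivisors_of_isLocalization (S := S) M y.2⟩ : nonZeroDivisors R))).toAlgebra

theorem isScalarTower_fractionRing :
    letI := algebraFractionRing R M S
    IsScalarTower R S (FractionRing R) := by
  letI := algebraFractionRing R M S
  exact IsScalarTower.of_algebraMap_eq (fun x => (IsLocalization.lift_eq _ x).symm)

theorem isFractionRing_fractionRing :
    letI := algebraFractionRing R M S
    IsFractionRing S (FractionRing R) := by
  letI := algebraFractionRing R M S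
  haveI := isScalarTower_fractionRing R M S
  exact IsFractionRing.isFractionRing_of_isDomain_of_isLocalization M S (FractionRing R)

include M in
theorem isN1_of_isLocalization (h : CAlg.IsN1 R) : CAlg.IsN1 S := by
  unfold CAlg.IsN1 at h ⊢
  letI := algebraFractionRing R M S
  haveI := isScalarTower_fractionRing R M S
  haveI := isFractionRing_fractionRing R M S
  have h1 : Module.Finite S (integralClosure S (FractionRing R)) :=
    finite_integralClosure_of_isLocalization M h
  let e : FractionRing S ≃ₐ[S] FractionRing R := FractionRing.algEquiv S (FractionRing R)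
  exact Module.Finite.equiv e.mapIntegralClosure.symm.toLinearEquiv

include M in
theorem isN2_of_isLocalization (h : CAlg.IsN2 R) : CAlg.IsN2 S := by
  intro L _ _ _ _ hfin
  letI := algebraFractionRing R M S
  haveI := isScalarTower_fractionRing R M S
  haveI := isFractionRing_fractionRing R M S
  let e : FractionRing S ≃ₐ[S] FractionRing R := FractionRing.algEquiv S (FractionRing R)
  letI : Algebra R L := ((algebraMap S L).comp (algebraMap R S)).toAlgebra
  haveI : IsScalarTower R S L := IsScalarTower.of_algebraMap_eq (fun _ => rfl)
  letI : Algebra (FractionRing R) (FractionRing S) := e.symm.toRingEquiv.toRingHom.toAlgebra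
  letI : Algebra (FractionRing R) L :=
    ((algebraMap (FractionRing S) L).comp (algebraMap (FractionRing R) (FractionRing S))).toAlgebra
  haveI : IsScalarTower (FractionRing R) (FractionRing S) L :=
    IsScalarTower.of_algebraMap_eq (fun _ => rfl)
  haveI : IsScalarTower R (FractionRing R) L := IsScalarTower.of_algebraMap_eq (fun r => by
    change algebraMap S L (algebraMap R S r) =
      algebraMap (FractionRing S) L (e.symm (algebraMap R (FractionRing R) r))
    rw [IsScalarTower.algebraMap_apply R S (FractionRing R), AlgEquiv.commutes,
      ← IsScalarTower.algebraMap_apply S (FractionRing S) L])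
  haveI : Module.Finite (FractionRing R) (FractionRing S) :=
    Module.Finite.of_surjective (Algebra.linearMap (FractionRing R) (FractionRing S))
      e.symm.surjective
  haveI : Module.Finite (FractionRing S) L := hfin
  have hfin' : FiniteDimensional (FractionRing R) L := Module.Finite.trans (FractionRing S) L
  exact finite_integralClosure_of_isLocalization M (h L hfin')

end

end H14

namespace H14

/-- `Module.Finite.of_localizationSpan'` for a family indexed by an arbitrary type. -/
theorem finite_of_isLocalizedModule_family {R : Type*} [CommRing R] {M : Type*} [AddCommGroup M]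
    [Module R M] {ι : Type*} (f : ι → R) (hf : Ideal.span (Set.range f) = ⊤)
    {Mₚ : ι → Type*} [∀ i, AddCommGroup (Mₚ i)] [∀ i, Module R (Mₚ i)]
    {Rₚ : ι → Type*} [∀ i, CommRing (Rₚ i)] [∀ i, Algebra R (Rₚ i)]
    [h₁ : ∀ i, IsLocalization.Away (f i) (Rₚ i)]
    [∀ i, Module (Rₚ i) (Mₚ i)] [∀ i, IsScalarTower R (Rₚ i) (Mₚ i)]
    (g : ∀ i, M →ₗ[R] Mₚ i) [h₂ : ∀ i, IsLocalizedModule.Away (f i) (g i)]
    (H : ∀ i, Module.Finite (Rₚ i) (Mₚ i)) : Module.Finite R M := by
  classical
  let c : Set.range f → ι := fun r => r.2.choose
  have hc : ∀ r : Set.range f, f (c r) = r.1 := fun r => r.2.choose_spec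
  refine Module.Finite.of_localizationSpan' (Set.range f) hf
    (Mₚ := fun r => Mₚ (c r)) (Rₚ := fun r => Rₚ (c r))
    (h₁ := fun r => by rw [← hc r]; exact h₁ (c r))
    (fun r => g (c r)) (h₂ := fun r => by rw [← hc r]; exact h₂ (c r)) (fun r => H (c r))

end H14

namespace H14

section

variable {R Ri L : Type*} [CommRing R] [CommRing Ri] [CommRing L] [Algebra R Ri] [Algebra R L]
  [Algebra Ri L] [IsScalarTower R Ri L]

variable (R Ri L) in
/-- inclusion of the integral closures -/
def integralClosureIncl : integralClosure R L →ₗ[R] integralClosure Ri L where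
  toFun x := ⟨x.1, x.2.tower_top⟩
  map_add' _ _ := rfl
  map_smul' r x := by
    ext
    simp

theorem isLocalizedModule_integralClosureIncl (f : R) [IsLocalization.Away f Ri] :
    IsLocalizedModule.Away f (integralClosureIncl R Ri L) where
  map_units := by
    rintro ⟨_, n, rfl⟩
    obtain ⟨u, hu⟩ := IsLocalization.map_units Ri (⟨f ^ n, n, rfl⟩ : Submonoid.powers f)
    rw [Module.End.isUnit_iff]
    have hact : ∀ m : integralClosure Ri L, (f ^ n) • m = (u : Ri) • m := by
      intro m
      rw [hu]
      exact (algebraMap_smul Ri (f ^ n) m).symm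
    constructor
    · intro m₁ m₂ h
      simp only [Module.algebraMap_end_apply] at h
      rw [hact, hact] at h
      have := congrArg (fun m => (↑u⁻¹ : Ri) • m) h
      simpa [smul_smul] using this
    · intro m
      refine ⟨(↑u⁻¹ : Ri) • m, ?_⟩
      simp only [Module.algebraMap_end_apply]
      rw [hact, smul_smul, Units.mul_inv, one_smul]
  surj := by
    rintro ⟨z, hz⟩
    obtain ⟨m, hm⟩ := IsIntegral.exists_multiple_integral_of_isLocalization
      (Submonoid.powers f) z hz
    exact ⟨⟨⟨m • z, hm⟩, m⟩, by ext; rfl⟩
  exists_of_eq := by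
    intro x₁ x₂ h
    refine ⟨1, ?_⟩
    have : x₁ = x₂ := by
      ext
      exact congrArg (fun y : integralClosure Ri L => (y : L)) h
    rw [this]

end

/-- finiteness of integral closure in `L` can be checked on a cover by principal opens. -/
theorem finite_integralClosure_of_cover {R L : Type*} [CommRing R] [CommRing L] [Algebra R L]
    {ι : Type*} (f : ι → R) (hf : Ideal.span (Set.range f) = ⊤)
    (Rf : ι → Type*) [∀ i, CommRing (Rf i)] [∀ i, Algebra R (Rf i)]
    [∀ i, IsLocalization.Away (f i) (Rf i)] [∀ i, Algebra (Rf i) L]
    [∀ i, IsScalarTower R (Rf i) L]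
    (H : ∀ i, Module.Finite (Rf i) (integralClosure (Rf i) L)) :
    Module.Finite R (integralClosure R L) := by
  haveI : ∀ i, IsLocalizedModule.Away (f i) (integralClosureIncl R (Rf i) L) :=
    fun i => isLocalizedModule_integralClosureIncl (f i)
  exact finite_of_isLocalizedModule_family f hf (Rₚ := Rf)
    (fun i => integralClosureIncl R (Rf i) L) H

end H14


namespace H14

/-- transfer of the N-2 condition to an arbitrary fraction field -/
theorem finite_integralClosure_of_isN2 (S : Type u) [CommRing S] [IsDomain S] (K' : Type u)
    [Field K'] [Algebra S K'] [IsFractionRing S K'] (h : CAlg.IsN2 S) (L : Type u) [Field L]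
    [Algebra S L] [Algebra K' L] [IsScalarTower S K' L] [FiniteDimensional K' L] :
    Module.Finite S (integralClosure S L) := by
  let e : FractionRing S ≃ₐ[S] K' := FractionRing.algEquiv S K'
  letI : Algebra (FractionRing S) K' := e.toRingEquiv.toRingHom.toAlgebra
  letI : Algebra (FractionRing S) L :=
    ((algebraMap K' L).comp (algebraMap (FractionRing S) K')).toAlgebra
  haveI : IsScalarTower (FractionRing S) K' L := IsScalarTower.of_algebraMap_eq (fun _ => rfl)
  haveI : IsScalarTower S (FractionRing S) L := IsScalarTower.of_algebraMap_eq (fun r => by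
    change algebraMap S L r = algebraMap K' L (e (algebraMap S (FractionRing S) r))
    rw [AlgEquiv.commutes, ← IsScalarTower.algebraMap_apply S K' L])
  haveI : Module.Finite (FractionRing S) K' :=
    Module.Finite.of_surjective (Algebra.linearMap (FractionRing S) K') e.surjective
  have hfin' : FiniteDimensional (FractionRing S) L := Module.Finite.trans K' L
  exact h L hfin'

section

variable (R : Type u) [CommRing R] [IsDomain R]
    {ι : Type u} (f : ι → R) (hf : Ideal.span (Set.range f) = ⊤)
    (Rf : ι → Type u) [∀ i, CommRing (Rf i)] [∀ i, IsDomain (Rf i)] [∀ i, Algebra R (Rf i)]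
    [∀ i, IsLocalization.Away (f i) (Rf i)]

include hf in
theorem isN1_of_cover (h : ∀ i, CAlg.IsN1 (Rf i)) : CAlg.IsN1 R := by
  unfold CAlg.IsN1
  letI : ∀ i, Algebra (Rf i) (FractionRing R) :=
    fun i => algebraFractionRing R (Submonoid.powers (f i)) (Rf i)
  haveI : ∀ i, IsScalarTower R (Rf i) (FractionRing R) :=
    fun i => isScalarTower_fractionRing R (Submonoid.powers (f i)) (Rf i)
  haveI : ∀ i, IsFractionRing (Rf i) (FractionRing R) :=
    fun i => isFractionRing_fractionRing R (Submonoid.powers (f i)) (Rf i)
  refine finite_integralClosure_of_cover f hf Rf fun i => ?_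
  let e : FractionRing (Rf i) ≃ₐ[Rf i] FractionRing R := FractionRing.algEquiv (Rf i) (FractionRing R)
  haveI : Module.Finite (Rf i) (integralClosure (Rf i) (FractionRing (Rf i))) := h i
  exact Module.Finite.equiv e.mapIntegralClosure.toLinearEquiv

include hf in
theorem isN2_of_cover (h : ∀ i, CAlg.IsN2 (Rf i)) : CAlg.IsN2 R := by
  intro L _ _ _ _ hfin
  letI : ∀ i, Algebra (Rf i) (FractionRing R) :=
    fun i => algebraFractionRing R (Submonoid.powers (f i)) (Rf i)
  haveI : ∀ i, IsScalarTower R (Rf i) (FractionRing R) :=
    fun i => isScalarTower_fractionRing R (Submonoid.powers (f i)) (Rf i)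
  haveI : ∀ i, IsFractionRing (Rf i) (FractionRing R) :=
    fun i => isFractionRing_fractionRing R (Submonoid.powers (f i)) (Rf i)
  letI : ∀ i, Algebra (Rf i) L := fun i =>
    ((algebraMap (FractionRing R) L).comp (algebraMap (Rf i) (FractionRing R))).toAlgebra
  haveI : ∀ i, IsScalarTower (Rf i) (FractionRing R) L :=
    fun i => IsScalarTower.of_algebraMap_eq (fun _ => rfl)
  haveI : ∀ i, IsScalarTower R (Rf i) L := fun i => IsScalarTower.of_algebraMap_eq (fun r => by
    change algebraMap R L r = algebraMap (FractionRing R) L
      (algebraMap (Rf i) (FractionRing R) (algebraMap R (Rf i) r))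
    rw [← IsScalarTower.algebraMap_apply R (Rf i) (FractionRing R),
      ← IsScalarTower.algebraMap_apply R (FractionRing R) L])
  haveI : FiniteDimensional (FractionRing R) L := hfin
  exact finite_integralClosure_of_cover f hf Rf fun i =>
    finite_integralClosure_of_isN2 (Rf i) (FractionRing R) (h i) L

end

end H14
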