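import Mathlib

set_option autoImplicit false
universe u

namespace H14S9644

open PrimeSpectrum

variable (R : Type u) [CommRing R] [IsNoetherianRing R] (M : Type u) [AddCommGroup M] [Module R M]
  [Module.Finite R M]

/-- minimal points of the support -/
def mins : Set (PrimeSpectrum R) := {p | Minimal (fun x => x ∈ Module.support R M) p}

theorem exists_mins_le {x : PrimeSpectrum R} (hx : x ∈ Module.support R M) :
    ∃ p ∈ mins R M, p ≤ x := by
  rw [Module.support_eq_zeroLocus, mem_zeroLocus, SetLike.coe_subset_coe] at hx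
  obtain ⟨p, hp, hpx⟩ := Ideal.exists_minimalPrimes_le hx
  have hpp : p.IsPrime := hp.isPrime
  refine ⟨⟨p, hpp⟩, ⟨?_, ?_⟩, hpx⟩
  · change (⟨p, hpp⟩ : PrimeSpectrum R) ∈ Module.support R M
    rw [Module.support_eq_zeroLocus, mem_zeroLocus, SetLike.coe_subset_coe]
    exact hp.le
  · intro y hy hyp
    change y ∈ Module.support R M at hy
    rw [Module.support_eq_zeroLocus, mem_zeroLocus, SetLike.coe_subset_coe] at hy
    exact hp.2 ⟨y.2, hy⟩ hyp

theorem asIdeal_mem_minimalPrimes {p : PrimeSpectrum R} (hp : p ∈ mins R M) :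
    p.asIdeal ∈ (Module.annihilator R M).minimalPrimes := by
  have h1 := hp.1
  rw [Module.support_eq_zeroLocus, mem_zeroLocus, SetLike.coe_subset_coe] at h1
  refine ⟨⟨p.2, h1⟩, ?_⟩
  rintro q ⟨hq, hqa⟩ hqp
  have : (⟨q, hq⟩ : PrimeSpectrum R) ∈ Module.support R M := by
    rw [Module.support_eq_zeroLocus, mem_zeroLocus, SetLike.coe_subset_coe]
    exact hqa
  exact hp.2 this hqp

theorem finite_mins : (mins R M).Finite := by
  have hfin := Ideal.finite_minimalPrimes_of_isNoetherianRing R (Module.annihilator R M)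
  refine Set.Finite.subset (hfin.preimage (f := PrimeSpectrum.asIdeal) ?_) ?_
  · intro a _ b _ hab
    exact PrimeSpectrum.ext hab
  · intro p hp
    exact asIdeal_mem_minimalPrimes R M hp

/-- the submodule of elements vanishing at all generic points of the support -/
def K : Submodule R M where
  carrier := {m | ∀ p ∈ mins R M, ∃ s ∉ p.asIdeal, s • m = 0}
  add_mem' := by
    intro a b ha hb p hp
    obtain ⟨s, hs, hsa⟩ := ha p hp
    obtain ⟨t, ht, htb⟩ := hb p hp
    refine ⟨s * t, fun h => (p.2.mem_or_mem h).elim hs ht, ?_⟩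
    rw [smul_add, mul_comm, mul_smul, hsa, smul_zero, mul_comm, mul_smul, htb, smul_zero, add_zero]
  zero_mem' := fun p _ => ⟨1, fun h => p.2.ne_top ((Ideal.eq_top_iff_one _).mpr h), smul_zero _⟩
  smul_mem' := by
    intro c a ha p hp
    obtain ⟨s, hs, hsa⟩ := ha p hp
    exact ⟨s, hs, by rw [smul_comm, hsa, smul_zero]⟩

theorem mem_K {m : M} : m ∈ K R M ↔ ∀ p ∈ mins R M, ∃ s ∉ p.asIdeal, s • m = 0 := Iff.rfl

theorem le_K_iff (K' : Submodule R M) :
    K' ≤ K R M ↔ ∀ p ∈ mins R M, p ∉ Module.support R ↥K' := by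
  constructor
  · intro h p hp
    rw [Module.notMem_support_iff']
    intro k
    obtain ⟨s, hs, hsk⟩ := h k.2 p hp
    exact ⟨s, hs, Subtype.ext hsk⟩
  · intro h k hk p hp
    have := h p hp
    rw [Module.notMem_support_iff'] at this
    obtain ⟨s, hs, hsk⟩ := this ⟨k, hk⟩
    exact ⟨s, hs, congrArg Subtype.val hsk⟩

theorem isClosed_support_sub (K' : Submodule R M) : IsClosed (Module.support R ↥K') := by
  rw [Module.support_eq_zeroLocus]
  exact isClosed_zeroLocus _

theorem support_sub_subset (K' : Submodule R M) : Module.support R ↥K' ⊆ Module.support R M :=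
  Module.support_subset_of_injective K'.subtype K'.injective_subtype

theorem nowhereDense_iff (K' : Submodule R M) :
    (∀ U : Set (PrimeSpectrum R), IsOpen U →
      U ∩ Module.support R M ⊆ closure (Module.support R ↥K') → U ∩ Module.support R M = ∅) ↔
      ∀ p ∈ mins R M, p ∉ Module.support R ↥K' := by
  rw [(isClosed_support_sub R M K').closure_eq]
  constructor
  · intro h p hp hpK
    classical
    -- the open complement of the other components
    let Z : Set (PrimeSpectrum R) := ⋃ p' ∈ (mins R M) \ {p}, zeroLocus (p'.asIdeal : Set R)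
    have hZ : IsClosed Z :=
      ((finite_mins R M).subset Set.sdiff_subset).isClosed_biUnion fun _ _ => isClosed_zeroLocus _
    have hpZ : p ∉ Z := by
      intro hpz
      simp only [Z, Set.mem_iUnion, exists_prop] at hpz
      obtain ⟨p', ⟨hp', hne⟩, hle⟩ := hpz
      rw [mem_zeroLocus, SetLike.coe_subset_coe] at hle
      exact hne (le_antisymm hle (hp.2 hp'.1 hle))
    have hsub : Zᶜ ∩ Module.support R M ⊆ Module.support R ↥K' := by
      rintro x ⟨hxZ, hxM⟩
      obtain ⟨p'', hp'', hle⟩ := exists_mins_le R M hxM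
      have : p'' = p := by
        by_contra hne
        apply hxZ
        simp only [Z, Set.mem_iUnion, exists_prop]
        exact ⟨p'', ⟨hp'', hne⟩, by rwa [mem_zeroLocus, SetLike.coe_subset_coe]⟩
      subst this
      exact Module.mem_support_mono hle hpK
    have := h Zᶜ hZ.isOpen_compl hsub
    exact (Set.eq_empty_iff_forall_notMem.mp this) p ⟨hpZ, hp.1⟩
  · intro h U hU hsub
    rw [Set.eq_empty_iff_forall_notMem]
    rintro x ⟨hxU, hxM⟩
    obtain ⟨p, hp, hle⟩ := exists_mins_le R M hxM
    have hpU : p ∈ U := hU.stableUnderGeneralization ((le_iff_specializes p x).mp hle) hxU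
    exact h p hp (hsub ⟨hpU, hp.1⟩)

theorem mins_subset_support_quot {p : PrimeSpectrum R} (hp : p ∈ mins R M) :
    p ∈ Module.support R (M ⧸ K R M) := by
  obtain ⟨m, hm⟩ := Module.mem_support_iff'.mp hp.1
  rw [Module.mem_support_iff']
  refine ⟨Submodule.Quotient.mk m, ?_⟩
  intro r hr h0
  rw [← Submodule.Quotient.mk_smul, Submodule.Quotient.mk_eq_zero] at h0
  obtain ⟨s, hs, hsr⟩ := h0 p hp
  rw [smul_smul] at hsr
  exact hm (s * r) (fun h => (p.2.mem_or_mem h).elim hs hr) hsr

theorem support_quot : Module.support R (M ⧸ K R M) = Module.support R M := by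
  apply subset_antisymm
  · exact Module.support_subset_of_surjective _ (Submodule.mkQ_surjective _)
  · intro x hx
    obtain ⟨p, hp, hle⟩ := exists_mins_le R M hx
    exact Module.mem_support_mono hle (mins_subset_support_quot R M hp)

theorem ass_quot_subset_mins {q : Ideal R} (hq : q ∈ associatedPrimes R (M ⧸ K R M)) :
    ∃ p ∈ mins R M, p.asIdeal = q := by
  rw [AssociatedPrimes.mem_iff, isAssociatedPrime_iff] at hq
  obtain ⟨hqp, mbar, hqm⟩ := hq
  obtain ⟨m, rfl⟩ := Submodule.Quotient.mk_surjective _ mbar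
  have hmK : m ∉ K R M := by
    intro hm
    apply hqp.ne_top
    rw [hqm, Ideal.eq_top_iff_one, Submodule.mem_colon_singleton, one_smul, Submodule.mem_bot,
      Submodule.Quotient.mk_eq_zero]
    exact hm
  rw [mem_K] at hmK
  push Not at hmK
  obtain ⟨p, hp, hpm⟩ := hmK
  have hqle : q ≤ p.asIdeal := by
    intro s hs
    by_contra hsp
    rw [hqm, Submodule.mem_colon_singleton, Submodule.mem_bot, ← Submodule.Quotient.mk_smul,
      Submodule.Quotient.mk_eq_zero] at hs
    obtain ⟨t, ht, hts⟩ := hs p hp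
    rw [smul_smul] at hts
    exact hpm (t * s) (fun h => (p.2.mem_or_mem h).elim ht hsp) hts
  have hqsupp : (⟨q, hqp⟩ : PrimeSpectrum R) ∈ Module.support R M := by
    rw [← support_quot R M, Module.mem_support_iff_exists_annihilator]
    refine ⟨Submodule.Quotient.mk m, ?_⟩
    intro s hs
    rw [Submodule.mem_annihilator_span_singleton] at hs
    change s ∈ q
    rw [hqm, Submodule.mem_colon_singleton, Submodule.mem_bot]
    exact hs
  refine ⟨p, hp, le_antisymm (hp.2 hqsupp hqle) hqle⟩

theorem mins_subset_ass {p : PrimeSpectrum R} (hp : p ∈ mins R M) :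
    p.asIdeal ∈ associatedPrimes R M :=
  Module.associatedPrimes.minimalPrimes_annihilator_subset_associatedPrimes R M
    (asIdeal_mem_minimalPrimes R M hp)

theorem exists_pow_smul_K_eq_zero (f : R)
    (hf : ∀ p ∈ associatedPrimes R M, ¬ Minimal (fun x => x ∈ associatedPrimes R M) p → f ∈ p) :
    ∃ n : ℕ, ∀ k ∈ K R M, f ^ n • k = 0 := by
  have hrad : f ∈ (Module.annihilator R ↥(K R M)).radical := by
    rw [← Ideal.sInf_minimalPrimes, Ideal.mem_sInf]
    intro q hq
    have hqK : q ∈ associatedPrimes R ↥(K R M) :=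
      Module.associatedPrimes.minimalPrimes_annihilator_subset_associatedPrimes R _ hq
    have hqM : q ∈ associatedPrimes R M :=
      associatedPrimes.subset_of_injective (K R M).injective_subtype hqK
    apply hf q hqM
    intro hmin
    have hqp : q.IsPrime := hq.isPrime
    have hqsupp : (⟨q, hqp⟩ : PrimeSpectrum R) ∈ Module.support R M := by
      rw [Module.support_eq_zeroLocus, mem_zeroLocus, SetLike.coe_subset_coe]
      have := IsAssociatedPrime.annihilator_le hqM
      rwa [Submodule.annihilator_top] at this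
    obtain ⟨p, hp, hle⟩ := exists_mins_le R M hqsupp
    have hpq : p.asIdeal = q :=
      le_antisymm hle (hmin.2 (mins_subset_ass R M hp) hle)
    have h1 : p ∉ Module.support R ↥(K R M) := (le_K_iff R M (K R M)).mp le_rfl p hp
    apply h1
    rw [Module.support_eq_zeroLocus, mem_zeroLocus, SetLike.coe_subset_coe, hpq]
    exact hq.1.2
  obtain ⟨n, hn⟩ := hrad
  refine ⟨n, fun k hk => ?_⟩
  have := Module.mem_annihilator.mp hn ⟨k, hk⟩
  exact congrArg Subtype.val this

theorem map_mkQ_bijective (f : R)
    (hf : ∀ p ∈ associatedPrimes R M, ¬ Minimal (fun x => x ∈ associatedPrimes R M) p → f ∈ p) :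
    Function.Bijective (LocalizedModule.map (Submonoid.powers f) (K R M).mkQ) := by
  refine ⟨?_, LocalizedModule.map_surjective _ _ (Submodule.mkQ_surjective _)⟩
  obtain ⟨n, hn⟩ := exists_pow_smul_K_eq_zero R M f hf
  rw [injective_iff_map_eq_zero]
  intro x hx
  induction x using LocalizedModule.induction_on with
  | h m s =>
    rw [LocalizedModule.map_mk, ← LocalizedModule.zero_mk s, LocalizedModule.mk_eq] at hx
    obtain ⟨u, hu⟩ := hx
    rw [smul_zero, smul_zero, Submonoid.smul_def, Submonoid.smul_def, ← mul_smul,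
      Submodule.mkQ_apply, ← Submodule.Quotient.mk_smul, Submodule.Quotient.mk_eq_zero] at hu
    have h2 := hn _ hu
    rw [← LocalizedModule.zero_mk s, LocalizedModule.mk_eq]
    refine ⟨⟨f ^ n, n, rfl⟩ * u, ?_⟩
    rw [smul_zero, smul_zero, Submonoid.smul_def, Submonoid.smul_def, Submonoid.coe_mul, ← h2,
      mul_smul, mul_smul]

end H14S9644
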