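import Mathlib
import Groth.Prelude.Def_CAlgX
import Groth.Agent.Lib.helper14.FSAdic
import Groth.Agent.Lib.helper14.FSAdicLift

/-!
# Formal projectivity of the module of differentials of an adically formally smooth algebra
-/

set_option autoImplicit false
universe u

namespace H14.OmegaHat

open TensorProduct

section
variable {R S T : Type u} [CommRing R] [CommRing S] [CommRing T] [Algebra R S] [Algebra S T]
  [Algebra R T] [IsScalarTower R S T]
  {L P : Type u} [AddCommGroup L] [AddCommGroup P]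
  [Module T L] [Module T P] [Module S L] [Module S P]
  [IsScalarTower S T L] [IsScalarTower S T P]
  [Module R L] [Module R P] [IsScalarTower R S L] [IsScalarTower R S P]
  [Module Tᵐᵒᵖ L] [IsCentralScalar T L] [Module Tᵐᵒᵖ P] [IsCentralScalar T P]

/-- lifting of derivations along surjections of `T`-modules, `T` a discrete quotient of `S`. -/
theorem exists_derivation_lift_aux (𝔫 : Ideal S)
    (h : CAlgX.IsAdicFormallySmooth R S 𝔫) (N : ℕ) (hT : ∀ x ∈ 𝔫 ^ N, algebraMap S T x = 0)
    (f : L →ₗ[T] P) (hf : Function.Surjective f) (D'' : Derivation R S P) :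
    ∃ D : Derivation R S L, ∀ a, f (D a) = D'' a := by
  classical
  letI : Algebra R (TrivSqZeroExt T L) :=
    ((algebraMap T (TrivSqZeroExt T L)).comp (algebraMap R T)).toAlgebra
  letI : Algebra R (TrivSqZeroExt T P) :=
    ((algebraMap T (TrivSqZeroExt T P)).comp (algebraMap R T)).toAlgebra
  have hsmulL : ∀ (a : S) (l : L), a • l = (algebraMap S T a) • l := by
    intro a l
    rw [algebraMap_smul]
  have hsmulP : ∀ (a : S) (l : P), a • l = (algebraMap S T a) • l := by
    intro a l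
    rw [algebraMap_smul]
  -- the surjection
  let p : TrivSqZeroExt T L →ₐ[R] TrivSqZeroExt T P :=
    { (TrivSqZeroExt.map f).toRingHom with
      commutes' := by
        intro r
        change TrivSqZeroExt.map f (algebraMap T (TrivSqZeroExt T L) (algebraMap R T r)) =
          algebraMap T (TrivSqZeroExt T P) (algebraMap R T r)
        exact (TrivSqZeroExt.map f).commutes _ }
  have hp_apply : ∀ c : TrivSqZeroExt T L, p c = TrivSqZeroExt.map f c := fun c => rfl
  have hp : Function.Surjective p := by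
    intro c'
    obtain ⟨l, hl⟩ := hf c'.snd
    refine ⟨TrivSqZeroExt.inl c'.fst + TrivSqZeroExt.inr l, ?_⟩
    rw [hp_apply]
    ext
    · simp
    · simp [hl]
  have hker : ∀ c : TrivSqZeroExt T L, p c = 0 → c.fst = 0 := by
    intro c hc
    have := congrArg TrivSqZeroExt.fst hc
    rw [hp_apply, TrivSqZeroExt.fst_map, TrivSqZeroExt.fst_zero] at this
    exact this
  have hnil : IsNilpotent (RingHom.ker p.toRingHom) := by
    refine ⟨2, ?_⟩
    rw [Ideal.zero_eq_bot, eq_bot_iff, pow_two, Ideal.mul_le]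
    intro x hx y hy
    have hx' := hker x hx
    have hy' := hker y hy
    rw [Ideal.mem_bot]
    ext
    · rw [TrivSqZeroExt.fst_mul, hx', zero_mul, TrivSqZeroExt.fst_zero]
    · rw [TrivSqZeroExt.snd_mul, hx', hy', zero_smul, MulOpposite.op_zero, zero_smul, add_zero,
        TrivSqZeroExt.snd_zero]
  -- the map u
  let u₀ : S →+* TrivSqZeroExt T P :=
    { toFun := fun a => TrivSqZeroExt.inl (algebraMap S T a) + TrivSqZeroExt.inr (D'' a)
      map_one' := by
        rw [map_one, Derivation.map_one_eq_zero, TrivSqZeroExt.inr_zero, add_zero]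
        rfl
      map_mul' := by
        intro a b
        ext
        · simp only [TrivSqZeroExt.fst_add, TrivSqZeroExt.fst_inl, TrivSqZeroExt.fst_inr, add_zero,
            TrivSqZeroExt.fst_mul, map_mul]
        · simp only [TrivSqZeroExt.snd_add, TrivSqZeroExt.snd_inl, TrivSqZeroExt.snd_inr, zero_add,
            TrivSqZeroExt.snd_mul, TrivSqZeroExt.fst_add, TrivSqZeroExt.fst_inl,
            TrivSqZeroExt.fst_inr, add_zero, Derivation.leibniz, op_smul_eq_smul, hsmulP]
      map_zero' := by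
        rw [map_zero, map_zero, TrivSqZeroExt.inr_zero, add_zero, TrivSqZeroExt.inl_zero]
      map_add' := by
        intro a b
        rw [map_add, map_add, TrivSqZeroExt.inl_add, TrivSqZeroExt.inr_add]
        abel }
  let u : S →ₐ[R] TrivSqZeroExt T P :=
    { u₀ with
      commutes' := by
        intro r
        change TrivSqZeroExt.inl (algebraMap S T (algebraMap R S r)) +
          TrivSqZeroExt.inr (D'' (algebraMap R S r)) =
            algebraMap T (TrivSqZeroExt T P) (algebraMap R T r)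
        rw [Derivation.map_algebraMap, TrivSqZeroExt.inr_zero, add_zero,
          ← IsScalarTower.algebraMap_apply]
        rfl }
  have hu_apply : ∀ a : S, u a =
      TrivSqZeroExt.inl (algebraMap S T a) + TrivSqZeroExt.inr (D'' a) := fun a => rfl
  have hu : ∃ k : ℕ, ∀ x ∈ 𝔫 ^ k, u x = 0 := by
    refine ⟨N + N, fun x hx => ?_⟩
    rw [pow_add] at hx
    have h1 : algebraMap S T x = 0 := hT x (Ideal.mul_le_left hx)
    have h2 : D'' x = 0 := by
      refine Submodule.mul_induction_on hx ?_ ?_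
      · intro y hy z hz
        rw [Derivation.leibniz, hsmulP, hsmulP, hT y hy, hT z hz, zero_smul, zero_smul, add_zero]
      · intro y z hy hz
        rw [map_add, hy, hz, add_zero]
    rw [hu_apply, h1, h2, TrivSqZeroExt.inl_zero, TrivSqZeroExt.inr_zero, add_zero]
  have hFS := (H14.FSAdic.isAdicFormallySmooth_iff 𝔫).1 h
  obtain ⟨v, hv⟩ := H14.FSAdic.lift_of_surjective hFS p hp hnil
    ⟨1, by rw [pow_one, Ideal.map_bot]⟩ u hu
  have hv' : ∀ a, TrivSqZeroExt.map f (v a) = u a := fun a => AlgHom.congr_fun hv a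
  have hfst : ∀ a, (v a).fst = algebraMap S T a := by
    intro a
    have := congrArg TrivSqZeroExt.fst (hv' a)
    rw [TrivSqZeroExt.fst_map, hu_apply, TrivSqZeroExt.fst_add, TrivSqZeroExt.fst_inl,
      TrivSqZeroExt.fst_inr, add_zero] at this
    exact this
  have hsnd : ∀ a, f (v a).snd = D'' a := by
    intro a
    have := congrArg TrivSqZeroExt.snd (hv' a)
    rw [TrivSqZeroExt.snd_map, hu_apply, TrivSqZeroExt.snd_add, TrivSqZeroExt.snd_inl,
      TrivSqZeroExt.snd_inr, zero_add] at this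
    exact this
  have hRL : ∀ (r : R) (l : L), (algebraMap R T r) • l = r • l := by
    intro r l
    rw [IsScalarTower.algebraMap_apply R S T, algebraMap_smul, algebraMap_smul]
  have hsmul_v : ∀ (r : R) (a : S), (v (r • a)).snd = r • (v a).snd := by
    intro r a
    rw [Algebra.smul_def r a, map_mul, AlgHom.commutes]
    change (algebraMap T (TrivSqZeroExt T L) (algebraMap R T r) * v a).snd = _
    rw [TrivSqZeroExt.algebraMap_eq_inl, TrivSqZeroExt.snd_mul, TrivSqZeroExt.fst_inl,
      TrivSqZeroExt.snd_inl, smul_zero, add_zero, hRL]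
  let D₀ : S →ₗ[R] L :=
    { toFun := fun a => (v a).snd
      map_add' := fun a b => by rw [map_add, TrivSqZeroExt.snd_add]
      map_smul' := fun r a => hsmul_v r a }
  refine ⟨Derivation.mk' D₀ ?_, fun a => hsnd a⟩
  intro a b
  change (v (a * b)).snd = a • (v b).snd + b • (v a).snd
  rw [map_mul, TrivSqZeroExt.snd_mul, hfst, hfst, op_smul_eq_smul, ← hsmulL, ← hsmulL]

end

/-- lifting of derivations along surjections of `S/𝔫^N`-modules. -/
theorem exists_derivation_lift {R S : Type u} [CommRing R] [CommRing S] [Algebra R S] (𝔫 : Ideal S)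
    (h : CAlgX.IsAdicFormallySmooth R S 𝔫) (N : ℕ)
    {L P : Type u} [AddCommGroup L] [AddCommGroup P]
    [Module (S ⧸ 𝔫 ^ N) L] [Module (S ⧸ 𝔫 ^ N) P] [Module S L] [Module S P]
    [IsScalarTower S (S ⧸ 𝔫 ^ N) L] [IsScalarTower S (S ⧸ 𝔫 ^ N) P]
    [Module R L] [Module R P] [IsScalarTower R S L] [IsScalarTower R S P]
    (f : L →ₗ[S ⧸ 𝔫 ^ N] P) (hf : Function.Surjective f) (D'' : Derivation R S P) :
    ∃ D : Derivation R S L, ∀ a, f (D a) = D'' a := by
  letI opL : Module (S ⧸ 𝔫 ^ N)ᵐᵒᵖ L :=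
    Module.compHom L ((RingHom.id (S ⧸ 𝔫 ^ N)).fromOpposite (fun _ _ => mul_comm _ _))
  haveI : IsCentralScalar (S ⧸ 𝔫 ^ N) L := ⟨fun _ _ => rfl⟩
  letI opP : Module (S ⧸ 𝔫 ^ N)ᵐᵒᵖ P :=
    Module.compHom P ((RingHom.id (S ⧸ 𝔫 ^ N)).fromOpposite (fun _ _ => mul_comm _ _))
  haveI : IsCentralScalar (S ⧸ 𝔫 ^ N) P := ⟨fun _ _ => rfl⟩
  exact exists_derivation_lift_aux 𝔫 h N
    (fun x hx => Ideal.Quotient.eq_zero_iff_mem.2 hx) f hf D''

/-- formal projectivity: `Ω ⊗ S/𝔫^N` is projective over `S/𝔫^N`. -/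
theorem projective_tensor {R S : Type u} [CommRing R] [CommRing S] [Algebra R S] (𝔫 : Ideal S)
    (h : CAlgX.IsAdicFormallySmooth R S 𝔫) (N : ℕ) :
    Module.Projective (S ⧸ 𝔫 ^ N) ((S ⧸ 𝔫 ^ N) ⊗[S] Ω[S⁄R]) := by
  rw [Module.projective_def']
  let f : (((S ⧸ 𝔫 ^ N) ⊗[S] Ω[S⁄R]) →₀ (S ⧸ 𝔫 ^ N)) →ₗ[S ⧸ 𝔫 ^ N]
      ((S ⧸ 𝔫 ^ N) ⊗[S] Ω[S⁄R]) := Finsupp.linearCombination _ id
  have hf : Function.Surjective f := Finsupp.linearCombination_id_surjective _ _
  let D'' : Derivation R S ((S ⧸ 𝔫 ^ N) ⊗[S] Ω[S⁄R]) :=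
    (TensorProduct.mk S (S ⧸ 𝔫 ^ N) Ω[S⁄R] 1).compDer (KaehlerDifferential.D R S)
  obtain ⟨D, hD⟩ := exists_derivation_lift 𝔫 h N f hf D''
  let g : Ω[S⁄R] →ₗ[S] (((S ⧸ 𝔫 ^ N) ⊗[S] Ω[S⁄R]) →₀ (S ⧸ 𝔫 ^ N)) := D.liftKaehlerDifferential
  refine ⟨LinearMap.liftBaseChange (S ⧸ 𝔫 ^ N) g, ?_⟩
  have hfg : (f.restrictScalars S) ∘ₗ g = TensorProduct.mk S (S ⧸ 𝔫 ^ N) Ω[S⁄R] 1 := by
    apply Derivation.liftKaehlerDifferential_unique
    ext a
    change f (D.liftKaehlerDifferential (KaehlerDifferential.D R S a)) = D'' a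
    rw [Derivation.liftKaehlerDifferential_comp_D, hD]
  apply LinearMap.ext
  intro x
  induction x using TensorProduct.induction_on with
  | zero => simp
  | add x y hx hy => rw [map_add, map_add, hx, hy]
  | tmul t ω =>
    change f (LinearMap.liftBaseChange (S ⧸ 𝔫 ^ N) g (t ⊗ₜ ω)) = t ⊗ₜ ω
    rw [LinearMap.liftBaseChange_tmul, map_smul]
    have := LinearMap.congr_fun hfg ω
    change f (g ω) = _ at this
    rw [this, TensorProduct.mk_apply, TensorProduct.smul_tmul', smul_eq_mul, mul_one]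

end H14.OmegaHat
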