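import Mathlib

/-!
# Reduction of an adic completion modulo a power of the ideal
-/

set_option autoImplicit false
universe u

namespace H14.OmegaHat

open TensorProduct

section
variable {A : Type u} [CommRing A] (I : Ideal A) (M : Type u) [AddCommGroup M] [Module A M]

/-- `M/IⁿM → M̂/IⁿM̂`. -/
noncomputable def phiQ (n : ℕ) : M ⧸ (I ^ n • ⊤ : Submodule A M) →ₗ[A]
    AdicCompletion I M ⧸ (I ^ n • ⊤ : Submodule A (AdicCompletion I M)) :=
  Submodule.mapQ _ _ (AdicCompletion.of I M) (Submodule.smul_top_le_comap_smul_top _ _)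

/-- `M̂/IⁿM̂ → M/IⁿM`. -/
noncomputable def psiQ (n : ℕ) : AdicCompletion I M ⧸ (I ^ n • ⊤ : Submodule A (AdicCompletion I M)) →ₗ[A]
    M ⧸ (I ^ n • ⊤ : Submodule A M) :=
  Submodule.liftQ _ (AdicCompletion.eval I M n) (AdicCompletion.pow_smul_top_le_ker_eval I n)

theorem psiQ_phiQ (n : ℕ) (x : M ⧸ (I ^ n • ⊤ : Submodule A M)) : psiQ I M n (phiQ I M n x) = x := by
  obtain ⟨m, rfl⟩ := Submodule.Quotient.mk_surjective _ x
  unfold psiQ phiQ
  rw [Submodule.mapQ_apply, Submodule.liftQ_apply, AdicCompletion.eval_of]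
  rfl

theorem psiQ_injective (hI : I.FG) (n : ℕ) : Function.Injective (psiQ I M n) := by
  rw [← LinearMap.ker_eq_bot, LinearMap.ker_eq_bot']
  intro x hx
  obtain ⟨y, rfl⟩ := Submodule.Quotient.mk_surjective _ x
  have : AdicCompletion.eval I M n y = 0 := by
    unfold psiQ at hx
    rw [Submodule.liftQ_apply] at hx
    exact hx
  rw [Submodule.Quotient.mk_eq_zero, AdicCompletion.pow_smul_top_eq_ker_eval hI]
  exact this

theorem phiQ_bijective (hI : I.FG) (n : ℕ) : Function.Bijective (phiQ I M n) := by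
  refine ⟨fun x y hxy => ?_, fun z => ?_⟩
  · have := congrArg (psiQ I M n) hxy
    rwa [psiQ_phiQ, psiQ_phiQ] at this
  · refine ⟨psiQ I M n z, psiQ_injective I M hI n ?_⟩
    rw [psiQ_phiQ]

/-- the base change of `M → M̂` to `A/Iⁿ` is bijective (`I` finitely generated). -/
theorem baseChange_of_bijective (hI : I.FG) (n : ℕ) :
    Function.Bijective ((AdicCompletion.of I M).baseChange (A ⧸ I ^ n)) := by
  have hcomm : ∀ x : (A ⧸ I ^ n) ⊗[A] M,
      quotTensorEquivQuotSMul (AdicCompletion I M) (I ^ n)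
        ((AdicCompletion.of I M).baseChange (A ⧸ I ^ n) x) =
      phiQ I M n (quotTensorEquivQuotSMul M (I ^ n) x) := by
    intro x
    induction x using TensorProduct.induction_on with
    | zero => simp
    | add x y hx hy => rw [map_add, map_add, map_add, map_add, hx, hy]
    | tmul a m =>
      obtain ⟨a, rfl⟩ := Ideal.Quotient.mk_surjective a
      rw [LinearMap.baseChange_tmul, quotTensorEquivQuotSMul_mk_tmul,
        quotTensorEquivQuotSMul_mk_tmul, ← map_smul]
      rfl
  have h : ((AdicCompletion.of I M).baseChange (A ⧸ I ^ n) : _ → _) =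
      (quotTensorEquivQuotSMul (AdicCompletion I M) (I ^ n)).symm ∘ phiQ I M n ∘
        quotTensorEquivQuotSMul M (I ^ n) := by
    funext x
    simp only [Function.comp_apply]
    rw [← hcomm, LinearEquiv.symm_apply_apply]
  rw [h]
  exact (LinearEquiv.bijective _).comp ((phiQ_bijective I M hI n).comp (LinearEquiv.bijective _))

end

end H14.OmegaHat
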