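import Mathlib
import Groth.Agent.Lib.helper14.OmegaHatA
import Groth.Agent.Lib.helper14.OmegaHatB
import Groth.Agent.Lib.helper14.ComplUnram
import Groth.Agent.Lib.helper21.FlatCrit

/-!
# The completed module of differentials of a complete formally smooth local algebra is free
-/

set_option autoImplicit false
universe u

namespace H14.OmegaHat

open TensorProduct IsLocalRing

section
variable {A : Type u} [CommRing A] (I : Ideal A) (M : Type u) [AddCommGroup M] [Module A M]

theorem baseChange_of_bijective' (hI : I.FG) (J : Ideal A) (n : ℕ) (hJ : J = I ^ n) :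
    Function.Bijective ((AdicCompletion.of I M).baseChange (A ⧸ J)) := by
  subst hJ
  exact baseChange_of_bijective I M hI n

/-- `(A/J) ⊗ M ≃ (A/J) ⊗ M̂` for `J = Iⁿ`. -/
noncomputable def baseChangeEquiv (hI : I.FG) (J : Ideal A) (n : ℕ) (hJ : J = I ^ n) :
    (A ⧸ J) ⊗[A] M ≃ₗ[A ⧸ J] (A ⧸ J) ⊗[A] AdicCompletion I M :=
  LinearEquiv.ofBijective ((AdicCompletion.of I M).baseChange (A ⧸ J))
    (baseChange_of_bijective' I M hI J n hJ)

end

section
variable {A : Type u} [CommRing A] [IsLocalRing A] [IsNoetherianRing A]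
  (M : Type u) [AddCommGroup M] [Module A M]

/-- `K ⊗ M ≃ K ⊗ M̂`. -/
noncomputable def residueEquiv :
    (ResidueField A) ⊗[A] M ≃ₗ[ResidueField A]
      (ResidueField A) ⊗[A] AdicCompletion (maximalIdeal A) M :=
  baseChangeEquiv (maximalIdeal A) M (IsNoetherian.noetherian _) (maximalIdeal A) 1 (pow_one _).symm

theorem finite_completion [IsAdicComplete (maximalIdeal A) A]
    [Module.Finite (ResidueField A) ((ResidueField A) ⊗[A] M)] :
    Module.Finite A (AdicCompletion (maximalIdeal A) M) := by
  classical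
  set Mh := AdicCompletion (maximalIdeal A) M with hMh
  have h1 : Module.Finite (ResidueField A) ((ResidueField A) ⊗[A] Mh) :=
    Module.Finite.equiv (residueEquiv M)
  have hK : Module.Finite A (ResidueField A) :=
    Module.Finite.of_surjective (Algebra.linearMap A (ResidueField A)) residue_surjective
  have h2 : Module.Finite A ((ResidueField A) ⊗[A] Mh) :=
    Module.Finite.trans (ResidueField A) _
  have h2' : Module.Finite A ((A ⧸ maximalIdeal A) ⊗[A] Mh) := h2
  have h3 : Module.Finite A (Mh ⧸ (maximalIdeal A • ⊤ : Submodule A Mh)) :=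
    Module.Finite.equiv (quotTensorEquivQuotSMul Mh (maximalIdeal A))
  obtain ⟨n, s, hs⟩ := Module.Finite.exists_fin (R := A)
    (M := Mh ⧸ (maximalIdeal A • ⊤ : Submodule A Mh))
  choose x hx using fun i => Submodule.Quotient.mk_surjective _ (s i)
  refine H14.ComplUnram.finite_of_hausdorff (maximalIdeal A) n x (fun y => ?_)
  have hy : Submodule.Quotient.mk y ∈ Submodule.span A (Set.range s) := by rw [hs]; trivial
  obtain ⟨a, ha⟩ := (Submodule.mem_span_range_iff_exists_fun A).1 hy
  refine ⟨a, ?_⟩
  rw [← Submodule.Quotient.mk_eq_zero, Submodule.Quotient.mk_sub, ← ha, sub_eq_zero]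
  rw [← Submodule.mkQ_apply, map_sum]
  refine Finset.sum_congr rfl (fun i _ => ?_)
  rw [map_smul, Submodule.mkQ_apply, hx]

end

section
variable {k₀ A : Type u} [Field k₀] [CommRing A] [IsLocalRing A] [IsNoetherianRing A] [Algebra k₀ A]

theorem free_completion [IsAdicComplete (maximalIdeal A) A]
    (hfs : CAlgX.IsAdicFormallySmooth k₀ A (maximalIdeal A))
    [Module.Finite (ResidueField A) ((ResidueField A) ⊗[A] Ω[A⁄k₀])] :
    Module.Finite A (AdicCompletion (maximalIdeal A) (Ω[A⁄k₀])) ∧
      Module.Free A (AdicCompletion (maximalIdeal A) (Ω[A⁄k₀])) ∧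
      Module.finrank A (AdicCompletion (maximalIdeal A) (Ω[A⁄k₀])) =
        Module.finrank (ResidueField A) ((ResidueField A) ⊗[A] Ω[A⁄k₀]) := by
  have hfin := finite_completion (A := A) (Ω[A⁄k₀])
  have hflat : Module.Flat A (AdicCompletion (maximalIdeal A) (Ω[A⁄k₀])) := by
    refine Groth.Agent.H21.flat_of_flat_baseChange_quot_pow (B := A) (A := A) (maximalIdeal A) ?_
      (AdicCompletion (maximalIdeal A) (Ω[A⁄k₀])) (fun n hn => ?_)
    · rw [Algebra.algebraMap_self, Ideal.map_id]
      exact maximalIdeal_le_jacobson ⊥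
    · have hproj := projective_tensor (maximalIdeal A) hfs n
      have hfl : Module.Flat (A ⧸ maximalIdeal A ^ n) ((A ⧸ maximalIdeal A ^ n) ⊗[A] Ω[A⁄k₀]) :=
        inferInstance
      exact Module.Flat.of_linearEquiv
        (baseChangeEquiv (maximalIdeal A) (Ω[A⁄k₀]) (IsNoetherian.noetherian _) _ n rfl).symm
  have hfree : Module.Free A (AdicCompletion (maximalIdeal A) (Ω[A⁄k₀])) :=
    Module.free_of_flat_of_isLocalRing
  refine ⟨hfin, hfree, ?_⟩
  rw [← Module.finrank_baseChange (R := ResidueField A) (S := A), (residueEquiv (A := A) (Ω[A⁄k₀])).finrank_eq]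

end

end H14.OmegaHat
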