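import Mathlib

/-!
# The kernel of `K ⊗ Ω[A/R] → Ω[K/R]` for a local ring `A` with residue field `K`
-/

set_option autoImplicit false
universe u

namespace H14.OmegaHat

open TensorProduct IsLocalRing KaehlerDifferential

section
variable {A : Type u} [CommRing A]

/-- cotangent modules of equal ideals. -/
noncomputable def cotangentCongr {I J : Ideal A} (h : I = J) : I.Cotangent ≃ₗ[A] J.Cotangent := by
  subst h
  exact LinearEquiv.refl _ _

end

section
variable (R : Type*) [CommRing R] {A : Type u} [CommRing A] [IsLocalRing A] [Algebra R A]

theorem ker_algebraMap_residueField :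
    RingHom.ker (algebraMap A (ResidueField A)) = maximalIdeal A := by
  ext x
  rw [RingHom.mem_ker]
  exact residue_eq_zero_iff x

/-- the map from the cotangent space onto the kernel of `K ⊗ Ω[A/R] → Ω[K/R]`. -/
noncomputable def cotToKer :
    (maximalIdeal A).Cotangent →ₗ[A]
      ↥(LinearMap.ker (mapBaseChange R A (ResidueField A))) :=
  LinearMap.codRestrict ((LinearMap.ker (mapBaseChange R A (ResidueField A))).restrictScalars A)
    ((kerCotangentToTensor R A (ResidueField A)) ∘ₗ
      (cotangentCongr (ker_algebraMap_residueField (A := A))).symm.toLinearMap)
    (fun x => by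
      have h := (exact_kerCotangentToTensor_mapBaseChange R A (ResidueField A)
        residue_surjective)
      rw [Submodule.restrictScalars_mem, LinearMap.mem_ker]
      exact (h _).2 ⟨_, rfl⟩)

theorem cotToKer_surjective : Function.Surjective (cotToKer R (A := A)) := by
  rintro ⟨y, hy⟩
  have h := (exact_kerCotangentToTensor_mapBaseChange R A (ResidueField A) residue_surjective)
  obtain ⟨x, hx⟩ := (h y).1 (LinearMap.mem_ker.1 hy)
  refine ⟨cotangentCongr (ker_algebraMap_residueField (A := A)) x, ?_⟩
  apply Subtype.ext
  change kerCotangentToTensor R A (ResidueField A)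
    ((cotangentCongr (ker_algebraMap_residueField (A := A))).symm
      (cotangentCongr (ker_algebraMap_residueField (A := A)) x)) = y
  rw [LinearEquiv.symm_apply_apply, hx]

theorem cotToKer_injective
    (hinj : Function.Injective (kerCotangentToTensor R A (ResidueField A))) :
    Function.Injective (cotToKer R (A := A)) := by
  intro x y hxy
  have := congrArg Subtype.val hxy
  change kerCotangentToTensor R A (ResidueField A) _ = kerCotangentToTensor R A (ResidueField A) _
    at this
  exact (cotangentCongr (ker_algebraMap_residueField (A := A))).symm.injective (hinj this)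

theorem finite_ker [IsNoetherianRing A] :
    Module.Finite (ResidueField A) ↥(LinearMap.ker (mapBaseChange R A (ResidueField A))) := by
  have h0 : Module.Finite A (maximalIdeal A).Cotangent :=
    Module.Finite.of_surjective (Ideal.toCotangent (maximalIdeal A)) (Ideal.toCotangent_surjective _)
  have : Module.Finite A ↥(LinearMap.ker (mapBaseChange R A (ResidueField A))) :=
    Module.Finite.of_surjective (cotToKer R (A := A)) (cotToKer_surjective R)
  exact Module.Finite.of_restrictScalars_finite A _ _

theorem finrank_ker [IsNoetherianRing A]
    (hinj : Function.Injective (kerCotangentToTensor R A (ResidueField A))) :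
    Module.finrank (ResidueField A) ↥(LinearMap.ker (mapBaseChange R A (ResidueField A))) =
      Module.finrank (ResidueField A) (CotangentSpace A) := by
  let e : (maximalIdeal A).Cotangent ≃ₗ[A] ↥(LinearMap.ker (mapBaseChange R A (ResidueField A))) :=
    LinearEquiv.ofBijective (cotToKer R (A := A))
      ⟨cotToKer_injective R hinj, cotToKer_surjective R⟩
  exact (e.extendScalarsOfSurjective residue_surjective).finrank_eq.symm

end

end H14.OmegaHat
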