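import Mathlib
import Groth.Agent.Lib.helper14.OmegaHatD
import Groth.Agent.Lib.helper14.CoeffField
import Groth.Agent.Lib.helper14.FSJacB
import Groth.Agent.Lib.helper25.Cart3

/-!
# The rank of `K ⊗ Ω[A/k₀]` for a complete formally smooth local `k₀`-algebra
-/

set_option autoImplicit false
universe u

namespace H14.OmegaHat

open TensorProduct IsLocalRing KaehlerDifferential Groth.Agent.Lib.helper25.Cart

section
variable {k₀ A : Type u} [Field k₀] [CommRing A] [IsLocalRing A] [IsNoetherianRing A] [Algebra k₀ A]

omit [IsNoetherianRing A] in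
include k₀ in
theorem kct_int_injective [IsAdicComplete (maximalIdeal A) A] :
    Function.Injective (kerCotangentToTensor ℤ A (ResidueField A)) := by
  obtain ⟨σ, hσ⟩ := H14.CoeffField.exists_section A k₀
  let g : ResidueField A →ₐ[ℤ] A ⧸ (RingHom.ker (algebraMap A (ResidueField A)) ^ 2) :=
    ((Ideal.Quotient.mk _).comp σ).toIntAlgHom
  have hg : (IsScalarTower.toAlgHom ℤ A (ResidueField A)).kerSquareLift.comp g =
      AlgHom.id ℤ (ResidueField A) := by
    ext x
    change (IsScalarTower.toAlgHom ℤ A (ResidueField A)).kerSquareLift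
      (Ideal.Quotient.mk _ (σ x)) = x
    rw [AlgHom.kerSquareLift_mk]
    exact hσ x
  obtain ⟨l, hl⟩ := (retractionKerCotangentToTensorEquivSection (R := ℤ)
    (residue_surjective (R := A))).symm ⟨g, hg⟩
  exact Function.LeftInverse.injective (g := l) (fun x => LinearMap.congr_fun hl x)

/-- `K ⊗ Ω[A/k₀]` is finite-dimensional. -/
theorem finite_residue_tensor [Algebra.EssFiniteType k₀ (ResidueField A)] :
    Module.Finite (ResidueField A) ((ResidueField A) ⊗[A] Ω[A⁄k₀]) := by
  have h1 : Module.Finite (ResidueField A)
      ↥(LinearMap.ker (mapBaseChange k₀ A (ResidueField A))) := finite_ker k₀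
  have h2 : Module.Finite (ResidueField A) (Ω[ResidueField A⁄k₀]) :=
    (S2469_aux (K := k₀) (L := ResidueField A)).1
  have h3 : Module.Finite (ResidueField A)
      (((ResidueField A) ⊗[A] Ω[A⁄k₀]) ⧸ LinearMap.ker (mapBaseChange k₀ A (ResidueField A))) :=
    Module.Finite.equiv ((mapBaseChange k₀ A (ResidueField A)).quotKerEquivOfSurjective
      (mapBaseChange_surjective k₀ A (ResidueField A) residue_surjective)).symm
  exact Module.Finite.of_submodule_quotient (LinearMap.ker (mapBaseChange k₀ A (ResidueField A)))

end

section tower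
variable (R : Type*) [CommRing R] {K L M : Type*} [CommRing K] [CommRing L] [CommRing M]
  [Algebra R K] [Algebra R L] [Algebra R M] [Algebra K L] [Algebra L M] [Algebra K M]
  [IsScalarTower R K L] [IsScalarTower R L M] [IsScalarTower R K M] [IsScalarTower K L M]

theorem map_map_tower' (ω : Ω[K⁄R]) :
    KaehlerDifferential.map R R L M (KaehlerDifferential.map R R K L ω) =
      KaehlerDifferential.map R R K M ω := by
  have hω : ω ∈ Submodule.span K (Set.range (KaehlerDifferential.D R K)) := by
    rw [KaehlerDifferential.span_range_derivation]; trivial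
  refine Submodule.span_induction ?_ ?_ ?_ ?_ hω
  · rintro _ ⟨a, rfl⟩
    rw [KaehlerDifferential.map_D, KaehlerDifferential.map_D, KaehlerDifferential.map_D,
      ← IsScalarTower.algebraMap_apply]
  · simp
  · intro x y _ _ hx hy
    rw [map_add, map_add, map_add, hx, hy]
  · intro c x _ hx
    rw [map_smul (KaehlerDifferential.map R R K L), map_smul (KaehlerDifferential.map R R K M),
      ← hx, ← algebraMap_smul L c (KaehlerDifferential.map R R K L x),
      map_smul (KaehlerDifferential.map R R L M), algebraMap_smul]

theorem u_tower' (t : M ⊗[K] Ω[K⁄R]) :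
    mapBaseChange R L M ((mapBaseChange R K L).baseChange M
      ((AlgebraTensorModule.cancelBaseChange K L M M Ω[K⁄R]).symm t)) = mapBaseChange R K M t := by
  induction t using TensorProduct.induction_on with
  | zero => simp
  | tmul m ω =>
    rw [AlgebraTensorModule.cancelBaseChange_symm_tmul, LinearMap.baseChange_tmul,
      mapBaseChange_tmul, mapBaseChange_tmul, one_smul, mapBaseChange_tmul, map_map_tower']
  | add x y hx hy => simp only [map_add, hx, hy]

end tower

end H14.OmegaHat
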