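import Mathlib
import Groth.Agent.Lib.helper14.OmegaHatE

/-!
# The rank of `K ⊗ Ω[A/k₀]`: `dim A + trdeg`
-/

set_option autoImplicit false
universe u

namespace H14.OmegaHat

open TensorProduct IsLocalRing KaehlerDifferential Groth.Agent.Lib.helper25.Cart

section
variable {k₀ A : Type u} [Field k₀] [CommRing A] [IsLocalRing A] [IsNoetherianRing A] [Algebra k₀ A]

theorem finrank_residue_tensor [IsAdicComplete (maximalIdeal A) A]
    (hfs : CAlgX.IsAdicFormallySmooth k₀ A (maximalIdeal A))
    [Algebra.EssFiniteType k₀ (ResidueField A)] :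
    ∃ m : ℕ, Algebra.trdeg k₀ (ResidueField A) = m ∧
      Module.finrank (ResidueField A) ((ResidueField A) ⊗[A] Ω[A⁄k₀]) =
        Module.finrank (ResidueField A) (CotangentSpace A) + m := by
  classical
  have hZ : Module.Finite (ResidueField A) ((ResidueField A) ⊗[A] Ω[A⁄k₀]) :=
    finite_residue_tensor
  let α : (ResidueField A) ⊗[A] (A ⊗[k₀] Ω[k₀⁄ℤ]) →ₗ[ResidueField A]
      (ResidueField A) ⊗[A] Ω[A⁄ℤ] := (mapBaseChange ℤ k₀ A).baseChange (ResidueField A)
  let π : (ResidueField A) ⊗[A] Ω[A⁄ℤ] →ₗ[ResidueField A] Ω[ResidueField A⁄ℤ] :=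
    mapBaseChange ℤ A (ResidueField A)
  let γ : (ResidueField A) ⊗[A] Ω[A⁄ℤ] →ₗ[ResidueField A] (ResidueField A) ⊗[A] Ω[A⁄k₀] :=
    (KaehlerDifferential.map ℤ k₀ A A).baseChange (ResidueField A)
  have hαinj : Function.Injective α := by
    have := H14.FSJac.injective_of_fs hfs
    exact this
  have hex : Function.Exact α γ :=
    lTensor_exact (ResidueField A) (exact_mapBaseChange_map ℤ k₀ A) (map_surjective ℤ k₀ A)
  have hγ : Function.Surjective γ :=
    LinearMap.lTensor_surjective (ResidueField A) (map_surjective ℤ k₀ A)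
  have hα : IsFred α ∧ chi α =
      Module.finrank (ResidueField A) ((ResidueField A) ⊗[A] Ω[A⁄k₀]) := by
    have hk : LinearMap.ker α = ⊥ := LinearMap.ker_eq_bot.2 hαinj
    let ec : (((ResidueField A) ⊗[A] Ω[A⁄ℤ]) ⧸ LinearMap.range α) ≃ₗ[ResidueField A]
        (ResidueField A) ⊗[A] Ω[A⁄k₀] := hex.linearEquivOfSurjective hγ
    haveI : Subsingleton (LinearMap.ker α) := by rw [hk]; infer_instance
    refine ⟨⟨inferInstance, Module.Finite.equiv ec.symm⟩, ?_⟩
    have h0 : Module.finrank (ResidueField A) (LinearMap.ker α) = 0 :=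
      Module.finrank_zero_of_subsingleton
    unfold chi
    rw [h0, ec.finrank_eq]
    simp
  have hπ : IsFred π ∧ chi π = -(Module.finrank (ResidueField A) (CotangentSpace A) : ℤ) := by
    have hsurj : Function.Surjective π :=
      mapBaseChange_surjective ℤ A (ResidueField A) residue_surjective
    have hr : LinearMap.range π = ⊤ := LinearMap.range_eq_top.2 hsurj
    haveI : Subsingleton (Ω[ResidueField A⁄ℤ] ⧸ LinearMap.range π) := by rw [hr]; infer_instance
    refine ⟨⟨finite_ker ℤ, inferInstance⟩, ?_⟩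
    have h0 : Module.finrank (ResidueField A) (Ω[ResidueField A⁄ℤ] ⧸ LinearMap.range π) = 0 :=
      Module.finrank_zero_of_subsingleton
    unfold chi
    rw [h0, finrank_ker ℤ (kct_int_injective (k₀ := k₀))]
    simp
  obtain ⟨m, hm1, hm2, hm3⟩ := cartier_int (K := k₀) (L := ResidueField A)
  have hcomp := isFred_comp_and_chi α π hα.1 hπ.1
  let e := AlgebraTensorModule.cancelBaseChange k₀ A (ResidueField A) (ResidueField A) Ω[k₀⁄ℤ]
  have heq : π ∘ₗ α = mapBaseChange ℤ k₀ (ResidueField A) ∘ₗ e.toLinearMap := by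
    apply LinearMap.ext
    intro t
    obtain ⟨t', rfl⟩ := e.symm.surjective t
    change π (α (e.symm t')) = mapBaseChange ℤ k₀ (ResidueField A) (e (e.symm t'))
    rw [LinearEquiv.apply_symm_apply]
    exact u_tower' ℤ t'
  have hright := isFred_comp_equiv_right e (mapBaseChange ℤ k₀ (ResidueField A)) hm2
  rw [← heq] at hright
  have key : (m : ℤ) = Module.finrank (ResidueField A) ((ResidueField A) ⊗[A] Ω[A⁄k₀]) -
      Module.finrank (ResidueField A) (CotangentSpace A) := by
    have h1 := hright.2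
    rw [hcomp.2, hα.2, hπ.2] at h1
    have h2 := h1.trans hm3
    rw [← h2]
    ring
  refine ⟨m, hm1, ?_⟩
  omega

end

end H14.OmegaHat
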