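import Mathlib
import Groth.Agent.Lib.helper14.OmegaHatC
import Groth.Agent.Lib.helper14.OmegaHatD

/-!
# Right exactness of completion when the middle completion is finite
-/

set_option autoImplicit false
universe u

namespace H14.OmegaHat

open TensorProduct IsLocalRing KaehlerDifferential

section
variable {k₀ A : Type u} [Field k₀] [CommRing A] [IsLocalRing A] [IsNoetherianRing A] [Algebra k₀ A]

/-- `K ⊗ Ω[A/k₀]` is finite-dimensional when `Ω[K/k₀]` is. -/
theorem finite_residue_tensor' [Module.Finite (ResidueField A) (Ω[ResidueField A⁄k₀])] :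
    Module.Finite (ResidueField A) ((ResidueField A) ⊗[A] Ω[A⁄k₀]) := by
  have h1 : Module.Finite (ResidueField A)
      ↥(LinearMap.ker (mapBaseChange k₀ A (ResidueField A))) := finite_ker k₀
  have h3 : Module.Finite (ResidueField A)
      (((ResidueField A) ⊗[A] Ω[A⁄k₀]) ⧸ LinearMap.ker (mapBaseChange k₀ A (ResidueField A))) :=
    Module.Finite.equiv ((mapBaseChange k₀ A (ResidueField A)).quotKerEquivOfSurjective
      (mapBaseChange_surjective k₀ A (ResidueField A) residue_surjective)).symm
  exact Module.Finite.of_submodule_quotient (LinearMap.ker (mapBaseChange k₀ A (ResidueField A)))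

end

section
variable {S : Type u} [CommRing S] [IsLocalRing S] [IsNoetherianRing S]
  {M' M M'' : Type u} [AddCommGroup M'] [AddCommGroup M] [AddCommGroup M'']
  [Module S M'] [Module S M] [Module S M'']

theorem range_map_eq_ker_map (f : M' →ₗ[S] M) (g : M →ₗ[S] M'') (hfg : Function.Exact f g)
    (hg : Function.Surjective g) [Module.Finite S (AdicCompletion (maximalIdeal S) M)] :
    LinearMap.range (AdicCompletion.map (maximalIdeal S) f) =
      LinearMap.ker (AdicCompletion.map (maximalIdeal S) g) := by
  apply le_antisymm
  · rintro _ ⟨x, rfl⟩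
    rw [LinearMap.mem_ker, AdicCompletion.map_comp_apply]
    have : g ∘ₗ f = 0 := by
      ext y
      exact hfg.apply_apply_eq_zero y
    rw [this, AdicCompletion.map_zero, LinearMap.zero_apply]
  · intro x hx
    rw [LinearMap.mem_ker] at hx
    let W : Submodule S (AdicCompletion (maximalIdeal S) M) :=
      (LinearMap.range (AdicCompletion.map (maximalIdeal S) f)).restrictScalars S
    suffices hxW : x ∈ W from hxW
    have hmfg : (maximalIdeal S).FG := IsNoetherian.noetherian _
    rw [← Submodule.Quotient.mk_eq_zero W]
    apply IsHausdorff.haus (inferInstance : IsHausdorff (maximalIdeal S)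
      (AdicCompletion (maximalIdeal S) M ⧸ W))
    intro n
    rw [SModEq.zero]
    -- decompose x
    obtain ⟨y, hy⟩ := Submodule.Quotient.mk_surjective _ (x.val n)
    have hz : x - AdicCompletion.of (maximalIdeal S) M y ∈
        (maximalIdeal S ^ n • ⊤ : Submodule S (AdicCompletion (maximalIdeal S) M)) := by
      rw [AdicCompletion.pow_smul_top_eq_ker_eval hmfg, LinearMap.mem_ker, map_sub,
        AdicCompletion.eval_of, AdicCompletion.eval_apply, ← hy, Submodule.mkQ_apply, sub_self]
    have hgy : g y ∈ (maximalIdeal S ^ n • ⊤ : Submodule S M'') := by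
      have h1 := congrArg (fun z => z.val n) hx
      simp only [AdicCompletion.map_val_apply, AdicCompletion.val_zero_apply] at h1
      rw [← hy] at h1
      change (Submodule.Quotient.mk (g y) : M'' ⧸ (maximalIdeal S ^ n • ⊤ : Submodule S M'')) = 0 at h1
      exact (Submodule.Quotient.mk_eq_zero _).1 h1
    have hmap : (maximalIdeal S ^ n • ⊤ : Submodule S M'') =
        Submodule.map g (maximalIdeal S ^ n • ⊤ : Submodule S M) := by
      rw [Submodule.map_smul'', Submodule.map_top, LinearMap.range_eq_top.2 hg]
    rw [hmap] at hgy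
    obtain ⟨μ, hμ, hμg⟩ := hgy
    have hker : g (y - μ) = 0 := by rw [map_sub, hμg, sub_self]
    obtain ⟨ν, hν⟩ := (hfg (y - μ)).1 hker
    have hofμ : AdicCompletion.of (maximalIdeal S) M μ ∈
        (maximalIdeal S ^ n • ⊤ : Submodule S (AdicCompletion (maximalIdeal S) M)) :=
      Submodule.smul_top_le_comap_smul_top _ (AdicCompletion.of (maximalIdeal S) M) hμ
    have hx_eq : x = AdicCompletion.map (maximalIdeal S) f (AdicCompletion.of (maximalIdeal S) M' ν) +
        (AdicCompletion.of (maximalIdeal S) M μ + (x - AdicCompletion.of (maximalIdeal S) M y)) := by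
      rw [AdicCompletion.map_of, hν, map_sub]
      abel
    have hmem : x - AdicCompletion.map (maximalIdeal S) f (AdicCompletion.of (maximalIdeal S) M' ν) ∈
        (maximalIdeal S ^ n • ⊤ : Submodule S (AdicCompletion (maximalIdeal S) M)) := by
      have : x - AdicCompletion.map (maximalIdeal S) f (AdicCompletion.of (maximalIdeal S) M' ν) =
          AdicCompletion.of (maximalIdeal S) M μ + (x - AdicCompletion.of (maximalIdeal S) M y) := by
        nth_rewrite 1 [hx_eq]
        abel
      rw [this]
      exact Submodule.add_mem _ hofμ hz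
    have hmk : (Submodule.Quotient.mk x : AdicCompletion (maximalIdeal S) M ⧸ W) =
        Submodule.Quotient.mk
          (x - AdicCompletion.map (maximalIdeal S) f (AdicCompletion.of (maximalIdeal S) M' ν)) := by
      have hW0 : AdicCompletion.map (maximalIdeal S) f (AdicCompletion.of (maximalIdeal S) M' ν) ∈ W :=
        LinearMap.mem_range_self _ _
      rw [Submodule.Quotient.mk_sub, (Submodule.Quotient.mk_eq_zero W).2 hW0, sub_zero]
    rw [hmk]
    have key := Submodule.smul_top_le_comap_smul_top (maximalIdeal S ^ n) W.mkQ hmem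
    rw [Submodule.mem_comap, Submodule.mkQ_apply] at key
    exact key

end

end H14.OmegaHat
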