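import Mathlib
import Groth.Agent.Lib.helper28.ProjLim
import Groth.Agent.Lib.helper9.IntegralDim

set_option autoImplicit false
universe u

namespace H14.PSFin

open MvPowerSeries IsLocalRing

/-- evaluation homomorphism from a power series ring to a complete ring -/
theorem exists_eval {Λ R : Type u} [CommRing Λ] [CommRing R] (I : Ideal R)
    [IsAdicComplete I R] (n : ℕ) (t : Fin n → R) (ht : ∀ i, t i ∈ I)
    (σ : Λ →+* R) :
    ∃ f : MvPowerSeries (Fin n) Λ →+* R,
      (∀ a, f (MvPowerSeries.C a) = σ a) ∧ ∀ i, f (MvPowerSeries.X i) = t i := by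
  classical
  let g : MvPolynomial (Fin n) Λ →+* R := MvPolynomial.eval₂Hom σ t
  let I₀ : Ideal (MvPolynomial (Fin n) Λ) := MvPolynomial.idealOfVars (Fin n) Λ
  have hg1 : I₀ ≤ I.comap g := by
    change Ideal.span _ ≤ _
    rw [Ideal.span_le]
    rintro _ ⟨i, rfl⟩
    change g (MvPolynomial.X i) ∈ I
    have : g (MvPolynomial.X i) = t i := by simp [g]
    rw [this]
    exact ht i
  have hgk : ∀ k : ℕ, I₀ ^ k ≤ (I ^ k).comap g := by
    intro k
    rw [← Ideal.map_le_iff_le_comap, Ideal.map_pow]
    exact Ideal.pow_right_mono (Ideal.map_le_iff_le_comap.mpr hg1) k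
  let fk : (k : ℕ) → MvPowerSeries (Fin n) Λ →+* R ⧸ I ^ k := fun k =>
    (Ideal.quotientMap (I ^ k) g (hgk k)).comp (truncTotalAlgHom (Fin n) Λ k).toRingHom
  have hfk : ∀ (k : ℕ) (ps : MvPowerSeries (Fin n) Λ),
      fk k ps = Ideal.Quotient.mk (I ^ k) (g (truncTotal k ps)) := by
    intro k ps
    rfl
  have hcompat : ∀ {m k : ℕ} (hle : m ≤ k),
      (Ideal.Quotient.factorPow I hle).comp (fk k) = fk m := by
    intro m k hle
    ext ps
    rw [RingHom.comp_apply, hfk, hfk, Ideal.Quotient.factor_mk, Ideal.Quotient.eq, ← map_sub]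
    exact hgk m (truncTotal_sub_truncTotal_mem_pow_idealOfVars hle (le_refl m) ps)
  let f : MvPowerSeries (Fin n) Λ →+* R := IsAdicComplete.liftRingHom I fk hcompat
  have hf : ∀ (k : ℕ) (ps : MvPowerSeries (Fin n) Λ),
      Ideal.Quotient.mk (I ^ k) (f ps) = Ideal.Quotient.mk (I ^ k) (g (truncTotal k ps)) := by
    intro k ps
    rw [IsAdicComplete.mk_liftRingHom, hfk]
  have hsep : ∀ x y : R, (∀ k, Ideal.Quotient.mk (I ^ k) x = Ideal.Quotient.mk (I ^ k) y) →
      x = y := by
    intro x y h
    rw [← sub_eq_zero]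
    apply IsHausdorff.haus (IsAdicComplete.toIsHausdorff (I := I) (M := R))
    intro k
    rw [SModEq.zero, smul_eq_mul, Ideal.mul_top, ← Ideal.Quotient.eq]
    exact h k
  have hcoe : ∀ q : MvPolynomial (Fin n) Λ, f (q : MvPowerSeries (Fin n) Λ) = g q := by
    intro q
    apply hsep
    intro k
    rw [hf, Ideal.Quotient.eq, ← map_sub]
    apply hgk k
    rw [MvPolynomial.mem_pow_idealOfVars_iff']
    intro x hx
    rw [MvPolynomial.coeff_sub, sub_eq_zero, coeff_truncTotal _ hx, MvPolynomial.coeff_coe]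
  have hC : ∀ a, f (MvPowerSeries.C a) = σ a := by
    intro a
    rw [← MvPolynomial.coe_C, hcoe]
    simp [g]
  have hX : ∀ i, f (MvPowerSeries.X i) = t i := by
    intro i
    rw [← MvPolynomial.coe_X, hcoe]
    simp [g]
  exact ⟨f, hC, hX⟩

/-- Complete Nakayama: a ring map `f : W → A` from a `J`-adically precomplete ring to a Noetherian
local ring with `f(J) ⊆ 𝔪`, `A/f(J)A` Artinian and residue field finite over `W`, is finite. -/
theorem finite_of_artinian_quotient {W A : Type u} [CommRing W] [CommRing A] [IsLocalRing A]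
    [IsNoetherianRing A] (J : Ideal W) [IsPrecomplete J W] (f : W →+* A)
    (hJ : J.map f ≤ maximalIdeal A) (hart : IsArtinianRing (A ⧸ J.map f))
    (hfin : ((residue A).comp f).Finite) : f.Finite := by
  letI : Algebra W A := f.toAlgebra
  have halg : algebraMap W A = f := rfl
  change Module.Finite W A
  have hsm : ∀ j : ℕ, (J ^ j • ⊤ : Submodule W A) = ((J ^ j).map f).restrictScalars W := by
    intro j
    rw [← halg]
    exact (Ideal.smul_top_eq_map (J ^ j)).trans rfl
  have sep : ∀ y : A, (∀ j, y ∈ (J ^ j • ⊤ : Submodule W A)) → y = 0 := by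
    intro y hy
    have h0 : y ∈ (⨅ j : ℕ, maximalIdeal A ^ j : Ideal A) := by
      rw [Ideal.mem_iInf]
      intro j
      have h1 := hy j
      rw [hsm j] at h1
      have h2 : y ∈ (J ^ j).map f := h1
      rw [Ideal.map_pow] at h2
      exact Ideal.pow_right_mono hJ j h2
    rw [Ideal.iInf_pow_eq_bot_of_isLocalRing _ (Ideal.IsPrime.ne_top inferInstance)] at h0
    exact h0
  -- finiteness of the quotient
  let B := A ⧸ J.map f
  haveI : IsArtinianRing B := hart
  haveI : Nontrivial B := Ideal.Quotient.nontrivial_iff.mpr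
    (fun h => (Ideal.IsPrime.ne_top (inferInstance : (maximalIdeal A).IsPrime))
      (top_le_iff.mp (h ▸ hJ)))
  haveI : IsLocalRing B := IsLocalRing.of_surjective' (Ideal.Quotient.mk (J.map f))
    Ideal.Quotient.mk_surjective
  haveI hresfin : Module.Finite W (ResidueField A) := hfin
  haveI : Module.Finite W (B ⧸ Ring.jacobson B) := by
    let g : A →ₐ[W] B ⧸ Ring.jacobson B :=
      (Ideal.Quotient.mkₐ W (Ring.jacobson B)).comp (Ideal.Quotient.mkₐ W (J.map f))
    have hg : ∀ a ∈ maximalIdeal A, g a = 0 := by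
      intro a ha
      change Ideal.Quotient.mk (Ring.jacobson B) (Ideal.Quotient.mk (J.map f) a) = 0
      rw [Ideal.Quotient.eq_zero_iff_mem, IsLocalRing.ringJacobson_eq_maximalIdeal,
        mem_maximalIdeal, mem_nonunits_iff]
      intro hu
      have : IsUnit a := by
        haveI : IsLocalHom (Ideal.Quotient.mk (J.map f)) :=
          IsLocalHom.of_surjective _ Ideal.Quotient.mk_surjective
        exact isUnit_of_map_unit (Ideal.Quotient.mk (J.map f)) a hu
      exact ha this
    let g' : ResidueField A →ₐ[W] B ⧸ Ring.jacobson B :=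
      Ideal.Quotient.liftₐ (maximalIdeal A) g hg
    refine Module.Finite.of_surjective g'.toLinearMap ?_
    intro x
    obtain ⟨b, rfl⟩ := Ideal.Quotient.mk_surjective x
    obtain ⟨a, rfl⟩ := Ideal.Quotient.mk_surjective b
    exact ⟨Ideal.Quotient.mk _ a, rfl⟩
  haveI : Module.Finite W B := IsSemiprimaryRing.finite_of_isArtinian W B B
  haveI hq : Module.Finite W (A ⧸ (J • ⊤ : Submodule W A)) := by
    have e1 : (J • ⊤ : Submodule W A) = (J.map f).restrictScalars W := by
      have := hsm 1
      rwa [pow_one] at this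
    rw [e1]
    exact Module.Finite.equiv (Submodule.Quotient.restrictScalarsEquiv W (J.map f)).symm
  exact Groth.Agent.Lib.helper28.ProjLim.finite_of_quotient_finite J sep

/-- an integral ring map from a domain of dimension `≤ d` to a ring of dimension `d` is
injective -/
theorem injective_of_dim_le {W A : Type u} [CommRing W] [IsDomain W] [CommRing A] (d : ℕ)
    (hW : ringKrullDim W ≤ d) (hA : ringKrullDim A = d) (f : W →+* A) (hf : f.IsIntegral) :
    Function.Injective f := by
  rw [injective_iff_map_eq_zero]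
  intro w hw
  by_contra hw0
  have hnzd : w ∈ nonZeroDivisors W := mem_nonZeroDivisors_of_ne_zero hw0
  have h1 := ringKrullDim_quotient_succ_le_of_nonZeroDivisor hnzd
  let g : W ⧸ Ideal.span {w} →+* A := Ideal.Quotient.lift (Ideal.span {w}) f (by
    intro a ha
    rw [Ideal.mem_span_singleton'] at ha
    obtain ⟨b, rfl⟩ := ha
    rw [map_mul, hw, mul_zero])
  have hg : g.IsIntegral := by
    have hcomp : g.comp (Ideal.Quotient.mk (Ideal.span {w})) = f := by
      ext a
      rfl
    exact RingHom.IsIntegral.tower_top (Ideal.Quotient.mk (Ideal.span {w})) g (hcomp ▸ hf)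
  letI : Algebra (W ⧸ Ideal.span {w}) A := g.toAlgebra
  haveI : Algebra.IsIntegral (W ⧸ Ideal.span {w}) A := algebraMap_isIntegral_iff.mp hg
  have h2 : ringKrullDim A ≤ ringKrullDim (W ⧸ Ideal.span {w}) :=
    Groth.Agent.Lib.helper9.IntegralDim.ringKrullDim_le_of_isIntegral _ _
  rw [hA] at h2
  have h3 : ((d : ℕ) : WithBot ℕ∞) + 1 ≤ d :=
    (add_le_add_left h2 1).trans (h1.trans hW)
  have h4 : ((d + 1 : ℕ) : WithBot ℕ∞) ≤ (d : ℕ) := by
    push_cast
    exact h3
  have := Nat.cast_le.mp h4
  omega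

end H14.PSFin
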