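import Mathlib
import Groth.Agent.Lib.helper14.PSFinite
import Groth.Agent.Lib.helper19.RegComplete

set_option autoImplicit false
universe u

namespace H14.PSFin

open MvPowerSeries IsLocalRing

/-- A complete Noetherian local ring `A` containing a field `k₀` over which its residue field is
finite is a finite injective extension of a power series ring over `k₀`. -/
theorem main_field {k₀ A : Type u} [Field k₀] [CommRing A] [IsLocalRing A] [IsNoetherianRing A]
    [IsAdicComplete (maximalIdeal A) A] [Algebra k₀ A] [Module.Finite k₀ (ResidueField A)] :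
    ∃ (n : ℕ) (w : MvPowerSeries (Fin n) k₀ →ₐ[k₀] A),
      Function.Injective w ∧ IsLocalHom w.toRingHom ∧ w.toRingHom.Finite := by
  classical
  obtain ⟨s, hs, hcard⟩ :=
    Ideal.exists_finset_card_eq_height_of_isNoetherianRing (maximalIdeal A)
  obtain ⟨n, hn⟩ : ∃ n : ℕ, n = s.card := ⟨_, rfl⟩
  let e : s ≃ Fin n := s.equivFin.trans (finCongr hn.symm)
  let t : Fin n → A := fun i => (e.symm i : A)
  have hrange : Set.range t = (s : Set A) := by
    ext x
    constructor
    · rintro ⟨i, rfl⟩
      exact (e.symm i).2
    · intro hx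
      exact ⟨e ⟨x, hx⟩, by simp [t]⟩
  have hle : Ideal.span (s : Set A) ≤ maximalIdeal A := hs.1.2
  have ht : ∀ i, t i ∈ maximalIdeal A := fun i =>
    hle (Ideal.subset_span (e.symm i).2)
  obtain ⟨f, hC, hX⟩ := exists_eval (maximalIdeal A) n t ht (algebraMap k₀ A)
  have hmap : (maximalIdeal (MvPowerSeries (Fin n) k₀)).map f = Ideal.span (s : Set A) := by
    rw [Groth.Agent.Lib.helper19.maximalIdeal_mvPowerSeries_eq, Ideal.map_span,
      ← Set.range_comp, ← hrange]
    congr 2
    ext i
    exact hX i
  haveI : IsAdicComplete (maximalIdeal k₀) k₀ := by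
    rw [IsLocalRing.maximalIdeal_eq_bot]
    infer_instance
  haveI : IsAdicComplete (maximalIdeal (MvPowerSeries (Fin n) k₀)) (MvPowerSeries (Fin n) k₀) :=
    Groth.Agent.Lib.helper19.PSC.isAdicComplete
  have hcommutes : ∀ r : k₀, f (algebraMap k₀ (MvPowerSeries (Fin n) k₀) r) = algebraMap k₀ A r := by
    intro r
    rw [MvPowerSeries.algebraMap_apply, Algebra.algebraMap_self, RingHom.id_apply, hC]
  have hfinite : f.Finite := by
    apply finite_of_artinian_quotient (maximalIdeal (MvPowerSeries (Fin n) k₀)) f
    · rw [hmap]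
      exact hle
    · rw [hmap]
      exact IsLocalRing.quotient_artinian_of_mem_minimalPrimes_of_isLocalRing _ hs
    · have h1 : (((residue A).comp f).comp (algebraMap k₀ (MvPowerSeries (Fin n) k₀))).Finite := by
        have h2 : ((residue A).comp f).comp (algebraMap k₀ (MvPowerSeries (Fin n) k₀)) =
            algebraMap k₀ (ResidueField A) := by
          ext r
          rw [RingHom.comp_apply, RingHom.comp_apply, hcommutes]
          rfl
        rw [h2]
        exact (RingHom.finite_algebraMap).mpr inferInstance
      exact RingHom.Finite.of_comp_finite h1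
  have hdim : ringKrullDim A = (n : ℕ) := by
    rw [← IsLocalRing.maximalIdeal_height_eq_ringKrullDim, ← hcard, hn]
    rfl
  haveI : IsDomain (MvPowerSeries (Fin n) k₀) := NoZeroDivisors.to_isDomain _
  have hinj : Function.Injective f :=
    injective_of_dim_le n (Groth.Agent.Lib.helper19.ringKrullDim_mvPowerSeries_le k₀ n) hdim f
      hfinite.to_isIntegral
  have hloc : IsLocalHom f := by
    refine ⟨fun a ha => ?_⟩
    by_contra hna
    have h1 : a ∈ maximalIdeal (MvPowerSeries (Fin n) k₀) := hna
    have h2 : f a ∈ (maximalIdeal (MvPowerSeries (Fin n) k₀)).map f := Ideal.mem_map_of_mem f h1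
    rw [hmap] at h2
    exact hle h2 ha
  refine ⟨n, { f with commutes' := hcommutes }, hinj, hloc, hfinite⟩

end H14.PSFin
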