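import Mathlib
import Groth.Agent.Lib.helper14.PSFinite2

set_option autoImplicit false
universe u

namespace H14.PSFin

open MvPowerSeries IsLocalRing

/-- the maximal ideal of a power series ring over a local ring with principal maximal ideal -/
theorem maximalIdeal_mvPowerSeries_eq_insert {Λ : Type u} [CommRing Λ] [IsLocalRing Λ] (π : Λ)
    (hπ : maximalIdeal Λ = Ideal.span {π}) (n : ℕ) :
    maximalIdeal (MvPowerSeries (Fin n) Λ) =
      Ideal.span (insert (C π) (Set.range (X : Fin n → MvPowerSeries (Fin n) Λ))) := by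
  apply le_antisymm
  · intro x hx
    have hc : constantCoeff x ∈ maximalIdeal Λ := by
      rw [mem_maximalIdeal, mem_nonunits_iff] at hx ⊢
      rwa [MvPowerSeries.isUnit_iff_constantCoeff] at hx
    rw [hπ, Ideal.mem_span_singleton'] at hc
    obtain ⟨a, ha⟩ := hc
    have h1 : x = C a * C π + (x - C (constantCoeff x)) := by
      rw [← map_mul, ha]
      ring
    rw [h1]
    refine Ideal.add_mem _ (Ideal.mul_mem_left _ _ (Ideal.subset_span (Set.mem_insert _ _))) ?_
    have h2 := Groth.Agent.Lib.helper19.SmoothBase.mem_span_X_of_constantCoeff_eq_zero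
      (x - C (constantCoeff x)) (by rw [map_sub, constantCoeff_C, sub_self])
    exact Ideal.span_mono (Set.subset_insert _ _) h2
  · rw [Ideal.span_le]
    rintro y (rfl | ⟨i, rfl⟩)
    · rw [SetLike.mem_coe, mem_maximalIdeal, mem_nonunits_iff,
        MvPowerSeries.isUnit_iff_constantCoeff, constantCoeff_C]
      have : π ∈ maximalIdeal Λ := by
        rw [hπ]
        exact Ideal.subset_span rfl
      exact this
    · rw [SetLike.mem_coe, mem_maximalIdeal, mem_nonunits_iff,
        MvPowerSeries.isUnit_iff_constantCoeff, constantCoeff_X]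
      exact not_isUnit_zero

/-- a system of parameters containing a given non-zero-divisor -/
theorem exists_sop_of_nzd {R : Type u} [CommRing R] [IsLocalRing R] [IsNoetherianRing R]
    (x : R) (hx : x ∈ maximalIdeal R) (hnzd : x ∈ nonZeroDivisors R) :
    ∃ (n : ℕ) (t : Fin n → R), (∀ i, t i ∈ maximalIdeal R) ∧
      IsArtinianRing (R ⧸ (Ideal.span {x} ⊔ Ideal.span (Set.range t))) ∧
      ringKrullDim R = ((n + 1 : ℕ) : WithBot ℕ∞) := by
  classical
  have hne : Ideal.span {x} ≠ ⊤ := by
    intro h
    have : Ideal.span {x} ≤ maximalIdeal R := by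
      rw [Ideal.span_le]
      rintro _ rfl
      exact hx
    exact (Ideal.IsPrime.ne_top (inferInstance : (maximalIdeal R).IsPrime))
      (top_le_iff.mp (h ▸ this))
  haveI : Nontrivial (R ⧸ Ideal.span {x}) := Ideal.Quotient.nontrivial_iff.mpr hne
  haveI : IsLocalRing (R ⧸ Ideal.span {x}) :=
    IsLocalRing.of_surjective' (Ideal.Quotient.mk (Ideal.span {x})) Ideal.Quotient.mk_surjective
  obtain ⟨s, hs, hcard⟩ :=
    Ideal.exists_finset_card_eq_height_of_isNoetherianRing (maximalIdeal (R ⧸ Ideal.span {x}))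
  obtain ⟨n, hn⟩ : ∃ n : ℕ, n = s.card := ⟨_, rfl⟩
  let e : s ≃ Fin n := s.equivFin.trans (finCongr hn.symm)
  have hlift : ∀ y : R ⧸ Ideal.span {x}, ∃ r : R, Ideal.Quotient.mk (Ideal.span {x}) r = y :=
    Ideal.Quotient.mk_surjective
  choose lift hlift using hlift
  let t : Fin n → R := fun i => lift (e.symm i : R ⧸ Ideal.span {x})
  have hrange : (Ideal.Quotient.mk (Ideal.span {x})) '' Set.range t = (s : Set (R ⧸ Ideal.span {x})) := by
    ext y
    constructor
    · rintro ⟨_, ⟨i, rfl⟩, rfl⟩
      rw [hlift]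
      exact (e.symm i).2
    · intro hy
      refine ⟨t (e ⟨y, hy⟩), ⟨_, rfl⟩, ?_⟩
      simp [t, hlift]
  have hle : Ideal.span (s : Set (R ⧸ Ideal.span {x})) ≤ maximalIdeal (R ⧸ Ideal.span {x}) :=
    hs.1.2
  have ht : ∀ i, t i ∈ maximalIdeal R := by
    intro i
    have h1 : Ideal.Quotient.mk (Ideal.span {x}) (t i) ∈ maximalIdeal (R ⧸ Ideal.span {x}) := by
      apply hle
      apply Ideal.subset_span
      rw [← hrange]
      exact ⟨_, ⟨i, rfl⟩, rfl⟩
    rw [mem_maximalIdeal, mem_nonunits_iff] at h1 ⊢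
    exact fun hu => h1 (hu.map _)
  have hmap : (Ideal.span (Set.range t)).map (Ideal.Quotient.mk (Ideal.span {x})) =
      Ideal.span (s : Set (R ⧸ Ideal.span {x})) := by
    rw [Ideal.map_span, hrange]
  haveI hart : IsArtinianRing ((R ⧸ Ideal.span {x}) ⧸ Ideal.span (s : Set (R ⧸ Ideal.span {x}))) :=
    IsLocalRing.quotient_artinian_of_mem_minimalPrimes_of_isLocalRing _ hs
  refine ⟨n, t, ht, ?_, ?_⟩
  · rw [← hmap] at hart
    exact (DoubleQuot.quotQuotEquivQuotSup (Ideal.span {x})
      (Ideal.span (Set.range t))).isArtinianRing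
  · have h1 := ringKrullDim_quotient_span_singleton_succ_eq_ringKrullDim_of_mem_nonZeroDivisors
      hnzd hx
    rw [← h1, ← IsLocalRing.maximalIdeal_height_eq_ringKrullDim, ← hcard, hn]
    rfl

/-- the mixed characteristic case: finite injective map from a power series ring over a complete
DVR-like base. -/
theorem main_mixed {Λ R : Type u} [CommRing Λ] [IsDomain Λ] [IsLocalRing Λ] [IsNoetherianRing Λ]
    [IsAdicComplete (maximalIdeal Λ) Λ] (π : Λ) (hπ : maximalIdeal Λ = Ideal.span {π})
    [CommRing R] [IsLocalRing R] [IsNoetherianRing R] [IsAdicComplete (maximalIdeal R) R]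
    (v : Λ →+* R) (hv : v π ∈ maximalIdeal R) (hnzd : v π ∈ nonZeroDivisors R)
    (hres : Function.Surjective ((residue R).comp v)) :
    ∃ (n : ℕ) (f : MvPowerSeries (Fin n) Λ →+* R), (∀ a, f (C a) = v a) ∧
      Function.Injective f ∧ f.Finite := by
  classical
  obtain ⟨n, t, ht, hart, hdim⟩ := exists_sop_of_nzd (v π) hv hnzd
  obtain ⟨f, hC, hX⟩ := exists_eval (maximalIdeal R) n t ht v
  have hmW := maximalIdeal_mvPowerSeries_eq_insert π hπ n
  have hmap : (maximalIdeal (MvPowerSeries (Fin n) Λ)).map f =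
      Ideal.span {v π} ⊔ Ideal.span (Set.range t) := by
    rw [hmW, Ideal.map_span, Set.image_insert_eq, ← Set.range_comp, hC,
      ← Set.singleton_union, Ideal.span_union]
    congr 3
    ext i
    exact hX i
  haveI : IsAdicComplete (maximalIdeal (MvPowerSeries (Fin n) Λ)) (MvPowerSeries (Fin n) Λ) :=
    Groth.Agent.Lib.helper19.PSC.isAdicComplete
  have hle : Ideal.span {v π} ⊔ Ideal.span (Set.range t) ≤ maximalIdeal R := by
    rw [sup_le_iff, Ideal.span_le, Ideal.span_le]
    refine ⟨?_, ?_⟩
    · rintro _ rfl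
      exact hv
    · rintro _ ⟨i, rfl⟩
      exact ht i
  have hfinite : f.Finite := by
    apply finite_of_artinian_quotient (maximalIdeal (MvPowerSeries (Fin n) Λ)) f
    · rw [hmap]
      exact hle
    · rw [hmap]
      exact hart
    · apply RingHom.Finite.of_surjective
      intro y
      obtain ⟨a, ha⟩ := hres y
      refine ⟨C a, ?_⟩
      rw [RingHom.comp_apply, hC]
      exact ha
  have hdimW : ringKrullDim (MvPowerSeries (Fin n) Λ) ≤ ((n + 1 : ℕ) : WithBot ℕ∞) := by
    refine (ringKrullDim_le_spanFinrank_maximalIdeal _).trans ?_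
    rw [hmW]
    have hfin : (insert (C π) (Set.range (X : Fin n → MvPowerSeries (Fin n) Λ))).Finite :=
      (Set.finite_range _).insert _
    have h1 := Submodule.spanFinrank_span_le_ncard_of_finite (R := MvPowerSeries (Fin n) Λ) hfin
    have h2 : (insert (C π) (Set.range (X : Fin n → MvPowerSeries (Fin n) Λ))).ncard ≤ n + 1 := by
      refine (Set.ncard_insert_le _ _).trans ?_
      have h3 : (Set.range (X : Fin n → MvPowerSeries (Fin n) Λ)).ncard ≤ n := by
        rw [← Set.image_univ]
        refine (Set.ncard_image_le (Set.finite_univ)).trans ?_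
        simp
      omega
    exact_mod_cast h1.trans h2
  haveI : IsDomain (MvPowerSeries (Fin n) Λ) := NoZeroDivisors.to_isDomain _
  have hinj : Function.Injective f :=
    injective_of_dim_le (n + 1) hdimW hdim f hfinite.to_isIntegral
  exact ⟨n, f, hC, hinj, hfinite⟩

end H14.PSFin
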