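import Groth.Agent.Lib.helper14.McCoy

set_option autoImplicit false
universe u

namespace Groth.Agent.H14

open Matrix in
/-- A matrix whose ideal of maximal minors is the unit ideal has a left inverse. -/
theorem exists_leftInverse_of_minorIdeal_eq_top {R : Type u} [CommRing R] (m n : ℕ)
    (A : Matrix (Fin n) (Fin m) R) (h : CAlgX.minorIdeal A m = ⊤) :
    ∃ L : Matrix (Fin m) (Fin n) R, L * A = 1 := by
  -- the ideal of all `d` with `d • 1` in the left ideal generated by `A`
  let J : Ideal R :=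
    { carrier := {d | ∃ L : Matrix (Fin m) (Fin n) R, L * A = d • (1 : Matrix (Fin m) (Fin m) R)}
      add_mem' := by
        rintro a b ⟨L₁, h₁⟩ ⟨L₂, h₂⟩
        exact ⟨L₁ + L₂, by rw [Matrix.add_mul, h₁, h₂, add_smul]⟩
      zero_mem' := ⟨0, by simp⟩
      smul_mem' := by
        rintro c d ⟨L, hL⟩
        exact ⟨c • L, by rw [Matrix.smul_mul, hL, smul_smul, smul_eq_mul]⟩ }
  have hJ : CAlgX.minorIdeal A m ≤ J := by
    unfold CAlgX.minorIdeal
    rw [Ideal.span_le]
    rintro _ ⟨⟨f, g⟩, rfl⟩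
    show ∃ L : Matrix (Fin m) (Fin n) R, L * A = (A.submatrix f g).det • (1 : Matrix (Fin m) (Fin m) R)
    by_cases hg : Function.Injective g
    · have hbij : Function.Bijective g := (Finite.injective_iff_bijective).mp hg
      let σ : Fin m ≃ Fin m := Equiv.ofBijective g hbij
      set N := A.submatrix f g with hN
      have hN' : A.submatrix f id = N.submatrix id σ.symm := by
        ext i j
        have : g (σ.symm j) = j := Equiv.ofBijective_apply_symm_apply g hbij j
        simp [hN, this]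
      refine ⟨N.adjugate.submatrix σ.symm id * (1 : Matrix (Fin n) (Fin n) R).submatrix f id, ?_⟩
      rw [Matrix.mul_assoc]
      have h1 : (1 : Matrix (Fin n) (Fin n) R).submatrix f id * A = A.submatrix f id := by
        have := Matrix.one_submatrix_mul (α := R) f (Equiv.refl (Fin n)) A
        simpa using this
      rw [h1, hN']
      have h2 := Matrix.submatrix_mul_equiv N.adjugate N σ.symm (Equiv.refl (Fin m)) σ.symm
      simp only [Equiv.coe_refl] at h2
      rw [h2, Matrix.adjugate_mul, Matrix.submatrix_smul]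
      simp [hN]
    · rw [Function.Injective] at hg
      push Not at hg
      obtain ⟨i, j', hij, hne⟩ := hg
      refine ⟨0, ?_⟩
      rw [Matrix.det_zero_of_column_eq hne, zero_smul, Matrix.zero_mul]
      intro k
      simp [hij]
  have h1 : (1 : R) ∈ J := hJ (h ▸ Submodule.mem_top)
  obtain ⟨L, hL⟩ := h1
  exact ⟨L, by rw [hL, one_smul]⟩

/-- Under property (P), an injective map of finite free modules has a left inverse. -/
theorem exists_leftInverse_of_injective {R : Type u} [CommRing R]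
    (hP : (∀ I : Ideal R, I.FG → I ≠ ⊤ → I.annihilator ≠ ⊥)) (m n : ℕ)
    (φ : (Fin m → R) →ₗ[R] (Fin n → R)) (hφ : Function.Injective φ) :
    ∃ ψ : (Fin n → R) →ₗ[R] (Fin m → R), ψ ∘ₗ φ = LinearMap.id := by
  set A : Matrix (Fin n) (Fin m) R := LinearMap.toMatrix' φ with hA
  have hAφ : A.mulVecLin = φ := by
    rw [← Matrix.toLin'_apply', hA, Matrix.toLin'_toMatrix']
  have hinj : Function.Injective A.mulVecLin := by rw [hAφ]; exact hφ
  have hann := (Groth.Agent.H14.mulVecLin_injective_iff_annihilator_minorIdeal m n A).mp hinj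
  have hfg : (CAlgX.minorIdeal A m).FG := by
    unfold CAlgX.minorIdeal
    exact Submodule.fg_span (Set.finite_range _)
  have htop : CAlgX.minorIdeal A m = ⊤ := by
    by_contra hne
    exact hP _ hfg hne hann
  obtain ⟨L, hL⟩ := exists_leftInverse_of_minorIdeal_eq_top m n A htop
  refine ⟨L.mulVecLin, ?_⟩
  rw [← hAφ, ← Matrix.mulVecLin_mul, hL, Matrix.mulVecLin_one]

/-- Under property (P), an injective map of finite projective modules has a retraction. -/
theorem exists_retraction_of_injective {R : Type u} [CommRing R]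
    (hP : (∀ I : Ideal R, I.FG → I ≠ ⊤ → I.annihilator ≠ ⊥))
    (N M : Type*) [AddCommGroup N] [Module R N] [Module.Finite R N] [Module.Projective R N]
    [AddCommGroup M] [Module R M] [Module.Finite R M] [Module.Projective R M]
    (u : N →ₗ[R] M) (hu : Function.Injective u) :
    ∃ r : M →ₗ[R] N, r ∘ₗ u = LinearMap.id := by
  obtain ⟨n, fN, gN, -, -, hN⟩ := Module.Finite.exists_comp_eq_id_of_projective R N
  obtain ⟨m, fM, gM, -, hgM, hM⟩ := Module.Finite.exists_comp_eq_id_of_projective R M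
  have hN' : ∀ x, fN (gN x) = x := fun x => LinearMap.congr_fun hN x
  -- the auxiliary injective map of free modules
  let e : ((Fin m → R) × (Fin n → R)) ≃ₗ[R] (Fin (m + n) → R) :=
    (LinearEquiv.sumArrowLequivProdArrow (Fin m) (Fin n) R R).symm ≪≫ₗ
      LinearEquiv.funCongrLeft R R finSumFinEquiv.symm
  let ũ : (Fin n → R) →ₗ[R] ((Fin m → R) × (Fin n → R)) :=
    LinearMap.prod (gM ∘ₗ u ∘ₗ fN) (LinearMap.id - gN ∘ₗ fN)
  have hũ : Function.Injective ũ := by
    rw [← LinearMap.ker_eq_bot, LinearMap.ker_eq_bot']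
    intro v hv
    have h1 : gM (u (fN v)) = 0 := congrArg Prod.fst hv
    have h2 : v - gN (fN v) = 0 := congrArg Prod.snd hv
    have h3 : fN v = 0 := by
      apply hu
      apply hgM
      rw [h1, map_zero, map_zero]
    rw [h3, map_zero, sub_zero] at h2
    exact h2
  obtain ⟨ψ, hψ⟩ := exists_leftInverse_of_injective hP n (m + n) (e.toLinearMap ∘ₗ ũ)
    (e.injective.comp hũ)
  have hψ' : ∀ v, ψ (e (ũ v)) = v := fun v => LinearMap.congr_fun hψ v
  -- the retraction of `u`
  let r : M →ₗ[R] N := fN ∘ₗ ψ ∘ₗ e.toLinearMap ∘ₗ LinearMap.inl R _ _ ∘ₗ gM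
  have hr : ∀ x, r (u x) = x := by
    intro x
    have h1 : ũ (gN x) = (gM (u x), 0) := by
      show (gM (u (fN (gN x))), gN x - gN (fN (gN x))) = _
      rw [hN', sub_self]
    show fN (ψ (e (gM (u x), 0))) = x
    rw [← h1, hψ', hN']
  exact ⟨r, LinearMap.ext hr⟩

/-- Under property (P), an injective map of free modules has, for every finite set of
coordinates, a linear map which is a retraction on the elements supported there. -/
theorem exists_retraction_on_supported {R : Type u} [CommRing R]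
    (hP : (∀ I : Ideal R, I.FG → I ≠ ⊤ → I.annihilator ≠ ⊥))
    {ι κ : Type*} (φ : (ι →₀ R) →ₗ[R] (κ →₀ R)) (hφ : Function.Injective φ) (I₀ : Finset ι) :
    ∃ r : (κ →₀ R) →ₗ[R] (ι →₀ R), ∀ w : ι →₀ R, w.support ⊆ I₀ → r (φ w) = w := by
  classical
  let K₀ : Finset κ := I₀.biUnion (fun a => (φ (Finsupp.single a 1)).support)
  let F₀ := Finsupp.supported R R (I₀ : Set ι)
  let G₀ := Finsupp.supported R R (K₀ : Set κ)
  have hmap : ∀ x ∈ F₀, φ x ∈ G₀ := by
    have : F₀ ≤ G₀.comap φ := by
      show Finsupp.supported R R (I₀ : Set ι) ≤ _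
      rw [Finsupp.supported_eq_span_single, Submodule.span_le]
      rintro _ ⟨a, ha, rfl⟩
      show φ (Finsupp.single a 1) ∈ G₀
      rw [Finsupp.mem_supported]
      intro b hb
      exact Finset.mem_coe.mpr (Finset.mem_biUnion.mpr ⟨a, ha, hb⟩)
    exact fun x hx => this hx
  let φ₀ : F₀ →ₗ[R] G₀ := φ.restrict hmap
  have hφ₀ : Function.Injective φ₀ := by
    intro x y hxy
    apply Subtype.ext
    apply hφ
    exact congrArg Subtype.val hxy
  haveI : Module.Finite R F₀ :=
    Module.Finite.equiv (Finsupp.supportedEquivFinsupp (M := R) (R := R) (I₀ : Set ι)).symm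
  haveI : Module.Finite R G₀ :=
    Module.Finite.equiv (Finsupp.supportedEquivFinsupp (M := R) (R := R) (K₀ : Set κ)).symm
  haveI : Module.Projective R F₀ :=
    Module.Projective.of_equiv (Finsupp.supportedEquivFinsupp (M := R) (R := R) (I₀ : Set ι)).symm
  haveI : Module.Projective R G₀ :=
    Module.Projective.of_equiv (Finsupp.supportedEquivFinsupp (M := R) (R := R) (K₀ : Set κ)).symm
  obtain ⟨r₀, hr₀⟩ := exists_retraction_of_injective hP F₀ G₀ φ₀ hφ₀
  refine ⟨F₀.subtype ∘ₗ r₀ ∘ₗ Finsupp.restrictDom R R (K₀ : Set κ), ?_⟩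
  intro w hw
  have hwF : w ∈ F₀ := (Finsupp.mem_supported R w).mpr (Finset.coe_subset.mpr hw)
  have h1 : Finsupp.restrictDom R R (K₀ : Set κ) (φ w) = φ₀ ⟨w, hwF⟩ := by
    have := LinearMap.congr_fun (Finsupp.restrictDom_comp_subtype (M := R) (R := R) (K₀ : Set κ))
      (φ₀ ⟨w, hwF⟩)
    exact this
  show ((r₀ (Finsupp.restrictDom R R (K₀ : Set κ) (φ w)) : F₀) : ι →₀ R) = w
  rw [h1]
  have h2 : r₀ (φ₀ ⟨w, hwF⟩) = ⟨w, hwF⟩ := LinearMap.congr_fun hr₀ ⟨w, hwF⟩
  rw [h2]

end Groth.Agent.H14
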