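import Mathlib

set_option autoImplicit false
universe u

namespace H14.RatFun

open TensorProduct Polynomial

section General

/-- An injective ring hom into a ring with irreducible spectrum has source with irreducible
spectrum. -/
theorem irreducibleSpace_of_injective {R C : Type*} [CommRing R] [CommRing C] (f : R →+* C)
    (hf : Function.Injective f) [IrreducibleSpace (PrimeSpectrum C)] :
    IrreducibleSpace (PrimeSpectrum R) := by
  have hC := (PrimeSpectrum.irreducibleSpace_iff_isPrime_nilradical (R := C)).mp inferInstance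
  rw [PrimeSpectrum.irreducibleSpace_iff_isPrime_nilradical]
  have : nilradical R = (nilradical C).comap f := by
    ext x
    rw [Ideal.mem_comap, mem_nilradical, mem_nilradical, IsNilpotent.map_iff hf]
  rw [this]
  exact Ideal.IsPrime.comap f

/-- A "localization-like" injective ring hom out of a ring with irreducible spectrum has target
with irreducible spectrum. -/
theorem irreducibleSpace_of_localizationLike {B C : Type*} [CommRing B] [CommRing C] (ψ : B →+* C)
    (hψ : Function.Injective ψ) [Nontrivial C] [IrreducibleSpace (PrimeSpectrum B)]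
    (h : ∀ c : C, ∃ s b : B, IsUnit (ψ s) ∧ c * ψ s = ψ b) :
    IrreducibleSpace (PrimeSpectrum C) := by
  have hB := (PrimeSpectrum.irreducibleSpace_iff_isPrime_nilradical (R := B)).mp inferInstance
  rw [PrimeSpectrum.irreducibleSpace_iff_isPrime_nilradical, Ideal.isPrime_iff]
  constructor
  · rw [Ne, Ideal.eq_top_iff_one, mem_nilradical]
    exact not_isNilpotent_one
  · intro x y hxy
    obtain ⟨s₁, b₁, hu₁, h₁⟩ := h x
    obtain ⟨s₂, b₂, hu₂, h₂⟩ := h y
    have hnil : IsNilpotent (b₁ * b₂) := by
      rw [← IsNilpotent.map_iff hψ, map_mul, ← h₁, ← h₂]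
      have : x * ψ s₁ * (y * ψ s₂) = (x * y) * (ψ s₁ * ψ s₂) := by ring
      rw [this]
      exact (Commute.all _ _).isNilpotent_mul_right (mem_nilradical.mp hxy)
    have key : ∀ (z : C) (s b : B), IsUnit (ψ s) → z * ψ s = ψ b → IsNilpotent b →
        z ∈ nilradical C := by
      intro z s b hu hz hb
      rw [mem_nilradical]
      obtain ⟨u, hu'⟩ := hu
      have : z = ψ b * ↑u⁻¹ := by
        rw [← hz, ← hu', mul_assoc, Units.mul_inv, mul_one]
      rw [this]
      exact (Commute.all _ _).isNilpotent_mul_right (hb.map ψ)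
    rcases hB.mem_or_mem (mem_nilradical.mpr hnil) with h' | h'
    · exact Or.inl (key x s₁ b₁ hu₁ h₁ (mem_nilradical.mp h'))
    · exact Or.inr (key y s₂ b₂ hu₂ h₂ (mem_nilradical.mp h'))

end General

section Core

variable {k K kt Kt : Type*} [Field k] [Field K] [Algebra k K] [Field kt] [Field Kt]
  [Algebra k[X] kt] [IsFractionRing k[X] kt] [Algebra K[X] Kt] [IsFractionRing K[X] Kt]
  [Algebra kt Kt] [Algebra k kt] [Algebra K Kt] [Algebra k Kt] [IsScalarTower k kt Kt]
  [IsScalarTower k K Kt]

/-- a linear map sending a basis to a linearly independent family is injective -/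
theorem injective_of_basis_linearIndependent {R M N ι : Type*} [CommRing R] [AddCommGroup M]
    [AddCommGroup N] [Module R M] [Module R N] (b : Module.Basis ι R M) (f : M →ₗ[R] N)
    (h : LinearIndependent R (fun i => f (b i))) : Function.Injective f := by
  rw [← LinearMap.ker_eq_bot, LinearMap.ker_eq_bot']
  intro x hx
  have h1 : Finsupp.linearCombination R (fun i => f (b i)) (b.repr x) = 0 := by
    rw [← hx]
    conv_rhs => rw [← b.linearCombination_repr x]
    rw [Finsupp.linearCombination_apply, Finsupp.linearCombination_apply, map_finsuppSum]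
    simp
  have h2 := linearIndependent_iff.mp h _ h1
  exact (b.repr.map_eq_zero_iff).mp h2

include K in
/-- Lemma A: `kt ⊗[k] K → Kt` is injective. -/
theorem productLeft_injective
    (hK : ∀ x : K, algebraMap K Kt x = algebraMap K[X] Kt (C x))
    (hcompat : ∀ p : k[X], algebraMap kt Kt (algebraMap k[X] kt p) =
      algebraMap K[X] Kt (p.map (algebraMap k K))) :
    Function.Injective (Algebra.TensorProduct.productLeftAlgHom (Algebra.ofId kt Kt)
      (IsScalarTower.toAlgHom k K Kt) : kt ⊗[k] K →ₐ[kt] Kt) := by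
  let b := Module.Basis.ofVectorSpace k K
  let B := Algebra.TensorProduct.basis kt b
  refine injective_of_basis_linearIndependent B
    (Algebra.TensorProduct.productLeftAlgHom (Algebra.ofId kt Kt)
      (IsScalarTower.toAlgHom k K Kt)).toLinearMap ?_
  have hB : ∀ i, (Algebra.TensorProduct.productLeftAlgHom (Algebra.ofId kt Kt)
      (IsScalarTower.toAlgHom k K Kt)).toLinearMap (B i) = algebraMap K Kt (b i) := by
    intro i
    simp [B, Algebra.TensorProduct.basis_apply]
  simp_rw [hB]
  letI : Algebra k[X] Kt := ((algebraMap kt Kt).comp (algebraMap k[X] kt)).toAlgebra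
  haveI : IsScalarTower k[X] kt Kt := IsScalarTower.of_algebraMap_eq (fun _ => rfl)
  rw [← LinearIndependent.iff_fractionRing k[X] kt]
  rw [linearIndependent_iff']
  intro s g hg i hi
  have h1 : ∀ j, g j • algebraMap K Kt (b j) =
      algebraMap K[X] Kt ((g j).map (algebraMap k K) * C (b j)) := by
    intro j
    rw [Algebra.smul_def, map_mul, ← hcompat, hK]
    rfl
  simp_rw [h1] at hg
  rw [← map_sum] at hg
  have h2 : ∑ j ∈ s, (g j).map (algebraMap k K) * C (b j) = 0 :=
    (IsFractionRing.injective K[X] Kt) (by rw [hg, map_zero])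
  ext n
  have h3 := congrArg (fun p => p.coeff n) h2
  simp only [Polynomial.finsetSum_coeff, Polynomial.coeff_mul_C, Polynomial.coeff_map,
    Polynomial.coeff_zero] at h3
  have h4 : ∑ j ∈ s, (g j).coeff n • b j = 0 := by
    rw [← h3]
    exact Finset.sum_congr rfl (fun j _ => Algebra.smul_def _ _)
  have := linearIndependent_iff'.mp b.linearIndependent s (fun j => (g j).coeff n) h4 i hi
  simpa using this

end Core

section Psi

variable {k K kt Kt : Type*} [Field k] [Field K] [Algebra k K] [Field kt] [Field Kt]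
  [Algebra k[X] kt] [IsFractionRing k[X] kt] [Algebra K[X] Kt] [IsFractionRing K[X] Kt]
  [Algebra kt Kt] [Algebra k kt] [Algebra K Kt] [Algebra k Kt] [IsScalarTower k kt Kt]
  [IsScalarTower k K Kt]
  (L : Type*) [Field L] [Algebra kt L] [Algebra k L] [IsScalarTower k kt L]

variable (k K kt Kt) in
/-- the comparison map `L ⊗[k] K → L ⊗[kt] Kt` -/
noncomputable def psi : L ⊗[k] K →ₐ[kt] L ⊗[kt] Kt :=
  (Algebra.TensorProduct.map (AlgHom.id kt L)
    (Algebra.TensorProduct.productLeftAlgHom (Algebra.ofId kt Kt)
      (IsScalarTower.toAlgHom k K Kt))).comp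
    (Algebra.TensorProduct.cancelBaseChange k kt kt L K).symm.toAlgHom

@[simp]
theorem psi_tmul (l : L) (a : K) :
    psi k K kt Kt L (l ⊗ₜ a) = l ⊗ₜ[kt] algebraMap K Kt a := by
  simp [psi]

theorem psi_injective
    (hK : ∀ x : K, algebraMap K Kt x = algebraMap K[X] Kt (C x))
    (hcompat : ∀ p : k[X], algebraMap kt Kt (algebraMap k[X] kt p) =
      algebraMap K[X] Kt (p.map (algebraMap k K))) :
    Function.Injective (psi k K kt Kt L) := by
  have h1 := productLeft_injective (k := k) (K := K) (kt := kt) (Kt := Kt) hK hcompat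
  have h2 : Function.Injective (Algebra.TensorProduct.map (AlgHom.id kt L)
    (Algebra.TensorProduct.productLeftAlgHom (Algebra.ofId kt Kt)
      (IsScalarTower.toAlgHom k K Kt))) :=
    Module.Flat.lTensor_preserves_injective_linearMap (M := L)
      (Algebra.TensorProduct.productLeftAlgHom (Algebra.ofId kt Kt)
      (IsScalarTower.toAlgHom k K Kt)).toLinearMap h1
  exact h2.comp (Algebra.TensorProduct.cancelBaseChange k kt kt L K).symm.injective

end Psi

section Psi2

variable {k K kt Kt : Type*} [Field k] [Field K] [Algebra k K] [Field kt] [Field Kt]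
  [Algebra k[X] kt] [IsFractionRing k[X] kt] [Algebra K[X] Kt] [IsFractionRing K[X] Kt]
  [Algebra kt Kt] [Algebra k kt] [Algebra K Kt] [Algebra k Kt] [IsScalarTower k kt Kt]
  [IsScalarTower k K Kt]
  (L : Type*) [Field L] [Algebra kt L] [Algebra k L] [IsScalarTower k kt L]

theorem exists_psi_eq_one_tmul
    (hK : ∀ x : K, algebraMap K Kt x = algebraMap K[X] Kt (C x))
    (hcompat : ∀ p : k[X], algebraMap kt Kt (algebraMap k[X] kt p) =
      algebraMap K[X] Kt (p.map (algebraMap k K))) (q : K[X]) :
    ∃ b, psi k K kt Kt L b = 1 ⊗ₜ[kt] algebraMap K[X] Kt q := by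
  induction q using Polynomial.induction_on' with
  | add p q hp hq =>
    obtain ⟨b₁, h₁⟩ := hp
    obtain ⟨b₂, h₂⟩ := hq
    exact ⟨b₁ + b₂, by rw [map_add, h₁, h₂, map_add, TensorProduct.tmul_add]⟩
  | monomial n a =>
    refine ⟨(algebraMap kt L (algebraMap k[X] kt X ^ n)) ⊗ₜ a, ?_⟩
    rw [psi_tmul]
    have : algebraMap K[X] Kt (monomial n a) =
        (algebraMap k[X] kt X ^ n) • algebraMap K Kt a := by
      rw [← C_mul_X_pow_eq_monomial, map_mul, map_pow, ← hK, Algebra.smul_def, map_pow, hcompat,
        Polynomial.map_X, mul_comm]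
    rw [this, TensorProduct.tmul_smul, TensorProduct.smul_tmul', Algebra.smul_def, mul_one]

theorem exists_psi_mul
    (hK : ∀ x : K, algebraMap K Kt x = algebraMap K[X] Kt (C x))
    (hcompat : ∀ p : k[X], algebraMap kt Kt (algebraMap k[X] kt p) =
      algebraMap K[X] Kt (p.map (algebraMap k K))) (c : L ⊗[kt] Kt) :
    ∃ s b : L ⊗[k] K, IsUnit (psi k K kt Kt L s) ∧
      c * psi k K kt Kt L s = psi k K kt Kt L b := by
  induction c using TensorProduct.induction_on with
  | zero => exact ⟨1, 0, by simp, by simp⟩
  | tmul l z =>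
    obtain ⟨q, r, hr, rfl⟩ := IsFractionRing.div_surjective (A := K[X]) z
    obtain ⟨bq, hq⟩ := exists_psi_eq_one_tmul L hK hcompat q
    obtain ⟨br, hbr⟩ := exists_psi_eq_one_tmul L hK hcompat r
    have hr0 : algebraMap K[X] Kt r ≠ 0 :=
      IsFractionRing.to_map_ne_zero_of_mem_nonZeroDivisors hr
    refine ⟨br, (l ⊗ₜ 1) * bq, ?_, ?_⟩
    · rw [hbr]
      exact (IsUnit.mk0 _ hr0).map (Algebra.TensorProduct.includeRight : Kt →ₐ[kt] L ⊗[kt] Kt)
    · rw [hbr, map_mul, hq, psi_tmul, map_one, Algebra.TensorProduct.tmul_mul_tmul,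
        Algebra.TensorProduct.tmul_mul_tmul, mul_one, one_mul, div_mul_cancel₀ _ hr0]
  | add x y hx hy =>
    obtain ⟨s₁, b₁, hu₁, h₁⟩ := hx
    obtain ⟨s₂, b₂, hu₂, h₂⟩ := hy
    refine ⟨s₁ * s₂, b₁ * s₂ + b₂ * s₁, ?_, ?_⟩
    · rw [map_mul]; exact hu₁.mul hu₂
    · rw [map_mul, map_add, map_mul, map_mul, ← h₁, ← h₂]; ring

theorem irreducibleSpace_tensor_of_irreducibleSpace
    (hK : ∀ x : K, algebraMap K Kt x = algebraMap K[X] Kt (C x))
    (hcompat : ∀ p : k[X], algebraMap kt Kt (algebraMap k[X] kt p) =
      algebraMap K[X] Kt (p.map (algebraMap k K)))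
    [IrreducibleSpace (PrimeSpectrum (L ⊗[k] K))] :
    IrreducibleSpace (PrimeSpectrum (L ⊗[kt] Kt)) := by
  haveI : Nontrivial (L ⊗[kt] Kt) :=
    (Algebra.TensorProduct.includeLeft_injective (S := kt) (A := L) (B := Kt) (R := kt)
      (algebraMap kt Kt).injective).nontrivial
  exact irreducibleSpace_of_localizationLike (psi k K kt Kt L).toRingHom
    (psi_injective L hK hcompat) (exists_psi_mul L hK hcompat)

end Psi2

/-- a copy of `RatFunc k'` carrying only its field structure -/
def RF (k' : Type u) [Field k'] : Type u := RatFunc k'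

noncomputable instance (k' : Type u) [Field k'] : Field (RF k') :=
  inferInstanceAs (Field (RatFunc k'))

/-- the inclusion of polynomials -/
noncomputable def RF.of (k' : Type u) [Field k'] : k'[X] →+* RF k' :=
  algebraMap k'[X] (RatFunc k')

theorem RF.of_injective (k' : Type u) [Field k'] : Function.Injective (RF.of k') :=
  IsFractionRing.injective k'[X] (RatFunc k')

theorem main {k K : Type u} [Field k] [Field K] [Algebra k K]
    (kt Kt : Type u) [Field kt] [Field Kt] [Algebra k[X] kt] [IsFractionRing k[X] kt]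
    [Algebra K[X] Kt] [IsFractionRing K[X] Kt] [Algebra kt Kt]
    (hcompat : ∀ p : k[X], algebraMap kt Kt (algebraMap k[X] kt p) =
      algebraMap K[X] Kt (p.map (algebraMap k K))) :
    (∀ (k' : Type u) [Field k'] [Algebra k k'], IrreducibleSpace (PrimeSpectrum (k' ⊗[k] K))) ↔
      ∀ (L : Type u) [Field L] [Algebra kt L], IrreducibleSpace (PrimeSpectrum (L ⊗[kt] Kt)) := by
  letI : Algebra k kt := ((algebraMap k[X] kt).comp C).toAlgebra
  letI : Algebra K Kt := ((algebraMap K[X] Kt).comp C).toAlgebra
  letI : Algebra k Kt := ((algebraMap kt Kt).comp (algebraMap k kt)).toAlgebra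
  haveI : IsScalarTower k kt Kt := IsScalarTower.of_algebraMap_eq (fun _ => rfl)
  haveI : IsScalarTower k K Kt := IsScalarTower.of_algebraMap_eq (fun x => by
    change algebraMap kt Kt (algebraMap k[X] kt (C x)) = algebraMap K[X] Kt (C (algebraMap k K x))
    rw [hcompat, Polynomial.map_C])
  have hK : ∀ x : K, algebraMap K Kt x = algebraMap K[X] Kt (C x) := fun _ => rfl
  constructor
  · intro h L _ _
    letI : Algebra k L := ((algebraMap kt L).comp (algebraMap k kt)).toAlgebra
    haveI : IsScalarTower k kt L := IsScalarTower.of_algebraMap_eq (fun _ => rfl)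
    haveI := h L
    exact irreducibleSpace_tensor_of_irreducibleSpace L hK hcompat
  · intro h k' _ _
    let g : k[X] →+* RF k' :=
      (RF.of k').comp (Polynomial.mapRingHom (algebraMap k k'))
    have hg : Function.Injective g :=
      (RF.of_injective k').comp
        (Polynomial.map_injective _ (algebraMap k k').injective)
    letI : Algebra kt (RF k') := (IsFractionRing.lift hg).toAlgebra
    letI : Algebra k (RF k') :=
      ((algebraMap kt (RF k')).comp (algebraMap k kt)).toAlgebra
    haveI : IsScalarTower k kt (RF k') := IsScalarTower.of_algebraMap_eq (fun _ => rfl)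
    haveI := h (RF k')
    let φ : k' →ₐ[k] RF k' :=
      { toRingHom := (RF.of k').comp C
        commutes' := by
          intro x
          change RF.of k' (C (algebraMap k k' x)) =
            IsFractionRing.lift hg (algebraMap k[X] kt (C x))
          rw [IsFractionRing.lift_algebraMap]
          simp [g] }
    have hφ : Function.Injective (Algebra.TensorProduct.map φ (AlgHom.id k K)) :=
      Module.Flat.rTensor_preserves_injective_linearMap (M := K) φ.toLinearMap
        φ.toRingHom.injective
    exact irreducibleSpace_of_injective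
      ((psi k K kt Kt (RF k')).toRingHom.comp
        (Algebra.TensorProduct.map φ (AlgHom.id k K)).toRingHom)
      ((psi_injective (RF k') hK hcompat).comp hφ)

end H14.RatFun
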