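import Mathlib

set_option autoImplicit false
universe u

namespace Groth.Agent.Lib.H14.SemiCompl

open Ideal

section
variable {A₀ A : Type u} [CommRing A₀] [CommRing A] [Algebra A₀ A]

/-- For a finite (integral) extension, the extension of the Jacobson radical lies in the
Jacobson radical. -/
theorem map_jac_le [Module.Finite A₀ A] :
    (Ideal.jacobson (⊥ : Ideal A₀)).map (algebraMap A₀ A) ≤ Ideal.jacobson (⊥ : Ideal A) := by
  rw [Ideal.map_le_iff_le_comap]
  intro x hx
  rw [Ideal.mem_comap, Ideal.jacobson, Ideal.mem_sInf]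
  rintro m ⟨-, hm⟩
  have : Algebra.IsIntegral A₀ A := Algebra.IsIntegral.of_finite A₀ A
  have hmax : (m.comap (algebraMap A₀ A)).IsMaximal :=
    Ideal.isMaximal_comap_of_isIntegral_of_isMaximal m
  have : x ∈ m.comap (algebraMap A₀ A) := by
    rw [Ideal.jacobson, Ideal.mem_sInf] at hx
    exact hx ⟨bot_le, hmax⟩
  exact this

/-- A semilocal Noetherian ring modulo its Jacobson radical is Artinian. -/
theorem isArtinianRing_quot_jac [IsNoetherianRing A₀] [Finite (MaximalSpectrum A₀)] :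
    IsArtinianRing (A₀ ⧸ Ideal.jacobson (⊥ : Ideal A₀)) := by
  classical
  rw [isArtinianRing_iff_krullDimLE_zero,
    Ideal.krullDimLE_zero_quotient_iff_forall_minimalPrimes_isMaximal]
  intro J hJ
  have hJp : J.IsPrime := hJ.1.1
  have hle : Ideal.jacobson (⊥ : Ideal A₀) ≤ J := hJ.1.2
  have : Fintype (MaximalSpectrum A₀) := Fintype.ofFinite _
  have h1 : (Finset.univ : Finset (MaximalSpectrum A₀)).inf MaximalSpectrum.asIdeal ≤ J := by
    refine le_trans ?_ hle
    intro x hx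
    rw [Ideal.jacobson, Ideal.mem_sInf]
    rintro m ⟨-, hm⟩
    have : (Finset.univ : Finset (MaximalSpectrum A₀)).inf MaximalSpectrum.asIdeal ≤ m :=
      Finset.inf_le (f := MaximalSpectrum.asIdeal) (Finset.mem_univ ⟨m, hm⟩)
    exact this hx
  obtain ⟨m, -, hm⟩ := hJp.inf_le'.1 h1
  have := m.isMaximal.eq_of_le hJp.ne_top hm
  rw [← this]
  exact m.isMaximal

/-- Some power of the Jacobson radical of `A` lies in the extension of the Jacobson radical of
`A₀`. -/
theorem exists_pow_le [IsNoetherianRing A₀] [Finite (MaximalSpectrum A₀)] [Module.Finite A₀ A] :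
    ∃ m : ℕ, (Ideal.jacobson (⊥ : Ideal A)) ^ m ≤
      (Ideal.jacobson (⊥ : Ideal A₀)).map (algebraMap A₀ A) := by
  set r₀ := Ideal.jacobson (⊥ : Ideal A₀) with hr₀
  set I := r₀.map (algebraMap A₀ A) with hI
  have : IsArtinianRing (A₀ ⧸ r₀) := isArtinianRing_quot_jac
  -- A ⧸ I is a finite module over A₀ ⧸ r₀
  letI : Algebra (A₀ ⧸ r₀) (A ⧸ I) := Ideal.Quotient.algebraQuotientOfLEComap Ideal.le_comap_map
  have : IsScalarTower A₀ (A₀ ⧸ r₀) (A ⧸ I) := IsScalarTower.of_algebraMap_eq (fun x => rfl)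
  have : Module.Finite A₀ (A ⧸ I) :=
    Module.Finite.of_surjective (Ideal.Quotient.mkₐ A₀ I).toLinearMap Ideal.Quotient.mk_surjective
  have : Module.Finite (A₀ ⧸ r₀) (A ⧸ I) := Module.Finite.of_restrictScalars_finite A₀ _ _
  have : IsArtinianRing (A ⧸ I) := IsArtinianRing.of_finite (A₀ ⧸ r₀) (A ⧸ I)
  obtain ⟨m, hm⟩ := IsArtinianRing.isNilpotent_jacobson_bot (R := A ⧸ I)
  refine ⟨m, ?_⟩
  have h1 : Ideal.jacobson (⊥ : Ideal A) ≤ Ideal.jacobson I := Ideal.jacobson_mono bot_le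
  have h2 : (Ideal.jacobson I).map (Ideal.Quotient.mk I) = Ideal.jacobson (⊥ : Ideal (A ⧸ I)) := by
    rw [Ideal.map_jacobson_of_surjective Ideal.Quotient.mk_surjective (by rw [Ideal.mk_ker])]
    rw [Ideal.map_quotient_self]
  have h3 : ((Ideal.jacobson I) ^ m).map (Ideal.Quotient.mk I) = ⊥ := by
    rw [Ideal.map_pow, h2, hm, Ideal.zero_eq_bot]
  have h4 : (Ideal.jacobson I) ^ m ≤ I := by
    intro x hx
    have : Ideal.Quotient.mk I x ∈ ((Ideal.jacobson I) ^ m).map (Ideal.Quotient.mk I) :=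
      Ideal.mem_map_of_mem _ hx
    rw [h3, Ideal.mem_bot, Ideal.Quotient.eq_zero_iff_mem] at this
    exact this
  exact le_trans (Ideal.pow_right_mono h1 m) h4

end

end Groth.Agent.Lib.H14.SemiCompl
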