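import Mathlib
import Groth.Agent.Lib.helper14.SemiComplA
import Groth.Agent.Lib.helper25.AdicCmp

set_option autoImplicit false
universe u

namespace Groth.Agent.Lib.H14.SemiCompl

open Ideal Groth.Agent.Lib.helper25.AdicCmp TensorProduct

section
variable (A₀ A : Type u) [CommRing A₀] [CommRing A] [Algebra A₀ A]

theorem h1 [Module.Finite A₀ A] (n : ℕ) :
    ∀ x ∈ ((Ideal.jacobson (⊥ : Ideal A₀)) ^ n • ⊤ : Submodule A₀ A),
      (AddMonoidHom.id A) x ∈ ((Ideal.jacobson (⊥ : Ideal A)) ^ n • ⊤ : Submodule A A) := by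
  intro x hx
  rw [Ideal.smul_top_eq_map] at hx
  have hx' : x ∈ (Ideal.jacobson (⊥ : Ideal A₀) ^ n).map (algebraMap A₀ A) := hx
  rw [Ideal.map_pow] at hx'
  have : x ∈ Ideal.jacobson (⊥ : Ideal A) ^ n := Ideal.pow_right_mono map_jac_le n hx'
  simpa using this

theorem h2 [IsNoetherianRing A₀] [Finite (MaximalSpectrum A₀)] [Module.Finite A₀ A] (n : ℕ) :
    ∃ k, ∀ y : A, (AddMonoidHom.id A) y ∈ ((Ideal.jacobson (⊥ : Ideal A)) ^ k • ⊤ : Submodule A A) →
      y ∈ ((Ideal.jacobson (⊥ : Ideal A₀)) ^ n • ⊤ : Submodule A₀ A) := by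
  obtain ⟨m, hm⟩ := exists_pow_le (A₀ := A₀) (A := A)
  refine ⟨m * n, fun y hy => ?_⟩
  rw [Ideal.smul_top_eq_map]
  show y ∈ (Ideal.jacobson (⊥ : Ideal A₀) ^ n).map (algebraMap A₀ A)
  rw [Ideal.map_pow]
  have : y ∈ Ideal.jacobson (⊥ : Ideal A) ^ (m * n) := by simpa using hy
  rw [pow_mul] at this
  exact Ideal.pow_right_mono hm n this

/-- comparison bijection between the `r₀`-adic completion of the module `A` and the `r`-adic
completion of the ring `A`. -/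
noncomputable def cmp [Module.Finite A₀ A] :
    AdicCompletion (Ideal.jacobson (⊥ : Ideal A₀)) A → AdicCompletion (Ideal.jacobson (⊥ : Ideal A)) A :=
  compMap (Ideal.jacobson (⊥ : Ideal A₀)) (Ideal.jacobson (⊥ : Ideal A)) (AddMonoidHom.id A)
    (h1 A₀ A)

theorem cmp_bijective [IsNoetherianRing A₀] [Finite (MaximalSpectrum A₀)] [Module.Finite A₀ A] :
    Function.Bijective (cmp A₀ A) :=
  ⟨compMap_injective _ _ _ _ (h2 A₀ A),
    compMap_surjective _ _ _ _ (fun x => ⟨x, rfl⟩) (h2 A₀ A)⟩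

theorem cmp_add [Module.Finite A₀ A] (x y : AdicCompletion (Ideal.jacobson (⊥ : Ideal A₀)) A) :
    cmp A₀ A (x + y) = cmp A₀ A x + cmp A₀ A y := compMap_add _ _ _ _ x y

theorem cmp_zero [Module.Finite A₀ A] : cmp A₀ A 0 = 0 := by
  have := cmp_add A₀ A 0 0
  rw [add_zero] at this
  exact left_eq_add.mp this

theorem le_comap_pow [Module.Finite A₀ A] (n : ℕ) :
    (Ideal.jacobson (⊥ : Ideal A₀)) ^ n ≤
      ((Ideal.jacobson (⊥ : Ideal A)) ^ n).comap (Algebra.ofId A₀ A) := by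
  have : (Ideal.jacobson (⊥ : Ideal A₀) ^ n).map (algebraMap A₀ A) ≤ Ideal.jacobson (⊥ : Ideal A) ^ n := by
    rw [Ideal.map_pow]
    exact Ideal.pow_right_mono map_jac_le n
  exact Ideal.map_le_iff_le_comap.1 this

/-- the level-`n` maps. -/
noncomputable def fN [Module.Finite A₀ A] (n : ℕ) :
    AdicCompletion (Ideal.jacobson (⊥ : Ideal A₀)) A₀ →ₐ[A₀] A ⧸ (Ideal.jacobson (⊥ : Ideal A)) ^ n :=
  (Ideal.quotientMapₐ ((Ideal.jacobson (⊥ : Ideal A)) ^ n) (Algebra.ofId A₀ A)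
      (le_comap_pow A₀ A n)).comp (AdicCompletion.evalₐ (Ideal.jacobson (⊥ : Ideal A₀)) n)

theorem fN_compat [Module.Finite A₀ A] {m n : ℕ} (hle : m ≤ n) :
    (Ideal.Quotient.factorₐ A₀ (Ideal.pow_le_pow_right hle)).comp (fN A₀ A n) = fN A₀ A m := by
  ext x
  induction x using AdicCompletion.induction_on with | h c =>
  simp only [fN, AlgHom.comp_apply, AdicCompletion.evalₐ_mk]
  show Ideal.Quotient.mk _ (algebraMap A₀ A (c n)) = Ideal.Quotient.mk _ (algebraMap A₀ A (c m))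
  rw [Ideal.Quotient.eq, ← map_sub]
  have h := AdicCompletion.Ideal.mk_eq_mk (Ideal.jacobson (⊥ : Ideal A₀)) hle c
  rw [Ideal.Quotient.eq] at h
  exact le_comap_pow A₀ A m h

/-- the map on completions `Â₀ → Â`. -/
noncomputable def iotaHat [Module.Finite A₀ A] :
    AdicCompletion (Ideal.jacobson (⊥ : Ideal A₀)) A₀ →ₐ[A₀]
      AdicCompletion (Ideal.jacobson (⊥ : Ideal A)) A :=
  AdicCompletion.liftAlgHom (Ideal.jacobson (⊥ : Ideal A)) (fN A₀ A) (fN_compat A₀ A)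

theorem evalₐ_iotaHat [Module.Finite A₀ A]
    (x : AdicCompletion (Ideal.jacobson (⊥ : Ideal A₀)) A₀) (n : ℕ) :
    AdicCompletion.evalₐ (Ideal.jacobson (⊥ : Ideal A)) n (iotaHat A₀ A x) =
      Ideal.quotientMapₐ ((Ideal.jacobson (⊥ : Ideal A)) ^ n) (Algebra.ofId A₀ A)
        (le_comap_pow A₀ A n) (AdicCompletion.evalₐ (Ideal.jacobson (⊥ : Ideal A₀)) n x) := by
  unfold iotaHat
  rw [AdicCompletion.evalₐ_liftAlgHom]
  rfl

theorem iotaHat_mk_val [Module.Finite A₀ A]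
    (c : AdicCompletion.AdicCauchySequence (Ideal.jacobson (⊥ : Ideal A₀)) A₀) (n : ℕ) :
    (iotaHat A₀ A (AdicCompletion.mk _ _ c)).val n = Submodule.Quotient.mk (algebraMap A₀ A (c n)) := by
  have h := evalₐ_iotaHat A₀ A (AdicCompletion.mk _ _ c) n
  rw [AdicCompletion.evalₐ_mk] at h
  have h' := AdicCompletion.factor_evalₐ_eq_eval (Ideal.jacobson (⊥ : Ideal A))
    (iotaHat A₀ A (AdicCompletion.mk _ _ c)) (n := n) (by simp)
  rw [h] at h'
  exact h'.symm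

end

end Groth.Agent.Lib.H14.SemiCompl
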