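import Mathlib
import Groth.Agent.Lib.helper14.SemiComplB

set_option autoImplicit false
universe u

namespace Groth.Agent.Lib.H14.SemiCompl

open Ideal Groth.Agent.Lib.helper25.AdicCmp TensorProduct

section
variable (A₀ A : Type u) [CommRing A₀] [CommRing A] [Algebra A₀ A]

/-- the algebra map `Â₀ ⊗[A₀] A → Â`. -/
noncomputable def Psi [Module.Finite A₀ A] :
    AdicCompletion (Ideal.jacobson (⊥ : Ideal A₀)) A₀ ⊗[A₀] A →ₐ[A₀]
      AdicCompletion (Ideal.jacobson (⊥ : Ideal A)) A :=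
  Algebra.TensorProduct.productMap (iotaHat A₀ A)
    ((Algebra.ofId A (AdicCompletion (Ideal.jacobson (⊥ : Ideal A)) A)).restrictScalars A₀)

theorem Psi_tmul [Module.Finite A₀ A] (x : AdicCompletion (Ideal.jacobson (⊥ : Ideal A₀)) A₀) (a : A) :
    Psi A₀ A (x ⊗ₜ a) = iotaHat A₀ A x * AdicCompletion.of _ _ a := by
  simp only [Psi, Algebra.TensorProduct.productMap_apply_tmul]
  rfl

theorem Psi_eq [Module.Finite A₀ A]
    (s : AdicCompletion (Ideal.jacobson (⊥ : Ideal A₀)) A₀ ⊗[A₀] A) :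
    Psi A₀ A s = cmp A₀ A (AdicCompletion.ofTensorProduct (Ideal.jacobson (⊥ : Ideal A₀)) A s) := by
  induction s using TensorProduct.induction_on with
  | zero => simp [cmp_zero]
  | add s t hs ht => rw [map_add, map_add, cmp_add, hs, ht]
  | tmul x a =>
    rw [AdicCompletion.ofTensorProduct_tmul, Psi_tmul]
    induction x using AdicCompletion.induction_on with | h c =>
    ext n
    rw [AdicCompletion.val_mul, iotaHat_mk_val]
    show _ = qmap (Ideal.jacobson (⊥ : Ideal A₀)) (Ideal.jacobson (⊥ : Ideal A)) (AddMonoidHom.id A)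
      (h1 A₀ A) n ((AdicCompletion.mk (Ideal.jacobson (⊥ : Ideal A₀)) A₀ c •
        AdicCompletion.of (Ideal.jacobson (⊥ : Ideal A₀)) A a).val n)
    rw [AdicCompletion.smul_eval]
    show (Submodule.Quotient.mk (algebraMap A₀ A (c n) * a) :
      A ⧸ ((Ideal.jacobson (⊥ : Ideal A)) ^ n • ⊤ : Submodule A A)) = Submodule.Quotient.mk (c n • a)
    rw [Algebra.smul_def]

theorem Psi_bijective [IsNoetherianRing A₀] [Finite (MaximalSpectrum A₀)] [Module.Finite A₀ A] :
    Function.Bijective (Psi A₀ A) := by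
  have h : (Psi A₀ A : _ → _) = cmp A₀ A ∘
      (AdicCompletion.ofTensorProduct (Ideal.jacobson (⊥ : Ideal A₀)) A) := by
    funext s
    exact Psi_eq A₀ A s
  rw [h]
  exact (cmp_bijective A₀ A).comp
    (AdicCompletion.ofTensorProduct_bijective_of_finite_of_isNoetherian _ _)

/-- the algebra isomorphism `Â₀ ⊗[A₀] A ≃ Â`. -/
noncomputable def Theta [IsNoetherianRing A₀] [Finite (MaximalSpectrum A₀)] [Module.Finite A₀ A] :
    AdicCompletion (Ideal.jacobson (⊥ : Ideal A₀)) A₀ ⊗[A₀] A ≃ₐ[A₀]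
      AdicCompletion (Ideal.jacobson (⊥ : Ideal A)) A :=
  AlgEquiv.ofBijective (Psi A₀ A) (Psi_bijective A₀ A)

theorem Theta_tmul [IsNoetherianRing A₀] [Finite (MaximalSpectrum A₀)] [Module.Finite A₀ A]
    (x : AdicCompletion (Ideal.jacobson (⊥ : Ideal A₀)) A₀) (a : A) :
    Theta A₀ A (x ⊗ₜ a) = iotaHat A₀ A x * AdicCompletion.of _ _ a := Psi_tmul A₀ A x a

end

end Groth.Agent.Lib.H14.SemiCompl
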