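import Mathlib
import Groth.Agent.Lib.helper14.AlgClosedTensor

set_option autoImplicit false

namespace Groth.Agent.H14.SCI

open TensorProduct Polynomial

universe u

section adjoin

variable {k K : Type*} [Field k] [Field K] [Algebra k K]

/-- Base change of `k[X]/(f)` to `K`. -/
theorem nonempty_ringEquiv (f : k[X]) :
    Nonempty (K ⊗[k] AdjoinRoot f ≃+* AdjoinRoot (f.map (algebraMap k K))) := by
  let q : (K ⊗[k] k)[X] := f.map (Algebra.TensorProduct.includeRight (R := k) (A := K) (B := k)).toRingHom
  let e1 : K ⊗[k] AdjoinRoot f ≃ₐ[K] AdjoinRoot q := AdjoinRoot.tensorAlgEquiv f q rfl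
  let ρ : K ⊗[k] k ≃+* K := (Algebra.TensorProduct.rid k K K).toRingEquiv
  have hq : q.map (ρ : K ⊗[k] k →+* K) = f.map (algebraMap k K) := by
    simp only [q, Polynomial.map_map]
    congr 1
    ext c
    simp [ρ, Algebra.algebraMap_eq_smul_one]
  let e2 : AdjoinRoot q ≃+* AdjoinRoot (f.map (algebraMap k K)) :=
    AdjoinRoot.mapRingEquiv ρ q _ (by rw [hq])
  exact ⟨e1.toRingEquiv.trans e2⟩

/-- If `Spec K[X]/(p)` is irreducible, `p` is separable and has a root in `K`, then `p` has
degree one. -/
theorem natDegree_le_one_of_irreducibleSpace (p : K[X]) (hp : p.Separable) (a : K)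
    (ha : p.IsRoot a) [IrreducibleSpace (PrimeSpectrum (AdjoinRoot p))] : p.natDegree ≤ 1 := by
  have hp0 : p ≠ 0 := hp.ne_zero
  have hsq : Squarefree p := hp.squarefree
  have hfac : (X - C a) * (p /ₘ (X - C a)) = p := mul_divByMonic_eq_iff_isRoot.mpr ha
  set g := p /ₘ (X - C a) with hg
  have hg0 : g ≠ 0 := by
    rintro h0
    rw [h0, mul_zero] at hfac
    exact hp0 hfac.symm
  have hprime := PrimeSpectrum.irreducibleSpace_iff_isPrime_nilradical.mp
    (inferInstance : IrreducibleSpace (PrimeSpectrum (AdjoinRoot p)))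
  have hmem : AdjoinRoot.mk p (X - C a) * AdjoinRoot.mk p g ∈ nilradical (AdjoinRoot p) := by
    rw [← map_mul, hfac, AdjoinRoot.mk_self]
    exact Ideal.zero_mem _
  have key : ∀ h : K[X], AdjoinRoot.mk p h ∈ nilradical (AdjoinRoot p) → p ∣ h := by
    intro h hh
    obtain ⟨n, hn⟩ := mem_nilradical.mp hh
    rw [← map_pow, AdjoinRoot.mk_eq_zero] at hn
    exact hsq.isRadical n h hn
  rcases hprime.mem_or_mem hmem with h1 | h1
  · have := Polynomial.natDegree_le_of_dvd (key _ h1) (X_sub_C_ne_zero a)
    rwa [natDegree_X_sub_C] at this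
  · have h2 := Polynomial.natDegree_le_of_dvd (key _ h1) hg0
    have h3 : p.natDegree = 1 + g.natDegree := by
      rw [← hfac, natDegree_mul (X_sub_C_ne_zero a) hg0, natDegree_X_sub_C]
    omega

end adjoin

section forward

variable {k K : Type u} [Field k] [Field K] [Algebra k K]

theorem mem_range_of_irreducibleSpace
    (h : ∀ (k' : Type u) [Field k'] [Algebra k k'], IrreducibleSpace (PrimeSpectrum (k' ⊗[k] K)))
    (α : K) (hα : IsSeparable k α) : α ∈ Set.range (algebraMap k K) := by
  set f := minpoly k α with hf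
  have hint : IsIntegral k α := hα.isIntegral
  haveI : Fact (Irreducible f) := ⟨minpoly.irreducible hint⟩
  have h1 := h (AdjoinRoot f)
  obtain ⟨Φ⟩ := nonempty_ringEquiv (K := K) f
  let e : AdjoinRoot f ⊗[k] K ≃+* AdjoinRoot (f.map (algebraMap k K)) :=
    (Algebra.TensorProduct.comm k (AdjoinRoot f) K).toRingEquiv.trans Φ
  haveI : IrreducibleSpace (PrimeSpectrum (AdjoinRoot (f.map (algebraMap k K)))) :=
    (PrimeSpectrum.homeomorphOfRingEquiv e).irreducibleSpace_iff.mp h1
  have hroot : (f.map (algebraMap k K)).IsRoot α := by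
    rw [IsRoot.def, eval_map_algebraMap, hf, minpoly.aeval]
  have hsep : (f.map (algebraMap k K)).Separable := Separable.map hα
  have hdeg := natDegree_le_one_of_irreducibleSpace (f.map (algebraMap k K)) hsep α hroot
  rw [natDegree_map] at hdeg
  have h2 : f.natDegree = 1 := le_antisymm hdeg (minpoly.natDegree_pos hint)
  have := (minpoly.natDegree_eq_one_iff).mp h2
  exact this

end forward

section backward

variable {k K : Type u} [Field k] [Field K] [Algebra k K]

theorem mem_lifts_of_dvd (H : ∀ α : K, IsSeparable k α → α ∈ Set.range (algebraMap k K))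
    {f : k[X]} (hfm : f.Monic) (hfi : Irreducible f) (hfs : f.Separable)
    {g : K[X]} (hg : g.Monic) (hd : g ∣ f.map (algebraMap k K)) :
    g ∈ lifts (algebraMap k K) := by
  let Ω := AlgebraicClosure K
  let S : IntermediateField k Ω := separableClosure k Ω
  have hsplit : (g.map (algebraMap K Ω)).Splits := IsAlgClosed.splits _
  have hroots : ∀ a ∈ (g.map (algebraMap K Ω)).roots, a ∈ (algebraMap S Ω).range := by
    intro a ha
    have ha0 : aeval a f = 0 := by
      have h1 : (g.map (algebraMap K Ω)).IsRoot a := (mem_roots'.mp ha).2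
      have h2 : g.map (algebraMap K Ω) ∣ f.map (algebraMap k Ω) := by
        rw [IsScalarTower.algebraMap_eq k K Ω, ← Polynomial.map_map]
        exact Polynomial.map_dvd _ hd
      have h3 : (f.map (algebraMap k Ω)).IsRoot a := h1.dvd h2
      rwa [IsRoot.def, eval_map_algebraMap] at h3
    have hmin : minpoly k a = f := (minpoly.eq_of_irreducible_of_monic hfi ha0 hfm).symm
    have hsep : IsSeparable k a := by
      unfold IsSeparable
      rw [hmin]
      exact hfs
    have haS : a ∈ S := hsep
    exact ⟨⟨a, haS⟩, rfl⟩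
  have hlift := hsplit.mem_lift_of_roots_mem_range (hg.map _) (algebraMap S Ω) hroots
  rw [lifts_iff_coeff_lifts] at hlift ⊢
  intro n
  obtain ⟨c, hc⟩ := hlift n
  rw [coeff_map] at hc
  apply H
  have hsep : IsSeparable k (algebraMap K Ω (g.coeff n)) := by
    rw [← hc]
    exact c.2
  unfold IsSeparable at hsep ⊢
  rwa [minpoly.algebraMap_eq (algebraMap K Ω).injective] at hsep

theorem irreducible_map (H : ∀ α : K, IsSeparable k α → α ∈ Set.range (algebraMap k K))
    {f : k[X]} (hfm : f.Monic) (hfi : Irreducible f) (hfs : f.Separable) :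
    Irreducible (f.map (algebraMap k K)) := by
  rw [(hfm.map _).irreducible_iff_natDegree]
  constructor
  · intro h1
    have : f = 1 := Polynomial.map_injective _ (algebraMap k K).injective (by rw [h1, Polynomial.map_one])
    rw [this] at hfi
    exact not_irreducible_one hfi
  · intro a b ha hb hab
    have hal := mem_lifts_of_dvd H hfm hfi hfs ha ⟨b, hab.symm⟩
    have hbl := mem_lifts_of_dvd H hfm hfi hfs hb ⟨a, by rw [← hab, mul_comm]⟩
    obtain ⟨a₀, ha₀, hda, -⟩ := lifts_and_natDegree_eq_and_monic hal ha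
    obtain ⟨b₀, hb₀, hdb, -⟩ := lifts_and_natDegree_eq_and_monic hbl hb
    have hprod : a₀ * b₀ = f := by
      apply Polynomial.map_injective _ (algebraMap k K).injective
      rw [Polynomial.map_mul, ha₀, hb₀, hab]
    rcases hfi.isUnit_or_isUnit hprod.symm with hu | hu
    · left
      rw [← hda]
      exact natDegree_eq_zero_of_isUnit hu
    · right
      rw [← hdb]
      exact natDegree_eq_zero_of_isUnit hu

end backward

section backward2

variable {k K : Type u} [Field k] [Field K] [Algebra k K]

theorem isDomain_tensor_adjoinRoot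
    (H : ∀ α : K, IsSeparable k α → α ∈ Set.range (algebraMap k K))
    {f : k[X]} (hfm : f.Monic) (hfi : Irreducible f) (hfs : f.Separable) :
    IsDomain (K ⊗[k] AdjoinRoot f) := by
  obtain ⟨Φ⟩ := nonempty_ringEquiv (K := K) f
  have hirr := irreducible_map H hfm hfi hfs
  haveI : IsDomain (AdjoinRoot (f.map (algebraMap k K))) :=
    AdjoinRoot.isDomain_of_prime hirr.prime
  exact Φ.toMulEquiv.isDomain _

theorem isDomain_tensor_of_finite_separable
    (H : ∀ α : K, IsSeparable k α → α ∈ Set.range (algebraMap k K))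
    (E : Type u) [Field E] [Algebra k E] [FiniteDimensional k E] [Algebra.IsSeparable k E] :
    IsDomain (E ⊗[k] K) := by
  obtain ⟨β, hβ⟩ := Field.exists_primitive_element k E
  have hint : IsIntegral k β := Algebra.IsIntegral.isIntegral β
  let e1 : AdjoinRoot (minpoly k β) ≃ₐ[k] E :=
    (IntermediateField.adjoinRootEquivAdjoin k hint).trans
      ((IntermediateField.equivOfEq hβ).trans IntermediateField.topEquiv)
  haveI := isDomain_tensor_adjoinRoot H (minpoly.monic hint) (minpoly.irreducible hint)
    (Algebra.IsSeparable.isSeparable k β)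
  let e2 : E ⊗[k] K ≃ₐ[k] K ⊗[k] AdjoinRoot (minpoly k β) :=
    (Algebra.TensorProduct.comm k E K).trans
      (Algebra.TensorProduct.congr AlgEquiv.refl e1.symm)
  exact e2.toMulEquiv.isDomain _

theorem isDomain_sepClosure_tensor
    (H : ∀ α : K, IsSeparable k α → α ∈ Set.range (algebraMap k K)) :
    IsDomain ((separableClosure k (AlgebraicClosure k)) ⊗[k] K) := by
  apply isDomain_of_forall_finite
  intro E hE
  haveI := hE
  haveI : Algebra.IsSeparable k E :=
    Algebra.isSeparable_tower_bot_of_isSeparable k E (separableClosure k (AlgebraicClosure k))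
  exact isDomain_tensor_of_finite_separable H E

end backward2

section abstract

theorem irreducibleSpace_of_pow_mem_range {A B : Type*} [CommRing A] [CommRing B] [IsDomain A]
    (ι : A →+* B) (hι : Function.Injective ι)
    (hpow : ∀ t : B, ∃ n : ℕ, 0 < n ∧ t ^ n ∈ ι.range) :
    IrreducibleSpace (PrimeSpectrum B) := by
  haveI : Nontrivial B := hι.nontrivial
  rw [PrimeSpectrum.irreducibleSpace_iff_isPrime_nilradical, Ideal.isPrime_iff]
  constructor
  · rw [Ne, Ideal.eq_top_iff_one, mem_nilradical]
    exact not_isNilpotent_one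
  · intro x y hxy
    obtain ⟨n, hn, a, ha⟩ := hpow x
    obtain ⟨m, hm, b, hb⟩ := hpow y
    have h1 : IsNilpotent (ι (a ^ m * b ^ n)) := by
      rw [map_mul, map_pow, map_pow, ha, hb, ← pow_mul, ← pow_mul, mul_comm m n, ← mul_pow]
      exact (mem_nilradical.mp hxy).pow_of_pos (Nat.mul_pos hn hm).ne'
    have h2 : IsNilpotent (a ^ m * b ^ n) := (IsNilpotent.map_iff hι).mp h1
    have h3 : a ^ m * b ^ n = 0 := h2.eq_zero
    rcases mul_eq_zero.mp h3 with h4 | h4
    · left
      have : a = 0 := pow_eq_zero_iff hm.ne' |>.mp h4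
      rw [this, map_zero] at ha
      exact mem_nilradical.mpr ⟨n, ha.symm⟩
    · right
      have : b = 0 := pow_eq_zero_iff hn.ne' |>.mp h4
      rw [this, map_zero] at hb
      exact mem_nilradical.mpr ⟨m, hb.symm⟩

end abstract

section backward3

variable {k K : Type u} [Field k] [Field K] [Algebra k K]

theorem irreducibleSpace_algebraicClosure_tensor
    (H : ∀ α : K, IsSeparable k α → α ∈ Set.range (algebraMap k K)) :
    IrreducibleSpace (PrimeSpectrum (AlgebraicClosure k ⊗[k] K)) := by
  let L : IntermediateField k (AlgebraicClosure k) := separableClosure k (AlgebraicClosure k)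
  haveI : IsDomain (L ⊗[k] K) := isDomain_sepClosure_tensor H
  let ι : L ⊗[k] K →ₐ[k] AlgebraicClosure k ⊗[k] K :=
    Algebra.TensorProduct.map L.val (AlgHom.id k K)
  have hι : Function.Injective ι := map_val_injective L
  haveI : Nontrivial (AlgebraicClosure k ⊗[k] K) := hι.nontrivial
  let q := ringExpChar k
  haveI : ExpChar (AlgebraicClosure k ⊗[k] K) q :=
    expChar_of_injective_algebraMap (algebraMap k (AlgebraicClosure k ⊗[k] K)).injective q
  haveI : ExpChar L q :=
    expChar_of_injective_algebraMap (algebraMap k L).injective q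
  have hq : 0 < q := expChar_pos k q
  have key : ∀ t : AlgebraicClosure k ⊗[k] K, ∃ n : ℕ, t ^ q ^ n ∈ ι.range := by
    intro t
    induction t using TensorProduct.induction_on with
    | zero => exact ⟨0, 0, by simp⟩
    | tmul a b =>
      obtain ⟨n, c, hc⟩ := IsPurelyInseparable.pow_mem L q a
      refine ⟨n, c ⊗ₜ (b ^ q ^ n), ?_⟩
      rw [Algebra.TensorProduct.tmul_pow, ← hc]
      rfl
    | add s t hs ht =>
      obtain ⟨n, hn⟩ := hs
      obtain ⟨m, hm⟩ := ht
      refine ⟨n + m, ?_⟩
      rw [add_pow_expChar_pow]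
      refine Subalgebra.add_mem _ ?_ ?_
      · rw [pow_add, pow_mul]
        exact Subalgebra.pow_mem _ hn _
      · rw [pow_add, mul_comm, pow_mul]
        exact Subalgebra.pow_mem _ hm _
  have hι' : Function.Injective (ι.toRingHom) := hι
  refine irreducibleSpace_of_pow_mem_range (A := L ⊗[k] K) (B := AlgebraicClosure k ⊗[k] K)
    ι.toRingHom hι' fun t => ?_
  obtain ⟨n, x, hx⟩ := key t
  exact ⟨q ^ n, pow_pos hq n, x, hx⟩

theorem irreducibleSpace_of_separable_mem
    (H : ∀ α : K, IsSeparable k α → α ∈ Set.range (algebraMap k K))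
    (k' : Type u) [Field k'] [Algebra k k'] :
    IrreducibleSpace (PrimeSpectrum (k' ⊗[k] K)) := by
  haveI := irreducibleSpace_algebraicClosure_tensor H
  exact irreducibleSpace_of_algebraicClosure

end backward3

end Groth.Agent.H14.SCI
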