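import Mathlib

set_option autoImplicit false

namespace H14.WC

open TensorProduct MvPolynomial

theorem formallySmooth_of_endo {R P C : Type*} [CommRing R] [CommRing P] [CommRing C] [Algebra R P]
    [Algebra R C] [Algebra.FormallySmooth R P] (f : P →ₐ[R] C) (hf : Function.Surjective f)
    (e : P →ₐ[R] P) (h1 : ∀ x, f (e x) = f x)
    (h2 : ∀ x ∈ RingHom.ker f.toRingHom, e x ∈ RingHom.ker f.toRingHom ^ 2) :
    Algebra.FormallySmooth R C := by
  refine Algebra.FormallySmooth.of_split f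
    (AlgHom.liftOfSurjective f hf ((Ideal.Quotient.mkₐ R _).comp e) ?_) ?_
  · intro x hx
    rw [RingHom.mem_ker]
    exact Ideal.Quotient.eq_zero_iff_mem.mpr (h2 x hx)
  · ext c
    obtain ⟨x, rfl⟩ := hf c
    rw [AlgHom.comp_apply, AlgHom.liftOfSurjective_apply, AlgHom.comp_apply,
      Ideal.Quotient.mkₐ_eq_mk, AlgHom.kerSquareLift_mk, h1]
    rfl


theorem mem_span_range_sq {R ι : Type*} [CommRing R] [Fintype ι] (v : ι → R) (x : R)
    (hx : x ∈ Ideal.span (Set.range v) ^ 2) :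
    ∃ c : ι → ι → R, x = ∑ i, ∑ j, c i j * (v i * v j) := by
  rw [pow_two] at hx
  induction hx using Submodule.mul_induction_on' with
  | mem_mul_mem m hm n hn =>
    obtain ⟨c, rfl⟩ := (Ideal.mem_span_range_iff_exists_fun).mp hm
    obtain ⟨d, rfl⟩ := (Ideal.mem_span_range_iff_exists_fun).mp hn
    refine ⟨fun i j => c i * d j, ?_⟩
    rw [Finset.sum_mul_sum]
    refine Finset.sum_congr rfl fun i _ => Finset.sum_congr rfl fun j _ => ?_
    ring
  | add x hx y hy hx' hy' =>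
    obtain ⟨c, rfl⟩ := hx'
    obtain ⟨d, rfl⟩ := hy'
    refine ⟨fun i j => c i j + d i j, ?_⟩
    simp only [add_mul, Finset.sum_add_distrib]

section
variable {B₀ : Type*} [CommRing B₀] (S : Type*) [CommRing S] [Algebra B₀ S]
  {C₀ : Type*} [CommRing C₀] [Algebra B₀ C₀] {σ : Type*}

/-- the `S`-algebra endomorphism of `S ⊗ B₀[X]` with `1 ⊗ X k ↦ η k` -/
noncomputable def endo (η : σ → S ⊗[B₀] MvPolynomial σ B₀) :
    S ⊗[B₀] MvPolynomial σ B₀ →ₐ[S] S ⊗[B₀] MvPolynomial σ B₀ :=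
  Algebra.TensorProduct.lift (Algebra.ofId S _) (aeval η) (fun _ _ => Commute.all _ _)

theorem endo_tmul (η : σ → S ⊗[B₀] MvPolynomial σ B₀) (s : S) (p : MvPolynomial σ B₀) :
    endo S η (s ⊗ₜ p) = s • aeval η p := by
  rw [endo, Algebra.TensorProduct.lift_tmul, Algebra.ofId_apply, Algebra.algebraMap_eq_smul_one,
    smul_mul_assoc, one_mul]

theorem endo_one_tmul (η : σ → S ⊗[B₀] MvPolynomial σ B₀) (p : MvPolynomial σ B₀) :
    endo S η (1 ⊗ₜ p) = aeval η p := by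
  rw [endo_tmul, one_smul]

/-- the base change of `q : B₀[X] → C₀` to `S`. -/
noncomputable abbrev fS (q : MvPolynomial σ B₀ →ₐ[B₀] C₀) :
    S ⊗[B₀] MvPolynomial σ B₀ →ₐ[S] S ⊗[B₀] C₀ :=
  Algebra.TensorProduct.map (AlgHom.id S S) q

theorem ker_fS {τ : Type*} (q : MvPolynomial σ B₀ →ₐ[B₀] C₀) (hq : Function.Surjective q)
    (h : τ → MvPolynomial σ B₀) (hker : RingHom.ker q.toRingHom = Ideal.span (Set.range h)) :
    RingHom.ker (fS S q).toRingHom =
      Ideal.span (Set.range fun l => (1 : S) ⊗ₜ[B₀] h l) := by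
  have := Algebra.TensorProduct.lTensor_ker (A := S) (R := B₀) q hq
  have h2 : RingHom.ker (fS S q).toRingHom = RingHom.ker (Algebra.TensorProduct.map (AlgHom.id B₀ S) q) := by
    ext x
    rfl
  rw [h2, this]
  have h3 : RingHom.ker q = RingHom.ker q.toRingHom := rfl
  rw [h3, hker, Ideal.map_span, ← Set.range_comp]
  rfl

theorem fS_surjective (q : MvPolynomial σ B₀ →ₐ[B₀] C₀) (hq : Function.Surjective q) :
    Function.Surjective (fS S q) :=
  LinearMap.lTensor_surjective S (g := q.toLinearMap) hq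

theorem formallySmooth_of_data {τ : Type*} [Fintype τ] (q : MvPolynomial σ B₀ →ₐ[B₀] C₀)
    (hq : Function.Surjective q)
    (h : τ → MvPolynomial σ B₀) (hker : RingHom.ker q.toRingHom = Ideal.span (Set.range h))
    (η : σ → S ⊗[B₀] MvPolynomial σ B₀) (a : σ → τ → S ⊗[B₀] MvPolynomial σ B₀)
    (b : τ → τ → τ → S ⊗[B₀] MvPolynomial σ B₀)
    (ha : ∀ k, η k - 1 ⊗ₜ X k = ∑ l, a k l * (1 ⊗ₜ h l))
    (hb : ∀ l, aeval η (h l) = ∑ l', ∑ l'', b l l' l'' * ((1 ⊗ₜ h l') * (1 ⊗ₜ h l''))) :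
    Algebra.FormallySmooth S (S ⊗[B₀] C₀) := by
  have hk := ker_fS S q hq h hker
  have hmem : ∀ l, (1 : S) ⊗ₜ[B₀] h l ∈ RingHom.ker (fS S q).toRingHom := by
    intro l
    rw [hk]
    exact Ideal.subset_span ⟨l, rfl⟩
  refine formallySmooth_of_endo (fS S q) (fS_surjective S q hq) (endo S η) ?_ ?_
  · have : (fS S q).comp (endo S η) = fS S q := by
      ext k
      change fS S q (endo S η (1 ⊗ₜ X k)) = fS S q (1 ⊗ₜ X k)
      rw [endo_one_tmul, aeval_X, ← sub_eq_zero, ← map_sub, ha k, map_sum]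
      refine Finset.sum_eq_zero fun l _ => ?_
      have h0 : fS S q (1 ⊗ₜ h l) = 0 := (RingHom.mem_ker).mp (hmem l)
      rw [map_mul, h0, mul_zero]
    intro x
    exact DFunLike.congr_fun this x
  · intro x hx
    rw [hk] at hx
    have : Ideal.span (Set.range fun l => (1 : S) ⊗ₜ[B₀] h l) ≤
        Ideal.comap (endo S η) (RingHom.ker (fS S q).toRingHom ^ 2) := by
      rw [Ideal.span_le]
      rintro _ ⟨l, rfl⟩
      simp only [SetLike.mem_coe, Ideal.mem_comap]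
      rw [endo_one_tmul, hb]
      refine Ideal.sum_mem _ fun l' _ => Ideal.sum_mem _ fun l'' _ => Ideal.mul_mem_left _ _ ?_
      rw [pow_two]
      exact Ideal.mul_mem_mul (hmem l') (hmem l'')
    exact this hx

theorem exists_data_of_formallySmooth {τ : Type*} [Fintype τ] (q : MvPolynomial σ B₀ →ₐ[B₀] C₀)
    (hq : Function.Surjective q)
    (h : τ → MvPolynomial σ B₀) (hker : RingHom.ker q.toRingHom = Ideal.span (Set.range h))
    (hsm : Algebra.FormallySmooth S (S ⊗[B₀] C₀)) :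
    ∃ (η : σ → S ⊗[B₀] MvPolynomial σ B₀) (a : σ → τ → S ⊗[B₀] MvPolynomial σ B₀)
      (b : τ → τ → τ → S ⊗[B₀] MvPolynomial σ B₀),
      (∀ k, η k - 1 ⊗ₜ X k = ∑ l, a k l * (1 ⊗ₜ h l)) ∧
      (∀ l, aeval η (h l) = ∑ l', ∑ l'', b l l' l'' * ((1 ⊗ₜ h l') * (1 ⊗ₜ h l''))) := by
  have hk := ker_fS S q hq h hker
  obtain ⟨g, hg⟩ := (Algebra.FormallySmooth.iff_split_surjection (fS S q)
    (fS_surjective S q hq)).mp hsm
  have hη : ∀ k : σ, ∃ y : S ⊗[B₀] MvPolynomial σ B₀,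
      Ideal.Quotient.mk (RingHom.ker (fS S q).toRingHom ^ 2) y = g (fS S q (1 ⊗ₜ X k)) :=
    fun k => Ideal.Quotient.mk_surjective _
  choose η hη using hη
  have hcomp : (Ideal.Quotient.mkₐ S (RingHom.ker (fS S q).toRingHom ^ 2)).comp (endo S η) =
      g.comp (fS S q) := by
    ext k
    change Ideal.Quotient.mk _ (endo S η (1 ⊗ₜ X k)) = g (fS S q (1 ⊗ₜ X k))
    rw [endo_one_tmul, aeval_X, hη]
  have hfe : ∀ x, fS S q (endo S η x) = fS S q x := by
    intro x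
    have h1 := DFunLike.congr_fun hcomp x
    have h2 := DFunLike.congr_fun hg (fS S q x)
    rw [AlgHom.comp_apply, AlgHom.comp_apply] at h1
    rw [AlgHom.comp_apply, ← h1] at h2
    exact h2
  have hsq : ∀ x ∈ RingHom.ker (fS S q).toRingHom,
      endo S η x ∈ RingHom.ker (fS S q).toRingHom ^ 2 := by
    intro x hx
    have h1 := DFunLike.congr_fun hcomp x
    have h0 : fS S q x = 0 := (RingHom.mem_ker).mp hx
    rw [AlgHom.comp_apply, AlgHom.comp_apply, h0, map_zero] at h1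
    exact Ideal.Quotient.eq_zero_iff_mem.mp h1
  have hmem : ∀ l, (1 : S) ⊗ₜ[B₀] h l ∈ RingHom.ker (fS S q).toRingHom := by
    intro l
    rw [hk]
    exact Ideal.subset_span ⟨l, rfl⟩
  have ha : ∀ k, ∃ c : τ → S ⊗[B₀] MvPolynomial σ B₀,
      η k - 1 ⊗ₜ X k = ∑ l, c l * (1 ⊗ₜ h l) := by
    intro k
    have hmk : η k - 1 ⊗ₜ X k ∈ RingHom.ker (fS S q).toRingHom := by
      rw [RingHom.mem_ker]
      change fS S q (η k - 1 ⊗ₜ X k) = 0
      rw [map_sub, sub_eq_zero, ← hfe (1 ⊗ₜ X k), endo_one_tmul, aeval_X]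
    rw [hk] at hmk
    obtain ⟨c, hc⟩ := (Ideal.mem_span_range_iff_exists_fun).mp hmk
    exact ⟨c, hc.symm⟩
  have hb : ∀ l, ∃ c : τ → τ → S ⊗[B₀] MvPolynomial σ B₀,
      aeval η (h l) = ∑ l', ∑ l'', c l' l'' * ((1 ⊗ₜ h l') * (1 ⊗ₜ h l'')) := by
    intro l
    have := hsq _ (hmem l)
    rw [hk, endo_one_tmul] at this
    exact mem_span_range_sq _ _ this
  choose a ha using ha
  choose b hb using hb
  exact ⟨η, a, b, ha, hb⟩

end

end H14.WC
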