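import Mathlib
import Groth.Agent.Lib.helper19.MvPSLemma

set_option autoImplicit false

namespace Groth.Agent.H14.SqZeroPS

open IsLocalRing

universe u v w w'

section basic

variable {R : Type*} [CommRing R] (I : Ideal R)

theorem isPrecomplete_iff' : IsPrecomplete I R ↔ ∀ x : ℕ → R,
    (∀ m n, m ≤ n → x m - x n ∈ I ^ m) → ∃ L, ∀ n, x n - L ∈ I ^ n := by
  rw [isPrecomplete_iff]
  simp only [SModEq.sub_mem, smul_eq_mul, Ideal.mul_top]

theorem isHausdorff_iff' : IsHausdorff I R ↔ ∀ x : R, (∀ n, x ∈ I ^ n) → x = 0 := by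
  rw [isHausdorff_iff]
  simp only [SModEq.zero, smul_eq_mul, Ideal.mul_top]

end basic

section eval

theorem exists_eval {R : Type u} {ι : Type v} {E : Type w} [CommRing R] [Finite ι] [CommRing E]
    [Algebra R E] (J : Ideal E) [IsAdicComplete J E] (t : ι → E) (ht : ∀ i, t i ∈ J) :
    ∃ l : MvPowerSeries ι R →ₐ[R] E, ∀ (k : ℕ) (p : MvPowerSeries ι R),
      l p - MvPolynomial.aeval t (MvPowerSeries.truncTotal k p) ∈ J ^ k := by
  classical
  let g : MvPolynomial ι R →+* E := (MvPolynomial.aeval t : MvPolynomial ι R →ₐ[R] E).toRingHom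
  let I₀ : Ideal (MvPolynomial ι R) := MvPolynomial.idealOfVars ι R
  have hg1 : I₀ ≤ J.comap g := by
    change Ideal.span _ ≤ _
    rw [Ideal.span_le]
    rintro _ ⟨i, rfl⟩
    change g (MvPolynomial.X i) ∈ J
    have : g (MvPolynomial.X i) = t i := by simp [g]
    rw [this]
    exact ht i
  have hgk : ∀ k : ℕ, I₀ ^ k ≤ (J ^ k).comap g := by
    intro k
    rw [← Ideal.map_le_iff_le_comap, Ideal.map_pow]
    exact Ideal.pow_right_mono (Ideal.map_le_iff_le_comap.mpr hg1) k
  let fk : (k : ℕ) → MvPowerSeries ι R →+* E ⧸ J ^ k := fun k =>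
    (Ideal.quotientMap (J ^ k) g (hgk k)).comp (MvPowerSeries.truncTotalAlgHom ι R k).toRingHom
  have hfk : ∀ (k : ℕ) (ps : MvPowerSeries ι R),
      fk k ps = Ideal.Quotient.mk (J ^ k) (g (MvPowerSeries.truncTotal k ps)) := by
    intro k ps
    rfl
  have hcompat : ∀ {m k : ℕ} (hle : m ≤ k),
      (Ideal.Quotient.factorPow J hle).comp (fk k) = fk m := by
    intro m k hle
    ext ps
    rw [RingHom.comp_apply, hfk, hfk, Ideal.Quotient.factor_mk, Ideal.Quotient.eq, ← map_sub]
    exact hgk m (MvPowerSeries.truncTotal_sub_truncTotal_mem_pow_idealOfVars hle (le_refl m) ps)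
  let f : MvPowerSeries ι R →+* E := IsAdicComplete.liftRingHom J fk hcompat
  have hf : ∀ (k : ℕ) (ps : MvPowerSeries ι R),
      Ideal.Quotient.mk (J ^ k) (f ps) =
        Ideal.Quotient.mk (J ^ k) (g (MvPowerSeries.truncTotal k ps)) := by
    intro k ps
    rw [IsAdicComplete.mk_liftRingHom, hfk]
  have hsep : ∀ x y : E, (∀ k, Ideal.Quotient.mk (J ^ k) x = Ideal.Quotient.mk (J ^ k) y) →
      x = y := by
    intro x y h
    rw [← sub_eq_zero]
    apply IsHausdorff.haus (IsAdicComplete.toIsHausdorff (I := J) (M := E))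
    intro k
    rw [SModEq.zero, smul_eq_mul, Ideal.mul_top, ← Ideal.Quotient.eq]
    exact h k
  have hcoe : ∀ q : MvPolynomial ι R, f (q : MvPowerSeries ι R) = g q := by
    intro q
    apply hsep
    intro k
    rw [hf, Ideal.Quotient.eq, ← map_sub]
    apply hgk k
    rw [MvPolynomial.mem_pow_idealOfVars_iff']
    intro x hx
    rw [MvPolynomial.coeff_sub, sub_eq_zero, MvPowerSeries.coeff_truncTotal _ hx,
      MvPolynomial.coeff_coe]
  have hC : ∀ a : R, f (MvPowerSeries.C a) = algebraMap R E a := by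
    intro a
    rw [← MvPolynomial.coe_C, hcoe]
    simp [g]
  refine ⟨{ f with commutes' := fun r => ?_ }, fun k p => ?_⟩
  · have : algebraMap R (MvPowerSeries ι R) r = MvPowerSeries.C r := by
      simp [MvPowerSeries.algebraMap_apply]
    change f (algebraMap R (MvPowerSeries ι R) r) = _
    rw [this, hC]
  · rw [← Ideal.Quotient.eq]
    exact hf k p

end eval

section ext

variable {E : Type*} {A : Type*} [CommRing E] [CommRing A] (f : E →+* A)
  (hf : Function.Surjective f) (hsq : RingHom.ker f ^ 2 = ⊥)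

include hsq in
theorem mul_eq_zero_of_mem_ker {a b : E} (ha : a ∈ RingHom.ker f) (hb : b ∈ RingHom.ker f) :
    a * b = 0 := by
  have : a * b ∈ RingHom.ker f ^ 2 := by
    rw [pow_two]
    exact Ideal.mul_mem_mul ha hb
  rw [hsq] at this
  simpa using this

include hf hsq in
theorem isLocalHom : IsLocalHom f := by
  constructor
  intro a ha
  obtain ⟨b', hb'⟩ := ha.exists_right_inv
  obtain ⟨b, rfl⟩ := hf b'
  have hn : a * b - 1 ∈ RingHom.ker f := by
    rw [RingHom.mem_ker, map_sub, map_mul, hb', map_one, sub_self]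
  have hnil : IsNilpotent (a * b - 1) :=
    ⟨2, by rw [pow_two]; exact mul_eq_zero_of_mem_ker f hsq hn hn⟩
  have hu : IsUnit (a * b) := by
    have := hnil.isUnit_add_one
    simpa using this
  exact isUnit_of_mul_isUnit_left hu

include hf hsq in
theorem isNoetherianRing [IsNoetherianRing A] (hfg : (RingHom.ker f).FG) :
    IsNoetherianRing E := by
  apply IsNoetherianRing.of_prime
  intro P hP
  have hNP : RingHom.ker f ≤ P := by
    intro x hx
    have : x * x = 0 := mul_eq_zero_of_mem_ker f hsq hx hx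
    have h0 : x * x ∈ P := by
      rw [this]
      exact P.zero_mem
    exact (hP.mem_or_mem h0).elim id id
  have h1 : (P.map f).FG := IsNoetherian.noetherian _
  obtain ⟨s, hs⟩ := h1
  have h2 : ∀ a ∈ s, ∃ p ∈ P, f p = a := by
    intro a ha
    have : a ∈ P.map f := by
      rw [← hs]
      exact Ideal.subset_span ha
    exact (Ideal.mem_map_iff_of_surjective f hf).mp this
  choose! q hqP hq using h2
  have himg : f '' (q '' (s : Set A)) = (s : Set A) := by
    rw [Set.image_image]
    ext a
    constructor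
    · rintro ⟨b, hb, rfl⟩
      change f (q b) ∈ (s : Set A)
      rw [hq b hb]
      exact hb
    · intro ha
      exact ⟨a, ha, hq a ha⟩
  have hP' : P = Ideal.span (q '' (s : Set A)) ⊔ RingHom.ker f := by
    have e1 : Ideal.comap f (Ideal.map f P) = P := by
      rw [Ideal.comap_map_of_surjective f hf, sup_eq_left]
      exact hNP
    have e2 : Ideal.map f (Ideal.span (q '' (s : Set A))) = Ideal.map f P := by
      rw [Ideal.map_span, himg]
      exact hs
    rw [← e1, ← e2, Ideal.comap_map_of_surjective f hf]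
    rfl
  rw [hP']
  exact Submodule.FG.sup (Submodule.fg_span (s.finite_toSet.image q)) hfg

end ext

section complete

variable {E : Type*} {A : Type*} [CommRing E] [CommRing A] (f : E →+* A)
  (hf : Function.Surjective f) (hsq : RingHom.ker f ^ 2 = ⊥)
  [IsNoetherianRing A] [IsLocalRing A] [IsAdicComplete (maximalIdeal A) A]

include hf in
theorem map_pow_comap (k : ℕ) : (((maximalIdeal A).comap f) ^ k).map f = (maximalIdeal A) ^ k := by
  rw [Ideal.map_pow, Ideal.map_comap_of_surjective f hf]

include hf in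
theorem exists_sub_mem_ker {x : E} {k : ℕ} (hx : f x ∈ (maximalIdeal A) ^ k) :
    ∃ j ∈ ((maximalIdeal A).comap f) ^ k, x - j ∈ RingHom.ker f := by
  rw [← map_pow_comap f hf k] at hx
  obtain ⟨j, hj, hjx⟩ := (Ideal.mem_map_iff_of_surjective f hf).mp hx
  exact ⟨j, hj, by rw [RingHom.mem_ker, map_sub, hjx, sub_self]⟩

omit [IsNoetherianRing A] [IsAdicComplete (maximalIdeal A) A] in
theorem map_mem_pow {x : E} {k : ℕ} (hx : x ∈ ((maximalIdeal A).comap f) ^ k) :
    f x ∈ (maximalIdeal A) ^ k := by
  have := Ideal.mem_map_of_mem f hx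
  rw [Ideal.map_pow] at this
  exact Ideal.pow_right_mono Ideal.map_comap_le k this

include hf hsq in
theorem exists_limit_ker (r : ℕ) (g : Fin r → E)
    (hg : RingHom.ker f = Ideal.span (Set.range g)) (v : ℕ → E)
    (hv : ∀ k, v (k + 1) - v k ∈ ((maximalIdeal A).comap f) ^ k • Ideal.span (Set.range g)) :
    ∃ L : E, ∀ k, v k - L ∈ ((maximalIdeal A).comap f) ^ k := by
  set J := (maximalIdeal A).comap f with hJ
  have h1 : ∀ k, ∃ c : Fin r → E, (∀ i, c i ∈ J ^ k) ∧ ∑ i, c i * g i = v (k + 1) - v k := by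
    intro k
    have := hv k
    rw [Submodule.mem_ideal_smul_span_iff_exists_sum] at this
    obtain ⟨a, ha, hsum⟩ := this
    refine ⟨fun i => a i, ha, ?_⟩
    rw [← hsum, Finsupp.sum_fintype]
    · simp [smul_eq_mul]
    · intro i
      simp
  choose c hc hcsum using h1
  let s : ℕ → Fin r → E := fun k i => ∑ m ∈ Finset.range k, c m i
  have h2 : ∀ i, ∃ α : A, ∀ k, f (s k i) - α ∈ (maximalIdeal A) ^ k := by
    intro i
    refine (isPrecomplete_iff' (maximalIdeal A)).mp IsAdicComplete.toIsPrecomplete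
      (fun k => f (s k i)) ?_
    intro m n hmn
    rw [← map_sub]
    apply map_mem_pow
    have : s n i - s m i = ∑ l ∈ Finset.Ico m n, c l i := by
      simp only [s]
      rw [Finset.sum_Ico_eq_sub _ hmn]
    rw [← neg_sub, this]
    apply (Ideal.neg_mem_iff _).mpr
    apply Ideal.sum_mem
    intro l hl
    exact Ideal.pow_le_pow_right (Finset.mem_Ico.mp hl).1 (hc l i)
  choose α hα using h2
  choose γ hγ using fun i => hf (α i)
  refine ⟨v 0 + ∑ i, γ i * g i, fun k => ?_⟩
  have h3 : v k - v 0 = ∑ i, s k i * g i := by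
    have : v k - v 0 = ∑ m ∈ Finset.range k, (v (m + 1) - v m) :=
      (Finset.sum_range_sub v k).symm
    rw [this]
    simp only [s, ← hcsum]
    rw [Finset.sum_comm]
    simp [Finset.sum_mul]
  have h4 : v k - (v 0 + ∑ i, γ i * g i) = ∑ i, (s k i - γ i) * g i := by
    rw [← sub_sub, h3, ← Finset.sum_sub_distrib]
    congr 1
    ext i
    ring
  rw [h4]
  apply Ideal.sum_mem
  intro i _
  have h5 : f (s k i - γ i) ∈ (maximalIdeal A) ^ k := by
    rw [map_sub, hγ]
    exact hα i k
  obtain ⟨j, hj, hn⟩ := exists_sub_mem_ker f hf h5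
  have hgi : g i ∈ RingHom.ker f := by
    rw [hg]
    exact Ideal.subset_span ⟨i, rfl⟩
  have : (s k i - γ i) * g i = j * g i := by
    have := mul_eq_zero_of_mem_ker f hsq hn hgi
    linear_combination this
  rw [this]
  exact Ideal.mul_mem_right _ _ hj

include hf hsq in
theorem isAdicComplete (hfg : (RingHom.ker f).FG) :
    IsAdicComplete ((maximalIdeal A).comap f) E := by
  set J := (maximalIdeal A).comap f with hJ
  haveI : IsNoetherianRing E := isNoetherianRing f hf hsq hfg
  haveI : IsLocalHom f := isLocalHom f hf hsq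
  haveI : IsLocalRing E := RingHom.domain_isLocalRing f
  have hJtop : J ≠ ⊤ := by
    intro h
    have : (1 : E) ∈ J := by
      rw [h]
      trivial
    rw [hJ, Ideal.mem_comap, map_one] at this
    exact (Ideal.ne_top_iff_one _).mp (maximalIdeal.isMaximal A).ne_top this
  have haus : IsHausdorff J E := by
    rw [isHausdorff_iff']
    intro x hx
    have : x ∈ ⨅ i, J ^ i := by
      rw [Ideal.mem_iInf]
      exact hx
    rw [Ideal.iInf_pow_eq_bot_of_isLocalRing J hJtop] at this
    simpa using this
  have prec : IsPrecomplete J E := by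
    rw [isPrecomplete_iff']
    intro x hx
    obtain ⟨a, ha⟩ := (isPrecomplete_iff' (maximalIdeal A)).mp IsAdicComplete.toIsPrecomplete
      (fun n => f (x n)) (by
        intro m n hmn
        rw [← map_sub]
        exact map_mem_pow f (hx m n hmn))
    obtain ⟨y, rfl⟩ := hf a
    have h2 : ∀ n, ∃ j ∈ J ^ n, x n - y - j ∈ RingHom.ker f := by
      intro n
      have : f (x n - y) ∈ (maximalIdeal A) ^ n := by
        rw [map_sub]
        exact ha n
      exact exists_sub_mem_ker f hf this
    choose j hj hw using h2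
    obtain ⟨r, g, hg⟩ : ∃ (r : ℕ) (g : Fin r → E),
        RingHom.ker f = Ideal.span (Set.range g) := by
      obtain ⟨r, g, hg⟩ := Submodule.fg_iff_exists_fin_generating_family.mp hfg
      exact ⟨r, g, hg.symm⟩
    obtain ⟨c, hc⟩ := Ideal.exists_pow_inf_eq_pow_smul J (RingHom.ker f : Submodule E E)
    have h3 : ∀ n, (x (n + 1) - y - j (n + 1)) - (x n - y - j n) ∈ J ^ n ⊓ RingHom.ker f := by
      intro n
      refine Submodule.mem_inf.mpr ⟨?_, Ideal.sub_mem _ (hw (n + 1)) (hw n)⟩
      have : (x (n + 1) - y - j (n + 1)) - (x n - y - j n) =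
          (j n - j (n + 1)) - (x n - x (n + 1)) := by ring
      rw [this]
      exact Ideal.sub_mem _ (Ideal.sub_mem _ (hj n)
        (Ideal.pow_le_pow_right (Nat.le_succ n) (hj (n + 1)))) (hx n (n + 1) (Nat.le_succ n))
    have h4 : ∀ k, (x (k + c + 1) - y - j (k + c + 1)) - (x (k + c) - y - j (k + c)) ∈
        J ^ k • Ideal.span (Set.range g) := by
      intro k
      have h := hc (k + c) (Nat.le_add_left c k)
      have hmem : (x (k + c + 1) - y - j (k + c + 1)) - (x (k + c) - y - j (k + c)) ∈
          (J ^ (k + c) • ⊤ ⊓ RingHom.ker f : Submodule E E) := by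
        rw [smul_eq_mul, Ideal.mul_top]
        exact h3 (k + c)
      rw [h, Nat.add_sub_cancel] at hmem
      rw [← hg]
      exact Submodule.smul_mono le_rfl inf_le_right hmem
    obtain ⟨L, hL⟩ := exists_limit_ker f hf hsq r g hg (fun k => x (k + c) - y - j (k + c)) (by
      intro k
      have := h4 k
      rwa [show k + c + 1 = k + 1 + c by ring] at this)
    refine ⟨y + L, fun n => ?_⟩
    have e1 : x n - (y + L) = (x n - x (n + c)) + j (n + c) + ((x (n + c) - y - j (n + c)) - L) := by
      ring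
    rw [e1]
    exact Ideal.add_mem _ (Ideal.add_mem _ (hx n (n + c) (Nat.le_add_right n c))
      (Ideal.pow_le_pow_right (Nat.le_add_right n c) (hj (n + c)))) (hL n)
  exact { toIsHausdorff := haus, toIsPrecomplete := prec }

end complete

section main

theorem main {R : Type u} [CommRing R] {σ : Type v} [Finite σ]
    {A : Type w} {E : Type w'} [CommRing A] [CommRing E] [Algebra R A] [Algebra R E]
    [IsNoetherianRing A] [IsLocalRing A] [IsAdicComplete (maximalIdeal A) A]
    (π : MvPowerSeries σ R →ₐ[R] A) (hπ : Function.Surjective π)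
    (f : E →ₐ[R] A) (hf : Function.Surjective f)
    (hsq : RingHom.ker f.toRingHom ^ 2 = ⊥) (hfg : (RingHom.ker f.toRingHom).FG) :
    ∃ l : MvPowerSeries σ R →ₐ[R] E, f.comp l = π := by
  set J := (maximalIdeal A).comap f.toRingHom with hJ
  haveI : IsAdicComplete J E := isAdicComplete f.toRingHom hf hsq hfg
  have hX : ∀ i, π (MvPowerSeries.X i) ∈ maximalIdeal A := by
    intro i
    rw [← IsLocalRing.jacobson_eq_maximalIdeal ⊥ bot_ne_top, Ideal.mem_jacobson_bot]
    intro a
    obtain ⟨u, rfl⟩ := hπ a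
    rw [← map_mul, ← map_one π, ← map_add]
    apply IsUnit.map
    rw [MvPowerSeries.isUnit_iff_constantCoeff]
    simp
  choose e he using fun i => hf (π (MvPowerSeries.X i))
  have heJ : ∀ i, e i ∈ J := by
    intro i
    rw [hJ, Ideal.mem_comap]
    change f (e i) ∈ _
    rw [he]
    exact hX i
  obtain ⟨l, hl⟩ := exists_eval (R := R) J e heJ
  refine ⟨l, ?_⟩
  have hpoly : ∀ q : MvPolynomial σ R,
      f (MvPolynomial.aeval e q) = π (q : MvPowerSeries σ R) := by
    intro q
    have : (f.comp (MvPolynomial.aeval e)) =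
        π.comp (MvPolynomial.coeToMvPowerSeries.algHom R) := by
      apply MvPolynomial.algHom_ext
      intro i
      simp [he]
    exact DFunLike.congr_fun this q
  apply AlgHom.ext
  intro p
  change f (l p) = π p
  have key : ∀ k, f (l p) - π p ∈ (maximalIdeal A) ^ k := by
    intro k
    have h1 : f (l p) - π p =
        f (l p - MvPolynomial.aeval e (MvPowerSeries.truncTotal k p)) -
          π (p - ((MvPowerSeries.truncTotal k p : MvPolynomial σ R) : MvPowerSeries σ R)) := by
      rw [map_sub, map_sub, hpoly]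
      ring
    rw [h1]
    refine Ideal.sub_mem _ (map_mem_pow f.toRingHom (hl k p)) ?_
    have h2 := Groth.Agent.Lib.helper19.sub_truncTotal_mem_span_X_pow k p
    have h3 : (Ideal.span (Set.range (MvPowerSeries.X : σ → MvPowerSeries σ R))) ^ k ≤
        ((maximalIdeal A) ^ k).comap π.toRingHom := by
      rw [← Ideal.map_le_iff_le_comap, Ideal.map_pow]
      apply Ideal.pow_right_mono
      rw [Ideal.map_span, Ideal.span_le]
      rintro _ ⟨_, ⟨i, rfl⟩, rfl⟩
      exact hX i
    exact h3 h2
  have : f (l p) - π p ∈ ⨅ k, (maximalIdeal A) ^ k := by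
    rw [Ideal.mem_iInf]
    exact key
  rw [Ideal.iInf_pow_eq_bot_of_isLocalRing _ (maximalIdeal.isMaximal A).ne_top] at this
  exact sub_eq_zero.mp (by simpa using this)

end main

end Groth.Agent.H14.SqZeroPS
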