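import Mathlib
import Groth.Agent.Lib.helper14.SqZeroPS
import Groth.Agent.Lib.helper14.PSurj

set_option autoImplicit false

namespace Groth.Agent.H14.SmoothSec

open MvPowerSeries

universe u

section sq

variable {A : Type*} [CommRing A] (I : Ideal A)

theorem isAdicComplete_sq [IsAdicComplete I A] : IsAdicComplete (I ^ 2) A := by
  have hH := (SqZeroPS.isHausdorff_iff' I).mp (IsAdicComplete.toIsHausdorff)
  have hP := (SqZeroPS.isPrecomplete_iff' I).mp (IsAdicComplete.toIsPrecomplete)
  refine { toIsHausdorff := ?_, toIsPrecomplete := ?_ }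
  · rw [SqZeroPS.isHausdorff_iff']
    intro x hx
    apply hH
    intro n
    have := hx n
    rw [← pow_mul] at this
    exact Ideal.pow_le_pow_right (by omega) this
  · rw [SqZeroPS.isPrecomplete_iff']
    intro x hx
    obtain ⟨L, hL⟩ := hP x (by
      intro m n hmn
      have := hx m n hmn
      rw [← pow_mul] at this
      exact Ideal.pow_le_pow_right (by omega) this)
    refine ⟨L, fun n => ?_⟩
    have h1 := hx n (2 * n) (by omega)
    have h2 := hL (2 * n)
    rw [← pow_mul]
    rw [← pow_mul] at h1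
    have : x n - L = (x n - x (2 * n)) + (x (2 * n) - L) := by ring
    rw [this]
    exact Ideal.add_mem _ h1 h2

end sq

section ps

variable {R : Type*} [CommRing R] {σ : Type*} [Finite σ]

local notation "𝔵" => (Ideal.span (Set.range (MvPowerSeries.X : σ → MvPowerSeries σ R)))

theorem coeff_eq_zero_of_mem_pow {k : ℕ} {y : MvPowerSeries σ R} (hy : y ∈ 𝔵 ^ k)
    {β : σ →₀ ℕ} (hβ : β.degree < k) : coeff β y = 0 := by
  classical
  let τ : MvPowerSeries σ R →+* MvPolynomial σ R ⧸ (MvPolynomial.idealOfVars σ R) ^ k :=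
    (truncTotalAlgHom σ R k).toRingHom
  have hτX : ∀ i, τ (MvPowerSeries.X i) =
      Ideal.Quotient.mk _ (MvPolynomial.X i : MvPolynomial σ R) := by
    intro i
    have h := (truncTotalAlgHom σ R k).commutes (MvPolynomial.X i : MvPolynomial σ R)
    rw [MvPowerSeries.algebraMap_apply', MvPolynomial.coe_X] at h
    exact h
  have h1 : 𝔵 ^ k ≤ RingHom.ker τ := by
    have hmap : (𝔵).map τ ≤ (MvPolynomial.idealOfVars σ R).map (Ideal.Quotient.mk _) := by
      rw [Ideal.map_span, Ideal.span_le]
      rintro _ ⟨_, ⟨i, rfl⟩, rfl⟩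
      rw [hτX]
      exact Ideal.mem_map_of_mem _ (Ideal.subset_span ⟨i, rfl⟩)
    have hbot : (𝔵 ^ k).map τ ≤ ⊥ := by
      rw [Ideal.map_pow]
      refine (Ideal.pow_right_mono hmap k).trans ?_
      rw [← Ideal.map_pow, Ideal.map_quotient_self]
    intro z hz
    have := hbot (Ideal.mem_map_of_mem τ hz)
    rwa [Ideal.mem_bot] at this
  have h2 : τ y = 0 := h1 hy
  have h3 : truncTotal k y ∈ (MvPolynomial.idealOfVars σ R) ^ k := by
    rw [← Ideal.Quotient.eq_zero_iff_mem]
    exact h2
  rw [MvPolynomial.mem_pow_idealOfVars_iff'] at h3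
  rw [← coeff_truncTotal y hβ]
  exact h3 β hβ

end ps

section abstract

variable {R : Type*} [CommRing R] {σ : Type*} {B : Type*} [CommRing B] (K : Ideal B)
  (ev co : MvPolynomial σ R →+* B)
  (hC : ∀ r, ev (MvPolynomial.C r) = co (MvPolynomial.C r))
  (hev : ∀ i, ev (MvPolynomial.X i) ∈ K) (hco : ∀ i, co (MvPolynomial.X i) ∈ K)
  (hd : ∀ i, ev (MvPolynomial.X i) - co (MvPolynomial.X i) ∈ K ^ 2)

include hC hev hco in
theorem sub_mem_of_agree (q : MvPolynomial σ R) : ev q - co q ∈ K := by
  induction q using MvPolynomial.induction_on with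
  | C a => rw [hC, sub_self]; exact K.zero_mem
  | add p q hp hq =>
    rw [map_add, map_add, add_sub_add_comm]
    exact K.add_mem hp hq
  | mul_X p i _ =>
    rw [map_mul, map_mul]
    exact K.sub_mem (K.mul_mem_left _ (hev i)) (K.mul_mem_left _ (hco i))

theorem map_mem_pow_of_mem (f : MvPolynomial σ R →+* B) (hf : ∀ i, f (MvPolynomial.X i) ∈ K)
    {m : ℕ} {q : MvPolynomial σ R} (hq : q ∈ (MvPolynomial.idealOfVars σ R) ^ m) :
    f q ∈ K ^ m := by
  have h1 : (MvPolynomial.idealOfVars σ R).map f ≤ K := by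
    change Ideal.map f (Ideal.span _) ≤ K
    rw [Ideal.map_span, Ideal.span_le]
    rintro _ ⟨_, ⟨i, rfl⟩, rfl⟩
    exact hf i
  have h2 := Ideal.mem_map_of_mem f hq
  rw [Ideal.map_pow] at h2
  exact Ideal.pow_right_mono h1 m h2

include hC hev hco hd in
theorem sub_mem_sq_of_mem {a : MvPolynomial σ R} (ha : a ∈ MvPolynomial.idealOfVars σ R) :
    ev a - co a ∈ K ^ 2 := by
  change a ∈ Ideal.span _ at ha
  induction ha using Submodule.span_induction with
  | mem x hx =>
    obtain ⟨i, rfl⟩ := hx
    exact hd i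
  | zero => simp
  | add x y _ _ hx hy =>
    rw [map_add, map_add, add_sub_add_comm]
    exact Ideal.add_mem _ hx hy
  | smul c x hx ih =>
    rw [smul_eq_mul, map_mul, map_mul]
    have hx' : x ∈ (MvPolynomial.idealOfVars σ R) ^ 1 := by rw [pow_one]; exact hx
    have h1 : ev x ∈ K := by
      have := map_mem_pow_of_mem K ev hev hx'
      rwa [pow_one] at this
    have h2 : ev c - co c ∈ K := sub_mem_of_agree K ev co hC hev hco c
    have : ev c * ev x - co c * co x = (ev c - co c) * ev x + co c * (ev x - co x) := by ring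
    rw [this, pow_two]
    exact Ideal.add_mem _ (Ideal.mul_mem_mul h2 h1) (Ideal.mul_mem_left _ _ (by rw [← pow_two]; exact ih))

include hC hev hco hd in
theorem sub_mem_pow_succ (m : ℕ) {q : MvPolynomial σ R}
    (hq : q ∈ (MvPolynomial.idealOfVars σ R) ^ m) : ev q - co q ∈ K ^ (m + 1) := by
  induction m generalizing q with
  | zero =>
    rw [zero_add, pow_one]
    exact sub_mem_of_agree K ev co hC hev hco q
  | succ m ih =>
    rw [pow_succ'] at hq
    induction hq using Submodule.mul_induction_on' with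
    | mem_mul_mem a ha b hb =>
      rw [map_mul, map_mul]
      have h1 := sub_mem_sq_of_mem K ev co hC hev hco hd ha
      have h2 : ev b ∈ K ^ m := map_mem_pow_of_mem K ev hev hb
      have h3 : co a ∈ K := by
        have ha' : a ∈ (MvPolynomial.idealOfVars σ R) ^ 1 := by rw [pow_one]; exact ha
        have := map_mem_pow_of_mem K co hco ha'
        rwa [pow_one] at this
      have h4 := ih hb
      have : ev a * ev b - co a * co b = (ev a - co a) * ev b + co a * (ev b - co b) := by ring
      rw [this]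
      refine Ideal.add_mem _ ?_ ?_
      · have := Ideal.mul_mem_mul h1 h2
        rwa [← pow_add, show 2 + m = m + 1 + 1 by ring] at this
      · have := Ideal.mul_mem_mul h3 h4
        rwa [← pow_succ'] at this
    | add x _ y _ hx hy =>
      rw [map_add, map_add, add_sub_add_comm]
      exact Ideal.add_mem _ hx hy

end abstract

section base

variable {R S : Type u} [CommRing R] [CommRing S] [Algebra R S] (σ : S →ₐ[R] R)

theorem sub_mem_ker (s : S) : s - algebraMap R S (σ s) ∈ RingHom.ker σ.toRingHom := by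
  rw [RingHom.mem_ker]
  change σ (s - algebraMap R S (σ s)) = 0
  rw [map_sub, σ.commutes]
  simp

/-- the linear part of `s` in `I/I²` -/
noncomputable def lin (s : S) : (RingHom.ker σ.toRingHom).Cotangent :=
  (RingHom.ker σ.toRingHom).toCotangent ⟨s - algebraMap R S (σ s), sub_mem_ker σ s⟩

theorem lin_add (s s' : S) : lin σ (s + s') = lin σ s + lin σ s' := by
  unfold lin
  rw [← map_add]
  congr 1
  ext
  simp only [map_add, Submodule.coe_add]
  ring

theorem lin_smul (r : R) (s : S) : lin σ (r • s) = r • lin σ s := by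
  unfold lin
  rw [← LinearMap.map_smul_of_tower]
  congr 1
  ext
  simp only [Submodule.coe_smul_of_tower, Algebra.smul_def, map_mul, σ.commutes,
    Algebra.algebraMap_self_apply]
  ring

theorem lin_mul (s s' : S) : lin σ (s * s') = σ s • lin σ s' + σ s' • lin σ s := by
  unfold lin
  rw [← LinearMap.map_smul_of_tower, ← LinearMap.map_smul_of_tower, ← map_add,
    Ideal.toCotangent_eq]
  have h1 := sub_mem_ker σ s
  have h2 := sub_mem_ker σ s'
  have : ((⟨s * s' - algebraMap R S (σ (s * s')), sub_mem_ker σ (s * s')⟩ :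
      RingHom.ker σ.toRingHom) : S) -
      ((σ s • (⟨s' - algebraMap R S (σ s'), h2⟩ : RingHom.ker σ.toRingHom) +
        σ s' • (⟨s - algebraMap R S (σ s), h1⟩ : RingHom.ker σ.toRingHom) :
          RingHom.ker σ.toRingHom) : S) =
      (s - algebraMap R S (σ s)) * (s' - algebraMap R S (σ s')) := by
    simp only [Submodule.coe_add, Submodule.coe_smul_of_tower, Algebra.smul_def, map_mul]
    ring
  rw [this, pow_two]
  exact Ideal.mul_mem_mul h1 h2

theorem lin_of_mem {s : S} (hs : s ∈ RingHom.ker σ.toRingHom) :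
    lin σ s = (RingHom.ker σ.toRingHom).toCotangent ⟨s, hs⟩ := by
  unfold lin
  congr 1
  ext
  have : σ s = 0 := hs
  simp [this]

end base

section lift

variable {R S : Type u} [CommRing R] [CommRing S] [Algebra R S] (σ : S →ₐ[R] R) (d : ℕ)
  (e : (RingHom.ker σ.toRingHom).Cotangent ≃ₗ[R] (Fin d → R))

theorem lin_one : lin σ 1 = 0 := by
  unfold lin
  rw [Ideal.toCotangent_eq_zero]
  simp

/-- the linear part as a power series -/
noncomputable def LL (s : S) : MvPowerSeries (Fin d) R := ∑ i, C (e (lin σ s) i) * X i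

theorem LL_mem (s : S) : LL σ d e s ∈
    Ideal.span (Set.range (MvPowerSeries.X : Fin d → MvPowerSeries (Fin d) R)) :=
  Ideal.sum_mem _ fun i _ => Ideal.mul_mem_left _ _ (Ideal.subset_span ⟨i, rfl⟩)

theorem LL_add (s s' : S) : LL σ d e (s + s') = LL σ d e s + LL σ d e s' := by
  unfold LL
  rw [lin_add, map_add e]
  simp only [Pi.add_apply, map_add, add_mul]
  rw [Finset.sum_add_distrib]

theorem LL_smul (r : R) (s : S) : LL σ d e (r • s) = C r * LL σ d e s := by
  unfold LL
  rw [lin_smul, map_smul e, Finset.mul_sum]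
  simp only [Pi.smul_apply, smul_eq_mul, map_mul, mul_assoc]

theorem LL_one : LL σ d e 1 = 0 := by
  unfold LL
  rw [lin_one, map_zero e]
  simp

theorem LL_mul (s s' : S) :
    LL σ d e (s * s') = C (σ s) * LL σ d e s' + C (σ s') * LL σ d e s := by
  unfold LL
  rw [lin_mul, map_add e, map_smul e, map_smul e, Finset.mul_sum, Finset.mul_sum,
    ← Finset.sum_add_distrib]
  simp only [Pi.add_apply, Pi.smul_apply, smul_eq_mul, map_add, map_mul, add_mul, mul_assoc]

/-- the map `S → R⟦x⟧/(x)²` -/
noncomputable def base : S →ₐ[R] MvPowerSeries (Fin d) R ⧸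
    (Ideal.span (Set.range (MvPowerSeries.X : Fin d → MvPowerSeries (Fin d) R))) ^ 2 where
  toFun s := Ideal.Quotient.mk _ (C (σ s) + LL σ d e s)
  map_one' := by
    rw [LL_one, map_one, map_one, add_zero, map_one]
  map_mul' s s' := by
    rw [← map_mul, Ideal.Quotient.eq, LL_mul, map_mul, map_mul]
    have : C (σ s) * C (σ s') + (C (σ s) * LL σ d e s' + C (σ s') * LL σ d e s) -
        (C (σ s) + LL σ d e s) * (C (σ s') + LL σ d e s') = -(LL σ d e s * LL σ d e s') := by
      ring
    rw [this, pow_two]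
    exact neg_mem (Ideal.mul_mem_mul (LL_mem σ d e s) (LL_mem σ d e s'))
  map_zero' := by
    have : LL σ d e 0 = 0 := by
      have := LL_smul σ d e 0 0
      simpa using this
    rw [this, map_zero, map_zero, add_zero, map_zero]
  map_add' s s' := by
    change Ideal.Quotient.mk _ (C (σ (s + s')) + LL σ d e (s + s')) =
      Ideal.Quotient.mk _ (C (σ s) + LL σ d e s) + Ideal.Quotient.mk _ (C (σ s') + LL σ d e s')
    rw [LL_add, map_add σ, map_add C, ← map_add (Ideal.Quotient.mk _)]
    congr 1
    ring
  commutes' r := by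
    have h1 : LL σ d e (algebraMap R S r) = 0 := by
      rw [Algebra.algebraMap_eq_smul_one, LL_smul, LL_one, mul_zero]
    rw [h1, add_zero, σ.commutes, Algebra.algebraMap_self_apply]
    rfl

end lift

section main

variable {R S : Type u} [CommRing R] [CommRing S] [Algebra R S] [Algebra.Smooth R S]
  (σ : S →ₐ[R] R) (d : ℕ)

theorem main (e : (RingHom.ker σ.toRingHom).Cotangent ≃ₗ[R] (Fin d → R)) :
    Nonempty (AdicCompletion (RingHom.ker σ.toRingHom) S ≃ₐ[R] MvPowerSeries (Fin d) R) := by
  classical
  set I := RingHom.ker σ.toRingHom with hI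
  set 𝔵 : Ideal (MvPowerSeries (Fin d) R) := Ideal.span (Set.range X) with h𝔵
  have hσsurj : Function.Surjective σ := fun r => ⟨algebraMap R S r, by rw [σ.commutes]; rfl⟩
  haveI : Algebra.FinitePresentation R S := Algebra.Smooth.finitePresentation
  haveI : Algebra.FormallySmooth R S := Algebra.Smooth.formallySmooth
  have hIfg : I.FG := Algebra.FinitePresentation.ker_fG_of_surjective σ hσsurj
  set J : Ideal (AdicCompletion I S) := I.map (algebraMap S (AdicCompletion I S)) with hJ
  haveI hcomp : IsAdicComplete J (AdicCompletion I S) := AdicCompletion.isAdicComplete_self I hIfg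
  haveI : IsAdicComplete (𝔵 ^ 2) (MvPowerSeries (Fin d) R) := isAdicComplete_sq 𝔵
  obtain ⟨ψ, hψ⟩ := Algebra.FormallySmooth.exists_mkₐ_comp_eq_of_isAdicComplete (base σ d e)
  have hψL : ∀ s, ψ s - (C (σ s) + LL σ d e s) ∈ 𝔵 ^ 2 := by
    intro s
    have := DFunLike.congr_fun hψ s
    exact Ideal.Quotient.eq.mp this
  have hψI : ∀ s ∈ I, ψ s ∈ 𝔵 := by
    intro s hs
    have h1 := hψL s
    have hσs : σ s = 0 := hs
    rw [hσs, map_zero, zero_add] at h1
    have h2 : ψ s - LL σ d e s ∈ 𝔵 := Ideal.pow_le_self two_ne_zero h1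
    have := Ideal.add_mem _ h2 (LL_mem σ d e s)
    simpa using this
  have hx : ∀ i : Fin d, ∃ x : I, e (I.toCotangent x) = Pi.single i 1 := by
    intro i
    obtain ⟨c, hc⟩ := e.surjective (Pi.single i 1)
    obtain ⟨x, rfl⟩ := I.toCotangent_surjective c
    exact ⟨x, hc⟩
  choose x hxe using hx
  have hψx : ∀ i, ψ (x i) - X i ∈ 𝔵 ^ 2 := by
    intro i
    have h1 := hψL (x i)
    have hσs : σ (x i : S) = 0 := (x i).2
    rw [hσs, map_zero, zero_add] at h1
    have h2 : LL σ d e (x i) = X i := by
      unfold LL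
      rw [lin_of_mem σ (x i).2]
      have : (⟨(x i : S), (x i).2⟩ : I) = x i := rfl
      rw [this, hxe]
      simp [Pi.single_apply, Finset.sum_ite_eq]
    rwa [h2] at h1
  have hIx : I ≤ Ideal.span (Set.range fun i => (x i : S)) ⊔ I ^ 2 := by
    intro y hy
    set r := e (I.toCotangent ⟨y, hy⟩) with hr
    have h1 : I.toCotangent ⟨y, hy⟩ = I.toCotangent (∑ i, r i • x i) := by
      apply e.injective
      rw [map_sum, map_sum]
      simp only [LinearMap.map_smul_of_tower, map_smul, hxe]
      rw [← hr]
      ext j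
      simp [Pi.single_apply]
    rw [Ideal.toCotangent_eq] at h1
    have h2 : (y : S) = (∑ i, r i • (x i : S)) + (y - ∑ i, r i • (x i : S)) := by ring
    rw [h2]
    refine Ideal.add_mem _ (Ideal.mem_sup_left ?_) (Ideal.mem_sup_right ?_)
    · apply Ideal.sum_mem
      intro i _
      rw [Algebra.smul_def]
      exact Ideal.mul_mem_left _ _ (Ideal.subset_span ⟨i, rfl⟩)
    · convert h1 using 1
      simp [Submodule.coe_sum, Submodule.coe_smul_of_tower]
  set t : Fin d → AdicCompletion I S := fun i => algebraMap S (AdicCompletion I S) (x i) with ht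
  have htJ : ∀ i, t i ∈ J := fun i => Ideal.mem_map_of_mem _ (x i).2
  have hJfg : J.FG := hIfg.map _
  have hJt : Ideal.span (Set.range t) = J := by
    apply le_antisymm
    · rw [Ideal.span_le]
      rintro _ ⟨i, rfl⟩
      exact htJ i
    · apply Submodule.le_of_le_smul_of_le_jacobson_bot hJfg (IsAdicComplete.le_jacobson_bot J)
      calc J ≤ (Ideal.span (Set.range fun i => (x i : S)) ⊔ I ^ 2).map
            (algebraMap S (AdicCompletion I S)) := Ideal.map_mono hIx
        _ = Ideal.span (Set.range t) ⊔ J • J := by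
            rw [Ideal.map_sup, Ideal.map_span, Ideal.map_pow, ← Set.range_comp, pow_two]
            rfl
  have hσ' : Function.Surjective
      ((Ideal.Quotient.mk J).comp (algebraMap R (AdicCompletion I S))) := by
    intro z
    obtain ⟨z, rfl⟩ := Ideal.Quotient.mk_surjective z
    obtain ⟨s, hs⟩ := Ideal.Quotient.mk_surjective (AdicCompletion.evalOneₐ I z)
    refine ⟨σ s, ?_⟩
    rw [RingHom.comp_apply, Ideal.Quotient.eq, hJ, ← AdicCompletion.ker_evalOneₐ_eq_map I hIfg,
      RingHom.mem_ker]
    change AdicCompletion.evalOneₐ I (algebraMap R _ (σ s) - z) = 0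
    rw [map_sub, ← hs, AdicCompletion.algebraMap_apply, AdicCompletion.evalOneₐ_of, ← map_sub,
      Ideal.Quotient.eq_zero_iff_mem, ← neg_sub, Ideal.neg_mem_iff]
    exact sub_mem_ker σ s
  obtain ⟨φ, hφsurj, hφC, hφX⟩ := _root_.H14.PSurj.exists_surjective J d t hJt
    (algebraMap R (AdicCompletion I S)) hσ'
  have hφpoly : ∀ q' : MvPolynomial (Fin d) R, φ (q' : MvPowerSeries (Fin d) R) =
      algebraMap S (AdicCompletion I S) (MvPolynomial.aeval (fun i => (x i : S)) q') := by
    intro q'
    have : (φ.comp (MvPolynomial.coeToMvPowerSeries.ringHom)) =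
        ((algebraMap S (AdicCompletion I S)).comp
          (MvPolynomial.aeval (fun i => (x i : S)) : MvPolynomial (Fin d) R →ₐ[R] S).toRingHom) := by
      apply MvPolynomial.ringHom_ext
      · intro r
        simp [hφC, ← IsScalarTower.algebraMap_apply]
      · intro i
        simp [hφX, ht]
    exact DFunLike.congr_fun this q'
  have hφinj : Function.Injective φ := by
    rw [injective_iff_map_eq_zero]
    intro p hp
    by_contra hne
    have hex : ∃ m, ∃ α : Fin d →₀ ℕ, α.degree = m ∧ coeff α p ≠ 0 := by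
      by_contra hcon
      push Not at hcon
      apply hne
      ext α
      simpa using hcon _ α rfl
    obtain ⟨α, hαm, hαp⟩ := Nat.find_spec hex
    have hmin : ∀ β : Fin d →₀ ℕ, β.degree < Nat.find hex → coeff β p = 0 := by
      intro β hβ
      by_contra h
      exact Nat.find_min hex hβ ⟨β, rfl, h⟩
    set m := Nat.find hex with hm
    set q := truncTotal (m + 1) p with hq
    have hqm : q ∈ (MvPolynomial.idealOfVars (Fin d) R) ^ m := by
      rw [MvPolynomial.mem_pow_idealOfVars_iff']
      intro β hβ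
      rw [hq, coeff_truncTotal p (by omega), hmin β hβ]
    have h1 : φ (p - (q : MvPowerSeries (Fin d) R)) ∈ J ^ (m + 1) := by
      have h2 := Groth.Agent.Lib.helper19.sub_truncTotal_mem_span_X_pow (m + 1) p
      have h3 : 𝔵 ^ (m + 1) ≤ (J ^ (m + 1)).comap φ := by
        rw [← Ideal.map_le_iff_le_comap, Ideal.map_pow]
        apply Ideal.pow_right_mono
        rw [h𝔵, Ideal.map_span, Ideal.span_le]
        rintro _ ⟨_, ⟨i, rfl⟩, rfl⟩
        rw [hφX]
        exact htJ i
      exact h3 h2
    rw [map_sub, hp, zero_sub, Ideal.neg_mem_iff, hφpoly] at h1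
    have h4 : MvPolynomial.aeval (fun i => (x i : S)) q ∈ I ^ (m + 1) := by
      have h5 : J ^ (m + 1) ≤ RingHom.ker (AdicCompletion.evalₐ I (m + 1)).toRingHom := by
        rw [hJ, ← Ideal.map_pow, Ideal.map_le_iff_le_comap]
        intro y hy
        rw [Ideal.mem_comap, RingHom.mem_ker]
        change AdicCompletion.evalₐ I (m + 1) (algebraMap S _ y) = 0
        rw [AdicCompletion.algebraMap_apply, Algebra.algebraMap_self_apply,
          AdicCompletion.evalₐ_of, Ideal.Quotient.eq_zero_iff_mem]
        exact hy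
      have h6 := h5 h1
      rw [RingHom.mem_ker] at h6
      change AdicCompletion.evalₐ I (m + 1) (algebraMap S _ _) = 0 at h6
      rw [AdicCompletion.algebraMap_apply, Algebra.algebraMap_self_apply,
        AdicCompletion.evalₐ_of, Ideal.Quotient.eq_zero_iff_mem] at h6
      exact h6
    have h7 : ψ (MvPolynomial.aeval (fun i => (x i : S)) q) ∈ 𝔵 ^ (m + 1) := by
      have : I ^ (m + 1) ≤ (𝔵 ^ (m + 1)).comap ψ.toRingHom := by
        rw [← Ideal.map_le_iff_le_comap, Ideal.map_pow]
        apply Ideal.pow_right_mono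
        rw [Ideal.map_le_iff_le_comap]
        intro s hs
        exact hψI s hs
      exact this h4
    have h8 : ψ (MvPolynomial.aeval (fun i => (x i : S)) q) - (q : MvPowerSeries (Fin d) R) ∈
        𝔵 ^ (m + 1) := by
      let ev : MvPolynomial (Fin d) R →+* MvPowerSeries (Fin d) R :=
        (ψ.comp (MvPolynomial.aeval (fun i => (x i : S)))).toRingHom
      let co : MvPolynomial (Fin d) R →+* MvPowerSeries (Fin d) R :=
        MvPolynomial.coeToMvPowerSeries.ringHom
      have hC : ∀ r, ev (MvPolynomial.C r) = co (MvPolynomial.C r) := by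
        intro r
        simp [ev, co, MvPowerSeries.algebraMap_apply]
      have hev : ∀ i, ev (MvPolynomial.X i) ∈ 𝔵 := by
        intro i
        have : ev (MvPolynomial.X i) = ψ (x i) := by simp [ev]
        rw [this]
        exact hψI _ (x i).2
      have hco : ∀ i, co (MvPolynomial.X i) ∈ 𝔵 := by
        intro i
        have : co (MvPolynomial.X i) = X i := by simp [co]
        rw [this]
        exact Ideal.subset_span ⟨i, rfl⟩
      have hd : ∀ i, ev (MvPolynomial.X i) - co (MvPolynomial.X i) ∈ 𝔵 ^ 2 := by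
        intro i
        have h1 : ev (MvPolynomial.X i) = ψ (x i) := by simp [ev]
        have h2 : co (MvPolynomial.X i) = X i := by simp [co]
        rw [h1, h2]
        exact hψx i
      exact sub_mem_pow_succ 𝔵 ev co hC hev hco hd m hqm
    have h9 : (q : MvPowerSeries (Fin d) R) ∈ 𝔵 ^ (m + 1) := by
      have := Ideal.sub_mem _ h7 h8
      simpa using this
    have h10 := coeff_eq_zero_of_mem_pow h9 (β := α) (by omega)
    rw [MvPolynomial.coeff_coe, hq, coeff_truncTotal p (by omega)] at h10
    exact hαp h10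
  let φa : MvPowerSeries (Fin d) R →ₐ[R] AdicCompletion I S :=
    { φ with
      commutes' := fun r => by
        change φ (algebraMap R _ r) = _
        rw [show algebraMap R (MvPowerSeries (Fin d) R) r = C r by
          simp [MvPowerSeries.algebraMap_apply], hφC] }
  exact ⟨(AlgEquiv.ofBijective φa ⟨hφinj, hφsurj⟩).symm⟩

end main

end Groth.Agent.H14.SmoothSec
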