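import Mathlib
import Groth.Agent.S9461

/-!
# Strict henselizations of (ind-)quasi-finite algebras as localizations, and tensor products

* `lemmaL`: an abstract bijectivity criterion via fractions.
* `strict_loc`: if `(Rh ⊗[R] S)_Q` is integral over the strict henselization `Rh`, it is the
  strict henselization `Sh`.
* `integral_of_quasiFiniteAt`, `integral_of_indQF`: providers of the integrality hypothesis.
-/

universe u

set_option maxHeartbeats 400000
set_option linter.style.haveILetI false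
set_option linter.unusedSectionVars false

open IsLocalRing TensorProduct

namespace Groth.Agent.Lib.helper14.StrictTensor

/-- abstract criterion: `Λ : E → T` is bijective as soon as `T` and `E` are both "rings of
fractions" of a ring `W` in a compatible way and `Λ` reflects units. -/
theorem lemmaL {W E T : Type*} [CommRing W] [CommRing E] [CommRing T]
    (ι : W →+* E) (Λ : E →+* T)
    (hΛ : ∀ x : E, IsUnit (Λ x) → IsUnit x)
    (hFT : ∀ y : T, ∃ w m : W, IsUnit (Λ (ι m)) ∧ y * Λ (ι m) = Λ (ι w))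
    (hKT : ∀ w : W, Λ (ι w) = 0 → ∃ m : W, IsUnit (Λ (ι m)) ∧ m * w = 0)
    (hFE : ∀ z : E, ∃ w m : W, IsUnit (ι m) ∧ z * ι m = ι w) :
    Function.Bijective Λ := by
  constructor
  · rw [injective_iff_map_eq_zero]
    intro z hz
    obtain ⟨w, m, hm, hzm⟩ := hFE z
    have h1 : Λ (ι w) = 0 := by rw [← hzm, map_mul, hz, zero_mul]
    obtain ⟨s, hs, hsw⟩ := hKT w h1
    have hs' : IsUnit (ι s) := hΛ _ hs
    have h2 : ι s * ι w = 0 := by rw [← map_mul, hsw, map_zero]
    have h3 : ι w = 0 := (hs'.mul_right_eq_zero).mp h2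
    rw [h3] at hzm
    exact (hm.mul_left_eq_zero).mp hzm
  · intro y
    obtain ⟨w, m, hm, hy⟩ := hFT y
    have hm' : IsUnit (ι m) := hΛ _ hm
    obtain ⟨u, hu⟩ := hm'
    refine ⟨ι w * (↑u⁻¹ : E), ?_⟩
    have h1 : Λ (ι m) * Λ ((↑u⁻¹ : E)) = 1 := by
      rw [← map_mul, ← hu, Units.mul_inv, map_one]
    calc Λ (ι w * (↑u⁻¹ : E)) = Λ (ι w) * Λ ((↑u⁻¹ : E)) := map_mul _ _ _
      _ = y * (Λ (ι m) * Λ ((↑u⁻¹ : E))) := by rw [← hy, mul_assoc]
      _ = y := by rw [h1, mul_one]

section key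

variable (R : Type u) [CommRing R] (S : Type u)
    [CommRing S] [Algebra R S] (p : Ideal R) [p.IsPrime] (q : Ideal S)
    [q.IsPrime] [hqp : q.LiesOver p]
    (Rh : Type u) [CommRing Rh] [IsLocalRing Rh] [Algebra (Localization.AtPrime p) Rh]
    [IsLocalHom (algebraMap (Localization.AtPrime p) Rh)]
    [hRh : Hensel.IsStrictHenselization (Localization.AtPrime p) Rh] [Algebra R Rh]
    [IsScalarTower R (Localization.AtPrime p) Rh]
    (Sh : Type u) [CommRing Sh] [IsLocalRing Sh] [Algebra (Localization.AtPrime q) Sh]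
    [IsLocalHom (algebraMap (Localization.AtPrime q) Sh)]
    [hSh : Hensel.IsStrictHenselization (Localization.AtPrime q) Sh] [Algebra S Sh]
    [IsScalarTower S (Localization.AtPrime q) Sh] [Algebra R Sh] [IsScalarTower R S Sh]
    [Algebra Rh Sh] [IsScalarTower R Rh Sh] [hloc : IsLocalHom (algebraMap Rh Sh)]

/-- the canonical map `Rh ⊗[R] S → Sh` -/
noncomputable abbrev lam : Rh ⊗[R] S →ₐ[R] Sh :=
  Algebra.TensorProduct.lift (IsScalarTower.toAlgHom R Rh Sh)
    (IsScalarTower.toAlgHom R S Sh) (fun _ _ => Commute.all _ _)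

/-- the prime of `Rh ⊗[R] S` under the maximal ideal of `Sh` -/
noncomputable abbrev QQ : Ideal (Rh ⊗[R] S) := Ideal.comap (lam R S Rh Sh) (maximalIdeal Sh)

omit [IsLocalRing Rh] [IsLocalRing Sh] in
theorem lam_left (r : Rh) : lam R S Rh Sh (r ⊗ₜ[R] (1 : S)) = algebraMap Rh Sh r := by
  rw [Algebra.TensorProduct.lift_tmul, map_one, mul_one]; rfl

omit [IsLocalRing Rh] [IsLocalRing Sh] in
theorem lam_right (s : S) : lam R S Rh Sh ((1 : Rh) ⊗ₜ[R] s) = algebraMap S Sh s := by
  rw [Algebra.TensorProduct.lift_tmul, map_one, one_mul]; rfl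

omit [IsLocalRing Rh] [IsLocalRing Sh] in
theorem lam_tmul (r : Rh) (s : S) :
    lam R S Rh Sh (r ⊗ₜ[R] s) = algebraMap Rh Sh r * algebraMap S Sh s := by
  rw [Algebra.TensorProduct.lift_tmul]; rfl

include hloc in
theorem mem_maximalIdeal_Rh_iff (x : Rh) :
    algebraMap Rh Sh x ∈ maximalIdeal Sh ↔ x ∈ maximalIdeal Rh := by
  constructor
  · intro h
    by_contra hx
    rw [mem_maximalIdeal, mem_nonunits_iff, not_not] at hx
    exact h (hx.map _)
  · intro h
    exact map_nonunit (algebraMap Rh Sh) _ h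

theorem mem_maximalIdeal_S_iff (x : S) : algebraMap S Sh x ∈ maximalIdeal Sh ↔ x ∈ q := by
  rw [IsScalarTower.algebraMap_apply S (Localization.AtPrime q) Sh,
    ← IsLocalization.AtPrime.to_map_mem_maximal_iff (Localization.AtPrime q) q x]
  constructor
  · intro h
    by_contra hx
    rw [mem_maximalIdeal, mem_nonunits_iff, not_not] at hx
    exact h (hx.map _)
  · intro h
    exact map_nonunit (algebraMap (Localization.AtPrime q) Sh) _ h

include hloc in
theorem QQ_liesOver : (QQ R S Rh Sh).LiesOver (maximalIdeal Rh) := by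
  refine ⟨?_⟩
  ext x
  change x ∈ maximalIdeal Rh ↔ lam R S Rh Sh (algebraMap Rh (Rh ⊗[R] S) x) ∈ maximalIdeal Sh
  rw [Algebra.TensorProduct.algebraMap_apply, Algebra.algebraMap_self_apply, lam_left,
    mem_maximalIdeal_Rh_iff]

theorem QQ_comap : q = (QQ R S Rh Sh).comap Algebra.TensorProduct.includeRight.toRingHom := by
  ext x
  change x ∈ q ↔ lam R S Rh Sh ((1 : Rh) ⊗ₜ[R] x) ∈ maximalIdeal Sh
  rw [lam_right, mem_maximalIdeal_S_iff S q Sh]

include hloc in
theorem isLocalHom_Rh_L : IsLocalHom (algebraMap Rh (Localization.AtPrime (QQ R S Rh Sh))) := by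
  constructor
  intro x hx
  rw [IsScalarTower.algebraMap_apply Rh (Rh ⊗[R] S) (Localization.AtPrime _),
    IsLocalization.AtPrime.isUnit_to_map_iff (Localization.AtPrime _) (QQ R S Rh Sh)] at hx
  have h1 : ¬ lam R S Rh Sh (algebraMap Rh (Rh ⊗[R] S) x) ∈ maximalIdeal Sh := hx
  rw [Algebra.TensorProduct.algebraMap_apply, Algebra.algebraMap_self_apply, lam_left,
    mem_maximalIdeal_Rh_iff, mem_maximalIdeal, mem_nonunits_iff, not_not] at h1
  exact h1

include hloc hqp in
/-- **Key**: if the localization `L` of `Rh ⊗[R] S` at the prime under `m_Sh` is integral over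
`Rh`, then it is isomorphic to `Sh`. -/
theorem strict_loc [hint : Algebra.IsIntegral Rh (Localization.AtPrime (QQ R S Rh Sh))] :
    ∃ e : (Localization.AtPrime (QQ R S Rh Sh)) ≃+* Sh,
      ∀ d : Rh ⊗[R] S, e (algebraMap (Rh ⊗[R] S) _ d) = lam R S Rh Sh d := by
  classical
  letI : HenselianLocalRing Rh := hRh.henselian
  haveI hsc : IsSepClosed (ResidueField Rh) := by
    haveI := hRh.isSepClosure
    exact IsSepClosure.sep_closed (ResidueField (Localization.AtPrime p))
  letI hL : HenselianLocalRing (Localization.AtPrime (QQ R S Rh Sh)) :=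
    Groth.Agent.Lib.lead.HenselLocal.henselian_of_integral_local Rh _
  haveI hlocL := isLocalHom_Rh_L R S Rh Sh
  haveI : Algebra.IsAlgebraic (ResidueField Rh)
      (ResidueField (Localization.AtPrime (QQ R S Rh Sh))) := by
    haveI : Algebra.IsIntegral Rh (ResidueField (Localization.AtPrime (QQ R S Rh Sh))) :=
      Algebra.IsIntegral.trans (Localization.AtPrime (QQ R S Rh Sh))
    haveI : Algebra.IsIntegral (ResidueField Rh)
        (ResidueField (Localization.AtPrime (QQ R S Rh Sh))) :=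
      Algebra.IsIntegral.tower_top (R := Rh)
    infer_instance
  haveI : IsSepClosed (ResidueField (Localization.AtPrime (QQ R S Rh Sh))) :=
    Algebra.IsAlgebraic.isSepClosed (F := ResidueField Rh)
  haveI : IsLocalHom (algebraMap (Localization.AtPrime (QQ R S Rh Sh))
      (Localization.AtPrime (QQ R S Rh Sh))) := by
    change IsLocalHom (RingHom.id _); infer_instance
  haveI : Hensel.IsStrictHenselization (Localization.AtPrime (QQ R S Rh Sh))
      (Localization.AtPrime (QQ R S Rh Sh)) := H14S9461.isStrictHenselization_self _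
  obtain ⟨e, he⟩ := Groth.Agent.Lib.lead.StrictRecog.main9460 R S p q Rh Sh
    (Localization.AtPrime (QQ R S Rh Sh))
  exact ⟨e, fun d => he d⟩

include hloc hqp in
theorem strict_frac [Algebra.IsIntegral Rh (Localization.AtPrime (QQ R S Rh Sh))] (y : Sh) :
    ∃ w m : Rh ⊗[R] S, IsUnit (lam R S Rh Sh m) ∧ y * lam R S Rh Sh m = lam R S Rh Sh w := by
  obtain ⟨e, he⟩ := strict_loc R S p q Rh Sh
  obtain ⟨x, rfl⟩ := e.surjective y
  obtain ⟨w, m, rfl⟩ := IsLocalization.exists_mk'_eq (QQ R S Rh Sh).primeCompl x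
  refine ⟨w, m, ?_, ?_⟩
  · have h1 : (m : Rh ⊗[R] S) ∉ QQ R S Rh Sh := m.2
    rw [Ideal.mem_comap, mem_maximalIdeal, mem_nonunits_iff, not_not] at h1
    exact h1
  · rw [← he, ← he, ← map_mul, IsLocalization.mk'_spec]

include hloc hqp in
theorem strict_ker [Algebra.IsIntegral Rh (Localization.AtPrime (QQ R S Rh Sh))]
    (w : Rh ⊗[R] S) (hw : lam R S Rh Sh w = 0) :
    ∃ m : Rh ⊗[R] S, IsUnit (lam R S Rh Sh m) ∧ m * w = 0 := by
  obtain ⟨e, he⟩ := strict_loc R S p q Rh Sh
  have h0 : algebraMap (Rh ⊗[R] S) (Localization.AtPrime (QQ R S Rh Sh)) w = 0 := by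
    apply e.injective
    rw [he, hw, map_zero]
  obtain ⟨m, hm⟩ := (IsLocalization.map_eq_zero_iff (QQ R S Rh Sh).primeCompl _ w).mp h0
  refine ⟨m, ?_, hm⟩
  have h1 : (m : Rh ⊗[R] S) ∉ QQ R S Rh Sh := m.2
  rw [Ideal.mem_comap, mem_maximalIdeal, mem_nonunits_iff, not_not] at h1
  exact h1

include hloc hqp in
/-- under the integrality hypothesis, `Sh` is integral over `Rh` -/
theorem integral_strict [Algebra.IsIntegral Rh (Localization.AtPrime (QQ R S Rh Sh))] :
    Algebra.IsIntegral Rh Sh := by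
  obtain ⟨e, he⟩ := strict_loc R S p q Rh Sh
  let f : Localization.AtPrime (QQ R S Rh Sh) →ₐ[Rh] Sh :=
    { e.toRingHom with
      commutes' := by
        intro r
        change e (algebraMap Rh (Localization.AtPrime _) r) = _
        rw [IsScalarTower.algebraMap_apply Rh (Rh ⊗[R] S) (Localization.AtPrime _), he,
          Algebra.TensorProduct.algebraMap_apply, Algebra.algebraMap_self_apply, lam_left] }
  refine ⟨fun y => ?_⟩
  obtain ⟨x, rfl⟩ := e.surjective y
  exact (Algebra.IsIntegral.isIntegral (R := Rh) x).map f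

include hloc hRh in
/-- provider of the hypothesis: finite type and quasi-finite at `q` -/
theorem integral_of_quasiFiniteAt [Algebra.FiniteType R S] [Algebra.QuasiFiniteAt R q] :
    Algebra.IsIntegral Rh (Localization.AtPrime (QQ R S Rh Sh)) := by
  letI : HenselianLocalRing Rh := hRh.henselian
  haveI : Algebra.QuasiFiniteAt Rh (QQ R S Rh Sh) :=
    Algebra.QuasiFiniteAt.baseChange q _ (QQ_comap R S q Rh Sh)
  haveI hfin : Module.Finite Rh (Localization.AtPrime (QQ R S Rh Sh)) :=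
    Groth.Agent.Lib.lead.HenselLocal.finite_localization_of_quasiFiniteAt (R := Rh)
      (Rh ⊗[R] S) _ (QQ_liesOver R S Rh Sh) inferInstance
  exact Algebra.IsIntegral.of_finite Rh _

end key

section indQF

variable (R : Type u) [CommRing R] (S : Type u)
    [CommRing S] [Algebra R S]
    (Rh : Type u) [CommRing Rh] [Algebra R Rh]

/-- base change of the inclusion of a subalgebra -/
noncomputable abbrev jmap (S₀ : Subalgebra R S) : Rh ⊗[R] S₀ →ₐ[Rh] Rh ⊗[R] S :=
  Algebra.TensorProduct.map (AlgHom.id Rh Rh) S₀.val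

theorem exists_finset_range (a : Rh ⊗[R] S) :
    ∃ t : Finset S, ∀ S₀ : Subalgebra R S, (↑t : Set S) ⊆ ↑S₀ → a ∈ Set.range (jmap R S Rh S₀) := by
  classical
  induction a using TensorProduct.induction_on with
  | zero => exact ⟨∅, fun S₀ _ => ⟨0, map_zero _⟩⟩
  | tmul r s =>
    refine ⟨{s}, fun S₀ h => ⟨r ⊗ₜ[R] (⟨s, h (by simp)⟩ : S₀), ?_⟩⟩
    simp [jmap]
  | add x y hx hy =>
    obtain ⟨t₁, h₁⟩ := hx
    obtain ⟨t₂, h₂⟩ := hy
    refine ⟨t₁ ∪ t₂, fun S₀ h => ?_⟩
    obtain ⟨x₀, hx₀⟩ := h₁ S₀ (fun z hz => h (by simp only [Finset.coe_union]; exact Or.inl hz))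
    obtain ⟨y₀, hy₀⟩ := h₂ S₀ (fun z hz => h (by simp only [Finset.coe_union]; exact Or.inr hz))
    exact ⟨x₀ + y₀, by rw [map_add, hx₀, hy₀]⟩

variable [HenselianLocalRing Rh]

/-- the localization of `Rh ⊗[R] S` at a prime over the closed point is integral over the
henselian local ring `Rh`, if `S` is a directed union of quasi-finite subalgebras of finite type -/
theorem integral_of_indQF_aux
    (hB : ∀ s : Finset S, ∃ S₀ : Subalgebra R S, (↑s : Set S) ⊆ ↑S₀ ∧
      Algebra.FiniteType R ↥S₀ ∧ Algebra.QuasiFinite R ↥S₀)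
    (Q : Ideal (Rh ⊗[R] S)) [Q.IsPrime] (hQ : Q.LiesOver (maximalIdeal Rh)) :
    Algebra.IsIntegral Rh (Localization.AtPrime Q) := by
  classical
  refine ⟨fun x => ?_⟩
  obtain ⟨a, m, rfl⟩ := IsLocalization.exists_mk'_eq Q.primeCompl x
  obtain ⟨t₁, h₁⟩ := exists_finset_range R S Rh a
  obtain ⟨t₂, h₂⟩ := exists_finset_range R S Rh (m : Rh ⊗[R] S)
  obtain ⟨S₀, hS₀, hft, hqf⟩ := hB (t₁ ∪ t₂)
  obtain ⟨a₀, ha₀⟩ := h₁ S₀ (fun z hz => hS₀ (by simp only [Finset.coe_union]; exact Or.inl hz))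
  obtain ⟨m₀, hm₀⟩ := h₂ S₀ (fun z hz => hS₀ (by simp only [Finset.coe_union]; exact Or.inr hz))
  set j := jmap R S Rh S₀ with hj
  let Q₀ : Ideal (Rh ⊗[R] S₀) := Q.comap j.toRingHom
  haveI : Q₀.IsPrime := Ideal.comap_isPrime _ _
  have hQ₀ : Q₀.LiesOver (maximalIdeal Rh) := by
    refine ⟨?_⟩
    rw [hQ.over]
    ext r
    change algebraMap Rh (Rh ⊗[R] S) r ∈ Q ↔ j (algebraMap Rh (Rh ⊗[R] S₀) r) ∈ Q
    rw [j.commutes]
  haveI : Algebra.QuasiFiniteAt Rh Q₀ := inferInstance
  haveI hfin : Module.Finite Rh (Localization.AtPrime Q₀) :=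
    Groth.Agent.Lib.lead.HenselLocal.finite_localization_of_quasiFiniteAt (R := Rh)
      (Rh ⊗[R] S₀) Q₀ hQ₀ inferInstance
  let jh : Localization.AtPrime Q₀ →ₐ[Rh] Localization.AtPrime Q :=
    { Localization.localRingHom Q₀ Q j.toRingHom rfl with
      commutes' := by
        intro r
        change Localization.localRingHom Q₀ Q j.toRingHom rfl
          (algebraMap Rh (Localization.AtPrime Q₀) r) = _
        rw [IsScalarTower.algebraMap_apply Rh (Rh ⊗[R] S₀) (Localization.AtPrime Q₀),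
          Localization.localRingHom_to_map]
        change algebraMap _ _ (j (algebraMap Rh (Rh ⊗[R] S₀) r)) = _
        rw [j.commutes, ← IsScalarTower.algebraMap_apply] }
  have hm₀' : m₀ ∈ Q₀.primeCompl := by
    change ¬ j m₀ ∈ Q
    rw [hm₀]
    exact m.2
  have hx : IsLocalization.mk' (Localization.AtPrime Q) a m =
      jh (IsLocalization.mk' (Localization.AtPrime Q₀) a₀ (⟨m₀, hm₀'⟩ : Q₀.primeCompl)) := by
    change _ = Localization.localRingHom Q₀ Q j.toRingHom rfl _
    rw [Localization.localRingHom_mk']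
    congr 1
    · exact ha₀.symm
    · exact Subtype.ext hm₀.symm
  rw [hx]
  exact (Algebra.IsIntegral.isIntegral (R := Rh) _).map jh

end indQF

section key2

variable (R : Type u) [CommRing R] (S : Type u)
    [CommRing S] [Algebra R S] (p : Ideal R) [p.IsPrime] (q : Ideal S)
    [q.IsPrime]
    (Rh : Type u) [CommRing Rh] [IsLocalRing Rh] [Algebra (Localization.AtPrime p) Rh]
    [IsLocalHom (algebraMap (Localization.AtPrime p) Rh)]
    [hRh : Hensel.IsStrictHenselization (Localization.AtPrime p) Rh] [Algebra R Rh]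
    [IsScalarTower R (Localization.AtPrime p) Rh]
    (Sh : Type u) [CommRing Sh] [IsLocalRing Sh] [Algebra (Localization.AtPrime q) Sh]
    [IsLocalHom (algebraMap (Localization.AtPrime q) Sh)]
    [Algebra S Sh]
    [IsScalarTower S (Localization.AtPrime q) Sh] [Algebra R Sh] [IsScalarTower R S Sh]
    [Algebra Rh Sh] [IsScalarTower R Rh Sh] [hloc : IsLocalHom (algebraMap Rh Sh)]

include hloc hRh in
/-- provider of the hypothesis: directed union of quasi-finite subalgebras of finite type -/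
theorem integral_of_indQF
    (hB : ∀ s : Finset S, ∃ S₀ : Subalgebra R S, (↑s : Set S) ⊆ ↑S₀ ∧
      Algebra.FiniteType R ↥S₀ ∧ Algebra.QuasiFinite R ↥S₀) :
    Algebra.IsIntegral Rh (Localization.AtPrime (QQ R S Rh Sh)) := by
  letI : HenselianLocalRing Rh := hRh.henselian
  exact integral_of_indQF_aux R S Rh hB _ (QQ_liesOver R S Rh Sh)

end key2

section lam2

variable (Ash Bsh Csh Dsh : Type u) [CommRing Ash] [CommRing Bsh] [CommRing Csh] [CommRing Dsh]
  [Algebra Ash Bsh] [Algebra Ash Csh] [Algebra Ash Dsh] [Algebra Bsh Dsh] [Algebra Csh Dsh]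
  [IsScalarTower Ash Bsh Dsh] [IsScalarTower Ash Csh Dsh]

/-- the flipped comparison map -/
noncomputable abbrev Lam2 : Csh ⊗[Ash] Bsh →ₐ[Ash] Dsh :=
  Algebra.TensorProduct.lift (IsScalarTower.toAlgHom Ash Csh Dsh)
    (IsScalarTower.toAlgHom Ash Bsh Dsh) (fun _ _ => Commute.all _ _)

theorem Lam2_tmul (c : Csh) (b : Bsh) :
    Lam2 Ash Bsh Csh Dsh (c ⊗ₜ[Ash] b) = algebraMap Csh Dsh c * algebraMap Bsh Dsh b := by
  rw [Algebra.TensorProduct.lift_tmul]; rfl

end lam2

section master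

variable (A B C : Type u) [CommRing A] [CommRing B] [CommRing C] [Algebra A B]
    (D : Type u) [CommRing D] [Algebra B D] [Algebra C D]
    (pA : Ideal A) [pA.IsPrime] (pB : Ideal B) [pB.IsPrime] [hBA : pB.LiesOver pA]
    (pC : Ideal C) [pC.IsPrime] (pD : Ideal D) [pD.IsPrime] [hDC : pD.LiesOver pC]
    (Ash : Type u) [CommRing Ash] [IsLocalRing Ash] [Algebra (Localization.AtPrime pA) Ash]
    [IsLocalHom (algebraMap (Localization.AtPrime pA) Ash)]
    [hAsh : Hensel.IsStrictHenselization (Localization.AtPrime pA) Ash] [Algebra A Ash]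
    [IsScalarTower A (Localization.AtPrime pA) Ash]
    (Bsh : Type u) [CommRing Bsh] [IsLocalRing Bsh] [Algebra (Localization.AtPrime pB) Bsh]
    [IsLocalHom (algebraMap (Localization.AtPrime pB) Bsh)]
    [hBsh : Hensel.IsStrictHenselization (Localization.AtPrime pB) Bsh] [Algebra B Bsh]
    [IsScalarTower B (Localization.AtPrime pB) Bsh] [Algebra A Bsh] [IsScalarTower A B Bsh]
    [Algebra Ash Bsh] [IsScalarTower A Ash Bsh] [hlocB : IsLocalHom (algebraMap Ash Bsh)]
    (Csh : Type u) [CommRing Csh] [IsLocalRing Csh] [Algebra (Localization.AtPrime pC) Csh]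
    [IsLocalHom (algebraMap (Localization.AtPrime pC) Csh)]
    [hCsh : Hensel.IsStrictHenselization (Localization.AtPrime pC) Csh] [Algebra C Csh]
    [IsScalarTower C (Localization.AtPrime pC) Csh]
    [Algebra Ash Csh] [hlocC : IsLocalHom (algebraMap Ash Csh)]
    (Dsh : Type u) [CommRing Dsh] [IsLocalRing Dsh] [Algebra (Localization.AtPrime pD) Dsh]
    [IsLocalHom (algebraMap (Localization.AtPrime pD) Dsh)]
    [hDsh : Hensel.IsStrictHenselization (Localization.AtPrime pD) Dsh] [Algebra D Dsh]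
    [IsScalarTower D (Localization.AtPrime pD) Dsh] [Algebra C Dsh] [IsScalarTower C D Dsh]
    [Algebra Csh Dsh] [IsScalarTower C Csh Dsh] [hlocD : IsLocalHom (algebraMap Csh Dsh)]
    [Algebra Bsh Dsh] [Algebra Ash Dsh] [IsScalarTower Ash Bsh Dsh] [IsScalarTower Ash Csh Dsh]

include hBA hDC hlocB hlocC hlocD hAsh hBsh hCsh hDsh in
theorem master
    (g : D →+* Csh ⊗[Ash] Bsh)
    (hgB : ∀ b : B, g (algebraMap B D b) = (1 : Csh) ⊗ₜ[Ash] algebraMap B Bsh b)
    (hgC : ∀ c : C, g (algebraMap C D c) = algebraMap C Csh c ⊗ₜ[Ash] (1 : Bsh))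
    (hgD : ∀ d : D, Lam2 Ash Bsh Csh Dsh (g d) = algebraMap D Dsh d)
    (HB : Algebra.IsIntegral Ash (Localization.AtPrime (QQ A B Ash Bsh)))
    (HD : Algebra.IsIntegral Csh (Localization.AtPrime (QQ C D Csh Dsh))) :
    Function.Bijective (Algebra.TensorProduct.lift (IsScalarTower.toAlgHom Ash Bsh Dsh)
      (IsScalarTower.toAlgHom Ash Csh Dsh) (fun _ _ => Commute.all _ _)) := by
  classical
  -- integrality and pure inseparability
  haveI hintB : Algebra.IsIntegral Ash Bsh := integral_strict A B pA pB Ash Bsh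
  haveI hsc : IsSepClosed (ResidueField Ash) := by
    haveI := hAsh.isSepClosure
    exact IsSepClosure.sep_closed (ResidueField (Localization.AtPrime pA))
  haveI : Algebra.IsAlgebraic (ResidueField Ash) (ResidueField Bsh) := by
    haveI : Algebra.IsIntegral Ash (ResidueField Bsh) := Algebra.IsIntegral.trans Bsh
    haveI : Algebra.IsIntegral (ResidueField Ash) (ResidueField Bsh) :=
      Algebra.IsIntegral.tower_top (R := Ash)
    infer_instance
  have hPI : IsPurelyInseparable (ResidueField Ash) (ResidueField Bsh) := inferInstance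
  haveI hlocE : IsLocalRing (Csh ⊗[Ash] Bsh) :=
    (Groth.Agent.Lib.lead.PITensor.main Ash Csh Bsh (Or.inl hPI)).1
  set Λ := Lam2 Ash Bsh Csh Dsh with hΛdef
  -- Λ is local
  have hΛloc : ∀ x : Csh ⊗[Ash] Bsh, IsUnit (Λ x) → IsUnit x := by
    let n : Ideal (Csh ⊗[Ash] Bsh) := Ideal.comap Λ (maximalIdeal Dsh)
    haveI : n.IsPrime := Ideal.comap_isPrime _ _
    have hn : n.comap (algebraMap Csh (Csh ⊗[Ash] Bsh)) = maximalIdeal Csh := by
      ext x
      change Λ (algebraMap Csh (Csh ⊗[Ash] Bsh) x) ∈ maximalIdeal Dsh ↔ _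
      rw [Algebra.TensorProduct.algebraMap_apply, Algebra.algebraMap_self_apply, Lam2_tmul,
        map_one, mul_one]
      constructor
      · intro h
        by_contra hx
        rw [mem_maximalIdeal, mem_nonunits_iff, not_not] at hx
        exact h (hx.map _)
      · intro h
        exact map_nonunit (algebraMap Csh Dsh) _ h
    have hmax : n.IsMaximal := by
      apply Ideal.isMaximal_of_isIntegral_of_isMaximal_comap (R := Csh) n
      rw [hn]
      infer_instance
    have hn' : n = maximalIdeal (Csh ⊗[Ash] Bsh) := IsLocalRing.eq_maximalIdeal hmax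
    intro x hx
    by_contra hnu
    have hxm : x ∈ maximalIdeal (Csh ⊗[Ash] Bsh) := (mem_maximalIdeal x).mpr hnu
    rw [← hn'] at hxm
    exact hxm hx
  -- the map ι
  let f₁ : Csh →ₐ[C] Csh ⊗[Ash] Bsh := Algebra.TensorProduct.includeLeft
  let f₂ : D →ₐ[C] Csh ⊗[Ash] Bsh :=
    { g with
      commutes' := by
        intro c
        change g (algebraMap C D c) = algebraMap C (Csh ⊗[Ash] Bsh) c
        rw [hgC, Algebra.TensorProduct.algebraMap_apply] }
  let ι : Csh ⊗[C] D →+* Csh ⊗[Ash] Bsh :=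
    (Algebra.TensorProduct.lift f₁ f₂ (fun _ _ => Commute.all _ _)).toRingHom
  have hι : ∀ (c : Csh) (d : D), ι (c ⊗ₜ[C] d) = (c ⊗ₜ[Ash] (1 : Bsh)) * g d := by
    intro c d
    change (Algebra.TensorProduct.lift f₁ f₂ (fun _ _ => Commute.all _ _)) (c ⊗ₜ[C] d) = _
    rw [Algebra.TensorProduct.lift_tmul]
    rfl
  have hΛι : ∀ x : Csh ⊗[C] D, Λ (ι x) = lam C D Csh Dsh x := by
    intro x
    induction x using TensorProduct.induction_on with
    | zero => simp
    | tmul c d =>
      rw [hι, map_mul, hgD, Lam2_tmul, map_one, mul_one, lam_tmul]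
    | add x y hx hy => rw [map_add, map_add, hx, hy, map_add]
  -- numerators from `Ash ⊗[A] B`
  have claimR : ∀ x : Ash ⊗[A] B, ∃ w : Csh ⊗[C] D,
      ι w = (1 : Csh) ⊗ₜ[Ash] lam A B Ash Bsh x := by
    intro x
    induction x using TensorProduct.induction_on with
    | zero => exact ⟨0, by simp⟩
    | tmul a b =>
      refine ⟨algebraMap Ash Csh a ⊗ₜ[C] algebraMap B D b, ?_⟩
      rw [hι, hgB, Algebra.TensorProduct.tmul_mul_tmul, one_mul, mul_one, lam_tmul,
        Algebra.algebraMap_eq_smul_one a, ← Algebra.smul_def, TensorProduct.smul_tmul]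
    | add x y hx hy =>
      obtain ⟨w₁, h₁⟩ := hx
      obtain ⟨w₂, h₂⟩ := hy
      exact ⟨w₁ + w₂, by rw [map_add, h₁, h₂, map_add, TensorProduct.tmul_add]⟩
  have hFE : ∀ z : Csh ⊗[Ash] Bsh, ∃ w m : Csh ⊗[C] D, IsUnit (ι m) ∧ z * ι m = ι w := by
    intro z
    induction z using TensorProduct.induction_on with
    | zero => exact ⟨0, 1, by simp, by simp⟩
    | tmul c b =>
      obtain ⟨w₀, m₀, hu, h⟩ := strict_frac A B pA pB Ash Bsh b
      obtain ⟨wm, hwm⟩ := claimR m₀
      obtain ⟨ww, hww⟩ := claimR w₀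
      refine ⟨(c ⊗ₜ[C] (1 : D)) * ww, wm, ?_, ?_⟩
      · rw [hwm]
        exact hu.map (Algebra.TensorProduct.includeRight : Bsh →ₐ[Ash] Csh ⊗[Ash] Bsh)
      · rw [hwm, map_mul, hww, hι, map_one, mul_one, Algebra.TensorProduct.tmul_mul_tmul,
          Algebra.TensorProduct.tmul_mul_tmul, mul_one, one_mul, h]
    | add z₁ z₂ h₁ h₂ =>
      obtain ⟨w₁, m₁, hu₁, e₁⟩ := h₁
      obtain ⟨w₂, m₂, hu₂, e₂⟩ := h₂
      refine ⟨w₁ * m₂ + w₂ * m₁, m₁ * m₂, ?_, ?_⟩
      · rw [map_mul]; exact hu₁.mul hu₂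
      · rw [map_mul, map_add, map_mul, map_mul, ← e₁, ← e₂]
        ring
  have hbij : Function.Bijective Λ.toRingHom := by
    refine lemmaL ι Λ.toRingHom hΛloc ?_ ?_ hFE
    · intro y
      obtain ⟨w, m, hu, h⟩ := strict_frac C D pC pD Csh Dsh y
      refine ⟨w, m, ?_, ?_⟩
      · change IsUnit (Λ (ι m)); rw [hΛι]; exact hu
      · change y * Λ (ι m) = Λ (ι w); rw [hΛι, hΛι]; exact h
    · intro w hw
      have hw' : lam C D Csh Dsh w = 0 := by rw [← hΛι]; exact hw
      obtain ⟨m, hu, h⟩ := strict_ker C D pC pD Csh Dsh w hw'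
      exact ⟨m, by change IsUnit (Λ (ι m)); rw [hΛι]; exact hu, h⟩
  -- back to the original order
  have hcomm : ∀ z : Bsh ⊗[Ash] Csh,
      (Algebra.TensorProduct.lift (IsScalarTower.toAlgHom Ash Bsh Dsh)
        (IsScalarTower.toAlgHom Ash Csh Dsh) (fun _ _ => Commute.all _ _)) z =
      Λ (Algebra.TensorProduct.comm Ash Bsh Csh z) := by
    intro z
    induction z using TensorProduct.induction_on with
    | zero => simp
    | tmul b c =>
      rw [Algebra.TensorProduct.comm_tmul, Lam2_tmul Ash Bsh Csh Dsh, Algebra.TensorProduct.lift_tmul,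
        mul_comm]
      rfl
    | add x y hx hy => rw [map_add, hx, hy, map_add, map_add]
  have : ⇑(Algebra.TensorProduct.lift (IsScalarTower.toAlgHom Ash Bsh Dsh)
        (IsScalarTower.toAlgHom Ash Csh Dsh) (fun _ _ => Commute.all _ _)) =
      ⇑Λ.toRingHom ∘ ⇑(Algebra.TensorProduct.comm Ash Bsh Csh) := by
    funext z
    exact hcomm z
  rw [this]
  exact hbij.comp (Algebra.TensorProduct.comm Ash Bsh Csh).bijective

end master

end Groth.Agent.Lib.helper14.StrictTensor
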