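import Mathlib
import Groth.Agent.Lib.helper14.StrictTensor

/-!
# Integrality provider when the *local ring* `S_q` is ind-quasi-finite over `R_p`
-/

universe u

set_option maxHeartbeats 800000
set_option linter.style.haveILetI false
set_option linter.unusedSectionVars false

open IsLocalRing TensorProduct

namespace Groth.Agent.Lib.helper14.StrictTensor

theorem integral_of_loc_indQF
    (R : Type u) [CommRing R] (p : Ideal R) [p.IsPrime]
    (S : Type u) [CommRing S] [Algebra R S] (q : Ideal S) [q.IsPrime]
    [Algebra (Localization.AtPrime p) (Localization.AtPrime q)]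
    [IsScalarTower R (Localization.AtPrime p) (Localization.AtPrime q)]
    (hB : ∀ s : Finset (Localization.AtPrime q),
      ∃ B₀ : Subalgebra (Localization.AtPrime p) (Localization.AtPrime q),
        (↑s : Set (Localization.AtPrime q)) ⊆ ↑B₀ ∧
          Algebra.FiniteType (Localization.AtPrime p) ↥B₀ ∧
            Algebra.QuasiFinite (Localization.AtPrime p) ↥B₀)
    (Rh : Type u) [CommRing Rh] [HenselianLocalRing Rh] [Algebra R Rh]
    [Algebra (Localization.AtPrime p) Rh] [IsScalarTower R (Localization.AtPrime p) Rh]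
    (W : Type u) [CommRing W] [Algebra Rh W]
    (j : S →+* W) (hj : ∀ r : R, j (algebraMap R S r) = algebraMap Rh W (algebraMap R Rh r))
    (hgen : Submodule.span Rh (Set.range j) = ⊤)
    (Q : Ideal W) [Q.IsPrime] (hQ : Q.LiesOver (maximalIdeal Rh))
    (hjQ : ∀ t : S, t ∉ q → j t ∉ Q) :
    Algebra.IsIntegral Rh (Localization.AtPrime Q) := by
  classical
  letI algRpL : Algebra (Localization.AtPrime p) (Localization.AtPrime Q) :=
    ((algebraMap Rh (Localization.AtPrime Q)).comp (algebraMap (Localization.AtPrime p) Rh)).toAlgebra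
  haveI : IsScalarTower (Localization.AtPrime p) Rh (Localization.AtPrime Q) :=
    IsScalarTower.of_algebraMap_eq' rfl
  have hunits : ∀ t : q.primeCompl,
      IsUnit (((algebraMap W (Localization.AtPrime Q)).comp j) (t : S)) := by
    intro t
    exact IsLocalization.map_units (Localization.AtPrime Q)
      (⟨j (t : S), hjQ _ t.2⟩ : Q.primeCompl)
  let j' : Localization.AtPrime q →+* Localization.AtPrime Q :=
    IsLocalization.lift (M := q.primeCompl) hunits
  have hj' : ∀ s : S, j' (algebraMap S (Localization.AtPrime q) s) =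
      algebraMap W (Localization.AtPrime Q) (j s) := fun s => IsLocalization.lift_eq hunits s
  have hcomm : ∀ r : Localization.AtPrime p,
      j' (algebraMap (Localization.AtPrime p) (Localization.AtPrime q) r) =
        algebraMap (Localization.AtPrime p) (Localization.AtPrime Q) r := by
    have h := IsLocalization.ringHom_ext p.primeCompl
      (j := j'.comp (algebraMap (Localization.AtPrime p) (Localization.AtPrime q)))
      (k := algebraMap (Localization.AtPrime p) (Localization.AtPrime Q)) (by
        ext r
        change j' (algebraMap (Localization.AtPrime p) (Localization.AtPrime q)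
          (algebraMap R (Localization.AtPrime p) r)) =
          algebraMap Rh (Localization.AtPrime Q) (algebraMap (Localization.AtPrime p) Rh
            (algebraMap R (Localization.AtPrime p) r))
        rw [← IsScalarTower.algebraMap_apply R (Localization.AtPrime p) (Localization.AtPrime q),
          IsScalarTower.algebraMap_apply R S (Localization.AtPrime q), hj', hj,
          ← IsScalarTower.algebraMap_apply R (Localization.AtPrime p) Rh,
          ← IsScalarTower.algebraMap_apply Rh W (Localization.AtPrime Q)])
    intro r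
    exact RingHom.congr_fun h r
  let j'a : Localization.AtPrime q →ₐ[Localization.AtPrime p] Localization.AtPrime Q :=
    { j' with commutes' := hcomm }
  let ρ : Rh ⊗[Localization.AtPrime p] Localization.AtPrime q →ₐ[Rh] Localization.AtPrime Q :=
    Algebra.TensorProduct.lift (Algebra.ofId Rh (Localization.AtPrime Q)) j'a
      (fun _ _ => Commute.all _ _)
  have hρ : ∀ (r : Rh) (s : Localization.AtPrime q),
      ρ (r ⊗ₜ s) = algebraMap Rh (Localization.AtPrime Q) r * j' s := by
    intro r s
    rw [Algebra.TensorProduct.lift_tmul]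
    rfl
  let Q'' : Ideal (Rh ⊗[Localization.AtPrime p] Localization.AtPrime q) :=
    Ideal.comap ρ (maximalIdeal (Localization.AtPrime Q))
  haveI : Q''.IsPrime := Ideal.comap_isPrime _ _
  have hQ'' : Q''.LiesOver (maximalIdeal Rh) := by
    refine ⟨?_⟩
    ext x
    change x ∈ maximalIdeal Rh ↔ ρ (algebraMap Rh _ x) ∈ maximalIdeal (Localization.AtPrime Q)
    rw [ρ.commutes, IsScalarTower.algebraMap_apply Rh W (Localization.AtPrime Q),
      IsLocalization.AtPrime.to_map_mem_maximal_iff (Localization.AtPrime Q) Q, hQ.over]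
    rfl
  haveI hint'' : Algebra.IsIntegral Rh (Localization.AtPrime Q'') :=
    integral_of_indQF_aux (Localization.AtPrime p) (Localization.AtPrime q) Rh hB Q'' hQ''
  have hunits2 : ∀ y : Q''.primeCompl, IsUnit (ρ (y : Rh ⊗[Localization.AtPrime p] _)) := by
    intro y
    have h1 : (y : Rh ⊗[Localization.AtPrime p] Localization.AtPrime q) ∉ Q'' := y.2
    change ¬ ρ _ ∈ maximalIdeal _ at h1
    rw [mem_maximalIdeal, mem_nonunits_iff, not_not] at h1
    exact h1
  let ρh : Localization.AtPrime Q'' →ₐ[Rh] Localization.AtPrime Q :=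
    IsLocalization.liftAlgHom (M := Q''.primeCompl) (f := ρ) hunits2
  have hρh : ∀ y, ρh (algebraMap _ (Localization.AtPrime Q'') y) = ρ y := by
    intro y
    exact IsLocalization.lift_eq hunits2 y
  -- surjectivity onto numerators
  have hsurj : ∀ w : W, ∃ a₁ : Rh ⊗[Localization.AtPrime p] Localization.AtPrime q,
      ρ a₁ = algebraMap W (Localization.AtPrime Q) w := by
    intro w
    have hw : w ∈ Submodule.span Rh (Set.range j) := by rw [hgen]; trivial
    induction hw using Submodule.span_induction with
    | mem x hx =>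
      obtain ⟨s, rfl⟩ := hx
      exact ⟨(1 : Rh) ⊗ₜ algebraMap S (Localization.AtPrime q) s, by
        rw [hρ, map_one, one_mul, hj']⟩
    | zero => exact ⟨0, by simp⟩
    | add x y _ _ hx hy =>
      obtain ⟨a, ha⟩ := hx
      obtain ⟨b, hb⟩ := hy
      exact ⟨a + b, by rw [map_add, ha, hb, map_add]⟩
    | smul r x _ hx =>
      obtain ⟨a, ha⟩ := hx
      refine ⟨r • a, ?_⟩
      rw [map_smul, ha, Algebra.smul_def, Algebra.smul_def, map_mul,
        ← IsScalarTower.algebraMap_apply Rh W (Localization.AtPrime Q)]
  refine ⟨fun x => ?_⟩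
  obtain ⟨a, m, rfl⟩ := IsLocalization.exists_mk'_eq Q.primeCompl x
  obtain ⟨a₁, ha₁⟩ := hsurj a
  obtain ⟨m₁, hm₁⟩ := hsurj (m : W)
  have hm₁' : m₁ ∈ Q''.primeCompl := by
    change ¬ ρ m₁ ∈ maximalIdeal _
    rw [hm₁, mem_maximalIdeal, mem_nonunits_iff, not_not]
    exact IsLocalization.map_units _ m
  have hx : IsLocalization.mk' (Localization.AtPrime Q) a m =
      ρh (IsLocalization.mk' (Localization.AtPrime Q'') a₁ (⟨m₁, hm₁'⟩ : Q''.primeCompl)) := by
    symm
    rw [IsLocalization.eq_mk'_iff_mul_eq, ← hm₁, ← hρh m₁, ← map_mul]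
    have : IsLocalization.mk' (Localization.AtPrime Q'') a₁ (⟨m₁, hm₁'⟩ : Q''.primeCompl) *
        algebraMap _ (Localization.AtPrime Q'') m₁ = algebraMap _ _ a₁ :=
      IsLocalization.mk'_spec _ a₁ (⟨m₁, hm₁'⟩ : Q''.primeCompl)
    rw [this, hρh, ha₁]
  rw [hx]
  exact (Algebra.IsIntegral.isIntegral (R := Rh) _).map ρh

end Groth.Agent.Lib.helper14.StrictTensor
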