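import Mathlib
import Groth.Prelude.Def_Omega3

set_option autoImplicit false
universe u

namespace H14.Thick

open TensorProduct KaehlerDifferential

section U0

variable {P S : Type*} [CommRing P] [CommRing S] [Algebra P S]

/-- If `P → S` is surjective with kernel `J` and `1 ⊗ n = 0` in `S ⊗[P] N` then `n ∈ J N`. -/
theorem mem_smul_top_of_one_tmul_eq_zero (h : Function.Surjective (algebraMap P S))
    {N : Type*} [AddCommGroup N] [Module P N] (n : N) (hn : (1 : S) ⊗ₜ[P] n = 0) :
    n ∈ (RingHom.ker (algebraMap P S)) • (⊤ : Submodule P N) := by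
  let J := RingHom.ker (algebraMap P S)
  have hsurj : Function.Surjective (Algebra.ofId P S) := h
  let e : (P ⧸ RingHom.ker (Algebra.ofId P S)) ≃ₐ[P] S :=
    Ideal.quotientKerAlgEquivOfSurjective hsurj
  have h1 : LinearMap.rTensor N e.symm.toLinearMap ((1 : S) ⊗ₜ[P] n) = 1 ⊗ₜ n := by
    rw [LinearMap.rTensor_tmul]
    simp
  rw [hn, map_zero] at h1
  have h2 := congrArg (TensorProduct.quotTensorEquivQuotSMul N (RingHom.ker (Algebra.ofId P S))) h1
  rw [map_zero, TensorProduct.quotTensorEquivQuotSMul_mk_one_tmul] at h2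
  exact (Submodule.Quotient.mk_eq_zero _).mp h2.symm

end U0

section U1

variable (R : Type*) {P S : Type*} [CommRing R] [CommRing P] [CommRing S] [Algebra R P]
  [Algebra R S] [Algebra P S] [IsScalarTower R P S] [Algebra.FormallyUnramified R S]

theorem exists_mem_ker_D_sub_mem (h : Function.Surjective (algebraMap P S)) (x : P) :
    ∃ j ∈ RingHom.ker (algebraMap P S),
      D R P j - D R P x ∈ (RingHom.ker (algebraMap P S)) • (⊤ : Submodule P Ω[P⁄R]) := by
  have hex := KaehlerDifferential.exact_kerCotangentToTensor_mapBaseChange R P S h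
  have hmem : (1 : S) ⊗ₜ[P] D R P x ∈ LinearMap.ker (KaehlerDifferential.mapBaseChange R P S) :=
    Subsingleton.elim _ _
  obtain ⟨c, hc⟩ := (hex _).mp hmem
  obtain ⟨j, rfl⟩ := Ideal.toCotangent_surjective _ c
  rw [KaehlerDifferential.kerCotangentToTensor_toCotangent] at hc
  refine ⟨j.1, j.2, mem_smul_top_of_one_tmul_eq_zero h _ ?_⟩
  rw [TensorProduct.tmul_sub, hc, sub_self]

end U1

section KP

variable {R P A : Type*} [CommRing R] [CommRing P] [CommRing A] [Algebra R P] [Algebra R A]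
  [Algebra P A] [IsScalarTower R P A]

theorem derivation_eq_of_sub_mem (I : Ideal A) (hI : I ^ 2 = ⊥) (J : Ideal P)
    (hJ : ∀ j ∈ J, algebraMap P A j ∈ I) (d : Derivation R P I) (x y : P)
    (h : D R P x - D R P y ∈ J • (⊤ : Submodule P Ω[P⁄R])) : d x = d y := by
  have key : ∀ ω ∈ J • (⊤ : Submodule P Ω[P⁄R]), d.liftKaehlerDifferential ω = 0 := by
    intro ω hω
    refine Submodule.smul_induction_on hω (fun j hj n _ => ?_) (fun a b ha hb => ?_)
    · rw [map_smul]
      apply Subtype.ext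
      rw [Submodule.coe_smul_of_tower, Algebra.smul_def, Submodule.coe_zero, ← Ideal.mem_bot, ← hI,
        pow_two]
      exact Ideal.mul_mem_mul (hJ j hj) (d.liftKaehlerDifferential n).2
    · rw [map_add, ha, hb, add_zero]
  have := key _ h
  rw [map_sub, Derivation.liftKaehlerDifferential_comp_D, Derivation.liftKaehlerDifferential_comp_D,
    sub_eq_zero] at this
  exact this

end KP

section Main

variable (R S : Type u) [CommRing R] [CommRing S] [Algebra R S]

/-- the tautological presentation -/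
noncomputable def φ : MvPolynomial S R →ₐ[R] S := MvPolynomial.aeval id

theorem φ_X (s : S) : φ R S (MvPolynomial.X s) = s := by simp [φ]

theorem φ_surj : Function.Surjective (φ R S) := fun s => ⟨MvPolynomial.X s, φ_X R S s⟩

/-- `S` as an algebra over the polynomial ring -/
@[reducible] noncomputable def algPS : Algebra (MvPolynomial S R) S :=
  (φ R S).toRingHom.toAlgebra

attribute [local instance] algPS

theorem towerPS : IsScalarTower R (MvPolynomial S R) S :=
  IsScalarTower.of_algebraMap_eq fun r => ((φ R S).commutes r).symm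

attribute [local instance] towerPS

theorem algebraMap_PS (p : MvPolynomial S R) : algebraMap (MvPolynomial S R) S p = φ R S p := rfl

/-- the kernel -/
noncomputable def J : Ideal (MvPolynomial S R) := RingHom.ker (algebraMap (MvPolynomial S R) S)

theorem mem_J (p : MvPolynomial S R) : p ∈ J R S ↔ φ R S p = 0 := Iff.rfl

variable [Algebra.FormallyUnramified R S]

theorem exists_jj (s : S) : ∃ j ∈ J R S,
    D R (MvPolynomial S R) j - D R (MvPolynomial S R) (MvPolynomial.X s) ∈
      (J R S) • (⊤ : Submodule (MvPolynomial S R) Ω[MvPolynomial S R⁄R]) :=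
  exists_mem_ker_D_sub_mem R (φ_surj R S) (MvPolynomial.X s)

/-- the chosen elements -/
noncomputable def jj (s : S) : MvPolynomial S R := (exists_jj R S s).choose

theorem jj_mem (s : S) : jj R S s ∈ J R S := (exists_jj R S s).choose_spec.1

theorem jj_spec (s : S) : D R (MvPolynomial S R) (jj R S s) -
    D R (MvPolynomial S R) (MvPolynomial.X s) ∈
      (J R S) • (⊤ : Submodule (MvPolynomial S R) Ω[MvPolynomial S R⁄R]) :=
  (exists_jj R S s).choose_spec.2

/-- the defining ideal of the universal thickening -/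
noncomputable def K : Ideal (MvPolynomial S R) := (J R S) ^ 2 ⊔ Ideal.span (Set.range (jj R S))

theorem K_le_J : K R S ≤ J R S := by
  refine sup_le (Ideal.pow_le_self two_ne_zero) ?_
  rw [Ideal.span_le]
  rintro _ ⟨s, rfl⟩
  exact jj_mem R S s

theorem jj_mem_K (s : S) : jj R S s ∈ K R S :=
  Ideal.mem_sup_right (Ideal.subset_span ⟨s, rfl⟩)

/-- the universal thickening -/
abbrev S' : Type u := MvPolynomial S R ⧸ K R S

/-- the projection -/
noncomputable def π : S' R S →ₐ[R] S :=
  Ideal.Quotient.liftₐ (K R S) (φ R S) (fun x hx => (mem_J R S x).mp (K_le_J R S hx))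

theorem π_mk (p : MvPolynomial S R) : π R S (Ideal.Quotient.mk (K R S) p) = φ R S p := rfl

theorem π_surj : Function.Surjective (π R S) := fun s =>
  ⟨Ideal.Quotient.mk _ (MvPolynomial.X s), by rw [π_mk, φ_X]⟩

theorem ker_π_sq : RingHom.ker (π R S).toRingHom ^ 2 = ⊥ := by
  have h1 : RingHom.ker (π R S).toRingHom ≤ (J R S).map (Ideal.Quotient.mk (K R S)) := by
    intro x hx
    obtain ⟨p, rfl⟩ := Ideal.Quotient.mk_surjective x
    exact Ideal.mem_map_of_mem _ ((mem_J R S p).mpr hx)
  rw [eq_bot_iff]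
  refine (Ideal.pow_right_mono h1 2).trans ?_
  rw [← Ideal.map_pow, Ideal.map_le_iff_le_comap]
  intro x hx
  rw [Ideal.mem_comap, Ideal.mem_bot, Ideal.Quotient.eq_zero_iff_mem]
  exact Ideal.mem_sup_left hx

end Main

section Univ

variable (R S : Type u) [CommRing R] [CommRing S] [Algebra R S] [Algebra.FormallyUnramified R S]

attribute [local instance] algPS towerPS

/-- core of existence and uniqueness: a derivation `P → I` is determined on `X s` by `jj s` -/
theorem derivation_jj {A : Type u} [CommRing A] [Algebra R A] [Algebra (MvPolynomial S R) A]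
    [IsScalarTower R (MvPolynomial S R) A] (I : Ideal A) (hI : I ^ 2 = ⊥)
    (hJ : ∀ j ∈ J R S, algebraMap (MvPolynomial S R) A j ∈ I)
    (d : Derivation R (MvPolynomial S R) I) (s : S) : d (jj R S s) = d (MvPolynomial.X s) :=
  derivation_eq_of_sub_mem I hI (J R S) hJ d _ _ (jj_spec R S s)

theorem uniq {A : Type u} [CommRing A] [Algebra R A] (I : Ideal A) (hI : I ^ 2 = ⊥)
    (a : S →ₐ[R] A ⧸ I) (a₁ a₂ : S' R S →ₐ[R] A)
    (h₁ : (Ideal.Quotient.mkₐ R I).comp a₁ = a.comp (π R S))
    (h₂ : (Ideal.Quotient.mkₐ R I).comp a₂ = a.comp (π R S)) : a₁ = a₂ := by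
  let ψ₁ : MvPolynomial S R →ₐ[R] A := a₁.comp (Ideal.Quotient.mkₐ R (K R S))
  let ψ₂ : MvPolynomial S R →ₐ[R] A := a₂.comp (Ideal.Quotient.mkₐ R (K R S))
  letI : Algebra (MvPolynomial S R) A := ψ₂.toRingHom.toAlgebra
  haveI : IsScalarTower R (MvPolynomial S R) A :=
    IsScalarTower.of_algebraMap_eq fun r => (ψ₂.commutes r).symm
  have hmk₁ : ∀ p, Ideal.Quotient.mk I (ψ₁ p) = a (φ R S p) := fun p =>
    congrArg (fun f => f (Ideal.Quotient.mk (K R S) p)) h₁
  have hmk₂ : ∀ p, Ideal.Quotient.mk I (ψ₂ p) = a (φ R S p) := fun p =>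
    congrArg (fun f => f (Ideal.Quotient.mk (K R S) p)) h₂
  have e : (Ideal.Quotient.mkₐ R I).comp ψ₁ = IsScalarTower.toAlgHom R (MvPolynomial S R) (A ⧸ I) := by
    ext p
    change Ideal.Quotient.mk I (ψ₁ (MvPolynomial.X p)) = Ideal.Quotient.mk I (ψ₂ (MvPolynomial.X p))
    rw [hmk₁, hmk₂]
  let d := derivationToSquareZeroOfLift I hI ψ₁ e
  have hJ : ∀ j ∈ J R S, algebraMap (MvPolynomial S R) A j ∈ I := by
    intro j hj
    change ψ₂ j ∈ I
    rw [← Ideal.Quotient.eq_zero_iff_mem, hmk₂, (mem_J R S j).mp hj, map_zero]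
  have hX : ∀ s, ψ₁ (MvPolynomial.X s) = ψ₂ (MvPolynomial.X s) := by
    intro s
    have h1 := derivation_jj R S I hI hJ d s
    have h2 : ((d (jj R S s) : I) : A) = 0 := by
      rw [derivationToSquareZeroOfLift_apply]
      change a₁ (Ideal.Quotient.mk (K R S) (jj R S s)) - a₂ (Ideal.Quotient.mk (K R S) (jj R S s)) = 0
      rw [Ideal.Quotient.eq_zero_iff_mem.mpr (jj_mem_K R S s), map_zero, map_zero, sub_zero]
    rw [h1, derivationToSquareZeroOfLift_apply] at h2
    exact sub_eq_zero.mp h2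
  have hψ : ψ₁ = ψ₂ := MvPolynomial.algHom_ext hX
  apply Ideal.Quotient.algHom_ext
  exact hψ

theorem exists_lift {A : Type u} [CommRing A] [Algebra R A] (I : Ideal A) (hI : I ^ 2 = ⊥)
    (a : S →ₐ[R] A ⧸ I) :
    ∃ a' : S' R S →ₐ[R] A, (Ideal.Quotient.mkₐ R I).comp a' = a.comp (π R S) := by
  let ψ₀ : MvPolynomial S R →ₐ[R] A :=
    MvPolynomial.aeval (fun s => Function.surjInv Ideal.Quotient.mk_surjective (a s))
  have hψ₀ : (Ideal.Quotient.mkₐ R I).comp ψ₀ = a.comp (φ R S) := by
    apply MvPolynomial.algHom_ext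
    intro s
    simp only [AlgHom.comp_apply, ψ₀, MvPolynomial.aeval_X, φ_X, Ideal.Quotient.mkₐ_eq_mk]
    exact Function.surjInv_eq _ _
  have hmk₀ : ∀ p, Ideal.Quotient.mk I (ψ₀ p) = a (φ R S p) := fun p =>
    congrArg (fun f => f p) hψ₀
  letI : Algebra (MvPolynomial S R) A := ψ₀.toRingHom.toAlgebra
  haveI : IsScalarTower R (MvPolynomial S R) A :=
    IsScalarTower.of_algebraMap_eq fun r => (ψ₀.commutes r).symm
  have hJ : ∀ j ∈ J R S, algebraMap (MvPolynomial S R) A j ∈ I := by
    intro j hj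
    change ψ₀ j ∈ I
    rw [← Ideal.Quotient.eq_zero_iff_mem, hmk₀, (mem_J R S j).mp hj, map_zero]
  let d : Derivation R (MvPolynomial S R) I :=
    MvPolynomial.mkDerivation R (fun s => -(⟨ψ₀ (jj R S s), hJ _ (jj_mem R S s)⟩ : I))
  let ψ : MvPolynomial S R →ₐ[R] A := liftOfDerivationToSquareZero I hI d
  have hψ_apply : ∀ p, ψ p = (d p : A) + ψ₀ p := fun p => rfl
  have hmk : ∀ p, Ideal.Quotient.mk I (ψ p) = a (φ R S p) := by
    intro p
    rw [hψ_apply, map_add, Ideal.Quotient.eq_zero_iff_mem.mpr (d p).2, zero_add, hmk₀]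
  have hψJ : ∀ j ∈ J R S, ψ j ∈ I := by
    intro j hj
    rw [← Ideal.Quotient.eq_zero_iff_mem, hmk, (mem_J R S j).mp hj, map_zero]
  have hK : ∀ x ∈ K R S, ψ x = 0 := by
    have hle : K R S ≤ RingHom.ker ψ.toRingHom := by
      refine sup_le ?_ ?_
      · intro x hx
        rw [RingHom.mem_ker]
        have hx' : x ∈ J R S * J R S := by rwa [← pow_two]
        refine Submodule.mul_induction_on hx' (fun y hy z hz => ?_) (fun y z hy hz => ?_)
        · change ψ (y * z) = 0
          rw [map_mul, ← Ideal.mem_bot, ← hI, pow_two]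
          exact Ideal.mul_mem_mul (hψJ y hy) (hψJ z hz)
        · rw [map_add, hy, hz, add_zero]
      · rw [Ideal.span_le]
        rintro _ ⟨s, rfl⟩
        change ψ (jj R S s) = 0
        rw [hψ_apply, derivation_jj R S I hI hJ d s]
        simp only [d, MvPolynomial.mkDerivation_X]
        simp
    exact fun x hx => hle hx
  refine ⟨Ideal.Quotient.liftₐ (K R S) ψ hK, ?_⟩
  apply Ideal.Quotient.algHom_ext
  ext s
  simp only [AlgHom.comp_apply, Ideal.Quotient.mkₐ_eq_mk, Ideal.Quotient.liftₐ_apply,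
    Ideal.Quotient.lift_mk]
  exact hmk _

theorem main : ∃ (S'' : Type u) (_ : CommRing S'') (_ : Algebra R S'') (π' : S'' →ₐ[R] S),
    OmegaSh.IsUnivThickeningRing R S S'' π' := by
  refine ⟨S' R S, inferInstance, inferInstance, π R S, π_surj R S, ker_π_sq R S, ?_⟩
  intro A _ _ I hI a
  obtain ⟨a', ha'⟩ := exists_lift R S I hI a
  exact ⟨a', ha', fun a'' ha'' => uniq R S I hI a a'' a' ha'' ha'⟩

end Univ

end H14.Thick
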