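import Mathlib
import Groth.Prelude.Def_Omega3

set_option autoImplicit false
universe u

namespace H14.Thick2

section Core

variable {A B B' : Type u} [CommRing A] [CommRing B] [CommRing B'] [Algebra A B] [Algebra A B']
  (π : B' →ₐ[A] B) (hπ : OmegaSh.IsUnivThickeningRing A B B' π)
  (T' : Submonoid B') (T : Submonoid B)
  (h1 : ∀ x ∈ T', π x ∈ T) (h2 : ∀ y ∈ T, ∃ x ∈ T', π x = y)
  (BS B'S : Type u) [CommRing BS] [CommRing B'S]
  [Algebra B BS] [IsLocalization T BS] [Algebra B' B'S] [IsLocalization T' B'S]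
  [Algebra A BS] [IsScalarTower A B BS] [Algebra A B'S] [IsScalarTower A B' B'S]
  (πS : B'S →ₐ[A] BS) (hπS : ∀ x : B', πS (algebraMap B' B'S x) = algebraMap B BS (π x))

include hπ h2 hπS in
theorem surj : Function.Surjective πS := by
  intro y
  obtain ⟨b, ⟨s, hs⟩, rfl⟩ := IsLocalization.exists_mk'_eq T y
  obtain ⟨b', rfl⟩ := hπ.1 b
  obtain ⟨s', hs', rfl⟩ := h2 s hs
  refine ⟨IsLocalization.mk' B'S b' (⟨s', hs'⟩ : T'), ?_⟩
  rw [IsLocalization.eq_mk'_iff_mul_eq]
  change πS (IsLocalization.mk' B'S b' (⟨s', hs'⟩ : T')) * algebraMap B BS (π s') = _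
  rw [← hπS, ← map_mul, IsLocalization.mk'_spec, hπS]

include hπ h2 hπS in
theorem ker_sq : RingHom.ker πS.toRingHom ^ 2 = ⊥ := by
  have key : ∀ x ∈ RingHom.ker πS.toRingHom, ∃ (x' : B') (s' : T') (t' : B'), t' ∈ T' ∧
      x = IsLocalization.mk' B'S x' s' ∧ t' * x' ∈ RingHom.ker π.toRingHom := by
    intro x hx
    obtain ⟨x', s', rfl⟩ := IsLocalization.exists_mk'_eq T' x
    have h0 : πS (algebraMap B' B'S x') = 0 := by
      have hx' : πS (IsLocalization.mk' B'S x' s') = 0 := hx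
      have := congrArg (fun z => z * πS (algebraMap B' B'S s')) hx'
      simp only [zero_mul] at this
      rwa [← map_mul, IsLocalization.mk'_spec] at this
    rw [hπS, IsLocalization.map_eq_zero_iff T] at h0
    obtain ⟨⟨t, ht⟩, htx⟩ := h0
    obtain ⟨t', ht', rfl⟩ := h2 t ht
    refine ⟨x', s', t', ht', rfl, ?_⟩
    rw [RingHom.mem_ker]
    change π (t' * x') = 0
    rw [map_mul]
    exact htx
  rw [eq_bot_iff, pow_two, Ideal.mul_le]
  intro x hx y hy
  obtain ⟨x', s', t', ht', rfl, hx'⟩ := key x hx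
  obtain ⟨y', r', u', hu', rfl, hy'⟩ := key y hy
  rw [Ideal.mem_bot, ← IsLocalization.mk'_mul, IsLocalization.mk'_eq_zero_iff]
  refine ⟨⟨t' * u', T'.mul_mem ht' hu'⟩, ?_⟩
  have : (t' * x') * (u' * y') ∈ RingHom.ker π.toRingHom ^ 2 := by
    rw [pow_two]; exact Ideal.mul_mem_mul hx' hy'
  rw [hπ.2.1, Ideal.mem_bot] at this
  change t' * u' * (x' * y') = 0
  rw [← this]; ring

include hπ h1 hπS in
theorem univ (C : Type u) [CommRing C] [Algebra A C] (I : Ideal C) (hI : I ^ 2 = ⊥)
    (a : BS →ₐ[A] C ⧸ I) :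
    ∃! a' : B'S →ₐ[A] C, (Ideal.Quotient.mkₐ A I).comp a' = a.comp πS := by
  let a₀ : B →ₐ[A] C ⧸ I := a.comp (IsScalarTower.toAlgHom A B BS)
  obtain ⟨a₀', ha₀', huniq⟩ := hπ.2.2 C I hI a₀
  have hmk : ∀ x : B', Ideal.Quotient.mk I (a₀' x) = a (algebraMap B BS (π x)) := fun x =>
    congrArg (fun f => f x) ha₀'
  have hunit : ∀ y : T', IsUnit (a₀'.toRingHom y) := by
    rintro ⟨y, hy⟩
    change IsUnit (a₀' y)
    rw [← IsNilpotent.isUnit_quotient_mk_iff (I := I) ⟨2, hI⟩, hmk]
    exact (IsLocalization.map_units BS (⟨π y, h1 y hy⟩ : T)).map a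
  let ℓ : B'S →+* C := IsLocalization.lift hunit
  have hℓ : ∀ x : B', ℓ (algebraMap B' B'S x) = a₀' x := fun x => IsLocalization.lift_eq hunit x
  let a' : B'S →ₐ[A] C :=
    { ℓ with
      commutes' := by
        intro r
        change ℓ (algebraMap A B'S r) = algebraMap A C r
        rw [IsScalarTower.algebraMap_apply A B' B'S, hℓ, a₀'.commutes] }
  have ha' : (Ideal.Quotient.mkₐ A I).comp a' = a.comp πS := by
    apply AlgHom.coe_ringHom_injective
    apply IsLocalization.ringHom_ext T'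
    ext x
    change Ideal.Quotient.mk I (ℓ (algebraMap B' B'S x)) = a (πS (algebraMap B' B'S x))
    rw [hℓ, hmk, hπS]
  refine ⟨a', ha', ?_⟩
  intro a'' ha''
  have h3 : a''.comp (IsScalarTower.toAlgHom A B' B'S) = a₀' := by
    apply huniq
    ext x
    have := congrArg (fun f => f (algebraMap B' B'S x)) ha''
    simp only [AlgHom.comp_apply] at this
    simp only [AlgHom.comp_apply, IsScalarTower.coe_toAlgHom', a₀]
    rw [this, hπS]
  apply AlgHom.coe_ringHom_injective
  apply IsLocalization.ringHom_ext T'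
  ext x
  change a'' (algebraMap B' B'S x) = ℓ (algebraMap B' B'S x)
  rw [hℓ, ← h3]
  rfl

include hπ h1 h2 hπS in
theorem core : OmegaSh.IsUnivThickeningRing A BS B'S πS :=
  ⟨surj π hπ T' T h2 BS B'S πS hπS, ker_sq π hπ T' T h2 BS B'S πS hπS,
    fun C _ _ I hI a => univ π hπ T' T h1 BS B'S πS hπS C I hI a⟩

end Core

section BaseLoc

variable {A B B' : Type u} [CommRing A] [CommRing B] [CommRing B'] [Algebra A B] [Algebra A B']
  (π : B' →ₐ[A] B) (hπ : OmegaSh.IsUnivThickeningRing A B B' π) (S : Submonoid A)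
  (AS BS B'S : Type u) [CommRing AS] [CommRing BS] [CommRing B'S]
  [Algebra A AS] [IsLocalization S AS]
  [Algebra B BS] [IsLocalization (Algebra.algebraMapSubmonoid B S) BS]
  [Algebra B' B'S] [IsLocalization (Algebra.algebraMapSubmonoid B' S) B'S]
  [Algebra AS BS] [Algebra A BS] [IsScalarTower A AS BS] [IsScalarTower A B BS]
  [Algebra AS B'S] [Algebra A B'S] [IsScalarTower A AS B'S] [IsScalarTower A B' B'S]
  (πS : B'S →ₐ[AS] BS) (hπS : ∀ x : B', πS (algebraMap B' B'S x) = algebraMap B BS (π x))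

include S hπ hπS in
theorem baseLoc : OmegaSh.IsUnivThickeningRing AS BS B'S πS := by
  have hcore : OmegaSh.IsUnivThickeningRing A BS B'S (πS.restrictScalars A) := by
    refine core π hπ (Algebra.algebraMapSubmonoid B' S) (Algebra.algebraMapSubmonoid B S) ?_ ?_
      BS B'S (πS.restrictScalars A) hπS
    · rintro _ ⟨s, hs, rfl⟩
      exact ⟨s, hs, (π.commutes s).symm⟩
    · rintro _ ⟨s, hs, rfl⟩
      exact ⟨algebraMap A B' s, ⟨s, hs, rfl⟩, π.commutes s⟩
  refine ⟨hcore.1, hcore.2.1, ?_⟩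
  intro C _ _ I hI a
  letI : Algebra A C := ((algebraMap AS C).comp (algebraMap A AS)).toAlgebra
  haveI : IsScalarTower A AS C := IsScalarTower.of_algebraMap_eq fun _ => rfl
  obtain ⟨a', ha', huniq⟩ := hcore.2.2 C I hI (a.restrictScalars A)
  have hcomm : ∀ x : AS, a' (algebraMap AS B'S x) = algebraMap AS C x := by
    have : (a'.toRingHom.comp (algebraMap AS B'S)) = algebraMap AS C := by
      apply IsLocalization.ringHom_ext S
      ext r
      change a' (algebraMap AS B'S (algebraMap A AS r)) = algebraMap AS C (algebraMap A AS r)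
      rw [← IsScalarTower.algebraMap_apply A AS B'S, a'.commutes]
      rfl
    exact fun x => congrArg (fun f => f x) this
  let a'' : B'S →ₐ[AS] C := { a'.toRingHom with commutes' := hcomm }
  have ha'' : (Ideal.Quotient.mkₐ AS I).comp a'' = a.comp πS := by
    ext x
    exact congrArg (fun f => f x) ha'
  refine ⟨a'', ha'', ?_⟩
  intro b hb
  have h3 : b.restrictScalars A = a' := by
    apply huniq
    ext x
    exact congrArg (fun f => f x) hb
  ext x
  exact congrArg (fun f => f x) h3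

end BaseLoc

end H14.Thick2
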