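import Mathlib
import Groth.Prelude.Def_Omega3

/-!
# Universal first order thickenings of rings: derivation form of the universal property

`H14.UT.existsUnique_der`: if `π : B' → B` is a universal first order thickening of the `A`-algebra `B`,
then for every `B`-module `P` and every additive "derivation" `θ : A → P`
(`θ (a₁ a₂) = a₁ θ a₂ + a₂ θ a₁`) there is exactly one additive `δ : B' → P` with the Leibniz rule
(`B'` acting through `π`) restricting to `θ` on `A`.
-/

universe u

namespace H14.UT

open TrivSqZeroExt

section

variable {A B B' : Type u} [CommRing A] [CommRing B] [CommRing B'] [Algebra A B] [Algebra A B']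
  (π : B' →ₐ[A] B)

/-- the ring hom `x ↦ (π x, δ x)` attached to a derivation-like additive map -/
noncomputable def toTsze {P : Type u} [AddCommGroup P] [Module B P] [Module Bᵐᵒᵖ P] [IsCentralScalar B P]
    (δ : B' →+ P) (hδ : ∀ x y, δ (x * y) = π x • δ y + π y • δ x) :
    B' →+* TrivSqZeroExt B P where
  toFun x := inl (π x) + inr (δ x)
  map_one' := by
    have h1 : δ 1 = 0 := by
      have := hδ 1 1
      simp only [mul_one, map_one, one_smul] at this
      have h2 : δ 1 + 0 = δ 1 + δ 1 := by rw [add_zero]; exact this
      exact (add_left_cancel h2).symm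
    ext <;> simp [h1]
  map_mul' x y := by
    ext
    · simp
    · simp [hδ x y, add_comm]
  map_zero' := by ext <;> simp
  map_add' x y := by
    ext
    · simp
    · simp

end

theorem existsUnique_der {A B B' : Type u} [CommRing A] [CommRing B] [CommRing B'] [Algebra A B]
    [Algebra A B'] (π : B' →ₐ[A] B) (h : OmegaSh.IsUnivThickeningRing A B B' π)
    (P : Type u) [AddCommGroup P] [Module B P]
    (θ : A →+ P) (hθ : ∀ a₁ a₂, θ (a₁ * a₂) = algebraMap A B a₁ • θ a₂ + algebraMap A B a₂ • θ a₁) :
    ∃! δ : B' →+ P, (∀ x y, δ (x * y) = π x • δ y + π y • δ x) ∧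
      ∀ a, δ (algebraMap A B' a) = θ a := by
  classical
  letI : Module Bᵐᵒᵖ P := Module.compHom P ((RingHom.id B).fromOpposite mul_comm)
  haveI : IsCentralScalar B P := ⟨fun _ _ => rfl⟩
  -- the twisted algebra structure
  let τ : A →+* TrivSqZeroExt B P :=
    { toFun := fun a => inl (algebraMap A B a) + inr (θ a)
      map_one' := by
        have h1 : θ 1 = 0 := by
          have := hθ 1 1
          simp only [mul_one, map_one, one_smul] at this
          have h2 : θ 1 + 0 = θ 1 + θ 1 := by rw [add_zero]; exact this
          exact (add_left_cancel h2).symm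
        ext <;> simp [h1]
      map_mul' := fun x y => by
        ext
        · simp
        · simp [hθ x y, add_comm]
      map_zero' := by ext <;> simp
      map_add' := fun x y => by
        ext
        · simp
        · simp }
  letI algT : Algebra A (TrivSqZeroExt B P) := τ.toAlgebra
  have halg : ∀ a, algebraMap A (TrivSqZeroExt B P) a = inl (algebraMap A B a) + inr (θ a) :=
    fun a => rfl
  let I : Ideal (TrivSqZeroExt B P) := kerIdeal B P
  have hI : I ^ 2 = ⊥ := kerIdeal_sq B P
  have hmemI : ∀ x : TrivSqZeroExt B P, x ∈ I ↔ x.fst = 0 := by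
    intro x
    change x ∈ RingHom.ker (fstHom B B P) ↔ _
    rw [RingHom.mem_ker]; rfl
  -- the map `B → T/I`
  let a : B →ₐ[A] TrivSqZeroExt B P ⧸ I :=
    { ((Ideal.Quotient.mk I).comp (inlHom B P)) with
      commutes' := by
        intro r
        change Ideal.Quotient.mk I (inl (algebraMap A B r)) =
          Ideal.Quotient.mk I (algebraMap A (TrivSqZeroExt B P) r)
        rw [Ideal.Quotient.eq, hmemI, halg]
        simp }
  have ha : ∀ b, a b = Ideal.Quotient.mk I (inl b) := fun b => rfl
  obtain ⟨a', ha', huniq⟩ := h.2.2 (TrivSqZeroExt B P) I hI a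
  have hfst : ∀ x, (a' x).fst = π x := by
    intro x
    have := congrArg (fun g => g x) ha'
    simp only [AlgHom.comp_apply, Ideal.Quotient.mkₐ_eq_mk, ha] at this
    rw [Ideal.Quotient.eq, hmemI] at this
    simpa [sub_eq_zero] using this
  refine ⟨{ toFun := fun x => (a' x).snd
            map_zero' := by simp
            map_add' := fun x y => by simp }, ⟨?_, ?_⟩, ?_⟩
  · intro x y
    change (a' (x * y)).snd = π x • (a' y).snd + π y • (a' x).snd
    rw [map_mul, snd_mul, hfst, hfst]
    rfl
  · intro r
    change (a' (algebraMap A B' r)).snd = θ r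
    rw [a'.commutes, halg]
    simp
  · rintro δ ⟨hδ1, hδ2⟩
    -- build the algebra hom from δ
    let g : B' →ₐ[A] TrivSqZeroExt B P :=
      { toTsze π δ hδ1 with
        commutes' := by
          intro r
          change inl (π (algebraMap A B' r)) + inr (δ (algebraMap A B' r)) = _
          rw [halg, hδ2, π.commutes] }
    have hg : ∀ x, g x = inl (π x) + inr (δ x) := fun x => rfl
    have hg' : (Ideal.Quotient.mkₐ A I).comp g = a.comp π := by
      ext x
      simp only [AlgHom.comp_apply, Ideal.Quotient.mkₐ_eq_mk, ha]
      rw [Ideal.Quotient.eq, hmemI, hg]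
      simp
    have := huniq g hg'
    ext x
    change δ x = (a' x).snd
    rw [← this, hg]
    simp

end H14.UT
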