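import Groth.Prelude.Def_FlatCA
import Mathlib

set_option autoImplicit false
universe u v

namespace Groth.Agent.H14

variable {R : Type u} [CommRing R]

/-- If `p` is minimal over `I` and `x ∈ p`, some `s ∉ p` and some `n` have `s * x ^ n ∈ I`. -/
theorem exists_mul_pow_mem_of_mem_minimalPrimes {I p : Ideal R} (hp : p ∈ I.minimalPrimes) {x : R}
    (hx : x ∈ p) : ∃ s ∉ p, ∃ n : ℕ, s * x ^ n ∈ I := by
  have := hp.isPrime
  have h1 := IsLocalization.AtPrime.radical_map_of_mem_minimalPrimes
    (A := Localization.AtPrime p) p I hp
  have h2 : algebraMap R (Localization.AtPrime p) x ∈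
      (I.map (algebraMap R (Localization.AtPrime p))).radical := by
    rw [h1]; exact Ideal.mem_map_of_mem _ hx
  obtain ⟨n, hn⟩ := h2
  rw [IsLocalization.mem_map_algebraMap_iff (M := p.primeCompl)] at hn
  obtain ⟨⟨a, b⟩, hn⟩ := hn
  rw [← map_pow, ← map_mul, IsLocalization.eq_iff_exists p.primeCompl] at hn
  obtain ⟨t, ht⟩ := hn
  refine ⟨t * b, (t * b).2, n, ?_⟩
  simp only at ht
  have : (t.1 * b.1) * x ^ n = t.1 * (x ^ n * b.1) := by ring
  rw [this, ht]
  exact I.mul_mem_left _ a.2

theorem mem_weakAss_iff {M : Type v} [AddCommGroup M] [Module R M] {p : Ideal R} :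
    p ∈ FlatCA.weakAss R M ↔ ∃ m : M, p ∈ (Submodule.span R {m}).annihilator.minimalPrimes :=
  Iff.rfl

theorem mem_ann_span_singleton {M : Type v} [AddCommGroup M] [Module R M] {m : M} {r : R} :
    r ∈ (Submodule.span R {m}).annihilator ↔ r • m = 0 :=
  Submodule.mem_annihilator_span_singleton m r

end Groth.Agent.H14

namespace Groth.Agent.H14

variable {R : Type u} [CommRing R]

/-- The annihilator over `S⁻¹R` of `m/s` is the extension of the annihilator of `m`. -/
theorem ann_localizedModule_mk (S : Submonoid R) {M : Type v} [AddCommGroup M] [Module R M]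
    (m : M) (s : S) :
    (Submodule.span (Localization S) {LocalizedModule.mk m s}).annihilator =
      Ideal.map (algebraMap R (Localization S)) (Submodule.span R {m}).annihilator := by
  apply le_antisymm
  · intro x hx
    rw [mem_ann_span_singleton] at hx
    obtain ⟨r, t, rfl⟩ := IsLocalization.exists_mk'_eq S x
    rw [← Localization.mk_eq_mk', LocalizedModule.mk_smul_mk, ← LocalizedModule.zero_mk (t * s),
      LocalizedModule.mk_eq] at hx
    obtain ⟨u, hu⟩ := hx
    rw [smul_zero, smul_zero] at hu
    rw [IsLocalization.mem_map_algebraMap_iff S]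
    have hmem : ((u * (t * s) : S) : R) * r ∈ (Submodule.span R {m}).annihilator := by
      rw [mem_ann_span_singleton, mul_smul]
      simpa [Submonoid.smul_def, mul_smul] using hu
    refine ⟨(⟨_, hmem⟩, u * (t * s) * t), ?_⟩
    simp only [Submonoid.coe_mul, map_mul]
    have := IsLocalization.mk'_spec (Localization S) r t
    calc IsLocalization.mk' (Localization S) r t *
          (algebraMap R (Localization S) u * (algebraMap R (Localization S) t *
            algebraMap R (Localization S) s) * algebraMap R (Localization S) t)
        = (algebraMap R (Localization S) u * (algebraMap R (Localization S) t *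
            algebraMap R (Localization S) s)) *
            (IsLocalization.mk' (Localization S) r t * algebraMap R (Localization S) t) := by ring
      _ = _ := by rw [this]
  · rw [Ideal.map_le_iff_le_comap]
    intro r hr
    rw [mem_ann_span_singleton] at hr
    rw [Ideal.mem_comap, mem_ann_span_singleton, algebraMap_smul, LocalizedModule.smul'_mk, hr,
      LocalizedModule.zero_mk]

end Groth.Agent.H14
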