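import Mathlib
import Groth.Agent.Lib.helper14.WeakAss

set_option autoImplicit false
universe u v

namespace Groth.Agent.Lib.H14.WeakAssFin

open Groth.Agent.H14

/-- converse to `exists_mul_pow_mem_of_mem_minimalPrimes`. -/
theorem mem_minimalPrimes_of_forall {R : Type*} [CommRing R] {I p : Ideal R} [hp : p.IsPrime]
    (hle : I ≤ p) (h : ∀ x ∈ p, ∃ s ∉ p, ∃ n : ℕ, s * x ^ n ∈ I) : p ∈ I.minimalPrimes := by
  refine ⟨⟨hp, hle⟩, ?_⟩
  rintro q ⟨hq, hIq⟩ hqp x hx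
  obtain ⟨s, hs, n, hn⟩ := h x hx
  have := hIq hn
  rcases hq.mem_or_mem this with h1 | h1
  · exact absurd (hqp h1) hs
  · exact hq.mem_of_pow_mem n h1

theorem ring_aux {R : Type*} [CommRing R] (S0 F V G G1 X : R) (n : ℕ) (h1 : S0 * F = 0)
    (h2 : (F + S0) * V = G1) (h3 : G * (S0 * X) ^ n = 0) : G * G1 ^ n * S0 * X ^ (n + 1) = 0 := by
  have hpow : ∀ k : ℕ, S0 ^ (k + 1) = S0 * (F + S0) ^ k := by
    intro k
    induction k with
    | zero => simp
    | succ k ih =>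
      rw [pow_succ, ih, pow_succ]
      have : S0 * (F + S0) = S0 * S0 := by rw [mul_add, h1, zero_add]
      calc S0 * (F + S0) ^ k * S0 = (S0 * S0) * (F + S0) ^ k := by ring
        _ = S0 * (F + S0) * (F + S0) ^ k := by rw [this]
        _ = _ := by ring
  calc G * G1 ^ n * S0 * X ^ (n + 1) = V ^ n * G * (S0 * (F + S0) ^ n) * X ^ (n + 1) := by
        rw [← h2, mul_pow]; ring
    _ = V ^ n * G * S0 ^ (n + 1) * X ^ (n + 1) := by rw [hpow]
    _ = V ^ n * S0 * X * (G * (S0 * X) ^ n) := by ring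
    _ = 0 := by rw [h3, mul_zero]

section
variable {A B : Type u} [CommRing A] [CommRing B] [Algebra A B] [Module.Finite A B]

theorem exists_s0 (p : Ideal A) [hp : p.IsPrime] (t : Ideal B) [htp : t.IsPrime] [t.LiesOver p]
    (I : Ideal B) (ht : t ∈ I.minimalPrimes) :
    ∃ s₀ : B, s₀ ∉ t ∧ ∀ x ∈ t, ∃ σ : A, σ ∉ p ∧ ∃ n : ℕ, algebraMap A B σ * s₀ * x ^ n ∈ I := by
  classical
  have hint : Algebra.IsIntegral A B := Algebra.IsIntegral.of_finite A B
  have hover : t.comap (algebraMap A B) = p := (Ideal.LiesOver.over (p := p) (P := t)).symm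
  have hfin : (p.primesOver B).Finite := Algebra.QuasiFinite.finite_primesOver p
  set T' : Finset (Ideal B) := hfin.toFinset.erase t with hT'
  set J' : Ideal B := T'.inf id with hJ'
  have hT'mem : ∀ q, q ∈ T' ↔ (q.IsPrime ∧ q.comap (algebraMap A B) = p) ∧ q ≠ t := by
    intro q
    rw [hT', Finset.mem_erase, Set.Finite.mem_toFinset]
    constructor
    · rintro ⟨h1, h2, h3⟩
      exact ⟨⟨h2, (h3.over).symm⟩, h1⟩
    · rintro ⟨⟨h2, h3⟩, h1⟩
      exact ⟨h1, h2, ⟨h3.symm⟩⟩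
  let S : Submonoid B := Algebra.algebraMapSubmonoid B p.primeCompl
  have hdisj : ∀ q : Ideal B, Disjoint (q : Set B) (S : Set B) → q.comap (algebraMap A B) ≤ p := by
    intro q hq a ha
    by_contra hap
    exact Set.disjoint_left.1 hq ha ⟨a, hap, rfl⟩
  have hincomp : ∀ q q' : Ideal B, q.IsPrime → q.comap (algebraMap A B) = p →
      q'.comap (algebraMap A B) = p → q ≤ q' → q = q' := by
    intro q q' hq h1 h2 hle
    by_contra hne
    have := Ideal.IsIntegral.comap_lt_comap (R := A) (lt_of_le_of_ne hle hne)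
    rw [h1, h2] at this
    exact lt_irrefl _ this
  -- (1)
  have h1 : ∃ σ₀ : A, σ₀ ∉ p ∧ ∃ e₀ ∈ t, ∃ j ∈ J', algebraMap A B σ₀ = e₀ + j := by
    by_contra hcon
    have hd : Disjoint ((t ⊔ J' : Ideal B) : Set B) (S : Set B) := by
      rw [Set.disjoint_left]
      rintro y hy ⟨σ₀, hσ₀, rfl⟩
      obtain ⟨e₀, he₀, j, hj, hej⟩ := Submodule.mem_sup.1 hy
      exact hcon ⟨σ₀, hσ₀, e₀, he₀, j, hj, hej.symm⟩
    obtain ⟨q, hq, hle, hqd⟩ := Ideal.exists_le_prime_disjoint _ S hd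
    have hq1 : q.comap (algebraMap A B) = p :=
      le_antisymm (hdisj q hqd) (hover ▸ Ideal.comap_mono (le_trans le_sup_left hle))
    have hqt : t = q := hincomp t q htp hover hq1 (le_trans le_sup_left hle)
    have hJt : J' ≤ t := hqt ▸ le_trans le_sup_right hle
    obtain ⟨t', ht', ht'le⟩ := (Ideal.IsPrime.inf_le' htp).1 hJt
    rw [hT'mem] at ht'
    exact ht'.2 (hincomp t' t ht'.1.1 ht'.1.2 hover ht'le)
  obtain ⟨σ₀, hσ₀, e₀, he₀, j, hj, hσe⟩ := h1
  obtain ⟨s₀, hs₀, k, hk⟩ := exists_mul_pow_mem_of_mem_minimalPrimes ht he₀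
  set f := e₀ ^ (k + 1) with hf
  have hft : f ∈ t := Ideal.pow_mem_of_mem t he₀ (k + 1) (Nat.succ_pos k)
  have hsf : s₀ * f ∈ I := by
    rw [hf, pow_succ, ← mul_assoc]
    exact I.mul_mem_right _ hk
  have hF1 : ∀ t' ∈ T', f ∉ t' := by
    intro t' ht'mem hft'
    have ht' := (hT'mem t').1 ht'mem
    have hpr := ht'.1.1
    have he : e₀ ∈ t' := hpr.mem_of_pow_mem _ hft'
    have hjt' : j ∈ t' := (Finset.inf_le (f := id) ht'mem : J' ≤ t') hj
    have h3 : algebraMap A B σ₀ ∈ t' := hσe ▸ t'.add_mem he hjt'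
    have h4 : σ₀ ∈ t'.comap (algebraMap A B) := h3
    rw [ht'.1.2] at h4
    exact hσ₀ h4
  have hK : ∀ q : Ideal B, q.IsPrime → I ≤ q → Disjoint (q : Set B) (S : Set B) →
      q = t ∨ (s₀ ∈ q ∧ f ∉ q) := by
    intro q hq hIq hqd
    obtain ⟨q', hqq', hq'pr, hq'p⟩ := Ideal.exists_ideal_over_prime_of_isIntegral p q (hdisj q hqd)
    by_cases hq't : q' = t
    · left
      rw [hq't] at hqq'
      exact le_antisymm hqq' (ht.2 ⟨hq, hIq⟩ hqq')
    · right
      have hq'T : q' ∈ T' := (hT'mem q').2 ⟨⟨hq'pr, hq'p⟩, hq't⟩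
      have hfq : f ∉ q := fun h => hF1 q' hq'T (hqq' h)
      exact ⟨(hq.mem_or_mem (hIq hsf)).resolve_right hfq, hfq⟩
  set u := f + s₀ with hu
  have h4 : ∃ v : B, ∃ σ₁ : A, σ₁ ∉ p ∧ u * v - algebraMap A B σ₁ ∈ I := by
    by_contra hcon
    have hd : Disjoint ((I ⊔ Ideal.span {u} : Ideal B) : Set B) (S : Set B) := by
      rw [Set.disjoint_left]
      rintro y hy ⟨σ₁, hσ₁, rfl⟩
      obtain ⟨i, hi, w, hw, hiw⟩ := Submodule.mem_sup.1 hy
      obtain ⟨v, rfl⟩ := Ideal.mem_span_singleton'.1 hw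
      refine hcon ⟨v, σ₁, hσ₁, ?_⟩
      have : u * v - algebraMap A B σ₁ = -i := by rw [← hiw]; ring
      rw [this]; exact I.neg_mem hi
    obtain ⟨q, hq, hle, hqd⟩ := Ideal.exists_le_prime_disjoint _ S hd
    have huq : u ∈ q := hle (Ideal.mem_sup_right (Ideal.mem_span_singleton_self u))
    rcases hK q hq (le_trans le_sup_left hle) hqd with h | ⟨h, h'⟩
    · rw [h] at huq
      have : s₀ ∈ t := by
        have := t.sub_mem huq hft
        rwa [hu, add_sub_cancel_left] at this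
      exact hs₀ this
    · have : f ∈ q := by
        have := q.sub_mem huq h
        rwa [hu, add_sub_cancel_right] at this
      exact h' this
  have h5 : ∀ x ∈ t, ∃ σ : A, σ ∉ p ∧ ∃ n : ℕ, algebraMap A B σ * (s₀ * x) ^ n ∈ I := by
    intro x hx
    by_contra hcon
    let Sx : Submonoid B := S ⊔ Submonoid.powers (s₀ * x)
    have hd : Disjoint (I : Set B) (Sx : Set B) := by
      rw [Set.disjoint_left]
      intro y hyI hy
      obtain ⟨y1, ⟨σ, hσ, rfl⟩, y2, ⟨n, rfl⟩, rfl⟩ := Submonoid.mem_sup.1 hy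
      exact hcon ⟨σ, hσ, n, hyI⟩
    obtain ⟨q, hq, hle, hqd⟩ := Ideal.exists_le_prime_disjoint I Sx hd
    have hqS : Disjoint (q : Set B) (S : Set B) :=
      Set.disjoint_of_subset_right (show (S : Set B) ⊆ Sx from (le_sup_left : S ≤ Sx)) hqd
    have hsx : s₀ * x ∉ q := fun h =>
      Set.disjoint_left.1 hqd h ((le_sup_right : _ ≤ Sx) (Submonoid.mem_powers _))
    rcases hK q hq hle hqS with h | ⟨h, -⟩
    · exact hsx (h ▸ t.mul_mem_left _ hx)
    · exact hsx (q.mul_mem_right _ h)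
  obtain ⟨v, σ₁, hσ₁, huv⟩ := h4
  refine ⟨s₀, hs₀, fun x hx => ?_⟩
  obtain ⟨σ, hσ, n, hn⟩ := h5 x hx
  refine ⟨σ * σ₁ ^ n, ?_, n + 1, ?_⟩
  · exact fun h => (hp.mem_or_mem h).elim hσ (fun h' => hσ₁ (hp.mem_of_pow_mem _ h'))
  · rw [← Ideal.Quotient.eq_zero_iff_mem] at hn hsf huv ⊢
    simp only [map_mul, map_pow, map_sub, map_add, hu] at hn hsf huv ⊢
    exact ring_aux _ _ _ _ _ _ n hsf (sub_eq_zero.1 huv) hn

end

end Groth.Agent.Lib.H14.WeakAssFin
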