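import Mathlib
import Groth.Agent.Lib.helper14.WeakAssFin
import Groth.Agent.S9589

set_option autoImplicit false
universe u v

namespace Groth.Agent.Lib.H14.WeakAssFin

open Groth.Agent.H14 TensorProduct

/-- Stacks 05C? : for a finite ring map, images of weakly associated primes are weakly associated. -/
theorem mem_weakAss_of_finite {A B : Type u} [CommRing A] [CommRing B] [Algebra A B]
    [Module.Finite A B] {N : Type v} [AddCommGroup N] [Module B N] [Module A N]
    [IsScalarTower A B N] (p : Ideal A) [hp : p.IsPrime] (t : Ideal B) [htp : t.IsPrime]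
    [t.LiesOver p] (ht : t ∈ FlatCA.weakAss B N) : p ∈ FlatCA.weakAss A N := by
  obtain ⟨z, hz⟩ := ht
  obtain ⟨s₀, hs₀, h⟩ := exists_s0 p t _ hz
  refine ⟨s₀ • z, mem_minimalPrimes_of_forall ?_ ?_⟩
  · intro a ha
    rw [mem_ann_span_singleton] at ha
    have h1 : algebraMap A B a * s₀ ∈ (Submodule.span B {z}).annihilator := by
      rw [mem_ann_span_singleton, mul_smul, algebraMap_smul]; exact ha
    have h2 := hz.1.2 h1
    have hat : algebraMap A B a ∈ t := (htp.mem_or_mem h2).resolve_right hs₀
    rw [Ideal.LiesOver.over (p := p) (P := t)]; exact hat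
  · intro a ha
    have hat : algebraMap A B a ∈ t := by
      rw [Ideal.LiesOver.over (p := p) (P := t)] at ha; exact ha
    obtain ⟨σ, hσ, n, hn⟩ := h _ hat
    refine ⟨σ, hσ, n, ?_⟩
    rw [mem_ann_span_singleton] at hn ⊢
    rw [← hn, ← algebraMap_smul B (σ * a ^ n), smul_smul]
    congr 1
    simp only [map_mul, map_pow]
    ring

theorem weakAss_subset_of_equiv {R : Type u} [CommRing R] {M : Type*} {N : Type*} [AddCommGroup M]
    [Module R M] [AddCommGroup N] [Module R N] (e : M ≃ₗ[R] N) :
    FlatCA.weakAss R M ⊆ FlatCA.weakAss R N := by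
  rintro p ⟨m, hm⟩
  refine ⟨e m, ?_⟩
  have : (Submodule.span R {e m}).annihilator = (Submodule.span R {m}).annihilator := by
    ext r
    rw [mem_ann_span_singleton, mem_ann_span_singleton, ← map_smul]
    exact e.map_eq_zero_iff
  rw [this]; exact hm

theorem weakAss_congr {R : Type u} [CommRing R] {M : Type*} {N : Type*} [AddCommGroup M]
    [Module R M] [AddCommGroup N] [Module R N] (e : M ≃ₗ[R] N) :
    FlatCA.weakAss R M = FlatCA.weakAss R N :=
  Set.Subset.antisymm (weakAss_subset_of_equiv e) (weakAss_subset_of_equiv e.symm)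

theorem weakAss_pi_subset {R : Type u} [CommRing R] {M : Type v} [AddCommGroup M] [Module R M]
    (ι : Type*) [Finite ι] : FlatCA.weakAss R (ι → M) ⊆ FlatCA.weakAss R M := by
  classical
  have := Fintype.ofFinite ι
  rintro p ⟨w, hw⟩
  have hpp : p.IsPrime := hw.1.1
  have hann : (Submodule.span R {w}).annihilator =
      Finset.univ.inf (fun i => (Submodule.span R {w i}).annihilator) := by
    ext r
    rw [mem_ann_span_singleton, Finset.inf_eq_iInf, Submodule.mem_iInf]
    simp only [Finset.mem_univ, iInf_pos, mem_ann_span_singleton]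
    constructor
    · intro h i; exact congrFun h i
    · intro h; funext i; exact h i
  have hle : Finset.univ.inf (fun i => (Submodule.span R {w i}).annihilator) ≤ p :=
    hann ▸ hw.1.2
  obtain ⟨i, -, hi⟩ := (Ideal.IsPrime.inf_le' hpp).1 hle
  refine ⟨w i, ⟨hpp, hi⟩, ?_⟩
  rintro q ⟨hq, hqle⟩ hqp
  refine hw.2 ⟨hq, le_trans ?_ hqle⟩ hqp
  rw [hann]
  exact Finset.inf_le (Finset.mem_univ i)

theorem weakAss_free_tensor_subset {R : Type u} [CommRing R] [Nontrivial R] (P : Type u)
    [AddCommGroup P] [Module R P] [Module.Free R P] [Module.Finite R P]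
    (M : Type u) [AddCommGroup M] [Module R M] :
    FlatCA.weakAss R (P ⊗[R] M) ⊆ FlatCA.weakAss R M := by
  classical
  let b := Module.finBasis R P
  let e : P ⊗[R] M ≃ₗ[R] (Fin (Module.finrank R P) → M) :=
    (TensorProduct.comm R P M).trans
      ((TensorProduct.congr (LinearEquiv.refl R M) b.equivFun).trans
        (TensorProduct.piScalarRight R R M (Fin (Module.finrank R P))))
  rw [weakAss_congr e]
  exact weakAss_pi_subset _

/-- localization of a base change, as a tensor product over the local ring. -/
noncomputable def locEquiv {A B : Type u} [CommRing A] [CommRing B] [Algebra A B]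
    (M : Type u) [AddCommGroup M] [Module A M] (S : Submonoid A) :
    LocalizedModule S (B ⊗[A] M) ≃ₗ[Localization S]
      (Localization S ⊗[A] B) ⊗[Localization S] LocalizedModule S M :=
  let e1 : Localization S ⊗[A] (B ⊗[A] M) ≃ₗ[Localization S] LocalizedModule S (B ⊗[A] M) :=
    (IsLocalizedModule.isBaseChange S (Localization S)
      (LocalizedModule.mkLinearMap S (B ⊗[A] M))).equiv
  let e2 : (Localization S ⊗[A] B) ⊗[A] M ≃ₗ[Localization S] Localization S ⊗[A] (B ⊗[A] M) :=
    AlgebraTensorModule.assoc A A (Localization S) (Localization S) B M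
  let e3 : (Localization S ⊗[A] B) ⊗[Localization S] (Localization S ⊗[A] M) ≃ₗ[Localization S]
      (Localization S ⊗[A] B) ⊗[A] M :=
    AlgebraTensorModule.cancelBaseChange A (Localization S) (Localization S)
      (Localization S ⊗[A] B) M
  let e0 : Localization S ⊗[A] M ≃ₗ[Localization S] LocalizedModule S M :=
    (IsLocalizedModule.isBaseChange S (Localization S)
      (LocalizedModule.mkLinearMap S M)).equiv
  let e4 : (Localization S ⊗[A] B) ⊗[Localization S] (Localization S ⊗[A] M) ≃ₗ[Localization S]
      (Localization S ⊗[A] B) ⊗[Localization S] LocalizedModule S M :=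
    TensorProduct.congr (LinearEquiv.refl _ _) e0
  e1.symm.trans (e2.symm.trans (e3.symm.trans e4))

theorem step2 {A B : Type u} [CommRing A] [CommRing B] [Algebra A B] [Module.Finite A B]
    [Module.Flat A B] (M : Type u) [AddCommGroup M] [Module A M] (p : Ideal A) [p.IsPrime]
    (h : p ∈ FlatCA.weakAss A (B ⊗[A] M)) : p ∈ FlatCA.weakAss A M := by
  have hS : Disjoint (p.primeCompl : Set A) (p : Set A) := by
    rw [Set.disjoint_left]; intro x hx hx'; exact hx hx'
  rw [Groth.Agent.S9589.result p.primeCompl M p hS]
  rw [Groth.Agent.S9589.result p.primeCompl (B ⊗[A] M) p hS] at h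
  have : Module.Free (Localization.AtPrime p) (Localization.AtPrime p ⊗[A] B) :=
    Module.free_of_flat_of_isLocalRing
  have hsub := weakAss_subset_of_equiv (R := Localization p.primeCompl)
    (M := LocalizedModule p.primeCompl (B ⊗[A] M))
    (N := (Localization p.primeCompl ⊗[A] B) ⊗[Localization p.primeCompl]
      LocalizedModule p.primeCompl M) (locEquiv (B := B) M p.primeCompl)
  exact weakAss_free_tensor_subset (R := Localization.AtPrime p) (Localization.AtPrime p ⊗[A] B) _
    (hsub h)

end Groth.Agent.Lib.H14.WeakAssFin
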