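import Mathlib
import Groth.Agent.Lib.helper14.WeakAssFin2

set_option autoImplicit false
universe u v

namespace Groth.Agent.Lib.H14.WeakAssFin

open Groth.Agent.H14 TensorProduct

/-- For a flat algebra, the annihilator of `1 ⊗ m` is the extension of the annihilator of `m`. -/
theorem ann_tmul_le_of_flat {A B : Type u} [CommRing A] [CommRing B] [Algebra A B]
    [Module.Flat A B] {M : Type v} [AddCommGroup M] [Module A M] (m : M) :
    (Submodule.span B {(1 : B) ⊗ₜ[A] m}).annihilator ≤
      ((Submodule.span A {m}).annihilator).map (algebraMap A B) := by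
  intro b hb
  rw [mem_ann_span_singleton] at hb
  set I := (Submodule.span A {m}).annihilator with hI
  let g : A ⧸ I →ₗ[A] M := Submodule.liftQ I (LinearMap.toSpanSingleton A M m) (by
    intro a ha
    rw [LinearMap.mem_ker, LinearMap.toSpanSingleton_apply]
    exact mem_ann_span_singleton.1 ha)
  have hg : Function.Injective g := by
    rw [← LinearMap.ker_eq_bot, LinearMap.ker_eq_bot']
    intro x hx
    obtain ⟨a, rfl⟩ := Submodule.Quotient.mk_surjective _ x
    have : a • m = 0 := hx
    rw [Submodule.Quotient.mk_eq_zero]
    exact mem_ann_span_singleton.2 this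
  have hinj := Module.Flat.lTensor_preserves_injective_linearMap (M := B) g hg
  have h0 : (b ⊗ₜ[A] (Ideal.Quotient.mk I 1 : A ⧸ I)) = 0 := by
    apply hinj
    rw [map_zero, LinearMap.lTensor_tmul]
    have : g (Ideal.Quotient.mk I 1) = m := by
      show (1 : A) • m = m
      rw [one_smul]
    rw [this, ← hb, TensorProduct.smul_tmul', smul_eq_mul, mul_one]
  have h1 := congrArg (TensorProduct.tensorQuotEquivQuotSMul B I) h0
  rw [map_zero, tensorQuotEquivQuotSMul_tmul_mk, one_smul, Submodule.Quotient.mk_eq_zero,
    Ideal.smul_top_eq_map] at h1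
  exact h1

end Groth.Agent.Lib.H14.WeakAssFin
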