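import Mathlib

/-!
# Tensor products and "weak" directed colimits of algebras

`(G i, f i j)` is a family of `R`-algebras indexed by a directed preorder with transition maps
`f i j h : G i →ₐ[R] G j` which are NOT assumed functorial, together with compatible maps
`g i : G i →ₐ[R] A` that are jointly surjective and whose kernels die along some transition map.
We show the two basic facts about `N ⊗[R] -`:

* `exists_lift` (T1): every element of `N ⊗ A` comes from some stage (above any given stage);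
* `exists_kill` (T2'): an element of `N ⊗ G i` dying in `N ⊗ A` is killed by `N ⊗ φ` for some
  algebra map `φ : G i →ₐ[R] G j`, `i ≤ j`, compatible with the `g`'s.
-/

set_option autoImplicit false

namespace H14.WC

open TensorProduct

variable {ι : Type*} [Preorder ι] [IsDirected ι (· ≤ ·)]
  {R : Type*} [CommRing R] {G : ι → Type*} [∀ i, CommRing (G i)] [∀ i, Algebra R (G i)]
  (f : ∀ i j, i ≤ j → (G i →ₐ[R] G j)) {A : Type*} [CommRing A] [Algebra R A]
  (g : ∀ i, G i →ₐ[R] A)

omit [IsDirected ι (· ≤ ·)] in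
/-- kill finitely many elements of the kernel of `g i` by a compatible map. -/
theorem exists_kill_finset
    (hg : ∀ i j (h : i ≤ j), (g j).comp (f i j h) = g i)
    (hker : ∀ i (x : G i), g i x = 0 → ∃ j, ∃ h : i ≤ j, f i j h x = 0)
    (i : ι) (s : Finset (G i)) (hs : ∀ x ∈ s, g i x = 0) :
    ∃ (j : ι) (_ : i ≤ j) (φ : G i →ₐ[R] G j), (g j).comp φ = g i ∧ ∀ x ∈ s, φ x = 0 := by
  classical
  induction s using Finset.induction_on with
  | empty => exact ⟨i, le_rfl, AlgHom.id R _, by simp, by simp⟩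
  | insert a s _ ih =>
    obtain ⟨j, hij, φ, hφ, hφs⟩ := ih (fun x hx => hs x (Finset.mem_insert_of_mem hx))
    have ha : g j (φ a) = 0 := by
      have := hs a (Finset.mem_insert_self a s)
      rw [← hφ] at this
      exact this
    obtain ⟨k, hjk, hk⟩ := hker j (φ a) ha
    refine ⟨k, hij.trans hjk, (f j k hjk).comp φ, ?_, ?_⟩
    · rw [← AlgHom.comp_assoc, hg, hφ]
    · intro x hx
      rcases Finset.mem_insert.mp hx with rfl | hx
      · exact hk
      · rw [AlgHom.comp_apply, hφs x hx, map_zero]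

/-- T1: elements of `N ⊗ A` come from a finite stage above any given one. -/
theorem exists_lift
    (hg : ∀ i j (h : i ≤ j), (g j).comp (f i j h) = g i)
    (hsurj : ∀ a : A, ∃ i, ∃ x : G i, g i x = a)
    (N : Type*) [AddCommGroup N] [Module R N] (w : N ⊗[R] A) (i₀ : ι) :
    ∃ (i : ι) (_ : i₀ ≤ i) (w' : N ⊗[R] G i), (g i).toLinearMap.lTensor N w' = w := by
  have hcomp : ∀ i j (h : i ≤ j) (y : N ⊗[R] G i),
      (g j).toLinearMap.lTensor N ((f i j h).toLinearMap.lTensor N y) =
        (g i).toLinearMap.lTensor N y := by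
    intro i j h y
    rw [← LinearMap.comp_apply, ← LinearMap.lTensor_comp, ← AlgHom.comp_toLinearMap, hg]
  induction w using TensorProduct.induction_on with
  | zero => exact ⟨i₀, le_rfl, 0, map_zero _⟩
  | tmul n a =>
    obtain ⟨i, x, rfl⟩ := hsurj a
    obtain ⟨k, hik, hi₀k⟩ := exists_ge_ge i i₀
    refine ⟨k, hi₀k, n ⊗ₜ (f i k hik x), ?_⟩
    rw [LinearMap.lTensor_tmul, AlgHom.toLinearMap_apply, ← AlgHom.comp_apply, hg]
  | add w₁ w₂ h₁ h₂ =>
    obtain ⟨i₁, _, w₁', rfl⟩ := h₁
    obtain ⟨i₂, hi₂, w₂', rfl⟩ := h₂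
    obtain ⟨k, h1k, h2k⟩ := exists_ge_ge i₁ i₂
    refine ⟨k, hi₂.trans h2k, (f i₁ k h1k).toLinearMap.lTensor N w₁' +
      (f i₂ k h2k).toLinearMap.lTensor N w₂', ?_⟩
    rw [map_add, hcomp, hcomp]

theorem rTensor_lTensor_comm {M M' : Type*} [AddCommGroup M] [Module R M] [AddCommGroup M']
    [Module R M'] {P P' : Type*} [AddCommGroup P] [Module R P] [AddCommGroup P'] [Module R P']
    (α : P →ₗ[R] P') (β : M →ₗ[R] M') (t : P ⊗[R] M) :
    α.rTensor M' (β.lTensor P t) = β.lTensor P' (α.rTensor M t) := by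
  rw [← LinearMap.comp_apply, ← LinearMap.comp_apply, LinearMap.rTensor_comp_lTensor,
    LinearMap.lTensor_comp_rTensor]

/-- naturality of `finsuppScalarLeft`. -/
theorem finsuppScalarLeft_lTensor {σ : Type*} [DecidableEq σ] {M M' : Type*} [AddCommGroup M] [Module R M]
    [AddCommGroup M'] [Module R M'] (φ : M →ₗ[R] M') (z : (σ →₀ R) ⊗[R] M) (a : σ) :
    finsuppScalarLeft R M' σ (φ.lTensor (σ →₀ R) z) a = φ (finsuppScalarLeft R M σ z a) := by
  induction z using TensorProduct.induction_on with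
  | zero => simp
  | tmul p m =>
    rw [LinearMap.lTensor_tmul, finsuppScalarLeft_apply_tmul_apply,
      finsuppScalarLeft_apply_tmul_apply, map_smul]
  | add z₁ z₂ h₁ h₂ =>
    rw [map_add, map_add, Finsupp.add_apply, h₁, h₂, map_add, Finsupp.add_apply, map_add]

omit [IsDirected ι (· ≤ ·)] in
/-- T2' for free modules. -/
theorem exists_kill_free
    (hg : ∀ i j (h : i ≤ j), (g j).comp (f i j h) = g i)
    (hker : ∀ i (x : G i), g i x = 0 → ∃ j, ∃ h : i ≤ j, f i j h x = 0)
    (σ : Type*) (i : ι) (z : (σ →₀ R) ⊗[R] G i)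
    (hz : (g i).toLinearMap.lTensor (σ →₀ R) z = 0) :
    ∃ (j : ι) (_ : i ≤ j) (φ : G i →ₐ[R] G j), (g j).comp φ = g i ∧
      φ.toLinearMap.lTensor (σ →₀ R) z = 0 := by
  classical
  set y := finsuppScalarLeft R (G i) σ z with hy
  have hy0 : ∀ a, g i (y a) = 0 := by
    intro a
    have := finsuppScalarLeft_lTensor (g i).toLinearMap z a
    rw [hz, map_zero, Finsupp.zero_apply] at this
    exact this.symm
  obtain ⟨j, hij, φ, hφ, hφs⟩ := exists_kill_finset f g hg hker i (y.support.image y)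
    (by
      intro x hx
      obtain ⟨a, -, rfl⟩ := Finset.mem_image.mp hx
      exact hy0 a)
  refine ⟨j, hij, φ, hφ, ?_⟩
  apply (finsuppScalarLeft R (G j) σ).injective
  rw [map_zero]
  ext a
  rw [finsuppScalarLeft_lTensor, Finsupp.zero_apply, AlgHom.toLinearMap_apply]
  by_cases ha : a ∈ y.support
  · exact hφs _ (Finset.mem_image_of_mem _ ha)
  · rw [← hy, Finsupp.notMem_support_iff.mp ha, map_zero]

/-- T2': an element of `N ⊗ G i` dying in `N ⊗ A` is killed by some compatible map. -/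
theorem exists_kill
    (hg : ∀ i j (h : i ≤ j), (g j).comp (f i j h) = g i)
    (hsurj : ∀ a : A, ∃ i, ∃ x : G i, g i x = a)
    (hker : ∀ i (x : G i), g i x = 0 → ∃ j, ∃ h : i ≤ j, f i j h x = 0)
    (N : Type*) [AddCommGroup N] [Module R N] (i : ι) (z : N ⊗[R] G i)
    (hz : (g i).toLinearMap.lTensor N z = 0) :
    ∃ (j : ι) (_ : i ≤ j) (φ : G i →ₐ[R] G j), (g j).comp φ = g i ∧
      φ.toLinearMap.lTensor N z = 0 := by
  -- free presentation `F₁ --ρ--> F₀ --π--> N --> 0`
  let π : (N →₀ R) →ₗ[R] N := Finsupp.linearCombination R id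
  have hπ : Function.Surjective π := fun n => ⟨Finsupp.single n 1, by simp [π]⟩
  let K := LinearMap.ker π
  let ρ : (K →₀ R) →ₗ[R] (N →₀ R) := Finsupp.linearCombination R (Subtype.val : K → (N →₀ R))
  have hex : Function.Exact ρ π := by
    rw [LinearMap.exact_iff]
    change LinearMap.ker π = LinearMap.range (Finsupp.linearCombination R (Subtype.val : K → _))
    rw [Finsupp.range_linearCombination, Subtype.range_coe_subtype]
    exact (Submodule.span_eq _).symm
  obtain ⟨zt, rfl⟩ := LinearMap.rTensor_surjective (G i) hπ z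
  have h1 : π.rTensor A ((g i).toLinearMap.lTensor (N →₀ R) zt) = 0 := by
    rw [rTensor_lTensor_comm]; exact hz
  obtain ⟨w, hw⟩ := (rTensor_exact A hex hπ _).mp h1
  obtain ⟨k, hik, w', hw'⟩ := exists_lift f g hg hsurj (K →₀ R) w i
  set zt' : (N →₀ R) ⊗[R] G k :=
    (f i k hik).toLinearMap.lTensor (N →₀ R) zt - ρ.rTensor (G k) w' with hzt'
  have hzt'0 : (g k).toLinearMap.lTensor (N →₀ R) zt' = 0 := by
    rw [hzt', map_sub, ← rTensor_lTensor_comm, hw', hw, ← LinearMap.comp_apply, ← LinearMap.lTensor_comp,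
      ← AlgHom.comp_toLinearMap, hg, sub_self]
  obtain ⟨j, hkj, φ', hφ', hφ'z⟩ := exists_kill_free f g hg hker N k zt' hzt'0
  refine ⟨j, hik.trans hkj, φ'.comp (f i k hik), ?_, ?_⟩
  · rw [← AlgHom.comp_assoc, hφ', hg]
  · rw [← rTensor_lTensor_comm, AlgHom.comp_toLinearMap, LinearMap.lTensor_comp,
      LinearMap.comp_apply]
    have : (f i k hik).toLinearMap.lTensor (N →₀ R) zt = zt' + ρ.rTensor (G k) w' := by
      rw [hzt']; abel
    rw [this, map_add, hφ'z, zero_add, ← rTensor_lTensor_comm]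
    exact (rTensor_exact (G j) hex hπ _).mpr ⟨_, rfl⟩


/-- T2' for finitely many elements. -/
theorem exists_kill_finset_tensor
    (hg : ∀ i j (h : i ≤ j), (g j).comp (f i j h) = g i)
    (hsurj : ∀ a : A, ∃ i, ∃ x : G i, g i x = a)
    (hker : ∀ i (x : G i), g i x = 0 → ∃ j, ∃ h : i ≤ j, f i j h x = 0)
    (N : Type*) [AddCommGroup N] [Module R N] (i : ι) (s : Finset (N ⊗[R] G i))
    (hs : ∀ z ∈ s, (g i).toLinearMap.lTensor N z = 0) :
    ∃ (j : ι) (_ : i ≤ j) (φ : G i →ₐ[R] G j), (g j).comp φ = g i ∧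
      ∀ z ∈ s, φ.toLinearMap.lTensor N z = 0 := by
  classical
  induction s using Finset.induction_on with
  | empty => exact ⟨i, le_rfl, AlgHom.id R _, by simp, by simp⟩
  | insert a s _ ih =>
    obtain ⟨j, hij, φ, hφ, hφs⟩ := ih (fun x hx => hs x (Finset.mem_insert_of_mem hx))
    have ha : (g j).toLinearMap.lTensor N (φ.toLinearMap.lTensor N a) = 0 := by
      rw [← LinearMap.comp_apply, ← LinearMap.lTensor_comp, ← AlgHom.comp_toLinearMap, hφ]
      exact hs a (Finset.mem_insert_self a s)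
    obtain ⟨k, hjk, φ', hφ', hk⟩ := exists_kill f g hg hsurj hker N j _ ha
    refine ⟨k, hij.trans hjk, φ'.comp φ, ?_, ?_⟩
    · rw [← AlgHom.comp_assoc, hφ', hφ]
    · intro x hx
      rw [AlgHom.comp_toLinearMap, LinearMap.lTensor_comp, LinearMap.comp_apply]
      rcases Finset.mem_insert.mp hx with rfl | hx
      · exact hk
      · rw [hφs x hx, map_zero]

/-- T1 for finitely many elements. -/
theorem exists_lift_fin
    (hg : ∀ i j (h : i ≤ j), (g j).comp (f i j h) = g i)
    (hsurj : ∀ a : A, ∃ i, ∃ x : G i, g i x = a)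
    (N : Type*) [AddCommGroup N] [Module R N] {κ : Type*} [Finite κ] (w : κ → N ⊗[R] A) (i₀ : ι) :
    ∃ (i : ι) (_ : i₀ ≤ i) (w' : κ → N ⊗[R] G i), ∀ k, (g i).toLinearMap.lTensor N (w' k) = w k := by
  classical
  have hcomp : ∀ i j (h : i ≤ j) (y : N ⊗[R] G i),
      (g j).toLinearMap.lTensor N ((f i j h).toLinearMap.lTensor N y) =
        (g i).toLinearMap.lTensor N y := by
    intro i j h y
    rw [← LinearMap.comp_apply, ← LinearMap.lTensor_comp, ← AlgHom.comp_toLinearMap, hg]
  have key : ∀ s : Finset κ, ∃ (i : ι) (_ : i₀ ≤ i) (w' : κ → N ⊗[R] G i),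
      ∀ k ∈ s, (g i).toLinearMap.lTensor N (w' k) = w k := by
    intro s
    induction s using Finset.induction_on with
    | empty => exact ⟨i₀, le_rfl, fun _ => 0, by simp⟩
    | insert a s _ ih =>
      obtain ⟨i, hi, w', hw'⟩ := ih
      obtain ⟨j, hij, wa, hwa⟩ := exists_lift f g hg hsurj N (w a) i
      refine ⟨j, hi.trans hij,
        fun k => if k = a then wa else (f i j hij).toLinearMap.lTensor N (w' k), ?_⟩
      intro k hk
      by_cases hka : k = a
      · subst hka; simp [hwa]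
      · beta_reduce
        rw [if_neg hka, hcomp]
        exact hw' k ((Finset.mem_insert.mp hk).resolve_left hka)
  cases nonempty_fintype κ
  obtain ⟨i, hi, w', hw'⟩ := key Finset.univ
  exact ⟨i, hi, w', fun k => hw' k (Finset.mem_univ k)⟩

end H14.WC
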