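import Groth.Agent.Lib.helper14.WeakColim

set_option autoImplicit false

namespace H14.WC

open TensorProduct

section
variable {R : Type*} [CommRing R] {B C : Type*} [CommRing B] [CommRing C] [Algebra R B]
  [Algebra R C] (u : B →ₐ[R] C)

/-- base change of `u` to `T` (on the right). -/
abbrev rmap (T : Type*) [CommRing T] [Algebra R T] : B ⊗[R] T →ₐ[R] C ⊗[R] T :=
  Algebra.TensorProduct.map u (AlgHom.id R T)

/-- base change of `ψ` to `C` (on the left). -/
abbrev lmap (C : Type*) [CommRing C] [Algebra R C] {T T' : Type*} [CommRing T] [Algebra R T]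
    [CommRing T'] [Algebra R T'] (ψ : T →ₐ[R] T') : C ⊗[R] T →ₐ[R] C ⊗[R] T' :=
  Algebra.TensorProduct.map (AlgHom.id R C) ψ

theorem rmap_apply (T : Type*) [CommRing T] [Algebra R T] (y : B ⊗[R] T) :
    rmap u T y = u.toLinearMap.rTensor T y := rfl

theorem lmap_apply {T T' : Type*} [CommRing T] [Algebra R T]
    [CommRing T'] [Algebra R T'] (ψ : T →ₐ[R] T') (y : C ⊗[R] T) :
    lmap C ψ y = ψ.toLinearMap.lTensor C y := rfl

theorem rmap_lmap {T T' : Type*} [CommRing T] [Algebra R T]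
    [CommRing T'] [Algebra R T'] (ψ : T →ₐ[R] T') (y : B ⊗[R] T) :
    rmap u T' (lmap B ψ y) = lmap C ψ (rmap u T y) := by
  rw [rmap_apply, lmap_apply, lmap_apply, rmap_apply, rTensor_lTensor_comm]

theorem rmap_surjective_of_mem_range (s : Set C) (hs : Algebra.adjoin R (s ∪ Set.range u) = ⊤)
    (T : Type*) [CommRing T] [Algebra R T] (h : ∀ c ∈ s, c ⊗ₜ[R] (1 : T) ∈ (rmap u T).range) :
    Function.Surjective (rmap u T) := by
  rw [← AlgHom.range_eq_top, eq_top_iff]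
  have h1 : ∀ c : C, c ⊗ₜ[R] (1 : T) ∈ (rmap u T).range := by
    intro c
    have hc : c ∈ Algebra.adjoin R (s ∪ Set.range u) := by rw [hs]; trivial
    induction hc using Algebra.adjoin_induction with
    | mem x hx =>
      rcases hx with hx | ⟨b, rfl⟩
      · exact h x hx
      · exact (AlgHom.mem_range _).mpr ⟨b ⊗ₜ 1, by simp⟩
    | algebraMap r =>
      exact (AlgHom.mem_range _).mpr
        ⟨algebraMap R _ r, by simp [Algebra.TensorProduct.algebraMap_apply]⟩
    | add x y _ _ hx hy => rw [add_tmul]; exact add_mem hx hy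
    | mul x y _ _ hx hy =>
      have : (x * y) ⊗ₜ[R] (1 : T) = (x ⊗ₜ 1) * (y ⊗ₜ 1) := by simp
      rw [this]; exact mul_mem hx hy
  suffices h2 : ∀ z : C ⊗[R] T, z ∈ (rmap u T).range from fun z _ => h2 z
  intro z
  induction z using TensorProduct.induction_on with
  | zero => exact zero_mem _
  | tmul c t =>
    have : c ⊗ₜ[R] t = (c ⊗ₜ 1) * rmap u T (1 ⊗ₜ t) := by simp
    rw [this]
    exact mul_mem (h1 c) ((AlgHom.mem_range _).mpr ⟨_, rfl⟩)
  | add x y hx hy => exact add_mem hx hy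

end


section
variable {R : Type*} [CommRing R] {B C : Type*} [CommRing B] [CommRing C] [Algebra R B]
  [Algebra R C] (u : B →ₐ[R] C)

theorem tmul_one_mem_range_of_algHom {T T' : Type*} [CommRing T] [Algebra R T]
    [CommRing T'] [Algebra R T'] (ψ : T →ₐ[R] T') (c : C)
    (h : c ⊗ₜ[R] (1 : T) ∈ (rmap u T).range) : c ⊗ₜ[R] (1 : T') ∈ (rmap u T').range := by
  obtain ⟨y, hy⟩ := (AlgHom.mem_range _).mp h
  refine (AlgHom.mem_range _).mpr ⟨lmap B ψ y, ?_⟩
  rw [rmap_lmap, hy]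
  simp

end

section
variable {ι : Type*} [Preorder ι] [IsDirected ι (· ≤ ·)]
  {R : Type*} [CommRing R] {G : ι → Type*} [∀ i, CommRing (G i)] [∀ i, Algebra R (G i)]
  (f : ∀ i j, i ≤ j → (G i →ₐ[R] G j)) {A : Type*} [CommRing A] [Algebra R A]
  (g : ∀ i, G i →ₐ[R] A)
  {B C : Type*} [CommRing B] [CommRing C] [Algebra R B] [Algebra R C] (u : B →ₐ[R] C)

theorem exists_stage_mem_range
    (hg : ∀ i j (h : i ≤ j), (g j).comp (f i j h) = g i)
    (hsurj : ∀ a : A, ∃ i, ∃ x : G i, g i x = a)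
    (hker : ∀ i (x : G i), g i x = 0 → ∃ j, ∃ h : i ≤ j, f i j h x = 0)
    (s : Finset C) (h : ∀ c ∈ s, c ⊗ₜ[R] (1 : A) ∈ (rmap u A).range) (i₀ : ι) :
    ∃ i, i₀ ≤ i ∧ ∀ c ∈ s, c ⊗ₜ[R] (1 : G i) ∈ (rmap u (G i)).range := by
  classical
  induction s using Finset.induction_on with
  | empty => exact ⟨i₀, le_rfl, by simp⟩
  | insert a s _ ih =>
    obtain ⟨i, hi, his⟩ := ih (fun c hc => h c (Finset.mem_insert_of_mem hc))
    obtain ⟨β, hβ⟩ := (AlgHom.mem_range _).mp (h a (Finset.mem_insert_self a s))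
    obtain ⟨k, hik, β', hβ'⟩ := exists_lift f g hg hsurj B β i
    set z : C ⊗[R] G k := a ⊗ₜ 1 - rmap u (G k) β' with hz
    have hz0 : (g k).toLinearMap.lTensor C z = 0 := by
      rw [hz, map_sub, rmap_apply, ← rTensor_lTensor_comm, hβ', ← rmap_apply, hβ]
      simp
    obtain ⟨j, hkj, φ, hφ, hφz⟩ := exists_kill f g hg hsurj hker C k z hz0
    refine ⟨j, hi.trans (hik.trans hkj), ?_⟩
    intro c hc
    rcases Finset.mem_insert.mp hc with rfl | hc
    · refine (AlgHom.mem_range _).mpr ⟨lmap B φ β', ?_⟩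
      rw [hz, map_sub, sub_eq_zero] at hφz
      rw [rmap_lmap, lmap_apply, ← hφz]
      simp
    · exact tmul_one_mem_range_of_algHom u (φ.comp (f i k hik)) c (his c hc)

theorem exists_rmap_surjective [Nonempty ι]
    (hg : ∀ i j (h : i ≤ j), (g j).comp (f i j h) = g i)
    (hsurj : ∀ a : A, ∃ i, ∃ x : G i, g i x = a)
    (hker : ∀ i (x : G i), g i x = 0 → ∃ j, ∃ h : i ≤ j, f i j h x = 0)
    (s : Finset C) (hs : Algebra.adjoin R ((s : Set C) ∪ Set.range u) = ⊤)
    (h : Function.Surjective (rmap u A)) (i₀ : ι) :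
    ∃ i, i₀ ≤ i ∧ Function.Surjective (rmap u (G i)) := by
  obtain ⟨i, hi, his⟩ := exists_stage_mem_range f g u hg hsurj hker s
    (fun c _ => (AlgHom.mem_range _).mpr (h (c ⊗ₜ 1))) i₀
  exact ⟨i, hi, rmap_surjective_of_mem_range u s hs (G i) (fun c hc => his c hc)⟩

end

end H14.WC

namespace H14.WC

open TensorProduct

section
variable (A₀ B₀ C₀ : Type*) [CommRing A₀] [CommRing B₀] [CommRing C₀] [Algebra A₀ B₀]
  [Algebra A₀ C₀] [Algebra B₀ C₀] [IsScalarTower A₀ B₀ C₀]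
  (T : Type*) [CommRing T] [Algebra A₀ T]

/-- `(B₀ ⊗[A₀] T) ⊗[B₀] C₀ ≃ C₀ ⊗[A₀] T`. -/
noncomputable def θ : (B₀ ⊗[A₀] T) ⊗[B₀] C₀ ≃ₐ[B₀] C₀ ⊗[A₀] T :=
  (Algebra.TensorProduct.comm B₀ (B₀ ⊗[A₀] T) C₀).trans
    (Algebra.TensorProduct.cancelBaseChange A₀ B₀ B₀ C₀ T)

theorem θ_tmul (b : B₀) (t : T) (c : C₀) :
    θ A₀ B₀ C₀ T ((b ⊗ₜ[A₀] t) ⊗ₜ[B₀] c) = (b • c) ⊗ₜ[A₀] t := by
  simp [θ]

theorem θ_algebraMap (y : B₀ ⊗[A₀] T) :
    θ A₀ B₀ C₀ T (algebraMap (B₀ ⊗[A₀] T) ((B₀ ⊗[A₀] T) ⊗[B₀] C₀) y) =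
      rmap (IsScalarTower.toAlgHom A₀ B₀ C₀) T y := by
  rw [Algebra.TensorProduct.algebraMap_apply, Algebra.algebraMap_self_apply]
  induction y using TensorProduct.induction_on with
  | zero => simp
  | tmul b t =>
    rw [θ_tmul]
    simp [Algebra.smul_def]
  | add x y hx hy => rw [add_tmul, map_add, hx, hy, map_add]

theorem surjective_algebraMap_iff :
    Function.Surjective (algebraMap (B₀ ⊗[A₀] T) ((B₀ ⊗[A₀] T) ⊗[B₀] C₀)) ↔
      Function.Surjective (rmap (IsScalarTower.toAlgHom A₀ B₀ C₀) T) := by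
  have : ⇑(rmap (IsScalarTower.toAlgHom A₀ B₀ C₀) T) =
      ⇑(θ A₀ B₀ C₀ T) ∘ ⇑(algebraMap (B₀ ⊗[A₀] T) ((B₀ ⊗[A₀] T) ⊗[B₀] C₀)) := by
    funext y; exact (θ_algebraMap A₀ B₀ C₀ T y).symm
  rw [this]
  exact (Equiv.comp_surjective _ (θ A₀ B₀ C₀ T).toEquiv).symm

end

end H14.WC

namespace H14.WC

theorem adjoin_union_range_eq_top (A₀ B₀ C₀ : Type*) [CommRing A₀] [CommRing B₀] [CommRing C₀]
    [Algebra A₀ B₀] [Algebra A₀ C₀] [Algebra B₀ C₀] [IsScalarTower A₀ B₀ C₀] (s : Set C₀)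
    (hs : Algebra.adjoin B₀ s = ⊤) :
    Algebra.adjoin A₀ (s ∪ Set.range (IsScalarTower.toAlgHom A₀ B₀ C₀)) = ⊤ := by
  rw [eq_top_iff]
  intro c _
  have hc : c ∈ Algebra.adjoin B₀ s := by rw [hs]; trivial
  induction hc using Algebra.adjoin_induction with
  | mem x hx => exact Algebra.subset_adjoin (Or.inl hx)
  | algebraMap b => exact Algebra.subset_adjoin (Or.inr ⟨b, rfl⟩)
  | add x y _ _ hx hy => exact add_mem (hx trivial) (hy trivial)
  | mul x y _ _ hx hy => exact mul_mem (hx trivial) (hy trivial)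

end H14.WC

namespace H14.WC

open TensorProduct

section
variable {R : Type*} [CommRing R] {B C : Type*} [CommRing B] [CommRing C] [Algebra R B]
  [Algebra R C] (u : B →ₐ[R] C) (T : Type*) [CommRing T] [Algebra R T]

theorem comm_tmap (y : T ⊗[R] B) :
    Algebra.TensorProduct.comm R T C (Algebra.TensorProduct.map (AlgHom.id R T) u y) =
      rmap u T (Algebra.TensorProduct.comm R T B y) := by
  induction y using TensorProduct.induction_on with
  | zero => simp
  | tmul t b => simp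
  | add x y hx hy => rw [map_add, map_add, hx, hy, map_add, map_add]

theorem tmap_surjective_iff :
    Function.Surjective (Algebra.TensorProduct.map (AlgHom.id R T) u) ↔
      Function.Surjective (rmap u T) := by
  have h : ⇑(Algebra.TensorProduct.comm R T C) ∘ ⇑(Algebra.TensorProduct.map (AlgHom.id R T) u) =
      ⇑(rmap u T) ∘ ⇑(Algebra.TensorProduct.comm R T B) := funext (comm_tmap u T)
  rw [← Equiv.comp_surjective _ (Algebra.TensorProduct.comm R T C).toEquiv]
  change Function.Surjective (⇑(Algebra.TensorProduct.comm R T C) ∘ _) ↔ _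
  rw [h]
  exact Equiv.surjective_comp (Algebra.TensorProduct.comm R T B).toEquiv _

theorem tmap_eq_iff (u' : B →ₐ[R] C) :
    Algebra.TensorProduct.map (AlgHom.id R T) u = Algebra.TensorProduct.map (AlgHom.id R T) u' ↔
      rmap u T = rmap u' T := by
  constructor
  · intro h
    apply AlgHom.ext
    intro y
    obtain ⟨y, rfl⟩ := (Algebra.TensorProduct.comm R T B).surjective y
    rw [← comm_tmap, ← comm_tmap, h]
  · intro h
    apply AlgHom.ext
    intro y
    apply (Algebra.TensorProduct.comm R T C).injective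
    rw [comm_tmap, comm_tmap, h]

end

end H14.WC
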