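import Groth.Agent.Lib.helper14.WeakColimAlg

/-!
# Descent of bijectivity along weak directed colimits (finitely presented case)
-/

set_option autoImplicit false

namespace H14.WC

open TensorProduct

section
variable (A₀ B₀ : Type*) [CommRing A₀] [CommRing B₀] [Algebra A₀ B₀]

/-- `B₀ ⊗ ψ` as a `B₀`-algebra map. -/
noncomputable abbrev lmapB {T T' : Type*} [CommRing T] [Algebra A₀ T] [CommRing T'] [Algebra A₀ T']
    (ψ : T →ₐ[A₀] T') : B₀ ⊗[A₀] T →ₐ[B₀] B₀ ⊗[A₀] T' :=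
  Algebra.TensorProduct.map (AlgHom.id B₀ B₀) ψ

theorem lmapB_apply {T T' : Type*} [CommRing T] [Algebra A₀ T] [CommRing T'] [Algebra A₀ T']
    (ψ : T →ₐ[A₀] T') (y : B₀ ⊗[A₀] T) : lmapB A₀ B₀ ψ y = ψ.toLinearMap.lTensor B₀ y := rfl

end

section
variable {ι : Type*} [Preorder ι] [IsDirected ι (· ≤ ·)]
  {A₀ : Type*} [CommRing A₀] {G : ι → Type*} [∀ i, CommRing (G i)] [∀ i, Algebra A₀ (G i)]
  (f : ∀ i j, i ≤ j → (G i →ₐ[A₀] G j)) {A : Type*} [CommRing A] [Algebra A₀ A]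
  (g : ∀ i, G i →ₐ[A₀] A)
  {B₀ C₀ : Type*} [CommRing B₀] [CommRing C₀] [Algebra A₀ B₀] [Algebra A₀ C₀] [Algebra B₀ C₀]
  [IsScalarTower A₀ B₀ C₀]

omit [Algebra A₀ C₀] [IsScalarTower A₀ B₀ C₀] in
/-- a `B₀`-algebra map from a finitely presented `B₀`-algebra to `B₀ ⊗ A` lifts to a stage
(existence part only). -/
theorem exists_algHom_stage [Algebra.FinitePresentation B₀ C₀]
    (hg : ∀ i j (h : i ≤ j), (g j).comp (f i j h) = g i)
    (hsurj : ∀ a : A, ∃ i, ∃ x : G i, g i x = a)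
    (hker : ∀ i (x : G i), g i x = 0 → ∃ j, ∃ h : i ≤ j, f i j h x = 0)
    (v : C₀ →ₐ[B₀] B₀ ⊗[A₀] A) (i₀ : ι) :
    ∃ j, i₀ ≤ j ∧ Nonempty (C₀ →ₐ[B₀] B₀ ⊗[A₀] G j) := by
  classical
  obtain ⟨n, q, hq, S, hS⟩ := (Algebra.FinitePresentation.out : ∃ (n : ℕ)
    (q : MvPolynomial (Fin n) B₀ →ₐ[B₀] C₀), Function.Surjective q ∧ (RingHom.ker q.toRingHom).FG)
  obtain ⟨i, hi, ξ', hξ'⟩ := exists_lift_fin f g hg hsurj B₀
    (fun k : Fin n => v (q (MvPolynomial.X k))) i₀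
  have hvq : v.comp q = MvPolynomial.aeval (fun k => v (q (MvPolynomial.X k))) :=
    MvPolynomial.algHom_ext (fun k => by simp)
  have hz : ∀ z ∈ S.image (fun h => MvPolynomial.aeval ξ' h),
      (g i).toLinearMap.lTensor B₀ z = 0 := by
    intro z hz
    obtain ⟨h, hh, rfl⟩ := Finset.mem_image.mp hz
    rw [← lmapB_apply, ← AlgHom.comp_apply, MvPolynomial.comp_aeval]
    have : (fun k => lmapB A₀ B₀ (g i) (ξ' k)) = fun k => v (q (MvPolynomial.X k)) :=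
      funext fun k => hξ' k
    rw [this, ← hvq, AlgHom.comp_apply]
    have hmem : h ∈ RingHom.ker q.toRingHom := by rw [← hS]; exact Ideal.subset_span hh
    rw [show q h = 0 from hmem, map_zero]
  obtain ⟨j, hij, φ, -, hφ⟩ := exists_kill_finset_tensor f g hg hsurj hker B₀ i _ hz
  refine ⟨j, hi.trans hij, ?_⟩
  let ev : MvPolynomial (Fin n) B₀ →ₐ[B₀] B₀ ⊗[A₀] G j :=
    MvPolynomial.aeval (fun k => lmapB A₀ B₀ φ (ξ' k))
  have hev : ∀ a ∈ RingHom.ker q, ev a = 0 := by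
    intro a ha
    have ha' : a ∈ RingHom.ker q.toRingHom := ha
    rw [← hS] at ha'
    have hle : Ideal.span (S : Set (MvPolynomial (Fin n) B₀)) ≤ RingHom.ker ev.toRingHom := by
      rw [Ideal.span_le]
      intro h hh
      have := hφ _ (Finset.mem_image_of_mem _ hh)
      rw [← lmapB_apply, ← AlgHom.comp_apply, MvPolynomial.comp_aeval] at this
      exact this
    exact hle ha'
  exact ⟨(Ideal.Quotient.liftₐ (RingHom.ker q) ev hev).comp
    (Ideal.quotientKerAlgEquivOfSurjective hq).symm.toAlgHom⟩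

/-- a `B₀`-algebra map `C₀ → B₀ ⊗ T` gives a retraction of `B₀ ⊗ T → C₀ ⊗ T`. -/
theorem rmap_injective_of_algHom {T : Type*} [CommRing T] [Algebra A₀ T]
    (v₀ : C₀ →ₐ[B₀] B₀ ⊗[A₀] T) :
    Function.Injective (rmap (IsScalarTower.toAlgHom A₀ B₀ C₀) T) := by
  let w : C₀ ⊗[A₀] T →ₐ[A₀] B₀ ⊗[A₀] T :=
    Algebra.TensorProduct.lift (v₀.restrictScalars A₀) Algebra.TensorProduct.includeRight
      (fun _ _ => Commute.all _ _)
  have hw : ∀ y, w (rmap (IsScalarTower.toAlgHom A₀ B₀ C₀) T y) = y := by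
    intro y
    induction y using TensorProduct.induction_on with
    | zero => simp
    | tmul b t =>
      simp only [w, Algebra.TensorProduct.map_tmul, Algebra.TensorProduct.lift_tmul,
        AlgHom.coe_restrictScalars', IsScalarTower.coe_toAlgHom', AlgHom.commutes,
        Algebra.TensorProduct.includeRight_apply, AlgHom.coe_id, id_eq,
        Algebra.TensorProduct.algebraMap_apply, Algebra.algebraMap_self_apply,
        Algebra.TensorProduct.tmul_mul_tmul, mul_one, one_mul]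
    | add x y hx hy => rw [map_add, map_add, hx, hy]
  exact Function.LeftInverse.injective hw

end

theorem bijective_algebraMap_iff (A₀ B₀ C₀ : Type*) [CommRing A₀] [CommRing B₀] [CommRing C₀]
    [Algebra A₀ B₀] [Algebra A₀ C₀] [Algebra B₀ C₀] [IsScalarTower A₀ B₀ C₀]
    (T : Type*) [CommRing T] [Algebra A₀ T] :
    Function.Bijective (algebraMap (B₀ ⊗[A₀] T) ((B₀ ⊗[A₀] T) ⊗[B₀] C₀)) ↔
      Function.Bijective (rmap (IsScalarTower.toAlgHom A₀ B₀ C₀) T) := by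
  have : ⇑(rmap (IsScalarTower.toAlgHom A₀ B₀ C₀) T) =
      ⇑(θ A₀ B₀ C₀ T) ∘ ⇑(algebraMap (B₀ ⊗[A₀] T) ((B₀ ⊗[A₀] T) ⊗[B₀] C₀)) := by
    funext y; exact (θ_algebraMap A₀ B₀ C₀ T y).symm
  rw [this]
  exact (Equiv.comp_bijective _ (θ A₀ B₀ C₀ T).toEquiv).symm

section
variable {ι : Type*} [Preorder ι] [IsDirected ι (· ≤ ·)] [Nonempty ι]
  {A₀ : Type*} [CommRing A₀] {G : ι → Type*} [∀ i, CommRing (G i)] [∀ i, Algebra A₀ (G i)]
  (f : ∀ i j, i ≤ j → (G i →ₐ[A₀] G j)) {A : Type*} [CommRing A] [Algebra A₀ A]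
  (g : ∀ i, G i →ₐ[A₀] A)
  {B₀ C₀ : Type*} [CommRing B₀] [CommRing C₀] [Algebra A₀ B₀] [Algebra A₀ C₀] [Algebra B₀ C₀]
  [IsScalarTower A₀ B₀ C₀]

theorem exists_rmap_bijective [Algebra.FinitePresentation B₀ C₀]
    (hg : ∀ i j (h : i ≤ j), (g j).comp (f i j h) = g i)
    (hsurj : ∀ a : A, ∃ i, ∃ x : G i, g i x = a)
    (hker : ∀ i (x : G i), g i x = 0 → ∃ j, ∃ h : i ≤ j, f i j h x = 0)
    (h : Function.Bijective (rmap (IsScalarTower.toAlgHom A₀ B₀ C₀) A)) :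
    ∃ i, Function.Bijective (rmap (IsScalarTower.toAlgHom A₀ B₀ C₀) (G i)) := by
  obtain ⟨s, hs⟩ := (Algebra.FiniteType.out : (⊤ : Subalgebra B₀ C₀).FG)
  have hs' := adjoin_union_range_eq_top A₀ B₀ C₀ (s : Set C₀) hs
  let uB : B₀ ⊗[A₀] A →ₐ[B₀] C₀ ⊗[A₀] A :=
    Algebra.TensorProduct.map (Algebra.ofId B₀ C₀) (AlgHom.id A₀ A)
  have huB : Function.Bijective uB := h
  let e := AlgEquiv.ofBijective uB huB
  let v : C₀ →ₐ[B₀] B₀ ⊗[A₀] A := e.symm.toAlgHom.comp Algebra.TensorProduct.includeLeft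
  obtain ⟨j₀, -, ⟨v₀⟩⟩ := exists_algHom_stage f g hg hsurj hker v (Classical.arbitrary ι)
  obtain ⟨i, hi, hsurj_i⟩ := exists_rmap_surjective f g (IsScalarTower.toAlgHom A₀ B₀ C₀)
    hg hsurj hker s hs' h.2 j₀
  exact ⟨i, rmap_injective_of_algHom ((lmapB A₀ B₀ (f j₀ i hi)).comp v₀), hsurj_i⟩

end

end H14.WC
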