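import Groth.Agent.Lib.helper14.WeakColimBij

/-!
# The functor `T ↦ (B₀ ⊗[A₀] T) ⊗[B₀] M` on a weak directed colimit
-/

set_option autoImplicit false

namespace H14.WC

open TensorProduct

section
variable (A₀ B₀ : Type*) [CommRing A₀] [CommRing B₀] [Algebra A₀ B₀]
  (M : Type*) [CommRing M] [Algebra A₀ M] [Algebra B₀ M] [IsScalarTower A₀ B₀ M]

/-- the map `(B₀ ⊗ T) ⊗[B₀] M → (B₀ ⊗ T') ⊗[B₀] M` induced by `ψ : T → T'`. -/
noncomputable abbrev Emap {T T' : Type*} [CommRing T] [Algebra A₀ T] [CommRing T'] [Algebra A₀ T']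
    (ψ : T →ₐ[A₀] T') : (B₀ ⊗[A₀] T) ⊗[B₀] M →ₐ[B₀] (B₀ ⊗[A₀] T') ⊗[B₀] M :=
  Algebra.TensorProduct.map (lmapB A₀ B₀ ψ) (AlgHom.id B₀ M)

theorem θ_Emap {T T' : Type*} [CommRing T] [Algebra A₀ T] [CommRing T'] [Algebra A₀ T']
    (ψ : T →ₐ[A₀] T') (x : (B₀ ⊗[A₀] T) ⊗[B₀] M) :
    θ A₀ B₀ M T' (Emap A₀ B₀ M ψ x) = ψ.toLinearMap.lTensor M (θ A₀ B₀ M T x) := by
  induction x using TensorProduct.induction_on with
  | zero => simp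
  | tmul y m =>
    induction y using TensorProduct.induction_on with
    | zero => simp
    | tmul b t =>
      rw [θ_tmul]
      simp only [Emap, Algebra.TensorProduct.map_tmul, AlgHom.coe_id, id_eq, θ_tmul,
        LinearMap.lTensor_tmul, AlgHom.toLinearMap_apply]
    | add y₁ y₂ h₁ h₂ => rw [add_tmul, map_add, map_add, h₁, h₂, map_add, map_add]
  | add x₁ x₂ h₁ h₂ => rw [map_add, map_add, h₁, h₂, map_add, map_add]

theorem Emap_comp {T T' T'' : Type*} [CommRing T] [Algebra A₀ T] [CommRing T'] [Algebra A₀ T']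
    [CommRing T''] [Algebra A₀ T''] (ψ : T →ₐ[A₀] T') (ψ' : T' →ₐ[A₀] T'')
    (x : (B₀ ⊗[A₀] T) ⊗[B₀] M) :
    Emap A₀ B₀ M ψ' (Emap A₀ B₀ M ψ x) = Emap A₀ B₀ M (ψ'.comp ψ) x := by
  apply (θ A₀ B₀ M T'').injective
  rw [θ_Emap, θ_Emap, θ_Emap, AlgHom.comp_toLinearMap, LinearMap.lTensor_comp,
    LinearMap.comp_apply]

end

section
variable {ι : Type*} [Preorder ι] [IsDirected ι (· ≤ ·)]
  {A₀ : Type*} [CommRing A₀] {G : ι → Type*} [∀ i, CommRing (G i)] [∀ i, Algebra A₀ (G i)]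
  (f : ∀ i j, i ≤ j → (G i →ₐ[A₀] G j)) {A : Type*} [CommRing A] [Algebra A₀ A]
  (g : ∀ i, G i →ₐ[A₀] A)
  (B₀ : Type*) [CommRing B₀] [Algebra A₀ B₀]
  (M : Type*) [CommRing M] [Algebra A₀ M] [Algebra B₀ M] [IsScalarTower A₀ B₀ M]

theorem exists_Elift_fin
    (hg : ∀ i j (h : i ≤ j), (g j).comp (f i j h) = g i)
    (hsurj : ∀ a : A, ∃ i, ∃ x : G i, g i x = a)
    {κ : Type*} [Finite κ] (w : κ → (B₀ ⊗[A₀] A) ⊗[B₀] M) (i₀ : ι) :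
    ∃ (i : ι) (_ : i₀ ≤ i) (w' : κ → (B₀ ⊗[A₀] G i) ⊗[B₀] M),
      ∀ k, Emap A₀ B₀ M (g i) (w' k) = w k := by
  obtain ⟨i, hi, w', hw'⟩ := exists_lift_fin f g hg hsurj M (fun k => θ A₀ B₀ M A (w k)) i₀
  refine ⟨i, hi, fun k => (θ A₀ B₀ M (G i)).symm (w' k), fun k => ?_⟩
  apply (θ A₀ B₀ M A).injective
  rw [θ_Emap, AlgEquiv.apply_symm_apply, hw']

theorem exists_Ekill_finset
    (hg : ∀ i j (h : i ≤ j), (g j).comp (f i j h) = g i)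
    (hsurj : ∀ a : A, ∃ i, ∃ x : G i, g i x = a)
    (hker : ∀ i (x : G i), g i x = 0 → ∃ j, ∃ h : i ≤ j, f i j h x = 0)
    (i : ι) (s : Finset ((B₀ ⊗[A₀] G i) ⊗[B₀] M))
    (hs : ∀ z ∈ s, Emap A₀ B₀ M (g i) z = 0) :
    ∃ (j : ι) (_ : i ≤ j) (φ : G i →ₐ[A₀] G j), (g j).comp φ = g i ∧
      ∀ z ∈ s, Emap A₀ B₀ M φ z = 0 := by
  classical
  obtain ⟨j, hij, φ, hφ, hφs⟩ := exists_kill_finset_tensor f g hg hsurj hker M i
    (s.image (θ A₀ B₀ M (G i))) (by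
      intro z hz
      obtain ⟨x, hx, rfl⟩ := Finset.mem_image.mp hz
      rw [← θ_Emap, hs x hx, map_zero])
  refine ⟨j, hij, φ, hφ, fun z hz => ?_⟩
  apply (θ A₀ B₀ M (G j)).injective
  rw [θ_Emap, hφs _ (Finset.mem_image_of_mem _ hz), map_zero]

end

end H14.WC
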