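import Groth.Agent.Lib.helper14.WeakColimAlg

/-!
# Descent of finiteness along weak directed colimits
-/

set_option autoImplicit false

namespace H14.WC

open TensorProduct Polynomial

section
variable {R : Type*} [CommRing R] {B C : Type*} [CommRing B] [CommRing C] [Algebra R B]
  [Algebra R C] (u : B →ₐ[R] C)

theorem forall_mem_of_subsemiring (s : Set C) (hs : Algebra.adjoin R (s ∪ Set.range u) = ⊤)
    (T : Type*) [CommRing T] [Algebra R T] (S' : Subsemiring (C ⊗[R] T))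
    (h1 : ∀ c ∈ s, c ⊗ₜ[R] (1 : T) ∈ S') (h2 : ∀ y, rmap u T y ∈ S') (z : C ⊗[R] T) : z ∈ S' := by
  have h3 : ∀ c : C, c ⊗ₜ[R] (1 : T) ∈ S' := by
    intro c
    have hc : c ∈ Algebra.adjoin R (s ∪ Set.range u) := by rw [hs]; trivial
    induction hc using Algebra.adjoin_induction with
    | mem x hx =>
      rcases hx with hx | ⟨b, rfl⟩
      · exact h1 x hx
      · have := h2 (b ⊗ₜ 1)
        simpa using this
    | algebraMap r =>
      have := h2 (algebraMap R _ r)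
      rw [AlgHom.commutes, Algebra.TensorProduct.algebraMap_apply] at this
      exact this
    | add x y _ _ hx hy => rw [add_tmul]; exact add_mem hx hy
    | mul x y _ _ hx hy =>
      have : (x * y) ⊗ₜ[R] (1 : T) = (x ⊗ₜ 1) * (y ⊗ₜ 1) := by simp
      rw [this]; exact mul_mem hx hy
  induction z using TensorProduct.induction_on with
  | zero => exact zero_mem _
  | tmul c t =>
    have : c ⊗ₜ[R] t = (c ⊗ₜ 1) * rmap u T (1 ⊗ₜ t) := by simp
    rw [this]
    exact mul_mem (h3 c) (h2 _)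
  | add x y hx hy => exact add_mem hx hy

theorem rmap_comp_lmap {T T' : Type*} [CommRing T] [Algebra R T]
    [CommRing T'] [Algebra R T'] (ψ : T →ₐ[R] T') :
    (rmap u T').toRingHom.comp (lmap B ψ).toRingHom =
      (lmap C ψ).toRingHom.comp (rmap u T).toRingHom :=
  RingHom.ext (fun y => rmap_lmap u ψ y)

theorem isIntegralElem_of_algHom {T T' : Type*} [CommRing T] [Algebra R T]
    [CommRing T'] [Algebra R T'] (ψ : T →ₐ[R] T') (x : C ⊗[R] T)
    (h : (rmap u T).toRingHom.IsIntegralElem x) :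
    (rmap u T').toRingHom.IsIntegralElem (lmap C ψ x) := by
  obtain ⟨p, hp, hpx⟩ := h
  refine ⟨p.map (lmap B ψ).toRingHom, hp.map _, ?_⟩
  rw [eval₂_map]
  have : (rmap u T').toRingHom.comp (lmap B ψ).toRingHom =
      (lmap C ψ).toRingHom.comp (rmap u T).toRingHom := RingHom.ext (fun y => rmap_lmap u ψ y)
  rw [this]
  change eval₂ _ ((lmap C ψ).toRingHom x) p = 0
  rw [← hom_eval₂, hpx, map_zero]

theorem rmap_finite_of_isIntegralElem (s : Finset C)
    (hs : Algebra.adjoin R ((s : Set C) ∪ Set.range u) = ⊤)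
    (T : Type*) [CommRing T] [Algebra R T]
    (h : ∀ c ∈ s, (rmap u T).toRingHom.IsIntegralElem (c ⊗ₜ[R] (1 : T))) :
    (rmap u T).toRingHom.Finite := by
  classical
  letI : Algebra (B ⊗[R] T) (C ⊗[R] T) := (rmap u T).toRingHom.toAlgebra
  change Module.Finite (B ⊗[R] T) (C ⊗[R] T)
  set S : Finset (C ⊗[R] T) := s.image (fun c => c ⊗ₜ[R] (1 : T)) with hS
  have hint : ∀ x ∈ (S : Set (C ⊗[R] T)), IsIntegral (B ⊗[R] T) x := by
    intro x hx
    obtain ⟨c, hc, rfl⟩ := Finset.mem_image.mp (Finset.mem_coe.mp hx)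
    exact h c hc
  have hfg := fg_adjoin_of_finite (Finset.finite_toSet S) hint
  have htop : Algebra.adjoin (B ⊗[R] T) (S : Set (C ⊗[R] T)) = ⊤ := by
    rw [eq_top_iff]
    intro z _
    refine forall_mem_of_subsemiring u (s : Set C) hs T
      (Algebra.adjoin (B ⊗[R] T) (S : Set (C ⊗[R] T))).toSubsemiring ?_ ?_ z
    · intro c hc
      exact Algebra.subset_adjoin (Finset.mem_coe.mpr (Finset.mem_image_of_mem _ hc))
    · intro y
      exact Subalgebra.algebraMap_mem _ y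
  rw [htop] at hfg
  exact ⟨hfg⟩

end

section
variable {ι : Type*} [Preorder ι] [IsDirected ι (· ≤ ·)]
  {R : Type*} [CommRing R] {G : ι → Type*} [∀ i, CommRing (G i)] [∀ i, Algebra R (G i)]
  (f : ∀ i j, i ≤ j → (G i →ₐ[R] G j)) {A : Type*} [CommRing A] [Algebra R A]
  (g : ∀ i, G i →ₐ[R] A)
  {B C : Type*} [CommRing B] [CommRing C] [Algebra R B] [Algebra R C] (u : B →ₐ[R] C)

theorem exists_isIntegralElem
    (hg : ∀ i j (h : i ≤ j), (g j).comp (f i j h) = g i)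
    (hsurj : ∀ a : A, ∃ i, ∃ x : G i, g i x = a)
    (hker : ∀ i (x : G i), g i x = 0 → ∃ j, ∃ h : i ≤ j, f i j h x = 0)
    (c : C) (h : (rmap u A).toRingHom.IsIntegralElem (c ⊗ₜ[R] (1 : A))) (i₀ : ι) :
    ∃ i, i₀ ≤ i ∧ (rmap u (G i)).toRingHom.IsIntegralElem (c ⊗ₜ[R] (1 : G i)) := by
  obtain ⟨p, hp, hpx⟩ := h
  set n := p.natDegree with hn
  obtain ⟨k, hk, β', hβ'⟩ := exists_lift_fin f g hg hsurj B (fun m : Fin n => p.coeff m) i₀
  set p' : (B ⊗[R] G k)[X] := X ^ n + ∑ m : Fin n, Polynomial.C (β' m) * X ^ (m : ℕ) with hp'def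
  have hp' : p'.Monic := monic_X_pow_add (degree_sum_fin_lt _)
  have hmap : p'.map (lmap B (g k)).toRingHom = p := by
    rw [hp'def, Polynomial.map_add, Polynomial.map_pow, map_X, Polynomial.map_sum]
    simp_rw [Polynomial.map_mul, Polynomial.map_pow, map_X, map_C]
    have : ∀ m : Fin n, (lmap B (g k)).toRingHom (β' m) = p.coeff m := fun m => hβ' m
    simp_rw [this]
    rw [Fin.sum_univ_eq_sum_range (fun m => Polynomial.C (p.coeff m) * X ^ m) n]
    exact hp.as_sum.symm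
  set z : C ⊗[R] G k := p'.eval₂ (rmap u (G k)).toRingHom (c ⊗ₜ 1) with hz
  have hz0 : (g k).toLinearMap.lTensor C z = 0 := by
    change (lmap C (g k)).toRingHom z = 0
    rw [hz, hom_eval₂, ← rmap_comp_lmap, ← eval₂_map, hmap]
    have : (lmap C (g k)).toRingHom (c ⊗ₜ[R] (1 : G k)) = c ⊗ₜ 1 := by simp
    rw [this, hpx]
  obtain ⟨j, hkj, φ, hφ, hφz⟩ := exists_kill f g hg hsurj hker C k z hz0
  refine ⟨j, hk.trans hkj, p'.map (lmap B φ).toRingHom, hp'.map _, ?_⟩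
  rw [eval₂_map, rmap_comp_lmap]
  have : (c ⊗ₜ[R] (1 : G j)) = (lmap C φ).toRingHom (c ⊗ₜ 1) := by simp
  rw [this, ← hom_eval₂]
  exact hφz

theorem exists_stage_isIntegralElem
    (hg : ∀ i j (h : i ≤ j), (g j).comp (f i j h) = g i)
    (hsurj : ∀ a : A, ∃ i, ∃ x : G i, g i x = a)
    (hker : ∀ i (x : G i), g i x = 0 → ∃ j, ∃ h : i ≤ j, f i j h x = 0)
    (s : Finset C) (h : ∀ c ∈ s, (rmap u A).toRingHom.IsIntegralElem (c ⊗ₜ[R] (1 : A))) (i₀ : ι) :
    ∃ i, i₀ ≤ i ∧ ∀ c ∈ s, (rmap u (G i)).toRingHom.IsIntegralElem (c ⊗ₜ[R] (1 : G i)) := by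
  classical
  induction s using Finset.induction_on with
  | empty => exact ⟨i₀, le_rfl, by simp⟩
  | insert a s _ ih =>
    obtain ⟨i, hi, his⟩ := ih (fun c hc => h c (Finset.mem_insert_of_mem hc))
    obtain ⟨j, hij, hj⟩ := exists_isIntegralElem f g u hg hsurj hker a
      (h a (Finset.mem_insert_self a s)) i
    refine ⟨j, hi.trans hij, ?_⟩
    intro c hc
    rcases Finset.mem_insert.mp hc with rfl | hc
    · exact hj
    · have := isIntegralElem_of_algHom u (f i j hij) _ (his c hc)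
      simpa using this

theorem exists_rmap_finite
    (hg : ∀ i j (h : i ≤ j), (g j).comp (f i j h) = g i)
    (hsurj : ∀ a : A, ∃ i, ∃ x : G i, g i x = a)
    (hker : ∀ i (x : G i), g i x = 0 → ∃ j, ∃ h : i ≤ j, f i j h x = 0)
    (s : Finset C) (hs : Algebra.adjoin R ((s : Set C) ∪ Set.range u) = ⊤)
    (h : (rmap u A).toRingHom.Finite) (i₀ : ι) :
    ∃ i, i₀ ≤ i ∧ (rmap u (G i)).toRingHom.Finite := by
  obtain ⟨i, hi, his⟩ := exists_stage_isIntegralElem f g u hg hsurj hker s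
    (fun c _ => h.to_isIntegral _) i₀
  exact ⟨i, hi, rmap_finite_of_isIntegralElem u s hs (G i) his⟩

end

end H14.WC

namespace H14.WC

open TensorProduct

theorem finite_algebraMap_iff (A₀ B₀ C₀ : Type*) [CommRing A₀] [CommRing B₀] [CommRing C₀]
    [Algebra A₀ B₀] [Algebra A₀ C₀] [Algebra B₀ C₀] [IsScalarTower A₀ B₀ C₀]
    (T : Type*) [CommRing T] [Algebra A₀ T] :
    Module.Finite (B₀ ⊗[A₀] T) ((B₀ ⊗[A₀] T) ⊗[B₀] C₀) ↔
      (rmap (IsScalarTower.toAlgHom A₀ B₀ C₀) T).toRingHom.Finite := by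
  rw [← RingHom.finite_algebraMap]
  have h1 : (rmap (IsScalarTower.toAlgHom A₀ B₀ C₀) T).toRingHom =
      (θ A₀ B₀ C₀ T).toRingEquiv.toRingHom.comp
        (algebraMap (B₀ ⊗[A₀] T) ((B₀ ⊗[A₀] T) ⊗[B₀] C₀)) :=
    RingHom.ext (fun y => (θ_algebraMap A₀ B₀ C₀ T y).symm)
  have h2 : algebraMap (B₀ ⊗[A₀] T) ((B₀ ⊗[A₀] T) ⊗[B₀] C₀) =
      (θ A₀ B₀ C₀ T).symm.toRingEquiv.toRingHom.comp
        (rmap (IsScalarTower.toAlgHom A₀ B₀ C₀) T).toRingHom := by
    rw [h1]
    refine RingHom.ext (fun y => ?_)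
    exact ((θ A₀ B₀ C₀ T).symm_apply_apply _).symm
  constructor
  · intro h
    rw [h1]
    exact RingHom.Finite.comp (RingHom.Finite.of_surjective _ (θ A₀ B₀ C₀ T).surjective) h
  · intro h
    rw [h2]
    exact RingHom.Finite.comp (RingHom.Finite.of_surjective _ (θ A₀ B₀ C₀ T).symm.surjective) h

end H14.WC
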