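import Groth.Agent.Lib.helper14.WeakColimUnram
import Groth.Agent.Lib.helper14.WeakColimE
import Groth.Agent.Lib.helper14.SmoothData

/-!
# Descent of formal smoothness along a weak directed colimit
-/

set_option autoImplicit false

namespace H14.WC

open TensorProduct MvPolynomial

section
variable (A₀ B₀ : Type*) [CommRing A₀] [CommRing B₀] [Algebra A₀ B₀]
  (M : Type*) [CommRing M] [Algebra A₀ M] [Algebra B₀ M] [IsScalarTower A₀ B₀ M]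

theorem Emap_one_tmul {T T' : Type*} [CommRing T] [Algebra A₀ T] [CommRing T'] [Algebra A₀ T']
    (ψ : T →ₐ[A₀] T') (m : M) :
    Emap A₀ B₀ M ψ (1 ⊗ₜ m) = 1 ⊗ₜ m := by
  simp only [Emap, Algebra.TensorProduct.map_tmul, map_one, AlgHom.coe_id, id_eq]

end

section
variable (A₀ B₀ : Type*) [CommRing A₀] [CommRing B₀] [Algebra A₀ B₀]
  {T T' : Type*} [CommRing T] [Algebra A₀ T] [CommRing T'] [Algebra A₀ T']
  (ψ : T →ₐ[A₀] T') {σ τ : Type*} [Fintype τ] (h : τ → MvPolynomial σ B₀)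
  (η : σ → (B₀ ⊗[A₀] T) ⊗[B₀] MvPolynomial σ B₀)

theorem Emap_za (a : σ → τ → (B₀ ⊗[A₀] T) ⊗[B₀] MvPolynomial σ B₀) (k : σ) :
    Emap A₀ B₀ (MvPolynomial σ B₀) ψ (η k - 1 ⊗ₜ X k - ∑ l, a k l * (1 ⊗ₜ h l)) =
      Emap A₀ B₀ (MvPolynomial σ B₀) ψ (η k) - 1 ⊗ₜ X k -
        ∑ l, Emap A₀ B₀ (MvPolynomial σ B₀) ψ (a k l) * (1 ⊗ₜ h l) := by
  simp only [map_sub, map_sum, map_mul, Emap_one_tmul]

theorem Emap_zb (b : τ → τ → τ → (B₀ ⊗[A₀] T) ⊗[B₀] MvPolynomial σ B₀) (l : τ) :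
    Emap A₀ B₀ (MvPolynomial σ B₀) ψ
      (aeval η (h l) - ∑ l', ∑ l'', b l l' l'' * ((1 ⊗ₜ h l') * (1 ⊗ₜ h l''))) =
      aeval (fun k => Emap A₀ B₀ (MvPolynomial σ B₀) ψ (η k)) (h l) -
        ∑ l', ∑ l'', Emap A₀ B₀ (MvPolynomial σ B₀) ψ (b l l' l'') *
          ((1 ⊗ₜ h l') * (1 ⊗ₜ h l'')) := by
  simp only [map_sub, map_sum, map_mul, Emap_one_tmul]
  rw [← MvPolynomial.comp_aeval_apply]

end

section
variable {ι : Type*} [Preorder ι] [IsDirected ι (· ≤ ·)]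
  {A₀ : Type*} [CommRing A₀] {G : ι → Type*} [∀ i, CommRing (G i)] [∀ i, Algebra A₀ (G i)]
  (f : ∀ i j, i ≤ j → (G i →ₐ[A₀] G j)) {A : Type*} [CommRing A] [Algebra A₀ A]
  (g : ∀ i, G i →ₐ[A₀] A)
  (B₀ : Type*) [CommRing B₀] [Algebra A₀ B₀]
  (C₀ : Type*) [CommRing C₀] [Algebra A₀ C₀] [Algebra B₀ C₀] [IsScalarTower A₀ B₀ C₀]

theorem exists_formallySmooth_stage [Algebra.FinitePresentation B₀ C₀]
    (hg : ∀ i j (h : i ≤ j), (g j).comp (f i j h) = g i)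
    (hsurj : ∀ a : A, ∃ i, ∃ x : G i, g i x = a)
    (hker : ∀ i (x : G i), g i x = 0 → ∃ j, ∃ h : i ≤ j, f i j h x = 0)
    (hsm : Algebra.FormallySmooth (B₀ ⊗[A₀] A) ((B₀ ⊗[A₀] A) ⊗[B₀] C₀)) (i₀ : ι) :
    ∃ j, i₀ ≤ j ∧ Algebra.FormallySmooth (B₀ ⊗[A₀] G j) ((B₀ ⊗[A₀] G j) ⊗[B₀] C₀) := by
  classical
  obtain ⟨n, q, hq, s, hs⟩ := Algebra.FinitePresentation.out (R := B₀) (A := C₀)
  let h : ↥s → MvPolynomial (Fin n) B₀ := Subtype.val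
  have hkq : RingHom.ker q.toRingHom = Ideal.span (Set.range h) := by
    rw [Subtype.range_coe]; exact hs.symm
  obtain ⟨η, a, b, ha, hb⟩ := exists_data_of_formallySmooth (B₀ ⊗[A₀] A) q hq h hkq hsm
  let w : (Fin n ⊕ (Fin n × ↥s) ⊕ (↥s × ↥s × ↥s)) → (B₀ ⊗[A₀] A) ⊗[B₀] MvPolynomial (Fin n) B₀ :=
    Sum.elim η (Sum.elim (fun p => a p.1 p.2) (fun p => b p.1 p.2.1 p.2.2))
  obtain ⟨i, hi, w', hw'⟩ := exists_Elift_fin f g B₀ (MvPolynomial (Fin n) B₀) hg hsurj w i₀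
  let η' : Fin n → (B₀ ⊗[A₀] G i) ⊗[B₀] MvPolynomial (Fin n) B₀ := fun k => w' (Sum.inl k)
  let a' : Fin n → ↥s → (B₀ ⊗[A₀] G i) ⊗[B₀] MvPolynomial (Fin n) B₀ :=
    fun k l => w' (Sum.inr (Sum.inl (k, l)))
  let b' : ↥s → ↥s → ↥s → (B₀ ⊗[A₀] G i) ⊗[B₀] MvPolynomial (Fin n) B₀ :=
    fun l l' l'' => w' (Sum.inr (Sum.inr (l, l', l'')))
  have hη' : ∀ k, Emap A₀ B₀ (MvPolynomial (Fin n) B₀) (g i) (η' k) = η k :=
    fun k => hw' (Sum.inl k)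
  have ha' : ∀ k l, Emap A₀ B₀ (MvPolynomial (Fin n) B₀) (g i) (a' k l) = a k l :=
    fun k l => hw' (Sum.inr (Sum.inl (k, l)))
  have hb' : ∀ l l' l'', Emap A₀ B₀ (MvPolynomial (Fin n) B₀) (g i) (b' l l' l'') = b l l' l'' :=
    fun l l' l'' => hw' (Sum.inr (Sum.inr (l, l', l'')))
  let za : Fin n → (B₀ ⊗[A₀] G i) ⊗[B₀] MvPolynomial (Fin n) B₀ :=
    fun k => η' k - 1 ⊗ₜ X k - ∑ l, a' k l * (1 ⊗ₜ h l)
  let zb : ↥s → (B₀ ⊗[A₀] G i) ⊗[B₀] MvPolynomial (Fin n) B₀ :=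
    fun l => aeval η' (h l) - ∑ l', ∑ l'', b' l l' l'' * ((1 ⊗ₜ h l') * (1 ⊗ₜ h l''))
  have hza : ∀ k, Emap A₀ B₀ (MvPolynomial (Fin n) B₀) (g i) (za k) = 0 := by
    intro k
    rw [Emap_za, hη', ha k]
    simp only [ha', sub_self]
  have hzb : ∀ l, Emap A₀ B₀ (MvPolynomial (Fin n) B₀) (g i) (zb l) = 0 := by
    intro l
    rw [Emap_zb]
    simp only [hη', hb', ← hb l, sub_self]
  obtain ⟨j, hij, φ, hφ, hφs⟩ := exists_Ekill_finset f g B₀ (MvPolynomial (Fin n) B₀) hg hsurj hker i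
    (Finset.univ.image za ∪ Finset.univ.image zb) (by
      intro z hz
      rcases Finset.mem_union.mp hz with hz | hz
      · obtain ⟨k, -, rfl⟩ := Finset.mem_image.mp hz
        exact hza k
      · obtain ⟨l, -, rfl⟩ := Finset.mem_image.mp hz
        exact hzb l)
  refine ⟨j, hi.trans hij, ?_⟩
  refine formallySmooth_of_data (B₀ ⊗[A₀] G j) q hq h hkq
    (fun k => Emap A₀ B₀ (MvPolynomial (Fin n) B₀) φ (η' k))
    (fun k l => Emap A₀ B₀ (MvPolynomial (Fin n) B₀) φ (a' k l))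
    (fun l l' l'' => Emap A₀ B₀ (MvPolynomial (Fin n) B₀) φ (b' l l' l'')) ?_ ?_
  · intro k
    have := hφs (za k) (Finset.mem_union_left _ (Finset.mem_image_of_mem _ (Finset.mem_univ k)))
    rw [Emap_za, sub_eq_zero] at this
    exact this
  · intro l
    have := hφs (zb l) (Finset.mem_union_right _ (Finset.mem_image_of_mem _ (Finset.mem_univ l)))
    rw [Emap_zb, sub_eq_zero] at this
    exact this

end

end H14.WC

namespace H14.WC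

open TensorProduct

/-- vanishing of `N ⊗ T` persists along an algebra map `T → T'`. -/
theorem subsingleton_tensor_of_algHom {R N T T' : Type*} [CommRing R] [AddCommGroup N] [Module R N]
    [CommRing T] [Algebra R T] [CommRing T'] [Algebra R T'] (ψ : T →ₐ[R] T')
    (h : Subsingleton (N ⊗[R] T)) : Subsingleton (N ⊗[R] T') := by
  refine subsingleton_tensor_of_span (A₀ := R) (C₀ := R) (N := N) (T := T') Set.univ
    (by simp) ?_
  intro ω _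
  have h0 : ω ⊗ₜ[R] (1 : T) = 0 := Subsingleton.elim _ _
  have := congrArg (ψ.toLinearMap.lTensor N) h0
  simpa using this

end H14.WC
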