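import Groth.Agent.Lib.helper14.WeakColimAlg

/-!
# Descent of unramifiedness along weak directed colimits
-/

set_option autoImplicit false

namespace H14.WC

open TensorProduct

/-- if finitely many `ω k ⊗ 1` vanish and the `ω k` span `N` over `C₀` then `N ⊗ T = 0`. -/
theorem subsingleton_tensor_of_span {A₀ C₀ N T : Type*} [CommRing A₀] [CommRing C₀] [Algebra A₀ C₀]
    [AddCommGroup N] [Module A₀ N] [Module C₀ N] [IsScalarTower A₀ C₀ N]
    [CommRing T] [Algebra A₀ T] (s : Set N) (hs : Submodule.span C₀ s = ⊤)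
    (h : ∀ ω ∈ s, ω ⊗ₜ[A₀] (1 : T) = 0) : Subsingleton (N ⊗[A₀] T) := by
  have key : ∀ (n : N) (t : T), n ⊗ₜ[A₀] t = 0 := by
    intro n t
    have hn : n ∈ Submodule.span C₀ s := by rw [hs]; trivial
    induction hn using Submodule.span_induction with
    | mem ω hω =>
      have := congrArg (TensorProduct.map (LinearMap.id : N →ₗ[A₀] N) (LinearMap.mulLeft A₀ t))
        (h ω hω)
      simpa using this
    | zero => simp
    | add x y _ _ hx hy => rw [add_tmul, hx, hy, add_zero]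
    | smul c x _ hx =>
      have := congrArg (TensorProduct.map
        ((c • (LinearMap.id : N →ₗ[C₀] N)).restrictScalars A₀) (LinearMap.id : T →ₗ[A₀] T)) hx
      simpa using this
  refine ⟨fun x y => ?_⟩
  have h0 : ∀ z : N ⊗[A₀] T, z = 0 := by
    intro z
    induction z using TensorProduct.induction_on with
    | zero => rfl
    | tmul n t => exact key n t
    | add x y hx hy => rw [hx, hy, add_zero]
  rw [h0 x, h0 y]

section
variable {ι : Type*} [Preorder ι] [IsDirected ι (· ≤ ·)]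
  {R : Type*} [CommRing R] {G : ι → Type*} [∀ i, CommRing (G i)] [∀ i, Algebra R (G i)]
  (f : ∀ i j, i ≤ j → (G i →ₐ[R] G j)) {A : Type*} [CommRing A] [Algebra R A]
  (g : ∀ i, G i →ₐ[R] A)

theorem exists_subsingleton_tensor
    (hg : ∀ i j (h : i ≤ j), (g j).comp (f i j h) = g i)
    (hsurj : ∀ a : A, ∃ i, ∃ x : G i, g i x = a)
    (hker : ∀ i (x : G i), g i x = 0 → ∃ j, ∃ h : i ≤ j, f i j h x = 0)
    {C₀ N : Type*} [CommRing C₀] [Algebra R C₀]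
    [AddCommGroup N] [Module R N] [Module C₀ N] [IsScalarTower R C₀ N] [Module.Finite C₀ N]
    (h : Subsingleton (N ⊗[R] A)) (i₀ : ι) :
    ∃ i, i₀ ≤ i ∧ Subsingleton (N ⊗[R] G i) := by
  classical
  obtain ⟨s, hs⟩ := (Module.Finite.fg_top : (⊤ : Submodule C₀ N).FG)
  obtain ⟨j, hij, φ, -, hφ⟩ := exists_kill_finset_tensor f g hg hsurj hker N i₀
    (s.image fun ω => ω ⊗ₜ[R] (1 : G i₀)) (fun z _ => Subsingleton.elim _ _)
  refine ⟨j, hij, subsingleton_tensor_of_span (C₀ := C₀) (s : Set N) hs ?_⟩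
  intro ω hω
  have := hφ _ (Finset.mem_image_of_mem _ (Finset.mem_coe.mp hω))
  simpa using this

end

end H14.WC

namespace H14.WC

open TensorProduct KaehlerDifferential

attribute [local instance] Algebra.TensorProduct.rightAlgebra in
theorem formallyUnramified_iff (A₀ B₀ C₀ : Type*) [CommRing A₀] [CommRing B₀] [CommRing C₀]
    [Algebra A₀ B₀] [Algebra A₀ C₀] [Algebra B₀ C₀] [IsScalarTower A₀ B₀ C₀]
    (T : Type*) [CommRing T] [Algebra A₀ T] :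
    Algebra.FormallyUnramified (B₀ ⊗[A₀] T) ((B₀ ⊗[A₀] T) ⊗[B₀] C₀) ↔
      Subsingleton (Ω[C₀⁄B₀] ⊗[A₀] T) := by
  rw [Algebra.formallyUnramified_iff]
  let e₁ : ((B₀ ⊗[A₀] T) ⊗[B₀] Ω[C₀⁄B₀]) ≃ₗ[B₀ ⊗[A₀] T] Ω[((B₀ ⊗[A₀] T) ⊗[B₀] C₀)⁄(B₀ ⊗[A₀] T)] :=
    KaehlerDifferential.tensorKaehlerEquivBase B₀ (B₀ ⊗[A₀] T) C₀ ((B₀ ⊗[A₀] T) ⊗[B₀] C₀)
  let e₂ : ((B₀ ⊗[A₀] T) ⊗[B₀] Ω[C₀⁄B₀]) ≃ₗ[B₀] Ω[C₀⁄B₀] ⊗[A₀] T :=
    (TensorProduct.comm B₀ (B₀ ⊗[A₀] T) Ω[C₀⁄B₀]).trans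
      (TensorProduct.AlgebraTensorModule.cancelBaseChange A₀ B₀ B₀ Ω[C₀⁄B₀] T)
  exact (e₁.symm.toEquiv.trans e₂.toEquiv).subsingleton_congr

end H14.WC
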